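import Mathlib

/-!
# Maximal spectrum of a finite product, cardinalities
-/

set_option autoImplicit false

namespace Helper14

theorem enat_card_sigma {ι : Type*} [Fintype ι] (X : ι → Type*) :
    ENat.card (Σ i, X i) = ∑ i, ENat.card (X i) := by
  classical
  by_cases h : ∀ i, Finite (X i)
  · have : ∀ i, Fintype (X i) := fun i => Fintype.ofFinite (X i)
    rw [ENat.card_eq_coe_fintype_card, Fintype.card_sigma, Nat.cast_sum]
    exact Finset.sum_congr rfl fun i _ => (ENat.card_eq_coe_fintype_card).symm
  · push Not at h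
    obtain ⟨i, hi⟩ := h
    have : Infinite (Σ i, X i) := Infinite.of_injective (Sigma.mk i) sigma_mk_injective
    rw [ENat.card_eq_top_of_infinite]
    symm
    rw [eq_top_iff]
    calc (⊤ : ℕ∞) = ENat.card (X i) := (ENat.card_eq_top_of_infinite).symm
      _ ≤ ∑ i, ENat.card (X i) :=
        Finset.single_le_sum (f := fun i => ENat.card (X i)) (fun _ _ => zero_le) (Finset.mem_univ i)

theorem card_maxSpec_congr {S S' : Type*} [CommRing S] [CommRing S'] (e : S ≃+* S') :
    ENat.card (MaximalSpectrum S) = ENat.card (MaximalSpectrum S') := by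
  refine ENat.card_congr
    { toFun := fun m => ⟨m.asIdeal.comap (e.symm : S' →+* S),
        Ideal.comap_isMaximal_of_surjective _ e.symm.surjective (K := m.asIdeal) (H := m.isMaximal)⟩
      invFun := fun m => ⟨m.asIdeal.comap (e : S →+* S'),
        Ideal.comap_isMaximal_of_surjective _ e.surjective (K := m.asIdeal) (H := m.isMaximal)⟩
      left_inv := fun m => by
        apply MaximalSpectrum.ext
        ext x
        change e.symm (e x) ∈ m.asIdeal ↔ x ∈ m.asIdeal
        rw [RingEquiv.symm_apply_apply]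
      right_inv := fun m => by
        apply MaximalSpectrum.ext
        ext x
        change e (e.symm x) ∈ m.asIdeal ↔ x ∈ m.asIdeal
        rw [RingEquiv.apply_symm_apply] }

section Pi

variable {ι : Type*} [Finite ι] (R : ι → Type*) [∀ i, CommRing (R i)]

/-- maximal ideals of a finite product -/
noncomputable def maxSpecSigmaToPi : (Σ i, MaximalSpectrum (R i)) → MaximalSpectrum (∀ i, R i) :=
  fun x => ⟨x.2.asIdeal.comap (Pi.evalRingHom R x.1),
    Ideal.comap_isMaximal_of_surjective _ (fun r => by
      classical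
      exact ⟨Pi.single x.1 r, by simp⟩) (K := x.2.asIdeal) (H := x.2.isMaximal)⟩

theorem maxSpecSigmaToPi_bijective : Function.Bijective (maxSpecSigmaToPi R) := by
  classical
  constructor
  · rintro ⟨i, m⟩ ⟨j, m'⟩ h
    have h1 : PrimeSpectrum.sigmaToPi R ⟨i, ⟨m.asIdeal, m.isMaximal.isPrime⟩⟩ =
        PrimeSpectrum.sigmaToPi R ⟨j, ⟨m'.asIdeal, m'.isMaximal.isPrime⟩⟩ := by
      apply PrimeSpectrum.ext
      exact congrArg MaximalSpectrum.asIdeal h
    have h2 := PrimeSpectrum.sigmaToPi_injective R h1
    obtain ⟨rfl, h3⟩ := Sigma.mk.inj_iff.1 h2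
    have h4 := eq_of_heq h3
    congr 1
    apply MaximalSpectrum.ext
    exact congrArg PrimeSpectrum.asIdeal h4
  · intro M
    obtain ⟨⟨i, p⟩, hp⟩ := (PrimeSpectrum.sigmaToPi_bijective R).2 ⟨M.asIdeal, M.isMaximal.isPrime⟩
    have hp' : p.asIdeal.comap (Pi.evalRingHom R i) = M.asIdeal :=
      congrArg PrimeSpectrum.asIdeal hp
    have hsurj : Function.Surjective (Pi.evalRingHom R i) := fun r => ⟨Pi.single i r, by simp⟩
    have hmax : p.asIdeal.IsMaximal := by
      have h1 : (M.asIdeal).map (Pi.evalRingHom R i) = p.asIdeal := by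
        rw [← hp', Ideal.map_comap_of_surjective _ hsurj]
      rcases Ideal.map_eq_top_or_isMaximal_of_surjective (Pi.evalRingHom R i) hsurj M.isMaximal
        with h | h
      · exact absurd (h1 ▸ h) p.isPrime.ne_top
      · rw [← h1]; exact h
    refine ⟨⟨i, ⟨p.asIdeal, hmax⟩⟩, ?_⟩
    apply MaximalSpectrum.ext
    exact hp'

theorem card_maxSpec_pi {ι : Type*} [Fintype ι] (R : ι → Type*) [∀ i, CommRing (R i)] :
    ENat.card (MaximalSpectrum (∀ i, R i)) = ∑ i, ENat.card (MaximalSpectrum (R i)) := by
  rw [← enat_card_sigma]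
  exact (ENat.card_congr (Equiv.ofBijective _ (maxSpecSigmaToPi_bijective R))).symm

end Pi

end Helper14
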