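import Mathlib

/-!
# Finite products: integral closure and localization at primes

* `Helper14.isIntegral_pi`: an element of a finite product is integral if all its components are.
* `Helper14.integralClosurePiEquiv`: the integral closure in a finite product is the product of the
  integral closures.
* `Helper14.exists_equiv_localization_pi`: the localization of a finite product at a prime is the
  localization of one of the factors at a prime.
* `Helper14.localization_normal_of_equiv_pi`: if `S ≃+* ∏ R i` with the `R i` integrally closed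
  domains, every localization of `S` at a prime is an integrally closed domain.
-/

set_option autoImplicit false

namespace Helper14

open Polynomial

theorem isIntegral_pi {ι R : Type*} [Finite ι] [CommRing R] {K : ι → Type*} [∀ i, CommRing (K i)]
    [∀ i, Algebra R (K i)] (y : ∀ i, K i) (hy : ∀ i, IsIntegral R (y i)) : IsIntegral R y := by
  classical
  cases nonempty_fintype ι
  rw [← Finset.univ_sum_single y]
  refine IsIntegral.sum _ fun i _ => ?_
  obtain ⟨P, hPm, hP⟩ := hy i
  refine ⟨X * P, monic_X.mul hPm, ?_⟩
  funext j
  have h := Polynomial.hom_eval₂ (X * P) (algebraMap R (∀ i, K i)) (Pi.evalRingHom K j)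
    (Pi.single i (y i))
  rw [Pi.evalRingHom_apply, Pi.evalRingHom_apply] at h
  rw [h, Pi.zero_apply, eval₂_mul, eval₂_X]
  by_cases hji : j = i
  · subst hji
    rw [Pi.single_eq_same]
    have : (Pi.evalRingHom K j).comp (algebraMap R (∀ i, K i)) = algebraMap R (K j) := rfl
    rw [this, hP, mul_zero]
  · rw [Pi.single_eq_of_ne hji, zero_mul]

/-- the integral closure in a finite product is the product of the integral closures -/
noncomputable def integralClosurePiEquiv {ι R : Type*} [Finite ι] [CommRing R] (K : ι → Type*)
    [∀ i, CommRing (K i)] [∀ i, Algebra R (K i)] :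
    integralClosure R (∀ i, K i) ≃ₐ[R] ∀ i, integralClosure R (K i) where
  toFun x i := ⟨x.1 i, x.2.map (Pi.evalAlgHom R K i)⟩
  invFun y := ⟨fun i => (y i).1, isIntegral_pi _ fun i => (y i).2⟩
  left_inv _ := rfl
  right_inv _ := rfl
  map_mul' _ _ := rfl
  map_add' _ _ := rfl
  commutes' _ := rfl

section LocPi

variable {ι : Type*} [Finite ι] {R : ι → Type*} [∀ i, CommRing (R i)]

/-- the localization of a finite product at a prime is the localization of one of the factors -/
theorem exists_equiv_localization_pi (P : Ideal (∀ i, R i)) [P.IsPrime] :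
    ∃ (i : ι) (Pi : Ideal (R i)) (_ : Pi.IsPrime),
      Nonempty (Localization.AtPrime P ≃+* Localization.AtPrime Pi) := by
  classical
  cases nonempty_fintype ι
  -- choose the factor
  have hex : ∃ i, (Pi.single i 1 : ∀ i, R i) ∉ P := by
    by_contra hcon
    push Not at hcon
    have h1 : (1 : ∀ i, R i) ∈ P := by
      rw [← Finset.univ_sum_single (1 : ∀ i, R i)]
      exact Ideal.sum_mem _ fun i _ => hcon i
    exact (Ideal.ne_top_iff_one P).1 (Ideal.IsPrime.ne_top inferInstance) h1
  obtain ⟨i, hi⟩ := hex
  have hsurj : Function.Surjective (Pi.evalRingHom R i) := fun r => ⟨Pi.single i r, by simp⟩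
  have hker : RingHom.ker (Pi.evalRingHom R i) ≤ P := by
    intro x hx
    rw [RingHom.mem_ker, Pi.evalRingHom_apply] at hx
    have h0 : x * Pi.single i 1 = 0 := by
      funext j
      by_cases hji : j = i
      · subst hji; simp [hx]
      · simp [Pi.single_eq_of_ne hji]
    have : x * Pi.single i 1 ∈ P := by rw [h0]; exact P.zero_mem
    exact (Ideal.IsPrime.mem_or_mem inferInstance this).resolve_right hi
  have hprime : (P.map (Pi.evalRingHom R i)).IsPrime := Ideal.map_isPrime_of_surjective hsurj hker
  have hcomap : (P.map (Pi.evalRingHom R i)).comap (Pi.evalRingHom R i) = P := by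
    rw [Ideal.comap_map_of_surjective _ hsurj]
    exact sup_eq_left.2 hker
  have hmem : ∀ x : ∀ i, R i, x i ∈ P.map (Pi.evalRingHom R i) ↔ x ∈ P := by
    intro x
    conv_rhs => rw [← hcomap]
    rfl
  refine ⟨i, P.map (Pi.evalRingHom R i), hprime, ?_⟩
  let L := Localization.AtPrime (P.map (Pi.evalRingHom R i))
  let g : (∀ i, R i) →+* L := (algebraMap (R i) L).comp (Pi.evalRingHom R i)
  letI : Algebra (∀ i, R i) L := g.toAlgebra
  have hg : ∀ x, algebraMap (∀ i, R i) L x = algebraMap (R i) L (x i) := fun _ => rfl
  haveI : IsLocalization P.primeCompl L := by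
    refine ⟨?_, ?_, ?_⟩
    · rintro ⟨s, hs⟩
      rw [hg]
      refine IsLocalization.map_units L (⟨s i, ?_⟩ : (P.map (Pi.evalRingHom R i)).primeCompl)
      exact fun h => hs ((hmem s).1 h)
    · intro z
      obtain ⟨⟨r', t'⟩, hz⟩ := IsLocalization.surj (P.map (Pi.evalRingHom R i)).primeCompl z
      refine ⟨⟨Pi.single i r', ⟨Pi.single i t'.1, ?_⟩⟩, ?_⟩
      · intro h
        apply t'.2
        have := (hmem (Pi.single i t'.1)).2 h
        simpa using this
      · show z * algebraMap (∀ i, R i) L (Pi.single i t'.1) = algebraMap (∀ i, R i) L (Pi.single i r')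
        rw [hg, hg, Pi.single_eq_same, Pi.single_eq_same]
        exact hz
    · intro x y hxy
      rw [hg, hg] at hxy
      obtain ⟨c', hc'⟩ := (IsLocalization.eq_iff_exists (P.map (Pi.evalRingHom R i)).primeCompl L).1 hxy
      refine ⟨⟨Pi.single i c'.1, ?_⟩, ?_⟩
      · intro h
        apply c'.2
        have := (hmem (Pi.single i c'.1)).2 h
        simpa using this
      · funext j
        by_cases hji : j = i
        · subst hji; simpa using hc'
        · simp [Pi.single_eq_of_ne hji]
  exact ⟨(IsLocalization.algEquiv P.primeCompl (Localization.AtPrime P) L).toRingEquiv⟩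

end LocPi

theorem primeCompl_map_ringEquiv {S S' : Type*} [CommRing S] [CommRing S']
    (e : S ≃+* S') (P : Ideal S) [P.IsPrime] :
    P.primeCompl.map e.toMonoidHom = (P.comap (e.symm : S' →+* S)).primeCompl := by
  ext x
  constructor
  · rintro ⟨y, hy, rfl⟩
    intro h
    apply hy
    have h' : e.symm (e y) ∈ P := h
    rwa [RingEquiv.symm_apply_apply] at h'
  · intro hx
    refine ⟨e.symm x, ?_, ?_⟩
    · exact hx
    · exact e.apply_symm_apply x

/-- localization at corresponding primes under a ring isomorphism -/
noncomputable def localizationEquivOfRingEquiv {S S' : Type*} [CommRing S] [CommRing S']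
    (e : S ≃+* S') (P : Ideal S) [P.IsPrime] :
    Localization.AtPrime P ≃+* Localization.AtPrime (P.comap (e.symm : S' →+* S)) :=
  IsLocalization.ringEquivOfRingEquiv (Localization.AtPrime P)
    (Localization.AtPrime (P.comap (e.symm : S' →+* S))) e (primeCompl_map_ringEquiv e P)

/-- if `S ≃+* ∏ R i` with the `R i` integrally closed domains, every localization of `S` at a prime
is an integrally closed domain -/
theorem localization_normal_of_equiv_pi {ι : Type*} [Finite ι] {R : ι → Type*} [∀ i, CommRing (R i)]
    [∀ i, IsDomain (R i)] [∀ i, IsIntegrallyClosed (R i)] {S : Type*} [CommRing S]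
    (e : S ≃+* ∀ i, R i) (P : Ideal S) [P.IsPrime] :
    IsDomain (Localization.AtPrime P) ∧ IsIntegrallyClosed (Localization.AtPrime P) := by
  let e1 := localizationEquivOfRingEquiv e P
  obtain ⟨i, Pi, hPi, ⟨e2⟩⟩ := exists_equiv_localization_pi (P.comap (e.symm : (∀ i, R i) →+* S))
  have hd : IsDomain (Localization.AtPrime Pi) :=
    IsLocalization.isDomain_localization (le_nonZeroDivisors_of_noZeroDivisors
      (fun h => h (Ideal.zero_mem _)))
  have hic : IsIntegrallyClosed (Localization.AtPrime Pi) :=
    isIntegrallyClosed_of_isLocalization _ Pi.primeCompl (le_nonZeroDivisors_of_noZeroDivisors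
      (fun h => h (Ideal.zero_mem _)))
  let e3 := e1.trans e2
  exact ⟨e3.toMulEquiv.isDomain _, IsIntegrallyClosed.of_equiv e3.symm⟩

end Helper14
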