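import Mathlib
import Groth.Agent.Lib.Helper14.ProdNormal

/-!
# Total ring of fractions of a reduced ring with finitely many minimal primes

* `Helper14.fracPiEquiv`: `Q(R) ≃ₐ[R] ∏_{q minimal} Frac(R/q)`.
* `Helper14.normalizationPiEquiv`: the integral closure of `R` in `Q(R)` is the product of the
  normalizations of the `R/q`.
-/

set_option autoImplicit false
universe u

namespace Helper14

section

variable (R : Type u) [CommRing R]

instance minimalPrimes_isPrime (q : minimalPrimes R) : q.1.IsPrime := q.2.1.1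

/-- fraction field of `R/q` -/
abbrev KK (q : minimalPrimes R) := FractionRing (R ⧸ q.1)

/-- normalization of `R/q` -/
abbrev DD (q : minimalPrimes R) := integralClosure (R ⧸ q.1) (KK R q)

lemma algebraMap_KK_eq_zero_iff (q : minimalPrimes R) (a : R) :
    algebraMap R (KK R q) a = 0 ↔ a ∈ q.1 := by
  rw [IsScalarTower.algebraMap_apply R (R ⧸ q.1) (KK R q), IsFractionRing.to_map_eq_zero_iff,
    Ideal.Quotient.algebraMap_eq, Ideal.Quotient.eq_zero_iff_mem]

lemma units_pi (y : nonZeroDivisors R) : IsUnit (Algebra.ofId R (∀ q : minimalPrimes R, KK R q) y) := by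
  rw [Pi.isUnit_iff]
  intro q
  show IsUnit (algebraMap R (KK R q) y)
  rw [isUnit_iff_ne_zero, Ne, algebraMap_KK_eq_zero_iff]
  intro h
  exact Set.disjoint_left.1 (Ideal.disjoint_nonZeroDivisors_of_mem_minimalPrimes q.2) h y.2

/-- the comparison map `Q(R) → ∏ Frac(R/q)` -/
noncomputable def fracPiHom : FractionRing R →ₐ[R] ∀ q : minimalPrimes R, KK R q :=
  IsLocalization.liftAlgHom (M := nonZeroDivisors R)
    (f := Algebra.ofId R (∀ q : minimalPrimes R, KK R q)) (units_pi R)

lemma mem_nzd_of_notMem [IsReduced R] (s : R) (hs : ∀ q ∈ minimalPrimes R, s ∉ q) :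
    s ∈ nonZeroDivisors R := by
  rw [mem_nonZeroDivisors_iff_right]
  intro x hx
  have hx' : x ∈ sInf (minimalPrimes R) := by
    rw [Ideal.mem_sInf]
    intro p hp
    have h1 : x * s ∈ p := by rw [hx]; exact p.zero_mem
    exact (hp.1.1.mem_or_mem h1).resolve_right (hs p hp)
  have h2 : sInf (minimalPrimes R) = (⊥ : Ideal R).radical := Ideal.sInf_minimalPrimes
  rw [h2] at hx'
  have h3 : IsNilpotent x := hx'
  exact h3.eq_zero

lemma fracPiHom_injective [IsReduced R] : Function.Injective (fracPiHom R) := by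
  rw [injective_iff_map_eq_zero]
  intro x hx
  obtain ⟨a, s, rfl⟩ := IsLocalization.exists_mk'_eq (nonZeroDivisors R) x
  have ha : algebraMap R (∀ q : minimalPrimes R, KK R q) a = 0 := by
    have h1 : fracPiHom R (IsLocalization.mk' (FractionRing R) a s) *
        algebraMap R (∀ q : minimalPrimes R, KK R q) s =
        algebraMap R (∀ q : minimalPrimes R, KK R q) a := by
      rw [← (fracPiHom R).commutes, ← (fracPiHom R).commutes, ← map_mul, IsLocalization.mk'_spec]
    rw [← h1, hx, zero_mul]
  have ha0 : a = 0 := by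
    have hx' : a ∈ sInf (minimalPrimes R) := by
      rw [Ideal.mem_sInf]
      intro p hp
      have := congrFun ha ⟨p, hp⟩
      exact (algebraMap_KK_eq_zero_iff R ⟨p, hp⟩ a).1 this
    have h2 : sInf (minimalPrimes R) = (⊥ : Ideal R).radical := Ideal.sInf_minimalPrimes
    rw [h2] at hx'
    have h3 : IsNilpotent a := hx'
    exact h3.eq_zero
  rw [ha0, IsLocalization.mk'_zero]

/-- separating elements for finitely many minimal primes -/
lemma exists_sep' (h : (minimalPrimes R).Finite) (p : minimalPrimes R) :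
    ∃ w : R, w ∉ p.1 ∧ ∀ q : minimalPrimes R, q ≠ p → w ∈ q.1 := by
  classical
  haveI : Finite (minimalPrimes R) := h
  cases nonempty_fintype (minimalPrimes R)
  have hnot : ¬ ((Finset.univ.erase p).inf fun q : minimalPrimes R => q.1) ≤ p.1 := by
    intro hle
    obtain ⟨q, hq, hqp⟩ := (Ideal.IsPrime.inf_le' (minimalPrimes_isPrime R p)).1 hle
    have hqne : q ≠ p := (Finset.mem_erase.1 hq).1
    have : p.1 ≤ q.1 := p.2.2 ⟨minimalPrimes_isPrime R q, bot_le⟩ hqp
    exact hqne (Subtype.ext (le_antisymm hqp this))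
  obtain ⟨w, hw, hwp⟩ := SetLike.not_le_iff_exists.1 hnot
  refine ⟨w, hwp, fun q hq => ?_⟩
  exact (Finset.inf_le (f := fun q : minimalPrimes R => q.1)
    (Finset.mem_erase.2 ⟨hq, Finset.mem_univ q⟩)) hw

lemma fracPiHom_surjective [IsReduced R] (h : (minimalPrimes R).Finite) :
    Function.Surjective (fracPiHom R) := by
  classical
  haveI : Finite (minimalPrimes R) := h
  cases nonempty_fintype (minimalPrimes R)
  intro y
  -- write components as fractions
  have hy : ∀ q : minimalPrimes R, ∃ a s : R, s ∉ q.1 ∧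
      y q * algebraMap R (KK R q) s = algebraMap R (KK R q) a := by
    intro q
    obtain ⟨⟨a', s'⟩, hx⟩ := IsLocalization.surj (nonZeroDivisors (R ⧸ q.1)) (y q)
    obtain ⟨a, rfl⟩ := Ideal.Quotient.mk_surjective a'
    obtain ⟨s, hs⟩ := Ideal.Quotient.mk_surjective s'.1
    refine ⟨a, s, ?_, ?_⟩
    · intro hsq
      have : (s'.1 : R ⧸ q.1) = 0 := by rw [← hs]; exact Ideal.Quotient.eq_zero_iff_mem.2 hsq
      exact nonZeroDivisors.ne_zero s'.2 this
    · rw [IsScalarTower.algebraMap_apply R (R ⧸ q.1) (KK R q),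
        IsScalarTower.algebraMap_apply R (R ⧸ q.1) (KK R q), Ideal.Quotient.algebraMap_eq, hs]
      exact hx
  choose a s hs hys using hy
  choose w hw hw' using exists_sep' R h
  set S : R := ∑ q, w q * s q with hS
  set T : R := ∑ q, w q * a q with hT
  have hmod : ∀ (c : minimalPrimes R → R) (q : minimalPrimes R),
      algebraMap R (KK R q) (∑ q', w q' * c q') = algebraMap R (KK R q) (w q * c q) := by
    intro c q
    rw [map_sum, Finset.sum_eq_single q]
    · intro q' _ hq'
      rw [algebraMap_KK_eq_zero_iff]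
      exact Ideal.mul_mem_right _ _ (hw' q' q (Ne.symm hq'))
    · intro h; exact absurd (Finset.mem_univ q) h
  have hSq : ∀ q : minimalPrimes R, S ∉ q.1 := by
    intro q hSq
    have h1 := (algebraMap_KK_eq_zero_iff R q S).2 hSq
    rw [hS, hmod s q, algebraMap_KK_eq_zero_iff] at h1
    exact (Ideal.IsPrime.mem_or_mem (minimalPrimes_isPrime R q) h1).elim (hw q) (hs q)
  have hSnzd : S ∈ nonZeroDivisors R := mem_nzd_of_notMem R S fun q hq => hSq ⟨q, hq⟩
  refine ⟨IsLocalization.mk' (FractionRing R) T (⟨S, hSnzd⟩ : nonZeroDivisors R), ?_⟩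
  have hu : IsUnit (algebraMap R (∀ q : minimalPrimes R, KK R q) S) := units_pi R ⟨S, hSnzd⟩
  apply hu.mul_left_cancel
  have h1 : algebraMap R (∀ q : minimalPrimes R, KK R q) S *
      fracPiHom R (IsLocalization.mk' (FractionRing R) T (⟨S, hSnzd⟩ : nonZeroDivisors R)) =
      algebraMap R (∀ q : minimalPrimes R, KK R q) T := by
    rw [← (fracPiHom R).commutes, ← (fracPiHom R).commutes T, ← map_mul, mul_comm]
    congr 1
    exact IsLocalization.mk'_spec _ T (⟨S, hSnzd⟩ : nonZeroDivisors R)
  rw [h1]
  funext q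
  rw [Pi.mul_apply, Pi.algebraMap_apply, Pi.algebraMap_apply, hS, hT, hmod s q, hmod a q,
    map_mul, map_mul, mul_assoc, mul_comm _ (y q), hys q]

/-- `Q(R) ≃ₐ[R] ∏_{q minimal} Frac(R/q)` for a reduced ring with finitely many minimal primes -/
noncomputable def fracPiEquiv [IsReduced R] (h : (minimalPrimes R).Finite) :
    FractionRing R ≃ₐ[R] ∀ q : minimalPrimes R, KK R q :=
  AlgEquiv.ofBijective (fracPiHom R) ⟨fracPiHom_injective R, fracPiHom_surjective R h⟩

/-- integral closure over `R` and over `R/q` agree -/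
noncomputable def bridgeQ (q : minimalPrimes R) : integralClosure R (KK R q) ≃ₐ[R] DD R q where
  toFun x := ⟨x.1, x.2.tower_top⟩
  invFun y := ⟨y.1, by
    have : Algebra.IsIntegral R (R ⧸ q.1) :=
      Algebra.isIntegral_of_surjective Ideal.Quotient.mk_surjective
    exact isIntegral_trans _ y.2⟩
  left_inv _ := rfl
  right_inv _ := rfl
  map_mul' _ _ := rfl
  map_add' _ _ := rfl
  commutes' _ := rfl

/-- the normalization of a reduced ring with finitely many minimal primes is the product of the
normalizations of the `R/q` -/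
noncomputable def normalizationPiEquiv [IsReduced R] (h : (minimalPrimes R).Finite) :
    integralClosure R (FractionRing R) ≃ₐ[R] ∀ q : minimalPrimes R, DD R q :=
  haveI : Finite (minimalPrimes R) := h
  (AlgEquiv.mapIntegralClosure (fracPiEquiv R h)).trans
    ((integralClosurePiEquiv (KK R)).trans (AlgEquiv.piCongrRight (bridgeQ R)))

instance (q : minimalPrimes R) : IsIntegrallyClosed (DD R q) :=
  integralClosure.isIntegrallyClosedOfFiniteExtension (KK R q)

end

section Inv

variable {R₁ R₂ : Type*} [CommRing R₁] [CommRing R₂] (ψ : R₁ ≃+* R₂)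

lemma comp_ringEquivOfRingEquiv :
    (algebraMap R₂ (FractionRing R₂)).comp (ψ : R₁ →+* R₂) =
      ((IsFractionRing.ringEquivOfRingEquiv ψ : FractionRing R₁ ≃+* FractionRing R₂) :
        FractionRing R₁ →+* FractionRing R₂).comp (algebraMap R₁ (FractionRing R₁)) := by
  ext a
  exact (IsFractionRing.ringEquivOfRingEquiv_algebraMap ψ a).symm

/-- a ring isomorphism induces an isomorphism of normalizations in the total rings of fractions -/
noncomputable def normalizationEquivOfRingEquiv :
    integralClosure R₁ (FractionRing R₁) ≃+* integralClosure R₂ (FractionRing R₂) where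
  toFun x := ⟨(IsFractionRing.ringEquivOfRingEquiv ψ : FractionRing R₁ ≃+* FractionRing R₂) x.1,
    x.2.map_of_comp_eq (ψ : R₁ →+* R₂) _ (comp_ringEquivOfRingEquiv ψ)⟩
  invFun y := ⟨(IsFractionRing.ringEquivOfRingEquiv ψ.symm :
      FractionRing R₂ ≃+* FractionRing R₁) y.1,
    y.2.map_of_comp_eq (ψ.symm : R₂ →+* R₁) _ (comp_ringEquivOfRingEquiv ψ.symm)⟩
  left_inv x := by
    apply Subtype.ext
    exact (IsFractionRing.ringEquivOfRingEquiv ψ :
      FractionRing R₁ ≃+* FractionRing R₂).symm_apply_apply x.1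
  right_inv y := by
    apply Subtype.ext
    exact (IsFractionRing.ringEquivOfRingEquiv ψ :
      FractionRing R₁ ≃+* FractionRing R₂).apply_symm_apply y.1
  map_mul' x y := by
    apply Subtype.ext
    exact map_mul _ x.1 y.1
  map_add' x y := by
    apply Subtype.ext
    exact map_add _ x.1 y.1

lemma normalizationEquivOfRingEquiv_algebraMap (a : R₁) :
    normalizationEquivOfRingEquiv ψ (algebraMap R₁ (integralClosure R₁ (FractionRing R₁)) a) =
      algebraMap R₂ (integralClosure R₂ (FractionRing R₂)) (ψ a) := by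
  apply Subtype.ext
  exact IsFractionRing.ringEquivOfRingEquiv_algebraMap ψ a

end Inv

end Helper14
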