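import Mathlib

set_option autoImplicit false

/-!
# Lemmas on convolution monoids of algebra maps out of a bialgebra (helper14)
-/

namespace Groth.Agent.Lib.Helper14.ConvLemmas

open TensorProduct WithConv

section post

variable {k : Type*} [CommSemiring k] {A : Type*} [Semiring A] [Bialgebra k A]
  {R S : Type*} [CommSemiring R] [Algebra k R] [CommSemiring S] [Algebra k S]

/-- post-composition with an algebra map, as a monoid hom of convolution monoids -/
noncomputable def postComp (f : R →ₐ[k] S) : WithConv (A →ₐ[k] R) →* WithConv (A →ₐ[k] S) where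
  toFun g := toConv (f.comp g.ofConv)
  map_one' := by
    apply WithConv.ofConv_injective
    apply AlgHom.ext
    intro a
    simp [AlgHom.convOne_def]
  map_mul' g h := by
    apply WithConv.ofConv_injective
    exact AlgHom.comp_convMul_distrib f g h

@[simp] lemma postComp_apply (f : R →ₐ[k] S) (g : WithConv (A →ₐ[k] R)) :
    postComp f g = toConv (f.comp g.ofConv) := rfl

lemma comp_pow (f : R →ₐ[k] S) (g : WithConv (A →ₐ[k] R)) (n : ℕ) :
    toConv (f.comp (g ^ n).ofConv) = (toConv (f.comp g.ofConv)) ^ n := by
  have := map_pow (postComp (A := A) f) g n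
  simpa using this

end post

section nilp

variable {k : Type*} [Field k] {A : Type*} [CommRing A] [Bialgebra k A]
  {R : Type*} [CommRing R] [Algebra k R]

lemma conv_pow_mem (J : Ideal R) (N : WithConv (A →ₗ[k] R)) (hN : ∀ a, N.ofConv a ∈ J) :
    ∀ (j : ℕ) (a : A), (N ^ j).ofConv a ∈ J ^ j := by
  intro j
  induction j with
  | zero => intro a; simp
  | succ j ih =>
    intro a
    have h := (Coalgebra.Repr.arbitrary k a).convMul_apply (N ^ j) N
    rw [pow_succ N j, h, pow_succ J j]
    exact Ideal.sum_mem _ fun i _ => Ideal.mul_mem_mul (ih _) (hN _)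

theorem conv_pow_eq_one (p : ℕ) [ExpChar k p] (J : Ideal R) (t : ℕ) (hJ : J ^ (p ^ t) = ⊥)
    (h : A →ₐ[k] R) (hh : ∀ a, h a - algebraMap k R (Coalgebra.counit a) ∈ J) :
    (toConv h) ^ (p ^ t) = 1 := by
  apply WithConv.ofConv_injective
  apply AlgHom.toLinearMap_injective
  apply WithConv.toConv_injective
  rw [AlgHom.toLinearMap_convPow, AlgHom.toLinearMap_convOne]
  set H : WithConv (A →ₗ[k] R) := toConv (ofConv (toConv h)).toLinearMap with hH
  rcases subsingleton_or_nontrivial (WithConv (A →ₗ[k] R)) with hs | hnt
  · exact Subsingleton.elim _ _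
  · have hinj : Function.Injective (algebraMap k (WithConv (A →ₗ[k] R))) :=
      (algebraMap k (WithConv (A →ₗ[k] R))).injective
    have hexp : ExpChar (WithConv (A →ₗ[k] R)) p := expChar_of_injective_algebraMap hinj p
    have hN : ∀ a, (H - 1).ofConv a ∈ J := by
      intro a
      have : (H - 1).ofConv a = h a - algebraMap k R (Coalgebra.counit a) := by
        simp [hH, LinearMap.convOne_def]
      rw [this]; exact hh a
    have e : H = (H - 1) + 1 := by abel
    rw [e, add_pow_expChar_pow_of_commute _ _ (Commute.one_right _), one_pow]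
    have h0 : (H - 1) ^ (p ^ t) = 0 := by
      apply WithConv.ofConv_injective
      apply LinearMap.ext
      intro a
      have := conv_pow_mem J _ hN (p ^ t) a
      rw [hJ] at this
      simpa using this
    rw [h0, zero_add]

end nilp

end Groth.Agent.Lib.Helper14.ConvLemmas
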