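import Mathlib
import Groth.Agent.Lib.Helper14.ConvLemmas

set_option autoImplicit false

/-!
# Base change of the convolution monoid along a field extension (helper14)
-/

namespace Groth.Agent.Lib.Helper14.HopfBaseChange

open TensorProduct WithConv
open Groth.Agent.Lib.Helper14.ConvLemmas

variable {k : Type*} [CommRing k] (K : Type*) [CommRing K] [Algebra k K]
  {A : Type*} [CommRing A] [HopfAlgebra k A]
  {R : Type*} [CommRing R] [Algebra K R] [Algebra k R] [IsScalarTower k K R]

/-- restriction of a `K`-algebra map `K ⊗ A → R` to `A` -/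
noncomputable def resHom (f : K ⊗[k] A →ₐ[K] R) : A →ₐ[k] R :=
  (f.restrictScalars k).comp Algebra.TensorProduct.includeRight

@[simp] lemma resHom_apply (f : K ⊗[k] A →ₐ[K] R) (a : A) :
    resHom K f a = f ((1 : K) ⊗ₜ[k] a) := rfl

lemma lift_ttc (f g : K ⊗[k] A →ₐ[K] R) (w : A ⊗[k] A) :
    Algebra.TensorProduct.lift f g (fun _ _ => .all _ _)
      (AlgebraTensorModule.tensorTensorTensorComm k K k K K K A A
        (((1 : K) ⊗ₜ[K] (1 : K)) ⊗ₜ[k] w)) =
    Algebra.TensorProduct.lift (resHom K f) (resHom K g) (fun _ _ => .all _ _) w := by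
  induction w using TensorProduct.induction_on with
  | zero => simp
  | tmul x y =>
    rw [AlgebraTensorModule.tensorTensorTensorComm_tmul]
    simp
  | add x y hx hy => rw [TensorProduct.tmul_add, map_add, map_add, hx, hy, map_add]

/-- restriction as a monoid hom of convolution monoids -/
noncomputable def res : WithConv (K ⊗[k] A →ₐ[K] R) →* WithConv (A →ₐ[k] R) where
  toFun f := toConv (resHom K f.ofConv)
  map_one' := by
    apply WithConv.ofConv_injective
    apply AlgHom.ext
    intro a
    simp [AlgHom.convOne_def, Algebra.ofId_apply, TensorProduct.counit_tmul,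
      IsScalarTower.algebraMap_apply k K R, Algebra.algebraMap_eq_smul_one]
  map_mul' f g := by
    apply WithConv.ofConv_injective
    apply AlgHom.ext
    intro a
    show (f * g).ofConv ((1 : K) ⊗ₜ[k] a) = (toConv (resHom K f.ofConv) *
      toConv (resHom K g.ofConv)).ofConv a
    have h1 := AlgHom.convMul_apply f g ((1 : K) ⊗ₜ[k] a)
    have h2 := AlgHom.convMul_apply (toConv (resHom K f.ofConv)) (toConv (resHom K g.ofConv)) a
    rw [h1, h2, TensorProduct.comul_tmul, CommSemiring.comul_apply]
    exact lift_ttc K f.ofConv g.ofConv _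

end Groth.Agent.Lib.Helper14.HopfBaseChange
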