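import Mathlib

set_option autoImplicit false

namespace Groth.Agent.Lib.Helper14.HeightOne

open TensorProduct

section Field

variable {κ : Type*} [Field κ] {B : Type*} [CommRing B] [Bialgebra κ B]

/-- `T ξ = rid ∘ (id ⊗ ξ) : B ⊗ B → B`. -/
noncomputable def T (ξ : B →ₗ[κ] κ) : B ⊗[κ] B →ₗ[κ] B :=
  (TensorProduct.rid κ B).toLinearMap ∘ₗ ξ.lTensor B

@[simp] lemma T_tmul (ξ : B →ₗ[κ] κ) (a b : B) : T ξ (a ⊗ₜ[κ] b) = ξ b • a := by
  simp [T]

/-- `D ξ = (id ⊗ ξ) ∘ Δ`. -/
noncomputable def D (ξ : B →ₗ[κ] κ) : B →ₗ[κ] B :=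
  T ξ ∘ₗ (Coalgebra.comul (R := κ) (A := B))

lemma D_apply (ξ : B →ₗ[κ] κ) (a : B) : D ξ a = T ξ (Coalgebra.comul (R := κ) a) := rfl

/-- the counit as a linear map -/
noncomputable abbrev eps : B →ₗ[κ] κ := Coalgebra.counit (R := κ) (A := B)

lemma eps_mul (a b : B) : eps (κ := κ) (a * b) = eps (κ := κ) a * eps (κ := κ) b :=
  Bialgebra.counit_mul a b

lemma eps_one : eps (κ := κ) (1 : B) = 1 := Bialgebra.counit_one

lemma T_eps_comul (a : B) : T (eps (κ := κ)) (Coalgebra.comul (R := κ) a) = a := by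
  have h := Coalgebra.lTensor_counit_comul (R := κ) a
  simp only [T, LinearMap.comp_apply]
  rw [h]
  simp

lemma T_mul (ξ : B →ₗ[κ] κ)
    (hξ : ∀ a b, ξ (a * b) = eps (κ := κ) a * ξ b + ξ a * eps (κ := κ) b) (u v : B ⊗[κ] B) :
    T ξ (u * v) = T (eps (κ := κ)) u * T ξ v + T ξ u * T (eps (κ := κ)) v := by
  induction u using TensorProduct.induction_on with
  | zero => simp
  | add u₁ u₂ h₁ h₂ => simp only [add_mul, map_add, h₁, h₂]; ring
  | tmul a₁ a₂ =>
    induction v using TensorProduct.induction_on with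
    | zero => simp
    | add v₁ v₂ h₁ h₂ => simp only [mul_add, map_add, h₁, h₂]; ring
    | tmul b₁ b₂ =>
      simp only [Algebra.TensorProduct.tmul_mul_tmul, T_tmul, hξ, add_smul]
      simp only [smul_mul_smul_comm, mul_smul]

lemma D_mul (ξ : B →ₗ[κ] κ)
    (hξ : ∀ a b, ξ (a * b) = eps (κ := κ) a * ξ b + ξ a * eps (κ := κ) b) (a b : B) :
    D ξ (a * b) = a * D ξ b + D ξ a * b := by
  rw [D_apply, Bialgebra.comul_mul, T_mul ξ hξ, T_eps_comul, T_eps_comul]
  rfl

lemma eps_T (ξ : B →ₗ[κ] κ) (u : B ⊗[κ] B) :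
    eps (κ := κ) (T ξ u) =
      ξ ((TensorProduct.lid κ B) ((eps (κ := κ)).rTensor B u)) := by
  induction u using TensorProduct.induction_on with
  | zero => simp
  | add u₁ u₂ h₁ h₂ => simp only [map_add, h₁, h₂]
  | tmul a₁ a₂ => simp [mul_comm]

lemma eps_D (ξ : B →ₗ[κ] κ) (a : B) : eps (κ := κ) (D ξ a) = ξ a := by
  rw [D_apply, eps_T, Coalgebra.rTensor_counit_comul]
  simp



variable (κ B) in
/-- the augmentation ideal -/
noncomputable abbrev augI : Ideal B := RingHom.ker (Bialgebra.counitAlgHom κ B)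

lemma mem_augI {b : B} : b ∈ augI κ B ↔ eps (κ := κ) b = 0 := by
  rw [RingHom.mem_ker]; rfl

lemma sub_eps_mem (a : B) : a - eps (κ := κ) a • (1 : B) ∈ augI κ B := by
  rw [mem_augI, map_sub, map_smul, eps_one]; simp

lemma xi_mul (ξ : B →ₗ[κ] κ) (h1 : ξ 1 = 0) (h2 : ∀ b ∈ augI κ B ^ 2, ξ b = 0) (a b : B) :
    ξ (a * b) = eps (κ := κ) a * ξ b + ξ a * eps (κ := κ) b := by
  have hmem : (a - eps (κ := κ) a • (1 : B)) * (b - eps (κ := κ) b • (1 : B)) ∈ augI κ B ^ 2 := by
    rw [pow_two]
    exact Ideal.mul_mem_mul (sub_eps_mem a) (sub_eps_mem b)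
  have h0 := h2 _ hmem
  have key : (a - eps (κ := κ) a • (1 : B)) * (b - eps (κ := κ) b • (1 : B)) =
      a * b - eps (κ := κ) b • a - eps (κ := κ) a • b
        + (eps (κ := κ) a * eps (κ := κ) b) • (1 : B) := by
    simp only [Algebra.smul_def, mul_one, map_mul]
    ring
  rw [key] at h0
  simp only [map_add, map_sub, map_smul, h1, smul_eq_mul, mul_zero, add_zero] at h0
  linear_combination h0

lemma D_mem_pow (ξ : B →ₗ[κ] κ)
    (hξ : ∀ a b, ξ (a * b) = eps (κ := κ) a * ξ b + ξ a * eps (κ := κ) b) :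
    ∀ (k : ℕ) (b : B), b ∈ augI κ B ^ (k + 1) → D ξ b ∈ augI κ B ^ k := by
  intro k
  induction k with
  | zero => intro b _; simp
  | succ k ih =>
    intro b hb
    rw [pow_succ] at hb
    refine Submodule.mul_induction_on hb ?_ ?_
    · intro m hm n hn
      rw [D_mul ξ hξ]
      refine add_mem ?_ ?_
      · exact Ideal.mul_mem_right _ _ hm
      · rw [pow_succ]
        exact Ideal.mul_mem_mul (ih m hm) hn
    · intro y z hy hz
      rw [map_add]
      exact add_mem hy hz

lemma exists_xi {n : ℕ} (x : Fin n → B) (hxI : ∀ i, x i ∈ augI κ B)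
    (hind : ∀ c : Fin n → κ, ∑ i, c i • x i ∈ augI κ B ^ 2 → c = 0) :
    ∃ ξ : Fin n → (B →ₗ[κ] κ), (∀ i, ξ i 1 = 0) ∧ (∀ i, ∀ b ∈ augI κ B ^ 2, ξ i b = 0) ∧
      (∀ i j, ξ i (x j) = if i = j then 1 else 0) := by
  classical
  let W : Submodule κ B := (augI κ B ^ 2).restrictScalars κ ⊔ Submodule.span κ {(1 : B)}
  let f : (Fin n → κ) →ₗ[κ] (B ⧸ W) := Fintype.linearCombination κ (W.mkQ ∘ x)
  have hf : LinearMap.ker f = ⊥ := by
    rw [LinearMap.ker_eq_bot']
    intro c hc
    apply hind
    have h1 : W.mkQ (∑ i, c i • x i) = 0 := by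
      rw [map_sum]
      simpa [f, Fintype.linearCombination_apply] using hc
    rw [Submodule.mkQ_apply, Submodule.Quotient.mk_eq_zero] at h1
    obtain ⟨y, hy, z, hz, hyz⟩ := Submodule.mem_sup.mp h1
    obtain ⟨t, rfl⟩ := Submodule.mem_span_singleton.mp hz
    have hy' : y ∈ augI κ B ^ 2 := hy
    have hyI : y ∈ augI κ B := Ideal.pow_le_self (by norm_num) hy'
    have hsum : (∑ i, c i • x i) ∈ augI κ B :=
      Submodule.sum_mem _ fun i _ => by
        rw [Algebra.smul_def]; exact Ideal.mul_mem_left _ _ (hxI i)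
    have ht : t = 0 := by
      have h3 : eps (κ := κ) (y + t • (1 : B)) = 0 := by
        rw [hyz]; exact mem_augI.mp hsum
      rw [map_add, mem_augI.mp hyI, map_smul, eps_one] at h3
      simpa using h3
    rw [← hyz, ht, zero_smul, add_zero]
    exact hy'
  obtain ⟨g, hg⟩ := LinearMap.exists_leftInverse_of_injective f hf
  refine ⟨fun i => (LinearMap.proj i) ∘ₗ g ∘ₗ W.mkQ, ?_, ?_, ?_⟩
  · intro i
    have : W.mkQ (1 : B) = 0 := by
      rw [Submodule.mkQ_apply, Submodule.Quotient.mk_eq_zero]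
      exact Submodule.mem_sup_right (Submodule.mem_span_singleton_self _)
    simp [this]
  · intro i b hb
    have : W.mkQ b = 0 := by
      rw [Submodule.mkQ_apply, Submodule.Quotient.mk_eq_zero]
      exact Submodule.mem_sup_left hb
    simp [this]
  · intro i j
    have h1 : W.mkQ (x j) = f (Pi.single j 1) := by
      simp [f, Fintype.linearCombination_apply, Pi.single_apply]
    have h2 : g (f (Pi.single j 1)) = Pi.single j 1 := LinearMap.congr_fun hg _
    simp only [LinearMap.comp_apply, h1, h2, LinearMap.proj_apply, Pi.single_apply]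

end Field

section Poly

open MvPolynomial

variable {κ : Type*} [Field κ] {B : Type*} [CommRing B] [Bialgebra κ B]
variable {n : ℕ} (x : Fin n → B)

lemma ev_mem_pow (hxI : ∀ i, x i ∈ augI κ B) (d : ℕ) (f : MvPolynomial (Fin n) κ)
    (hf : f ∈ idealOfVars (Fin n) κ ^ d) : aeval x f ∈ augI κ B ^ d := by
  have h1 : Ideal.map (aeval x : MvPolynomial (Fin n) κ →ₐ[κ] B) (idealOfVars (Fin n) κ)
      ≤ augI κ B := by
    rw [Ideal.map_le_iff_le_comap, idealOfVars, Ideal.span_le]
    rintro _ ⟨j, rfl⟩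
    simpa using hxI j
  have h2 := Ideal.mem_map_of_mem (aeval x : MvPolynomial (Fin n) κ →ₐ[κ] B) hf
  rw [Ideal.map_pow] at h2
  exact Ideal.pow_right_mono h1 d h2

lemma xi_ev (hxI : ∀ i, x i ∈ augI κ B) (i : Fin n) (ξ : B →ₗ[κ] κ)
    (hξ : ∀ a b, ξ (a * b) = eps (κ := κ) a * ξ b + ξ a * eps (κ := κ) b)
    (hξx : ∀ j, ξ (x j) = if i = j then 1 else 0)
    (h : MvPolynomial (Fin n) κ) (hh : h ∈ idealOfVars (Fin n) κ) :
    ξ (aeval x h) = eps (κ := κ) (aeval x (pderiv i h)) := by
  classical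
  induction hh using Submodule.span_induction with
  | mem y hy =>
    obtain ⟨j, rfl⟩ := hy
    rw [aeval_X, hξx, pderiv_X, Pi.single_apply]
    by_cases hij : i = j
    · subst hij; simp
    · have : ¬ j = i := fun h => hij h.symm
      simp [hij, this]
  | zero => simp
  | add y z _ _ hy hz => simp only [map_add, hy, hz]
  | smul q y hy ih =>
    have hyI : eps (κ := κ) (aeval x y) = 0 := by
      have := ev_mem_pow x hxI 1 y (by simpa using hy)
      rw [pow_one] at this
      exact mem_augI.mp this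
    rw [smul_eq_mul, map_mul, hξ, ih, hyI, pderiv_mul, map_add, map_mul, map_mul, map_add,
      eps_mul, eps_mul, hyI]
    ring

lemma D_ev_sub (hxI : ∀ i, x i ∈ augI κ B) (i : Fin n) (ξ : B →ₗ[κ] κ)
    (hξ : ∀ a b, ξ (a * b) = eps (κ := κ) a * ξ b + ξ a * eps (κ := κ) b)
    (hξx : ∀ j, ξ (x j) = if i = j then 1 else 0) :
    ∀ (d : ℕ) (f : MvPolynomial (Fin n) κ), f ∈ idealOfVars (Fin n) κ ^ d →
      D ξ (aeval x f) - aeval x (pderiv i f) ∈ augI κ B ^ d := by
  intro d
  induction d with
  | zero => intro f _; simp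
  | succ d ih =>
    intro f hf
    rw [pow_succ] at hf
    refine Submodule.mul_induction_on hf ?_ ?_
    · intro g hg h hh
      have e1 : D ξ (aeval x (g * h)) - aeval x (pderiv i (g * h)) =
          aeval x g * (D ξ (aeval x h) - aeval x (pderiv i h)) +
            (D ξ (aeval x g) - aeval x (pderiv i g)) * aeval x h := by
        rw [map_mul, D_mul ξ hξ, pderiv_mul, map_add, map_mul, map_mul]
        ring
      rw [e1]
      have hI : D ξ (aeval x h) - aeval x (pderiv i h) ∈ augI κ B := by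
        rw [mem_augI, map_sub, eps_D, xi_ev x hxI i ξ hξ hξx h hh, sub_self]
      have hhI : aeval x h ∈ augI κ B := by
        have := ev_mem_pow x hxI 1 h (by simpa using hh)
        simpa using this
      refine add_mem ?_ ?_
      · rw [pow_succ]
        exact Ideal.mul_mem_mul (ev_mem_pow x hxI d g hg) hI
      · rw [pow_succ]
        exact Ideal.mul_mem_mul (ih g hg) hhI
    · intro y z hy hz
      have : D ξ (aeval x (y + z)) - aeval x (pderiv i (y + z)) =
          (D ξ (aeval x y) - aeval x (pderiv i y)) + (D ξ (aeval x z) - aeval x (pderiv i z)) := by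
        simp only [map_add]; ring
      rw [this]
      exact add_mem hy hz

end Poly

section Indep

open MvPolynomial

variable {κ : Type*} [Field κ] {B : Type*} [CommRing B] [Bialgebra κ B]
variable {n : ℕ} (x : Fin n → B) (p : ℕ) [Fact p.Prime] [CharP κ p]

/-- reducedness of a polynomial: all exponents `< p` -/
def IsRed (f : MvPolynomial (Fin n) κ) : Prop := ∀ α ∈ f.support, ∀ i, α i < p

lemma indep_graded (hxI : ∀ i, x i ∈ augI κ B) (ξ : Fin n → (B →ₗ[κ] κ))
    (hξ : ∀ i a b, ξ i (a * b) = eps (κ := κ) a * ξ i b + ξ i a * eps (κ := κ) b)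
    (hξx : ∀ i j, ξ i (x j) = if i = j then 1 else 0) :
    ∀ (d : ℕ) (f : MvPolynomial (Fin n) κ), IsRed p f → (∀ α ∈ f.support, α.degree = d) →
      aeval x f ∈ augI κ B ^ (d + 1) → f = 0 := by
  intro d
  induction d with
  | zero =>
    intro f _ hdeg hev
    have hfC : f = C (coeff 0 f) := by
      ext m
      by_cases hm : m = 0
      · subst hm; simp
      · have : m ∉ f.support := fun hmem => hm ((Finsupp.degree_eq_zero_iff m).mp (hdeg m hmem))
        rw [notMem_support_iff] at this
        rw [this, coeff_C, if_neg (Ne.symm hm)]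
    rw [hfC, aeval_C, zero_add, pow_one, mem_augI] at hev
    have h0 : coeff 0 f = 0 := by
      have : eps (κ := κ) (algebraMap κ B (coeff 0 f)) = coeff 0 f := by
        rw [Algebra.algebraMap_eq_smul_one, map_smul, eps_one]; simp
      rw [this] at hev
      exact hev
    rw [hfC, h0, C_0]
  | succ d ih =>
    intro f hred hdeg hev
    have hfm : f ∈ idealOfVars (Fin n) κ ^ (d + 1) := by
      rw [mem_pow_idealOfVars_iff]
      intro α hα
      exact (hdeg α hα).ge
    have hg : ∀ i, pderiv i f = 0 := by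
      intro i
      apply ih
      · intro α hα j
        rw [mem_support_iff, coeff_pderiv] at hα
        have h1 : coeff (α + Finsupp.single i 1) f ≠ 0 := fun h => hα (by rw [h, zero_mul])
        have h2 := hred _ (mem_support_iff.mpr h1) j
        have h3 : α j ≤ (α + Finsupp.single i 1 : Fin n →₀ ℕ) j := by simp
        omega
      · intro α hα
        rw [mem_support_iff, coeff_pderiv] at hα
        have h1 : coeff (α + Finsupp.single i 1) f ≠ 0 := fun h => hα (by rw [h, zero_mul])
        have h2 := hdeg _ (mem_support_iff.mpr h1)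
        rw [map_add, Finsupp.degree_single] at h2
        omega
      · have h1 := D_ev_sub x hxI i (ξ i) (hξ i) (hξx i) (d + 1) f hfm
        have h2 := D_mem_pow (ξ i) (hξ i) (d + 1) (aeval x f) hev
        have : aeval x (pderiv i f) =
            D (ξ i) (aeval x f) - (D (ξ i) (aeval x f) - aeval x (pderiv i f)) := by ring
        rw [this]
        exact sub_mem h2 h1
    by_contra hf
    obtain ⟨α, hα⟩ : f.support.Nonempty := by
      rw [Finset.nonempty_iff_ne_empty, Ne, support_eq_empty]; exact hf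
    have hαd := hdeg α hα
    have hα0 : α ≠ 0 := by
      rintro rfl
      simp at hαd
    obtain ⟨i, hi⟩ : ∃ i, α i ≠ 0 := by
      by_contra hcon
      push Not at hcon
      exact hα0 (Finsupp.ext hcon)
    have hc := coeff_pderiv (i := i) f (α - Finsupp.single i 1)
    rw [hg i, coeff_zero, Finsupp.sub_add_single_one_cancel hi] at hc
    have hcα : coeff α f ≠ 0 := mem_support_iff.mp hα
    have h3 : (((α - Finsupp.single i 1 : Fin n →₀ ℕ) i : ℕ) : κ) + 1 = ((α i : ℕ) : κ) := by
      have : (α - Finsupp.single i 1 : Fin n →₀ ℕ) i + 1 = α i := by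
        simp only [Finsupp.coe_tsub, Pi.sub_apply, Finsupp.single_eq_same]
        omega
      rw [← this]; push_cast; ring
    rw [h3] at hc
    have h4 : ((α i : ℕ) : κ) = 0 := by
      rcases mul_eq_zero.mp hc.symm with h | h
      · exact absurd h hcα
      · exact h
    rw [CharP.cast_eq_zero_iff κ p] at h4
    have h5 := hred α hα i
    have h6 := Nat.le_of_dvd (Nat.pos_of_ne_zero hi) h4
    omega

lemma indep_full (hxI : ∀ i, x i ∈ augI κ B) (ξ : Fin n → (B →ₗ[κ] κ))
    (hξ : ∀ i a b, ξ i (a * b) = eps (κ := κ) a * ξ i b + ξ i a * eps (κ := κ) b)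
    (hξx : ∀ i j, ξ i (x j) = if i = j then 1 else 0)
    (f : MvPolynomial (Fin n) κ) (hred : IsRed p f) (hev : aeval x f = 0) : f = 0 := by
  have key : ∀ d, f ∈ idealOfVars (Fin n) κ ^ d := by
    intro d
    induction d with
    | zero => simp
    | succ d ih =>
      have hsub : f - homogeneousComponent d f ∈ idealOfVars (Fin n) κ ^ (d + 1) := by
        rw [mem_pow_idealOfVars_iff']
        intro m hm
        rw [coeff_sub, coeff_homogeneousComponent]
        by_cases hmd : m.degree = d
        · rw [if_pos hmd, sub_self]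
        · rw [if_neg hmd, sub_zero]
          exact (mem_pow_idealOfVars_iff' d f).mp ih m (by omega)
      have hzero : homogeneousComponent d f = 0 := by
        apply indep_graded x p hxI ξ hξ hξx d
        · intro α hα
          rw [support_homogeneousComponent, Finset.mem_filter] at hα
          exact hred α hα.1
        · intro α hα
          rw [support_homogeneousComponent, Finset.mem_filter] at hα
          exact hα.2
        · have h1 := ev_mem_pow x hxI (d + 1) _ hsub
          rw [map_sub, hev, zero_sub] at h1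
          simpa using neg_mem h1
      rw [hzero, sub_zero] at hsub
      exact hsub
  ext m
  rw [coeff_zero]
  exact (mem_pow_idealOfVars_iff' (m.degree + 1) f).mp (key _) m (Nat.lt_succ_self _)

end Indep

section Span

variable {κ : Type*} [Field κ] {B : Type*} [CommRing B] [Bialgebra κ B]
variable {n : ℕ} (x : Fin n → B) (p : ℕ)

lemma exists_pow_eq_bot [Module.Finite κ B] (hp : ∀ b ∈ augI κ B, b ^ p = 0) :
    ∃ N : ℕ, augI κ B ^ N = ⊥ := by
  have h1 : IsNoetherian κ B := inferInstance
  have h2 : IsNoetherianRing B := isNoetherian_of_tower κ h1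
  have hle : augI κ B ≤ nilradical B := by
    intro b hb
    rw [mem_nilradical]
    exact ⟨p, hp b hb⟩
  have hfg : (augI κ B).FG := IsNoetherian.noetherian _
  obtain ⟨N, hN⟩ := (Ideal.FG.isNilpotent_iff_le_nilradical hfg).mpr hle
  exact ⟨N, by rw [hN, Ideal.zero_eq_bot]⟩

lemma adjoin_eq_top [Module.Finite κ B] (hp : ∀ b ∈ augI κ B, b ^ p = 0)
    (hxI : ∀ i, x i ∈ augI κ B)
    (hspan : ∀ b ∈ augI κ B, ∃ c : Fin n → κ, b - ∑ i, c i • x i ∈ augI κ B ^ 2) :
    Algebra.adjoin κ (Set.range x) = ⊤ := by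
  set S := Algebra.adjoin κ (Set.range x) with hS
  have hxS : ∀ i, x i ∈ S := fun i => Algebra.subset_adjoin ⟨i, rfl⟩
  have key : ∀ k : ℕ, ∀ b ∈ augI κ B, ∃ s ∈ S, s ∈ augI κ B ∧ b - s ∈ augI κ B ^ (k + 1) := by
    intro k
    induction k with
    | zero =>
      intro b hb
      exact ⟨0, zero_mem _, zero_mem _, by simpa using hb⟩
    | succ k ih =>
      intro b hb
      obtain ⟨c, hc⟩ := hspan b hb
      have hy : ∃ s ∈ S, s ∈ augI κ B ∧
          (b - ∑ i, c i • x i) - s ∈ augI κ B ^ (k + 1 + 1) := by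
        rw [pow_two] at hc
        refine Submodule.mul_induction_on hc ?_ ?_
        · intro u hu v hv
          obtain ⟨su, hsu, hsuI, hu'⟩ := ih u hu
          obtain ⟨sv, hsv, hsvI, hv'⟩ := ih v hv
          refine ⟨su * sv, mul_mem hsu hsv, Ideal.mul_mem_left _ _ hsvI, ?_⟩
          have e : u * v - su * sv = u * (v - sv) + (u - su) * sv := by ring
          rw [e]
          refine add_mem ?_ ?_
          · rw [pow_succ']
            exact Ideal.mul_mem_mul hu hv'
          · rw [pow_succ]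
            exact Ideal.mul_mem_mul hu' hsvI
        · rintro y z ⟨sy, hsy, hsyI, hy'⟩ ⟨sz, hsz, hszI, hz'⟩
          refine ⟨sy + sz, add_mem hsy hsz, add_mem hsyI hszI, ?_⟩
          have e : y + z - (sy + sz) = (y - sy) + (z - sz) := by ring
          rw [e]
          exact add_mem hy' hz'
      obtain ⟨s, hs, hsI, hs'⟩ := hy
      have hsumS : ∑ i, c i • x i ∈ S :=
        Subalgebra.sum_mem _ fun i _ => Subalgebra.smul_mem _ (hxS i) _
      have hsumI : ∑ i, c i • x i ∈ augI κ B :=
        Submodule.sum_mem _ fun i _ => by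
          rw [Algebra.smul_def]; exact Ideal.mul_mem_left _ _ (hxI i)
      refine ⟨∑ i, c i • x i + s, add_mem hsumS hs, add_mem hsumI hsI, ?_⟩
      have e : b - (∑ i, c i • x i + s) = (b - ∑ i, c i • x i) - s := by ring
      rw [e]
      exact hs'
  obtain ⟨N, hN⟩ := exists_pow_eq_bot (κ := κ) (B := B) p hp
  have hIS : ∀ b ∈ augI κ B, b ∈ S := by
    intro b hb
    obtain ⟨s, hs, -, hbs⟩ := key N b hb
    have : b - s ∈ augI κ B ^ N := Ideal.pow_le_pow_right (Nat.le_succ N) hbs
    rw [hN, Ideal.mem_bot, sub_eq_zero] at this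
    rw [this]; exact hs
  rw [eq_top_iff]
  intro b _
  have h1 := hIS _ (sub_eps_mem (κ := κ) b)
  have h2 : eps (κ := κ) b • (1 : B) ∈ S := Subalgebra.smul_mem _ (one_mem _) _
  have := add_mem h1 h2
  simpa using this

lemma span_monomials_eq_top [Module.Finite κ B] (hp : ∀ b ∈ augI κ B, b ^ p = 0)
    (hxI : ∀ i, x i ∈ augI κ B)
    (hspan : ∀ b ∈ augI κ B, ∃ c : Fin n → κ, b - ∑ i, c i • x i ∈ augI κ B ^ 2) (hp0 : 0 < p) :
    Submodule.span κ (Set.range fun α : Fin n → Fin p => ∏ i, x i ^ (α i : ℕ)) = ⊤ := by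
  classical
  set T := Submodule.span κ (Set.range fun α : Fin n → Fin p => ∏ i, x i ^ (α i : ℕ)) with hT
  have hx : ∀ j, ∀ t ∈ T, x j * t ∈ T := by
    intro j t ht
    induction ht using Submodule.span_induction with
    | mem y hy =>
      obtain ⟨α, rfl⟩ := hy
      have e1 : (∏ i, x i ^ (α i : ℕ)) =
          x j ^ (α j : ℕ) * ∏ i ∈ Finset.univ.erase j, x i ^ (α i : ℕ) :=
        (Finset.mul_prod_erase Finset.univ (fun i => x i ^ (α i : ℕ)) (Finset.mem_univ j)).symm
      by_cases hlt : (α j : ℕ) + 1 < p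
      · let α' : Fin n → Fin p := Function.update α j ⟨(α j : ℕ) + 1, hlt⟩
        have e2 : (∏ i, x i ^ (α' i : ℕ)) =
            x j ^ ((α j : ℕ) + 1) * ∏ i ∈ Finset.univ.erase j, x i ^ (α i : ℕ) := by
          rw [← Finset.mul_prod_erase Finset.univ (fun i => x i ^ (α' i : ℕ)) (Finset.mem_univ j)]
          congr 1
          · simp [α']
          · refine Finset.prod_congr rfl fun i hi => ?_
            have : i ≠ j := (Finset.mem_erase.mp hi).1
            simp [α', Function.update_of_ne this]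
        have : x j * ∏ i, x i ^ (α i : ℕ) = ∏ i, x i ^ (α' i : ℕ) := by
          rw [e2, e1, pow_succ]; ring
        rw [this]
        exact Submodule.subset_span ⟨α', rfl⟩
      · have hαj : (α j : ℕ) + 1 = p := by
          have := (α j).2
          omega
        have : x j * ∏ i, x i ^ (α i : ℕ) = 0 := by
          rw [e1, ← mul_assoc, ← pow_succ', hαj, hp _ (hxI j), zero_mul]
        rw [this]; exact zero_mem _
    | zero => simp
    | add y z _ _ hy hz => rw [mul_add]; exact add_mem hy hz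
    | smul r y _ hy => rw [mul_smul_comm]; exact Submodule.smul_mem _ _ hy
  have h1T : (1 : B) ∈ T := by
    refine Submodule.subset_span ⟨fun _ => ⟨0, hp0⟩, ?_⟩
    simp
  have hS : ∀ b ∈ Algebra.adjoin κ (Set.range x), ∀ t ∈ T, b * t ∈ T := by
    intro b hb
    induction hb using Algebra.adjoin_induction with
    | mem y hy =>
      obtain ⟨j, rfl⟩ := hy
      exact hx j
    | algebraMap r =>
      intro t ht
      rw [← Algebra.smul_def]
      exact Submodule.smul_mem _ _ ht
    | add y z _ _ hy hz =>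
      intro t ht
      rw [add_mul]
      exact add_mem (hy t ht) (hz t ht)
    | mul y z _ _ hy hz =>
      intro t ht
      rw [mul_assoc]
      exact hy _ (hz t ht)
  rw [eq_top_iff]
  intro b _
  have hb : b ∈ Algebra.adjoin κ (Set.range x) := by
    rw [adjoin_eq_top x p hp hxI hspan]; trivial
  have := hS b hb 1 h1T
  simpa using this

end Span

section Final

open MvPolynomial

/-- multi-index `Fin n → Fin p` as a finsupp -/
noncomputable def tIdx {n p : ℕ} (α : Fin n → Fin p) : Fin n →₀ ℕ :=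
  Finsupp.equivFunOnFinite.symm (fun i => (α i : ℕ))

@[simp] lemma tIdx_apply {n p : ℕ} (α : Fin n → Fin p) (i : Fin n) : tIdx α i = (α i : ℕ) := by
  simp [tIdx]

lemma tIdx_injective {n p : ℕ} : Function.Injective (tIdx (n := n) (p := p)) := by
  intro α β h
  funext i
  have := DFunLike.congr_fun h i
  simp only [tIdx_apply] at this
  exact Fin.ext this

/-- the polynomial with prescribed reduced coefficients -/
noncomputable def polyOf {K : Type*} [CommSemiring K] {n p : ℕ} (g : (Fin n → Fin p) → K) :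
    MvPolynomial (Fin n) K :=
  ∑ α, monomial (tIdx α) (g α)

lemma coeff_polyOf {K : Type*} [CommSemiring K] {n p : ℕ} (g : (Fin n → Fin p) → K)
    (α : Fin n → Fin p) : coeff (tIdx α) (polyOf g) = g α := by
  classical
  rw [polyOf, coeff_sum]
  simp only [coeff_monomial]
  rw [Finset.sum_eq_single α]
  · simp
  · intro β _ hβ
    rw [if_neg]
    exact fun h => hβ (tIdx_injective h)
  · intro h; exact absurd (Finset.mem_univ α) h

lemma support_polyOf {K : Type*} [CommSemiring K] {n p : ℕ} (g : (Fin n → Fin p) → K)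
    (m : Fin n →₀ ℕ) (hm : m ∈ (polyOf g).support) : ∃ α : Fin n → Fin p, m = tIdx α := by
  classical
  rw [polyOf] at hm
  have := MvPolynomial.support_sum hm
  rw [Finset.mem_biUnion] at this
  obtain ⟨α, -, hα⟩ := this
  have h2 := MvPolynomial.support_monomial_subset hα
  rw [Finset.mem_singleton] at h2
  exact ⟨α, h2⟩

lemma aeval_polyOf {K : Type*} [CommSemiring K] {C : Type*} [CommSemiring C] [Algebra K C]
    {n p : ℕ} (y : Fin n → C) (g : (Fin n → Fin p) → K) :
    aeval y (polyOf g) = ∑ α, g α • ∏ i, y i ^ (α i : ℕ) := by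
  rw [polyOf, map_sum]
  refine Finset.sum_congr rfl fun α _ => ?_
  rw [aeval_monomial, Finsupp.prod_fintype _ _ (fun i => pow_zero _), Algebra.smul_def]
  simp

/-- a polynomial with all exponents `< p` is `polyOf` of its coefficients -/
lemma eq_polyOf {K : Type*} [CommSemiring K] {n p : ℕ} (f : MvPolynomial (Fin n) K)
    (hf : ∀ m ∈ f.support, ∀ i, m i < p) :
    f = polyOf (fun α : Fin n → Fin p => coeff (tIdx α) f) := by
  classical
  ext m
  by_cases hm : ∀ i, m i < p
  · have : m = tIdx (fun i => (⟨m i, hm i⟩ : Fin p)) := by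
      ext i; simp
    rw [this, coeff_polyOf]
  · have h1 : coeff m f = 0 := by
      by_contra h
      exact hm (hf m (mem_support_iff.mpr h))
    have h2 : coeff m (polyOf (fun α : Fin n → Fin p => coeff (tIdx α) f)) = 0 := by
      by_contra h
      obtain ⟨α, hα⟩ := support_polyOf _ m (mem_support_iff.mpr h)
      apply hm
      intro i
      rw [hα, tIdx_apply]
      exact (α i).2
    rw [h1, h2]

variable {κ : Type*} [Field κ] {B : Type*} [CommRing B] [Bialgebra κ B]

theorem monomial_bijective (p : ℕ) [Fact p.Prime] [CharP κ p] [Module.Finite κ B]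
    (hp : ∀ b ∈ augI κ B, b ^ p = 0) {n : ℕ} (x : Fin n → B)
    (hxI : ∀ i, x i ∈ augI κ B)
    (hspan : ∀ b ∈ augI κ B, ∃ c : Fin n → κ, b - ∑ i, c i • x i ∈ augI κ B ^ 2)
    (hind : ∀ c : Fin n → κ, ∑ i, c i • x i ∈ augI κ B ^ 2 → c = 0) :
    Function.Bijective
      (Finsupp.linearCombination κ (fun α : Fin n → Fin p => ∏ i, x i ^ (α i : ℕ))) := by
  obtain ⟨ξ, hξ1, hξ2, hξx⟩ := exists_xi x hxI hind
  have hξ : ∀ i a b, ξ i (a * b) = eps (κ := κ) a * ξ i b + ξ i a * eps (κ := κ) b :=
    fun i => xi_mul (ξ i) (hξ1 i) (hξ2 i)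
  constructor
  · show LinearIndependent κ (fun α : Fin n → Fin p => ∏ i, x i ^ (α i : ℕ))
    rw [Fintype.linearIndependent_iff]
    intro g hg α
    have h0 : polyOf g = 0 := by
      apply indep_full x p hxI ξ hξ hξx
      · intro m hm i
        obtain ⟨β, rfl⟩ := support_polyOf g m hm
        rw [tIdx_apply]; exact (β i).2
      · rw [aeval_polyOf]; exact hg
    rw [← coeff_polyOf g α, h0, coeff_zero]
  · rw [← LinearMap.range_eq_top, Finsupp.range_linearCombination]
    exact span_monomials_eq_top x p hp hxI hspan (Fact.out : p.Prime).pos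

end Final


section Coords

variable {κ : Type*} [Field κ] {B : Type*} [CommRing B] [Bialgebra κ B]

/-- existence of "coordinates": a family in the augmentation ideal which is a basis modulo `I²`. -/
theorem exists_coords [Module.Finite κ B] :
    ∃ (n : ℕ) (x : Fin n → B), (∀ i, x i ∈ augI κ B) ∧
      (∀ b ∈ augI κ B, ∃ c : Fin n → κ, b - ∑ i, c i • x i ∈ augI κ B ^ 2) ∧
      (∀ c : Fin n → κ, ∑ i, c i • x i ∈ augI κ B ^ 2 → c = 0) := by
  classical
  let Iκ : Submodule κ B := (augI κ B).restrictScalars κ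
  let I2 : Submodule κ B := (augI κ B ^ 2).restrictScalars κ
  have hI2le : I2 ≤ Iκ := fun y hy => Ideal.pow_le_self (by norm_num) hy
  obtain ⟨C₀, hC₀⟩ := Submodule.exists_isCompl I2
  let C : Submodule κ B := C₀ ⊓ Iκ
  let n := Module.finrank κ C
  let bC : Module.Basis (Fin n) κ C := Module.finBasis κ C
  let x : Fin n → B := fun i => (bC i : B)
  refine ⟨n, x, fun i => (bC i).2.2, ?_, ?_⟩
  · intro b hb
    have hbtop : b ∈ I2 ⊔ C₀ := by rw [hC₀.sup_eq_top]; trivial
    obtain ⟨y, hy, z, hz, rfl⟩ := Submodule.mem_sup.mp hbtop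
    have hzI : z ∈ Iκ := by
      have : z = (y + z) - y := by ring
      rw [this]
      exact sub_mem hb (hI2le hy)
    let zC : C := ⟨z, hz, hzI⟩
    refine ⟨fun i => bC.repr zC i, ?_⟩
    have h2 : ∑ i, (bC.repr zC i) • x i = z := by
      have := bC.sum_repr zC
      have h3 := congrArg (Subtype.val) this
      rw [Submodule.coe_sum] at h3
      simp only [Submodule.coe_smul] at h3
      exact h3
    rw [h2]
    have : y + z - z = y := by ring
    rw [this]
    exact hy
  · intro c hc
    have h2 : ((∑ i, c i • bC i : C) : B) = ∑ i, c i • x i := by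
      simp [x]
    have h3 : ((∑ i, c i • bC i : C) : B) ∈ I2 ⊓ C₀ := by
      rw [h2]
      refine ⟨hc, ?_⟩
      rw [← h2]
      exact (∑ i, c i • bC i : C).2.1
    rw [hC₀.inf_eq_bot, Submodule.mem_bot] at h3
    have h4 : (∑ i, c i • bC i : C) = 0 := Subtype.ext h3
    funext i
    exact (Fintype.linearIndependent_iff.mp bC.linearIndependent) c h4 i

/-- the number of coordinates is the dimension of the cotangent space -/
theorem finrank_cotangent_eq {n : ℕ} (x : Fin n → B) (hxI : ∀ i, x i ∈ augI κ B)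
    (hspan : ∀ b ∈ augI κ B, ∃ c : Fin n → κ, b - ∑ i, c i • x i ∈ augI κ B ^ 2)
    (hind : ∀ c : Fin n → κ, ∑ i, c i • x i ∈ augI κ B ^ 2 → c = 0) :
    Module.finrank κ (augI κ B).Cotangent = n := by
  classical
  let y : Fin n → (augI κ B).Cotangent := fun i => (augI κ B).toCotangent ⟨x i, hxI i⟩
  have hsum : ∀ c : Fin n → κ, ∑ i, c i • y i =
      (augI κ B).toCotangent ⟨∑ i, c i • x i, Submodule.sum_mem _ fun i _ => by
        rw [Algebra.smul_def]; exact Ideal.mul_mem_left _ _ (hxI i)⟩ := by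
    intro c
    have : (⟨∑ i, c i • x i, Submodule.sum_mem _ fun i _ => by
        rw [Algebra.smul_def]; exact Ideal.mul_mem_left _ _ (hxI i)⟩ : augI κ B) =
        ∑ i, (algebraMap κ B (c i)) • (⟨x i, hxI i⟩ : augI κ B) := by
      apply Subtype.ext
      rw [Submodule.coe_sum]
      simp [Algebra.smul_def]
    rw [this, map_sum]
    refine Finset.sum_congr rfl fun i _ => ?_
    rw [map_smul, algebraMap_smul]
  have hli : LinearIndependent κ y := by
    rw [Fintype.linearIndependent_iff]
    intro c hc i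
    rw [hsum, Ideal.toCotangent_eq_zero] at hc
    exact congrFun (hind c hc) i
  have hsp : ⊤ ≤ Submodule.span κ (Set.range y) := by
    intro q _
    obtain ⟨b, rfl⟩ := Ideal.toCotangent_surjective _ q
    obtain ⟨c, hc⟩ := hspan b.1 b.2
    have h1 : (augI κ B).toCotangent b = ∑ i, c i • y i := by
      rw [hsum, Ideal.toCotangent_eq]
      exact hc
    rw [h1]
    exact Submodule.sum_mem _ fun i _ =>
      Submodule.smul_mem _ _ (Submodule.subset_span ⟨i, rfl⟩)
  have := Module.finrank_eq_card_basis (Module.Basis.mk hli hsp)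
  rw [this, Fintype.card_fin]

/-- height one finite bialgebras over a field have dimension `p ^ dim (I/I²)` -/
theorem finrank_eq_pow (p : ℕ) [Fact p.Prime] [CharP κ p] [Module.Finite κ B]
    (hp : ∀ b ∈ augI κ B, b ^ p = 0) :
    Module.finrank κ B = p ^ Module.finrank κ (augI κ B).Cotangent := by
  classical
  obtain ⟨n, x, hxI, hspan, hind⟩ := exists_coords (κ := κ) (B := B)
  have hbij := monomial_bijective p hp x hxI hspan hind
  rw [finrank_cotangent_eq x hxI hspan hind]
  have hli : LinearIndependent κ (fun α : Fin n → Fin p => ∏ i, x i ^ (α i : ℕ)) := hbij.1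
  have hsp : ⊤ ≤ Submodule.span κ (Set.range fun α : Fin n → Fin p => ∏ i, x i ^ (α i : ℕ)) := by
    rw [← Finsupp.range_linearCombination, LinearMap.range_eq_top.mpr hbij.2]
  have := Module.finrank_eq_card_basis (Module.Basis.mk hli hsp)
  rw [this]
  simp

end Coords


section TruncPoly

open MvPolynomial

lemma exists_reduced_mod {K : Type*} [CommRing K] {n : ℕ} (p : ℕ) (f : MvPolynomial (Fin n) K) :
    ∃ f' : MvPolynomial (Fin n) K, (∀ m ∈ f'.support, ∀ i, m i < p) ∧
      f - f' ∈ Ideal.span (Set.range fun i : Fin n => (X i : MvPolynomial (Fin n) K) ^ p) := by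
  classical
  induction f using MvPolynomial.induction_on' with
  | monomial u c =>
    by_cases hu : ∀ i, u i < p
    · refine ⟨monomial u c, ?_, by simp⟩
      intro m hm i
      have := MvPolynomial.support_monomial_subset hm
      rw [Finset.mem_singleton] at this
      rw [this]; exact hu i
    · push Not at hu
      obtain ⟨i, hi⟩ := hu
      refine ⟨0, by simp, ?_⟩
      rw [sub_zero]
      have hle : Finsupp.single i p ≤ u := by
        rw [Finsupp.single_le_iff]
        exact hi
      have e : monomial u c =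
          monomial (u - Finsupp.single i p) c * (X i : MvPolynomial (Fin n) K) ^ p := by
        rw [X_pow_eq_monomial, monomial_mul, tsub_add_cancel_of_le hle, mul_one]
      rw [e]
      exact Ideal.mul_mem_left _ _ (Ideal.subset_span ⟨i, rfl⟩)
  | add f g hf hg =>
    obtain ⟨f', hf', hfJ⟩ := hf
    obtain ⟨g', hg', hgJ⟩ := hg
    refine ⟨f' + g', ?_, ?_⟩
    · intro m hm i
      rcases Finset.mem_union.mp (MvPolynomial.support_add hm) with h | h
      · exact hf' m h i
      · exact hg' m h i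
    · have : f + g - (f' + g') = (f - f') + (g - g') := by ring
      rw [this]
      exact add_mem hfJ hgJ

/-- if the reduced monomials in `y` (with `y i ^ p = 0`) form a basis, the algebra is a truncated
polynomial algebra -/
theorem truncPoly_equiv {K : Type*} [CommRing K] {C : Type*} [CommRing C] [Algebra K C]
    {n : ℕ} (p : ℕ) (y : Fin n → C) (hy : ∀ i, y i ^ p = 0)
    (hbij : Function.Bijective
      (Finsupp.linearCombination K (fun α : Fin n → Fin p => ∏ i, y i ^ (α i : ℕ)))) :
    Nonempty (C ≃ₐ[K] (MvPolynomial (Fin n) K ⧸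
      Ideal.span (Set.range fun i : Fin n => (MvPolynomial.X i : MvPolynomial (Fin n) K) ^ p))) := by
  classical
  let v : (Fin n → Fin p) → C := fun α => ∏ i, y i ^ (α i : ℕ)
  have hli : LinearIndependent K v := hbij.1
  let J : Ideal (MvPolynomial (Fin n) K) :=
    Ideal.span (Set.range fun i : Fin n => (MvPolynomial.X i : MvPolynomial (Fin n) K) ^ p)
  let ψ : MvPolynomial (Fin n) K →ₐ[K] C := aeval y
  have hψJ : ∀ f ∈ J, ψ f = 0 := by
    intro f hf
    have hle : J ≤ RingHom.ker (ψ : MvPolynomial (Fin n) K →+* C) := by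
      rw [Ideal.span_le]
      rintro _ ⟨i, rfl⟩
      rw [SetLike.mem_coe, RingHom.mem_ker]
      simp only [ψ, AlgHom.coe_toRingHom, map_pow, aeval_X]
      exact hy i
    exact hle hf
  let φ : (MvPolynomial (Fin n) K ⧸ J) →ₐ[K] C := Ideal.Quotient.liftₐ J ψ hψJ
  have hψpoly : ∀ g : (Fin n → Fin p) → K, ψ (polyOf g) = ∑ α, g α • v α := fun g =>
    aeval_polyOf y g
  have hsurj : Function.Surjective φ := by
    intro c
    obtain ⟨l, hl⟩ := hbij.2 c
    refine ⟨Ideal.Quotient.mk J (polyOf (fun α => l α)), ?_⟩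
    rw [← hl]
    show ψ (polyOf fun α => l α) = _
    rw [hψpoly, Finsupp.linearCombination_apply, Finsupp.sum_fintype _ _ (by simp)]
  have hinj : Function.Injective φ := by
    rw [injective_iff_map_eq_zero]
    intro q hq
    obtain ⟨f, rfl⟩ := Ideal.Quotient.mk_surjective q
    obtain ⟨f', hf', hfJ⟩ := exists_reduced_mod p f
    have hψf : ψ f = 0 := hq
    have hψf' : ψ f' = 0 := by
      have : f' = f - (f - f') := by ring
      rw [this, map_sub, hψf, hψJ _ hfJ, sub_zero]
    have hf'0 : f' = 0 := by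
      rw [eq_polyOf f' hf'] at hψf' ⊢
      rw [hψpoly] at hψf'
      have hz := Fintype.linearIndependent_iff.mp hli _ hψf'
      have : (fun α : Fin n → Fin p => coeff (tIdx α) f') = fun _ => 0 := funext hz
      rw [this]
      simp [polyOf]
    rw [hf'0, sub_zero] at hfJ
    exact Ideal.Quotient.eq_zero_iff_mem.mpr hfJ
  exact ⟨(AlgEquiv.ofBijective φ ⟨hinj, hsurj⟩).symm⟩

end TruncPoly

section FrobKer

variable {κ : Type*} [Field κ] {B : Type*} [CommRing B] [Bialgebra κ B]
variable (p : ℕ) [Fact p.Prime] [CharP κ p]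

omit [Fact p.Prime] in
lemma add_pow_p {Q : Type*} [CommRing Q] [Algebra κ Q] [Fact p.Prime] (x y : Q) :
    (x + y) ^ p = x ^ p + y ^ p := by
  rcases subsingleton_or_nontrivial Q with h | h
  · exact Subsingleton.elim _ _
  · haveI : CharP Q p := charP_of_injective_algebraMap (algebraMap κ Q).injective p
    exact add_pow_char x y p

/-- the ideal of elements with vanishing `p`-th power -/
def powZeroIdeal (Q : Type*) [CommRing Q] [Algebra κ Q] : Ideal Q where
  carrier := {q | q ^ p = 0}
  add_mem' := by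
    intro a b ha hb
    simp only [Set.mem_ofPred_eq] at ha hb ⊢
    rw [add_pow_p (κ := κ) p a b, ha, hb, add_zero]
  zero_mem' := by
    simp only [Set.mem_ofPred_eq]
    exact zero_pow (Fact.out : p.Prime).ne_zero
  smul_mem' := by
    intro c x hx
    simp only [Set.mem_ofPred_eq, smul_eq_mul] at hx ⊢
    rw [mul_pow, hx, mul_zero]

lemma mem_powZeroIdeal {Q : Type*} [CommRing Q] [Algebra κ Q] (q : Q) :
    q ∈ powZeroIdeal (κ := κ) p Q ↔ q ^ p = 0 := Iff.rfl

variable (κ B) in
/-- the ideal generated by `p`-th powers of elements of the augmentation ideal -/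
def frobIdeal : Ideal B := Ideal.span ((fun a : B => a ^ p) '' (augI κ B : Set B))

omit [CharP κ p] in
lemma pow_mem_frobIdeal {a : B} (ha : a ∈ augI κ B) : a ^ p ∈ frobIdeal κ B p :=
  Ideal.subset_span ⟨a, ha, rfl⟩

omit [CharP κ p] in
lemma frobIdeal_le_augI : frobIdeal κ B p ≤ augI κ B := by
  rw [frobIdeal, Ideal.span_le]
  rintro _ ⟨a, ha, rfl⟩
  exact Ideal.pow_mem_of_mem _ ha p (Fact.out : p.Prime).pos

omit [CharP κ p] in
lemma frobIdeal_le_augI_sq : frobIdeal κ B p ≤ augI κ B ^ 2 := by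
  rw [frobIdeal, Ideal.span_le]
  rintro _ ⟨a, ha, rfl⟩
  have h2 : 2 ≤ p := (Fact.out : p.Prime).two_le
  exact Ideal.pow_le_pow_right h2 (Ideal.pow_mem_pow ha p)

/-- key: the image of `z - ε₂(z)` in `(B/J) ⊗ (B/J)` has vanishing `p`-th power -/
lemma map_sub_mem_powZero (z : B ⊗[κ] B) :
    Algebra.TensorProduct.map (Ideal.Quotient.mkₐ κ (frobIdeal κ B p))
        (Ideal.Quotient.mkₐ κ (frobIdeal κ B p)) z
      - (eps (κ := κ) (T (eps (κ := κ)) z)) • (1 : (B ⧸ frobIdeal κ B p) ⊗[κ] (B ⧸ frobIdeal κ B p))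
      ∈ powZeroIdeal (κ := κ) p ((B ⧸ frobIdeal κ B p) ⊗[κ] (B ⧸ frobIdeal κ B p)) := by
  induction z using TensorProduct.induction_on with
  | zero => simp
  | add z w hz hw =>
    have e : ∀ (a b : (B ⧸ frobIdeal κ B p) ⊗[κ] (B ⧸ frobIdeal κ B p)) (s t : κ),
        (a + b) - (s + t) • (1 : (B ⧸ frobIdeal κ B p) ⊗[κ] (B ⧸ frobIdeal κ B p)) =
          (a - s • 1) + (b - t • 1) := by
      intro a b s t; rw [add_smul]; ring
    rw [map_add, map_add, map_add, e]
    exact add_mem hz hw
  | tmul b c =>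
    set J := frobIdeal κ B p with hJ
    set b' : B := b - eps (κ := κ) b • (1 : B) with hb'
    set c' : B := c - eps (κ := κ) c • (1 : B) with hc'
    have hb'I : b' ∈ augI κ B := sub_eps_mem b
    have hc'I : c' ∈ augI κ B := sub_eps_mem c
    have e1 : Algebra.TensorProduct.map (Ideal.Quotient.mkₐ κ J) (Ideal.Quotient.mkₐ κ J) (b ⊗ₜ[κ] c)
        - (eps (κ := κ) (T (eps (κ := κ)) (b ⊗ₜ[κ] c))) • (1 : (B ⧸ J) ⊗[κ] (B ⧸ J)) =
        (Ideal.Quotient.mkₐ κ J b') ⊗ₜ[κ] (Ideal.Quotient.mkₐ κ J c) +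
          eps (κ := κ) b • ((1 : B ⧸ J) ⊗ₜ[κ] (Ideal.Quotient.mkₐ κ J c')) := by
      rw [hb', hc']
      simp only [Algebra.TensorProduct.map_tmul, T_tmul, map_sub, map_smul, map_one, smul_eq_mul,
        TensorProduct.sub_tmul, TensorProduct.tmul_sub, TensorProduct.smul_tmul',
        TensorProduct.tmul_smul, smul_sub, smul_smul, Algebra.TensorProduct.one_def]
      rw [mul_comm (eps (κ := κ) c) (eps (κ := κ) b)]
      abel
    rw [e1]
    refine add_mem ?_ ?_
    · rw [mem_powZeroIdeal, Algebra.TensorProduct.tmul_pow, ← map_pow]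
      have : (Ideal.Quotient.mkₐ κ J) (b' ^ p) = 0 := by
        rw [Ideal.Quotient.mkₐ_eq_mk, Ideal.Quotient.eq_zero_iff_mem]
        exact pow_mem_frobIdeal p hb'I
      rw [this, TensorProduct.zero_tmul]
    · refine Submodule.smul_of_tower_mem _ _ ?_
      rw [mem_powZeroIdeal, Algebra.TensorProduct.tmul_pow, one_pow, ← map_pow]
      have : (Ideal.Quotient.mkₐ κ J) (c' ^ p) = 0 := by
        rw [Ideal.Quotient.mkₐ_eq_mk, Ideal.Quotient.eq_zero_iff_mem]
        exact pow_mem_frobIdeal p hc'I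
      rw [this, TensorProduct.tmul_zero]

instance isCoideal_frobIdeal : ((frobIdeal κ B p).restrictScalars κ).IsCoideal where
  counit_eq_zero := by
    intro x hx
    exact mem_augI.mp (frobIdeal_le_augI p hx)
  map_mkQ_comul_eq_zero := by
    intro x hx
    let J := frobIdeal κ B p
    let Φ : B →ₐ[κ] (B ⧸ J) ⊗[κ] (B ⧸ J) :=
      (Algebra.TensorProduct.map (Ideal.Quotient.mkₐ κ J) (Ideal.Quotient.mkₐ κ J)).comp
        (Bialgebra.comulAlgHom κ B)
    have hle : J ≤ RingHom.ker (Φ : B →+* (B ⧸ J) ⊗[κ] (B ⧸ J)) := by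
      show frobIdeal κ B p ≤ _
      rw [frobIdeal, Ideal.span_le]
      rintro _ ⟨a, ha, rfl⟩
      rw [SetLike.mem_coe, RingHom.mem_ker]
      have h1 := map_sub_mem_powZero (κ := κ) (B := B) p (Coalgebra.comul (R := κ) a)
      rw [T_eps_comul, mem_augI.mp ha, zero_smul, sub_zero, mem_powZeroIdeal] at h1
      simp only [AlgHom.coe_toRingHom, map_pow]
      exact h1
    have hΦ : Φ x = 0 := hle hx
    exact hΦ


lemma mk_mem_augI_iff (b : B) :
    Ideal.Quotient.mk (frobIdeal κ B p) b ∈ augI κ (B ⧸ frobIdeal κ B p) ↔ b ∈ augI κ B := by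
  rw [mem_augI, mem_augI]
  rfl

/-- the Frobenius kernel is a truncated polynomial algebra on `dim I/I²` generators -/
theorem frobKer_equiv [Module.Finite κ B] :
    Nonempty ((B ⧸ frobIdeal κ B p) ≃ₐ[κ]
      (MvPolynomial (Fin (Module.finrank κ (augI κ B).Cotangent)) κ ⧸
        Ideal.span (Set.range fun i : Fin (Module.finrank κ (augI κ B).Cotangent) =>
          (MvPolynomial.X i : MvPolynomial (Fin (Module.finrank κ (augI κ B).Cotangent)) κ) ^ p))) := by
  classical
  obtain ⟨n, a, haI, hspanA, hindA⟩ := exists_coords (κ := κ) (B := B)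
  have hn := finrank_cotangent_eq a haI hspanA hindA
  rw [hn]
  set J := frobIdeal κ B p with hJ
  let x : Fin n → B ⧸ J := fun i => Ideal.Quotient.mk J (a i)
  have hpC : ∀ c ∈ augI κ (B ⧸ J), c ^ p = 0 := by
    intro c hc
    obtain ⟨b, rfl⟩ := Ideal.Quotient.mk_surjective c
    have hb : b ∈ augI κ B := (mk_mem_augI_iff p b).mp hc
    rw [← map_pow, Ideal.Quotient.eq_zero_iff_mem]
    exact pow_mem_frobIdeal p hb
  have hxI : ∀ i, x i ∈ augI κ (B ⧸ J) := fun i => (mk_mem_augI_iff p (a i)).mpr (haI i)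
  have hmaple : Ideal.map (Ideal.Quotient.mk J) (augI κ B) ≤ augI κ (B ⧸ J) := by
    rw [Ideal.map_le_iff_le_comap]
    intro b hb
    exact (mk_mem_augI_iff p b).mpr hb
  have hmapeq : Ideal.map (Ideal.Quotient.mk J) (augI κ B) = augI κ (B ⧸ J) := by
    refine le_antisymm hmaple ?_
    intro c hc
    obtain ⟨b, rfl⟩ := Ideal.Quotient.mk_surjective c
    exact Ideal.mem_map_of_mem _ ((mk_mem_augI_iff p b).mp hc)
  have hsum : ∀ c : Fin n → κ, ∑ i, c i • x i = Ideal.Quotient.mk J (∑ i, c i • a i) := by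
    intro c
    rw [map_sum]
    refine Finset.sum_congr rfl fun i _ => ?_
    rw [Algebra.smul_def, Algebra.smul_def, map_mul]
    rfl
  have hspan : ∀ c ∈ augI κ (B ⧸ J), ∃ t : Fin n → κ,
      c - ∑ i, t i • x i ∈ augI κ (B ⧸ J) ^ 2 := by
    intro c hc
    obtain ⟨b, rfl⟩ := Ideal.Quotient.mk_surjective c
    obtain ⟨t, ht⟩ := hspanA b ((mk_mem_augI_iff p b).mp hc)
    refine ⟨t, ?_⟩
    rw [hsum, ← map_sub, ← hmapeq, ← Ideal.map_pow]
    exact Ideal.mem_map_of_mem _ ht
  have hind : ∀ t : Fin n → κ, ∑ i, t i • x i ∈ augI κ (B ⧸ J) ^ 2 → t = 0 := by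
    intro t ht
    apply hindA
    rw [hsum, ← hmapeq, ← Ideal.map_pow] at ht
    have h2 : (∑ i, t i • a i) ∈
        Ideal.comap (Ideal.Quotient.mk J) (Ideal.map (Ideal.Quotient.mk J) (augI κ B ^ 2)) := ht
    rw [Ideal.comap_map_of_surjective _ Ideal.Quotient.mk_surjective, ← RingHom.ker_eq_comap_bot,
      Ideal.mk_ker, sup_eq_left.mpr (frobIdeal_le_augI_sq p)] at h2
    exact h2
  have hbij := monomial_bijective p hpC x hxI hspan hind
  exact truncPoly_equiv p x (fun i => hpC _ (hxI i)) hbij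

end FrobKer

end Groth.Agent.Lib.Helper14.HeightOne
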