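import Mathlib

set_option autoImplicit false

/-!
# Sub-bialgebras over a field (helper14)

For a bialgebra `A` over a field `k` and a subalgebra `C` whose comultiplication lands in the image
of `C ⊗ C → A ⊗ A`, we construct the induced `Bialgebra k C` structure.
-/

namespace Groth.Agent.Lib.Helper14.SubBialg

open TensorProduct

variable {k : Type*} [Field k] {A : Type*} [CommRing A] [Bialgebra k A] (C : Subalgebra k A)

/-- `C ⊗ C → A ⊗ A` -/
noncomputable def ιι : C ⊗[k] C →ₐ[k] A ⊗[k] A := Algebra.TensorProduct.map C.val C.val

theorem ιι_injective : Function.Injective (ιι C) := by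
  have h : Function.Injective (TensorProduct.map C.val.toLinearMap C.val.toLinearMap) :=
    TensorProduct.map_injective_of_flat_flat _ _ Subtype.val_injective Subtype.val_injective
  exact h

/-- the hypothesis that `C` is stable under comultiplication -/
def ComulStable : Prop := ∀ c ∈ C, Coalgebra.comul (R := k) c ∈ (ιι C).range

variable {C}

/-- the comultiplication on `C` -/
noncomputable def comulC (h : ComulStable C) : C →ₐ[k] C ⊗[k] C :=
  ((AlgEquiv.ofInjective (ιι C) (ιι_injective C)).symm : (ιι C).range →ₐ[k] C ⊗[k] C).comp
    (((Bialgebra.comulAlgHom k A).comp C.val).codRestrict (ιι C).range (fun c => h c.1 c.2))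

theorem ιι_comulC (h : ComulStable C) (c : C) :
    ιι C (comulC h c) = Coalgebra.comul (R := k) (c : A) := by
  unfold comulC
  simp only [AlgHom.comp_apply]
  have := (AlgEquiv.ofInjective (ιι C) (ιι_injective C)).apply_symm_apply
    ((((Bialgebra.comulAlgHom k A).comp C.val).codRestrict (ιι C).range (fun c => h c.1 c.2)) c)
  have h2 := congrArg Subtype.val this
  rw [AlgEquiv.ofInjective_apply] at h2
  exact h2

/-- the counit on `C` -/
noncomputable def counitC : C →ₐ[k] k := (Bialgebra.counitAlgHom k A).comp C.val

variable (C) in
/-- `C ⊗ (C ⊗ C) → A ⊗ (A ⊗ A)` -/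
noncomputable def ι3 : C ⊗[k] (C ⊗[k] C) →ₐ[k] A ⊗[k] (A ⊗[k] A) :=
  Algebra.TensorProduct.map C.val (ιι C)

variable (C) in
theorem ι3_injective : Function.Injective (ι3 C) := by
  have h : Function.Injective (TensorProduct.map C.val.toLinearMap (ιι C).toLinearMap) :=
    TensorProduct.map_injective_of_flat_flat _ _ Subtype.val_injective (ιι_injective C)
  exact h

theorem ι3_assoc (w : C ⊗[k] C) (c' : C) :
    ι3 C (Algebra.TensorProduct.assoc k k k C C C (w ⊗ₜ[k] c')) =
      TensorProduct.assoc k A A A (ιι C w ⊗ₜ[k] (c' : A)) := by
  induction w using TensorProduct.induction_on with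
  | zero => simp
  | tmul a b => simp [ι3, ιι]
  | add x y hx hy => simp only [TensorProduct.add_tmul, map_add, hx, hy]

theorem ι3_left (h : ComulStable C) (z : C ⊗[k] C) :
    ι3 C (Algebra.TensorProduct.assoc k k k C C C
      (Algebra.TensorProduct.map (comulC h) (AlgHom.id k C) z)) =
      TensorProduct.assoc k A A A ((Coalgebra.comul (R := k) (A := A)).rTensor A (ιι C z)) := by
  induction z using TensorProduct.induction_on with
  | zero => simp
  | tmul c c' =>
    rw [Algebra.TensorProduct.map_tmul, ι3_assoc, ιι_comulC]
    simp [ιι]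
  | add x y hx hy => simp only [map_add, hx, hy]

theorem ι3_right (h : ComulStable C) (z : C ⊗[k] C) :
    ι3 C (Algebra.TensorProduct.map (AlgHom.id k C) (comulC h) z) =
      (Coalgebra.comul (R := k) (A := A)).lTensor A (ιι C z) := by
  induction z using TensorProduct.induction_on with
  | zero => simp
  | tmul c c' =>
    rw [Algebra.TensorProduct.map_tmul]
    simp only [ι3, Algebra.TensorProduct.map_tmul, ιι_comulC]
    simp [ιι]
  | add x y hx hy => simp only [map_add, hx, hy]

theorem coassocC (h : ComulStable C) :
    (Algebra.TensorProduct.assoc k k k C C C).toAlgHom.comp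
      ((Algebra.TensorProduct.map (comulC h) (.id k C)).comp (comulC h))
      = (Algebra.TensorProduct.map (.id k C) (comulC h)).comp (comulC h) := by
  apply AlgHom.ext
  intro c
  apply ι3_injective C
  have e1 := ι3_left h (comulC h c)
  have e2 := ι3_right h (comulC h c)
  rw [ιι_comulC] at e1 e2
  exact e1.trans ((Coalgebra.coassoc_apply (c : A)).trans e2.symm)

theorem lid_map (z : C ⊗[k] C) :
    ((TensorProduct.lid k C ((counitC (C := C)).toLinearMap.rTensor C z) : C) : A) =
      TensorProduct.lid k A ((Coalgebra.counit (R := k) (A := A)).rTensor A (ιι C z)) := by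
  induction z using TensorProduct.induction_on with
  | zero => simp
  | tmul a b => simp [ιι, counitC]
  | add x y hx hy => simp only [map_add, Subalgebra.coe_add, hx, hy]

theorem rid_map (z : C ⊗[k] C) :
    ((TensorProduct.rid k C ((counitC (C := C)).toLinearMap.lTensor C z) : C) : A) =
      TensorProduct.rid k A ((Coalgebra.counit (R := k) (A := A)).lTensor A (ιι C z)) := by
  induction z using TensorProduct.induction_on with
  | zero => simp
  | tmul a b => simp [ιι, counitC]
  | add x y hx hy => simp only [map_add, Subalgebra.coe_add, hx, hy]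

theorem rTensorC (h : ComulStable C) :
    (Algebra.TensorProduct.map (counitC (C := C)) (.id k C)).comp (comulC h)
      = (Algebra.TensorProduct.lid k C).symm := by
  apply AlgHom.ext
  intro c
  apply (Algebra.TensorProduct.lid k C).injective
  apply Subtype.val_injective
  have e := lid_map (comulC h c)
  rw [ιι_comulC, Coalgebra.rTensor_counit_comul] at e
  simp only [AlgHom.comp_apply, AlgHom.coe_coe, AlgEquiv.apply_symm_apply]
  refine Eq.trans ?_ (e.trans (by simp))
  rfl

theorem lTensorC (h : ComulStable C) :
    (Algebra.TensorProduct.map (.id k C) (counitC (C := C))).comp (comulC h)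
      = (Algebra.TensorProduct.rid k k C).symm := by
  apply AlgHom.ext
  intro c
  apply (Algebra.TensorProduct.rid k k C).injective
  apply Subtype.val_injective
  have e := rid_map (comulC h c)
  rw [ιι_comulC, Coalgebra.lTensor_counit_comul] at e
  simp only [AlgHom.comp_apply, AlgHom.coe_coe, AlgEquiv.apply_symm_apply]
  refine Eq.trans ?_ (e.trans (by simp))
  rfl

/-- the sub-bialgebra structure -/
@[instance_reducible]
noncomputable def bialgebra (h : ComulStable C) : Bialgebra k C :=
  Bialgebra.ofAlgHom (comulC h) counitC (coassocC h) (rTensorC h) (lTensorC h)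

end Groth.Agent.Lib.Helper14.SubBialg
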