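import Mathlib
import Groth.Agent.Lib.Helper14.SubBialg
import Groth.Agent.Lib.Helper14.HeightOne

set_option autoImplicit false

/-!
# The sub-bialgebra generated by `p`-th powers (helper14)
-/

namespace Groth.Agent.Lib.Helper14.FrobSub

open TensorProduct
open Groth.Agent.Lib.Helper14.HeightOne Groth.Agent.Lib.Helper14.SubBialg

variable {k : Type*} [Field k] {A : Type*} [CommRing A] [Bialgebra k A]
variable (p : ℕ) [Fact p.Prime] [CharP k p]

variable (k A) in
/-- the subalgebra generated by `p`-th powers -/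
def frobSub : Subalgebra k A := Algebra.adjoin k (Set.range fun a : A => a ^ p)

omit [Fact p.Prime] [CharP k p] in
lemma pow_mem_frobSub (a : A) : a ^ p ∈ frobSub k A p := Algebra.subset_adjoin ⟨a, rfl⟩

lemma pow_mem_range (z : A ⊗[k] A) : z ^ p ∈ (ιι (frobSub k A p)).range := by
  induction z using TensorProduct.induction_on with
  | zero => rw [zero_pow (Fact.out : p.Prime).ne_zero]; exact zero_mem _
  | tmul x y =>
    rw [Algebra.TensorProduct.tmul_pow]
    exact ⟨(⟨x ^ p, pow_mem_frobSub p x⟩ : frobSub k A p) ⊗ₜ[k]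
      (⟨y ^ p, pow_mem_frobSub p y⟩ : frobSub k A p), by simp [ιι]⟩
  | add z w hz hw => rw [add_pow_p (κ := k) p]; exact add_mem hz hw

lemma comulStable : ComulStable (frobSub k A p) := by
  intro c hc
  have : frobSub k A p ≤ ((ιι (frobSub k A p)).range).comap (Bialgebra.comulAlgHom k A) := by
    apply Algebra.adjoin_le
    rintro _ ⟨a, rfl⟩
    show Bialgebra.comulAlgHom k A (a ^ p) ∈ (ιι (frobSub k A p)).range
    rw [map_pow]
    exact pow_mem_range p _
  exact this hc

lemma sub_pow_p {Q : Type*} [CommRing Q] [Algebra k Q] (x y : Q) :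
    (x - y) ^ p = x ^ p - y ^ p := by
  have := add_pow_p (κ := k) p (x - y) y
  rw [sub_add_cancel] at this
  rw [this]; ring

omit [Fact p.Prime] [CharP k p] in
lemma eps_pow (a : A) : eps (κ := k) (a ^ p) = (eps (κ := k) a) ^ p :=
  map_pow (Bialgebra.counitAlgHom k A) a p

lemma sub_eps_pow (a : A) :
    a ^ p - eps (κ := k) (a ^ p) • (1 : A) = (a - eps (κ := k) a • (1 : A)) ^ p := by
  rw [sub_pow_p (k := k) p, eps_pow, smul_pow, one_pow]

lemma sub_eps_mem_frobIdeal (c : A) (hc : c ∈ frobSub k A p) :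
    c - eps (κ := k) c • (1 : A) ∈ frobIdeal k A p := by
  induction hc using Algebra.adjoin_induction with
  | mem y hy =>
    obtain ⟨a, rfl⟩ := hy
    show a ^ p - eps (κ := k) (a ^ p) • (1 : A) ∈ frobIdeal k A p
    rw [sub_eps_pow]
    exact pow_mem_frobIdeal p (sub_eps_mem a)
  | algebraMap r =>
    rw [Algebra.algebraMap_eq_smul_one, map_smul, eps_one, smul_eq_mul, mul_one, sub_self]
    exact zero_mem _
  | add y z _ _ hy hz =>
    have : y + z - eps (κ := k) (y + z) • (1 : A) =
        (y - eps (κ := k) y • (1 : A)) + (z - eps (κ := k) z • (1 : A)) := by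
      rw [map_add, add_smul]; ring
    rw [this]; exact add_mem hy hz
  | mul y z _ _ hy hz =>
    have : y * z - eps (κ := k) (y * z) • (1 : A) =
        (y - eps (κ := k) y • (1 : A)) * z + (eps (κ := k) y • (1 : A)) *
          (z - eps (κ := k) z • (1 : A)) := by
      rw [eps_mul, mul_smul]
      simp only [Algebra.smul_def, mul_one]
      ring
    rw [this]
    exact add_mem (Ideal.mul_mem_right _ _ hy) (Ideal.mul_mem_left _ _ hz)

/-- elements of `frobSub` in the augmentation ideal lie in the Frobenius ideal -/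
lemma mem_frobIdeal_of_mem (c : A) (hc : c ∈ frobSub k A p) (h0 : c ∈ augI k A) :
    c ∈ frobIdeal k A p := by
  have := sub_eps_mem_frobIdeal p c hc
  rwa [mem_augI.mp h0, zero_smul, sub_zero] at this

variable (k A) in
/-- `Φ = (id ⊗ π) ∘ Δ : A → A ⊗ A/J` -/
noncomputable def Φ : A →ₐ[k] A ⊗[k] (A ⧸ frobIdeal k A p) :=
  (Algebra.TensorProduct.map (AlgHom.id k A) (Ideal.Quotient.mkₐ k (frobIdeal k A p))).comp
    (Bialgebra.comulAlgHom k A)

lemma mk_pow_eq (y : A) :
    (Ideal.Quotient.mkₐ k (frobIdeal k A p) y) ^ p =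
      (eps (κ := k) y) ^ p • (1 : A ⧸ frobIdeal k A p) := by
  have h1 : y ^ p - (eps (κ := k) y) ^ p • (1 : A) ∈ frobIdeal k A p := by
    have := sub_eps_pow (k := k) p y
    rw [eps_pow] at this
    rw [this]
    exact pow_mem_frobIdeal p (sub_eps_mem y)
  rw [← map_pow]
  have h2 : Ideal.Quotient.mkₐ k (frobIdeal k A p) (y ^ p - (eps (κ := k) y) ^ p • (1 : A)) = 0 := by
    rw [Ideal.Quotient.mkₐ_eq_mk, Ideal.Quotient.eq_zero_iff_mem]; exact h1
  rw [map_sub, map_smul, map_one, sub_eq_zero] at h2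
  exact h2

lemma map_pow_eq (z : A ⊗[k] A) :
    (Algebra.TensorProduct.map (AlgHom.id k A) (Ideal.Quotient.mkₐ k (frobIdeal k A p)) z) ^ p =
      ((T (eps (κ := k)) z) ^ p) ⊗ₜ[k] (1 : A ⧸ frobIdeal k A p) := by
  induction z using TensorProduct.induction_on with
  | zero =>
    rw [map_zero, map_zero, zero_pow (Fact.out : p.Prime).ne_zero,
      zero_pow (Fact.out : p.Prime).ne_zero, TensorProduct.zero_tmul]
  | tmul x y =>
    rw [Algebra.TensorProduct.map_tmul, Algebra.TensorProduct.tmul_pow, mk_pow_eq, T_tmul,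
      smul_pow, TensorProduct.tmul_smul, TensorProduct.smul_tmul']
    rfl
  | add z w hz hw =>
    rw [map_add, map_add, add_pow_p (κ := k) p, add_pow_p (κ := k) p, hz, hw,
      TensorProduct.add_tmul]

lemma Φ_pow (a : A) : Φ k A p (a ^ p) = (a ^ p) ⊗ₜ[k] (1 : A ⧸ frobIdeal k A p) := by
  rw [map_pow]
  show (Algebra.TensorProduct.map (AlgHom.id k A) (Ideal.Quotient.mkₐ k (frobIdeal k A p))
    (Coalgebra.comul (R := k) a)) ^ p = _
  rw [map_pow_eq, T_eps_comul]

lemma Φ_of_mem (c : A) (hc : c ∈ frobSub k A p) :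
    Φ k A p c = c ⊗ₜ[k] (1 : A ⧸ frobIdeal k A p) := by
  have : frobSub k A p ≤ AlgHom.equalizer (Φ k A p) Algebra.TensorProduct.includeLeft := by
    apply Algebra.adjoin_le
    rintro _ ⟨a, rfl⟩
    show Φ k A p (a ^ p) = Algebra.TensorProduct.includeLeft (a ^ p)
    rw [Φ_pow]; rfl
  exact this hc

end Groth.Agent.Lib.Helper14.FrobSub
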