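import Mathlib
import Groth.Agent.Lib.Helper14.FrobSub

set_option autoImplicit false

/-!
# Order of an infinitesimal finite group scheme (helper14)
-/

namespace Groth.Agent.Lib.Helper14.ConnOrder

open TensorProduct
open Groth.Agent.Lib.Helper14.HeightOne Groth.Agent.Lib.Helper14.SubBialg
open Groth.Agent.Lib.Helper14.FrobSub

section rho

variable {k : Type*} [Field k] {A : Type*} [CommRing A] [Bialgebra k A]
variable (M : Type*) [AddCommGroup M] [Module k M]

variable (k A) in
/-- `ρ = lid ∘ (ε ⊗ id) : A ⊗ M → M` -/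
noncomputable def ρ : A ⊗[k] M →ₗ[k] M :=
  (TensorProduct.lid k M).toLinearMap ∘ₗ (eps (κ := k) (B := A)).rTensor M

@[simp] lemma ρ_tmul (x : A) (m : M) : ρ k A M (x ⊗ₜ[k] m) = eps (κ := k) x • m := by
  simp [ρ]

lemma sub_mem_smul_top (z : A ⊗[k] M) :
    z - (1 : A) ⊗ₜ[k] (ρ k A M z) ∈ (augI k A) • (⊤ : Submodule A (A ⊗[k] M)) := by
  induction z using TensorProduct.induction_on with
  | zero => simp
  | tmul x m =>
    rw [ρ_tmul]
    have : x ⊗ₜ[k] m - (1 : A) ⊗ₜ[k] (eps (κ := k) x • m) =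
        (x - eps (κ := k) x • (1 : A)) • ((1 : A) ⊗ₜ[k] m) := by
      rw [TensorProduct.smul_tmul', smul_eq_mul, mul_one, TensorProduct.sub_tmul,
        TensorProduct.tmul_smul, TensorProduct.smul_tmul']
    rw [this]
    exact Submodule.smul_mem_smul (sub_eps_mem x) trivial
  | add z w hz hw =>
    have : z + w - (1 : A) ⊗ₜ[k] (ρ k A M (z + w)) =
        (z - (1 : A) ⊗ₜ[k] (ρ k A M z)) + (w - (1 : A) ⊗ₜ[k] (ρ k A M w)) := by
      rw [map_add, TensorProduct.tmul_add]; abel
    rw [this]; exact add_mem hz hw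

end rho

variable {k : Type*} [Field k] {A : Type*} [CommRing A] [Bialgebra k A]
variable (p : ℕ) [Fact p.Prime] [CharP k p]

omit [CharP k p] [Fact p.Prime] in
lemma ρ_map (z : A ⊗[k] A) :
    ρ k A (A ⧸ frobIdeal k A p)
      (Algebra.TensorProduct.map (AlgHom.id k A) (Ideal.Quotient.mkₐ k (frobIdeal k A p)) z) =
      Ideal.Quotient.mkₐ k (frobIdeal k A p)
        (TensorProduct.lid k A ((eps (κ := k) (B := A)).rTensor A z)) := by
  induction z using TensorProduct.induction_on with
  | zero => simp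
  | tmul x y => simp
  | add z w hz hw => simp only [map_add, hz, hw]

omit [CharP k p] [Fact p.Prime] in
lemma ρ_Φ (a : A) :
    ρ k A (A ⧸ frobIdeal k A p) (Φ k A p a) = Ideal.Quotient.mkₐ k (frobIdeal k A p) a := by
  show ρ k A (A ⧸ frobIdeal k A p)
    (Algebra.TensorProduct.map (AlgHom.id k A) (Ideal.Quotient.mkₐ k (frobIdeal k A p))
      (Coalgebra.comul (R := k) a)) = _
  rw [ρ_map, Coalgebra.rTensor_counit_comul]
  simp

lemma augI_le_jacobson (hnil : ∀ a ∈ augI k A, IsNilpotent a) :
    augI k A ≤ Ideal.jacobson ⊥ := by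
  intro x hx
  have : x ∈ nilradical A := mem_nilradical.mpr (hnil x hx)
  exact Ideal.radical_le_jacobson this


omit [CharP k p] [Fact p.Prime] in
/-- the family `Φ(a_i)` generates `A ⊗ A/J` as an `A`-module, when the `a_i` lift a basis of `A/J` -/
lemma Ψ_surjective [Module.Finite k A] (hnil : ∀ a ∈ augI k A, IsNilpotent a) {r : ℕ}
    (bQ : Module.Basis (Fin r) k (A ⧸ frobIdeal k A p)) (a : Fin r → A)
    (ha : ∀ i, Ideal.Quotient.mk (frobIdeal k A p) (a i) = bQ i) :
    Function.Surjective (Fintype.linearCombination A (fun i => Φ k A p (a i))) := by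
  classical
  rw [← LinearMap.range_eq_top, eq_top_iff]
  have hfin : Module.Finite A (A ⊗[k] (A ⧸ frobIdeal k A p)) := inferInstance
  refine Submodule.le_of_le_smul_of_le_jacobson_bot hfin.fg_top (augI_le_jacobson hnil) ?_
  intro z _
  set M := A ⧸ frobIdeal k A p
  set c := bQ.repr (ρ k A M z) with hc
  have h1 : ρ k A M z = ∑ i, c i • bQ i := (bQ.sum_repr (ρ k A M z)).symm
  set w : A ⊗[k] M := ∑ i, (c i • (1 : A)) • Φ k A p (a i) with hw
  have hρw : ρ k A M w = ρ k A M z := by
    rw [h1, hw, map_sum]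
    refine Finset.sum_congr rfl fun i _ => ?_
    rw [smul_assoc, one_smul, map_smul, ρ_Φ, Ideal.Quotient.mkₐ_eq_mk, ha]
  have hzw : z - w ∈ (augI k A) • (⊤ : Submodule A (A ⊗[k] M)) := by
    have := sub_mem_smul_top (k := k) (A := A) M (z - w)
    rwa [map_sub, hρw, sub_self, TensorProduct.tmul_zero, sub_zero] at this
  have hwN : w ∈ LinearMap.range (Fintype.linearCombination A (fun i => Φ k A p (a i))) := by
    refine ⟨fun i => c i • (1 : A), ?_⟩
    rw [Fintype.linearCombination_apply]
  have : z = w + (z - w) := by abel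
  rw [this]
  exact Submodule.add_mem_sup hwN hzw

omit [CharP k p] [Fact p.Prime] in
lemma Φ_linearIndependent [Module.Finite k A] (hnil : ∀ a ∈ augI k A, IsNilpotent a) {r : ℕ}
    (bQ : Module.Basis (Fin r) k (A ⧸ frobIdeal k A p)) (a : Fin r → A)
    (ha : ∀ i, Ideal.Quotient.mk (frobIdeal k A p) (a i) = bQ i) :
    Function.Injective (Fintype.linearCombination A (fun i => Φ k A p (a i))) := by
  let bT : Module.Basis (Fin r) A (A ⊗[k] (A ⧸ frobIdeal k A p)) := Algebra.TensorProduct.basis A bQ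
  exact OrzechProperty.injective_of_surjective_of_injective bT.equivFun.symm.toLinearMap _
    bT.equivFun.symm.injective (Ψ_surjective p hnil bQ a ha)


omit [Fact p.Prime] [CharP k p] in
lemma smul_eq_tmul_mul {Q : Type*} [CommRing Q] [Algebra k Q] (x : A) (z : A ⊗[k] Q) :
    x • z = (x ⊗ₜ[k] (1 : Q)) * z := by
  induction z using TensorProduct.induction_on with
  | zero => simp
  | tmul y q => rw [TensorProduct.smul_tmul', Algebra.TensorProduct.tmul_mul_tmul, one_mul]; rfl
  | add z w hz hw => rw [smul_add, mul_add, hz, hw]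

/-- injectivity of `(c_i) ↦ Σ c_i a_i` on `C^r` -/
lemma Θ_injective [Module.Finite k A] (hnil : ∀ a ∈ augI k A, IsNilpotent a) {r : ℕ}
    (bQ : Module.Basis (Fin r) k (A ⧸ frobIdeal k A p)) (a : Fin r → A)
    (ha : ∀ i, Ideal.Quotient.mk (frobIdeal k A p) (a i) = bQ i)
    (c : Fin r → frobSub k A p) (hc : ∑ i, (c i : A) * a i = 0) : c = 0 := by
  have h1 : Φ k A p (∑ i, (c i : A) * a i) = 0 := by rw [hc, map_zero]
  rw [map_sum] at h1
  have h2 : Fintype.linearCombination A (fun i => Φ k A p (a i)) (fun i => (c i : A)) = 0 := by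
    rw [Fintype.linearCombination_apply, ← h1]
    refine Finset.sum_congr rfl fun i _ => ?_
    rw [map_mul, Φ_of_mem p _ (c i).2, smul_eq_tmul_mul]
  have h3 := Φ_linearIndependent p hnil bQ a ha (h2.trans (map_zero _).symm)
  funext i
  exact Subtype.ext (congrFun h3 i)


/-- the augmentation ideal of the subalgebra `C` -/
noncomputable def Cplus (C : Subalgebra k A) : Ideal C := RingHom.ker (counitC (C := C))

omit [Fact p.Prime] [CharP k p] in
lemma mem_Cplus (C : Subalgebra k A) (c : C) : c ∈ Cplus C ↔ (c : A) ∈ augI k A := by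
  rw [Cplus, RingHom.mem_ker, mem_augI]; rfl

omit [Fact p.Prime] [CharP k p] in
lemma Cplus_le_jacobson (hnil : ∀ a ∈ augI k A, IsNilpotent a) (C : Subalgebra k A) :
    Cplus C ≤ Ideal.jacobson ⊥ := by
  intro c hc
  have h1 := hnil _ ((mem_Cplus C c).mp hc)
  have h2 : IsNilpotent c := by
    obtain ⟨n, hn⟩ := h1
    exact ⟨n, Subtype.ext (by simpa using hn)⟩
  exact Ideal.radical_le_jacobson (mem_nilradical.mpr h2)

omit [CharP k p] in
lemma frobIdeal_le_map :
    frobIdeal k A p ≤ (Cplus (frobSub k A p)).map (algebraMap (frobSub k A p) A) := by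
  rw [frobIdeal, Ideal.span_le]
  rintro _ ⟨b, hb, rfl⟩
  have hbp : b ^ p ∈ augI k A := Ideal.pow_mem_of_mem _ hb p (Fact.out : p.Prime).pos
  have : (⟨b ^ p, pow_mem_frobSub p b⟩ : frobSub k A p) ∈ Cplus (frobSub k A p) :=
    (mem_Cplus _ _).mpr hbp
  exact Ideal.mem_map_of_mem (algebraMap (frobSub k A p) A) this

omit [CharP k p] in
lemma Θ_surjective [Module.Finite k A] (hnil : ∀ a ∈ augI k A, IsNilpotent a) {r : ℕ}
    (bQ : Module.Basis (Fin r) k (A ⧸ frobIdeal k A p)) (a : Fin r → A)
    (ha : ∀ i, Ideal.Quotient.mk (frobIdeal k A p) (a i) = bQ i) (x : A) :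
    ∃ c : Fin r → frobSub k A p, ∑ i, (c i : A) * a i = x := by
  classical
  set C := frobSub k A p with hC
  have hfin : Module.Finite C A := Module.Finite.of_restrictScalars_finite k C A
  have key : (⊤ : Submodule C A) ≤ Submodule.span C (Set.range a) := by
    refine Submodule.le_of_le_smul_of_le_jacobson_bot hfin.fg_top
      (Cplus_le_jacobson hnil C) ?_
    intro y _
    set t := bQ.repr (Ideal.Quotient.mk (frobIdeal k A p) y) with ht
    set w : A := ∑ i, (t i • (1 : C)) • a i with hw
    have hwN : w ∈ Submodule.span C (Set.range a) :=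
      Submodule.sum_mem _ fun i _ => Submodule.smul_mem _ _ (Submodule.subset_span ⟨i, rfl⟩)
    have hπ : Ideal.Quotient.mk (frobIdeal k A p) w = Ideal.Quotient.mk (frobIdeal k A p) y := by
      rw [hw, map_sum, ← bQ.sum_repr (Ideal.Quotient.mk (frobIdeal k A p) y)]
      refine Finset.sum_congr rfl fun i _ => ?_
      rw [smul_assoc, one_smul, ← ha i]
      rw [Algebra.smul_def, Algebra.smul_def, map_mul]
      rfl
    have hJ : y - w ∈ frobIdeal k A p := by
      rw [← Ideal.Quotient.eq_zero_iff_mem, map_sub, hπ, sub_self]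
    have hJ' : y - w ∈ Cplus C • (⊤ : Submodule C A) := by
      rw [Ideal.smul_top_eq_map]
      exact frobIdeal_le_map p hJ
    have : y = w + (y - w) := by abel
    rw [this]
    exact Submodule.add_mem_sup hwN hJ'
  have hx : x ∈ Submodule.span C (Set.range a) := key trivial
  obtain ⟨c, hc⟩ := (Submodule.mem_span_range_iff_exists_fun C).mp hx
  exact ⟨c, hc⟩

/-- the order formula: `dim A = dim (A/J) * dim C` -/
theorem finrank_eq_mul [Module.Finite k A] (hnil : ∀ a ∈ augI k A, IsNilpotent a) :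
    Module.finrank k A =
      Module.finrank k (A ⧸ frobIdeal k A p) * Module.finrank k (frobSub k A p) := by
  classical
  set C := frobSub k A p with hC
  set r := Module.finrank k (A ⧸ frobIdeal k A p) with hr
  let bQ : Module.Basis (Fin r) k (A ⧸ frobIdeal k A p) :=
    Module.finBasis k (A ⧸ frobIdeal k A p)
  choose a ha using fun i => Ideal.Quotient.mk_surjective (I := frobIdeal k A p) (bQ i)
  let Θ : (Fin r → C) →ₗ[k] A :=
    ∑ i, (LinearMap.mulRight k (a i)) ∘ₗ C.val.toLinearMap ∘ₗ LinearMap.proj i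
  have hΘ : ∀ c, Θ c = ∑ i, (c i : A) * a i := by
    intro c
    simp [Θ, LinearMap.sum_apply]
  have hinj : Function.Injective Θ := by
    rw [← LinearMap.ker_eq_bot, LinearMap.ker_eq_bot']
    intro c hc
    rw [hΘ] at hc
    exact Θ_injective p hnil bQ a ha c hc
  have hsurj : Function.Surjective Θ := by
    intro x
    obtain ⟨c, hc⟩ := Θ_surjective p hnil bQ a ha x
    exact ⟨c, by rw [hΘ, hc]⟩
  have hfinC : Module.Finite k C :=
    Module.Finite.of_injective C.val.toLinearMap Subtype.val_injective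
  have e := LinearEquiv.ofBijective Θ ⟨hinj, hsurj⟩
  rw [← e.finrank_eq, Module.finrank_pi_fintype]
  simp

end Groth.Agent.Lib.Helper14.ConnOrder
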