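import Mathlib
import Groth.Agent.Lib.Helper14.ConnOrder

set_option autoImplicit false

/-!
# Order of an infinitesimal finite group scheme, part 2 (helper14)
-/

namespace Groth.Agent.Lib.Helper14.ConnOrder

open TensorProduct
open Groth.Agent.Lib.Helper14.HeightOne Groth.Agent.Lib.Helper14.SubBialg
open Groth.Agent.Lib.Helper14.FrobSub

universe u v

section general

variable {k : Type u} [Field k] {A : Type v} [CommRing A] [Bialgebra k A]

/-- if the augmentation ideal vanishes, the bialgebra is one-dimensional -/
lemma finrank_eq_one_of_augI_eq_bot (h : augI k A = ⊥) : Module.finrank k A = 1 := by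
  have hinj : Function.Injective (eps (κ := k) (B := A)) := by
    have : Function.Injective (Bialgebra.counitAlgHom k A : A →+* k) :=
      (RingHom.injective_iff_ker_eq_bot _).mpr h
    exact this
  have hsurj : Function.Surjective (eps (κ := k) (B := A)) := by
    intro t
    exact ⟨t • (1 : A), by rw [map_smul, eps_one, smul_eq_mul, mul_one]⟩
  have e := LinearEquiv.ofBijective (eps (κ := k) (B := A)) ⟨hinj, hsurj⟩
  rw [e.finrank_eq, Module.finrank_self]

/-- Nakayama: a nil augmentation ideal contained in its square vanishes -/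
lemma augI_eq_bot_of_le_sq [Module.Finite k A] (hnil : ∀ a ∈ augI k A, IsNilpotent a)
    (h : augI k A ≤ augI k A ^ 2) : augI k A = ⊥ := by
  have h1 : IsNoetherian k A := inferInstance
  have h2 : IsNoetherianRing A := isNoetherian_of_tower k h1
  have hfg : (augI k A).FG := IsNoetherian.noetherian _
  refine Submodule.eq_bot_of_le_smul_of_le_jacobson_bot (augI k A) (augI k A) hfg ?_
    (augI_le_jacobson hnil)
  rw [Ideal.smul_eq_mul, ← pow_two]
  exact h

end general

section charP

variable {k : Type u} [Field k] (p : ℕ) [Fact p.Prime] [CharP k p]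

theorem exists_pow_of_nil :
    ∀ (n : ℕ) (A : Type v) [CommRing A] [Bialgebra k A] [Module.Finite k A],
      (∀ a ∈ augI k A, IsNilpotent a) → Module.finrank k A = n →
        ∃ m : ℕ, Module.finrank k A = p ^ m := by
  intro n
  induction n using Nat.strong_induction_on with
  | _ n ih =>
    intro A _ _ _ hnil hn
    by_cases hI : augI k A = ⊥
    · exact ⟨0, by rw [finrank_eq_one_of_augI_eq_bot hI, pow_zero]⟩
    · set C := frobSub k A p with hC
      have hst : ComulStable C := comulStable p
      let _ : Bialgebra k C := SubBialg.bialgebra hst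
      have hfinC : Module.Finite k C :=
        Module.Finite.of_injective C.val.toLinearMap Subtype.val_injective
      have hCnil : ∀ c ∈ augI k C, IsNilpotent c := by
        intro c hc
        have hc' : (c : A) ∈ augI k A := by
          rw [mem_augI] at hc ⊢
          exact hc
        obtain ⟨N, hN⟩ := hnil _ hc'
        exact ⟨N, Subtype.ext (by simpa using hN)⟩
      have hne : Subalgebra.toSubmodule C ≠ ⊤ := by
        intro htop
        apply hI
        apply augI_eq_bot_of_le_sq hnil
        intro a ha
        have haC : a ∈ C := by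
          have : a ∈ Subalgebra.toSubmodule C := by rw [htop]; trivial
          exact this
        exact frobIdeal_le_augI_sq p (mem_frobIdeal_of_mem p a haC ha)
      have hlt : Module.finrank k C < n := by
        rw [← hn]
        exact Submodule.finrank_lt hne
      obtain ⟨m, hm⟩ := ih _ hlt C hCnil rfl
      have hp : ∀ b ∈ augI k (A ⧸ frobIdeal k A p), b ^ p = 0 := by
        intro c hc
        obtain ⟨b, rfl⟩ := Ideal.Quotient.mk_surjective c
        have hb : b ∈ augI k A := (mk_mem_augI_iff p b).mp hc
        rw [← map_pow, Ideal.Quotient.eq_zero_iff_mem]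
        exact pow_mem_frobIdeal p hb
      have hq := finrank_eq_pow p hp
      refine ⟨Module.finrank k (augI k (A ⧸ frobIdeal k A p)).Cotangent + m, ?_⟩
      rw [finrank_eq_mul p hnil, hq, hm, pow_add]

end charP

section charZero

variable {k : Type u} [Field k] {A : Type v} [CommRing A] [Bialgebra k A]

lemma D_one (ξ : A →ₗ[k] k)
    (hξ : ∀ a b, ξ (a * b) = eps (κ := k) a * ξ b + ξ a * eps (κ := k) b) : D ξ (1 : A) = 0 := by
  have := D_mul ξ hξ 1 1
  simp only [mul_one, one_mul] at this
  have h2 : D ξ (1 : A) + D ξ (1 : A) = D ξ (1 : A) + 0 := by rw [add_zero]; exact this.symm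
  exact add_left_cancel h2

lemma D_pow_succ (ξ : A →ₗ[k] k)
    (hξ : ∀ a b, ξ (a * b) = eps (κ := k) a * ξ b + ξ a * eps (κ := k) b) (x : A) (n : ℕ) :
    D ξ (x ^ (n + 1)) = (n + 1) • (x ^ n * D ξ x) := by
  induction n with
  | zero => simp
  | succ n ih =>
    rw [pow_succ, D_mul ξ hξ, ih]
    simp only [nsmul_eq_mul]
    push_cast
    ring

theorem augI_eq_bot_of_charZero [CharZero k] [Module.Finite k A]
    (hnil : ∀ a ∈ augI k A, IsNilpotent a) : augI k A = ⊥ := by
  classical
  by_contra hI
  have hnle : ¬ augI k A ≤ augI k A ^ 2 := fun h => hI (augI_eq_bot_of_le_sq hnil h)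
  obtain ⟨x, hxI, hx2⟩ := Set.not_subset.mp hnle
  obtain ⟨ξ, hξ1, hξ2, hξx⟩ := exists_xi (κ := k) (B := A) (fun _ : Fin 1 => x) (fun _ => hxI)
    (by
      intro c hc
      funext i
      by_contra hci
      have hi : i = 0 := Subsingleton.elim _ _
      subst hi
      apply hx2
      have h1 : c 0 • x ∈ augI k A ^ 2 := by simpa using hc
      have h2 : (c 0)⁻¹ • (c 0 • x) ∈ augI k A ^ 2 := by
        rw [Algebra.smul_def]; exact Ideal.mul_mem_left _ _ h1
      rwa [smul_smul, inv_mul_cancel₀ hci, one_smul] at h2)
  have hξ := xi_mul (ξ 0) (hξ1 0) (hξ2 0)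
  have hDx : eps (κ := k) (D (ξ 0) x) = 1 := by
    rw [eps_D]; simpa using hξx 0 0
  have hunit : IsUnit (D (ξ 0) x) := by
    have h1 : D (ξ 0) x - 1 ∈ augI k A := by
      have := sub_eps_mem (κ := k) (D (ξ 0) x)
      rwa [hDx, one_smul] at this
    have h2 : IsNilpotent (D (ξ 0) x - 1) := hnil _ h1
    have := h2.isUnit_add_one
    rwa [sub_add_cancel] at this
  have hxnil : ∃ m, x ^ m = 0 := hnil x hxI
  have hm := Nat.find_spec hxnil
  have hmin := fun m' => Nat.find_min hxnil (m := m')
  set m := Nat.find hxnil with hmdef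
  rcases Nat.eq_zero_or_pos m with h0 | hpos
  · rw [h0, pow_zero] at hm
    apply hx2
    have : x = x * 1 := (mul_one x).symm
    rw [this, hm, mul_zero]
    exact zero_mem _
  · obtain ⟨m', hm'⟩ : ∃ m', m = m' + 1 := ⟨m - 1, by omega⟩
    have h1 := D_pow_succ (ξ 0) hξ x m'
    have hm0 : x ^ (m' + 1) = 0 := by rw [← hm']; exact hm
    rw [hm0, map_zero] at h1
    have h2 : ((m' + 1 : ℕ) : k) • (x ^ m' * D (ξ 0) x) = 0 := by
      rw [Nat.cast_smul_eq_nsmul]; exact_mod_cast h1.symm
    have h3 : ((m' + 1 : ℕ) : k) ≠ 0 := by exact_mod_cast Nat.succ_ne_zero m'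
    have h4 : x ^ m' * D (ξ 0) x = 0 := (smul_eq_zero.mp h2).resolve_left h3
    have h5 : x ^ m' = 0 := by
      obtain ⟨u, hu⟩ := hunit
      rw [← hu] at h4
      exact (Units.mul_left_eq_zero u).mp h4
    exact hmin m' (by omega) h5

end charZero

/-- **Order of an infinitesimal finite bialgebra**: a finite-dimensional commutative bialgebra over a
field whose augmentation ideal is nil has dimension a power of the characteristic exponent. -/
theorem finrank_eq_ringExpChar_pow (k : Type u) [Field k] (A : Type v) [CommRing A]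
    [Bialgebra k A] [Module.Finite k A] (hnil : ∀ a ∈ augI k A, IsNilpotent a) :
    ∃ n : ℕ, Module.finrank k A = ringExpChar k ^ n := by
  obtain ⟨q, hq⟩ := CharP.exists k
  rcases CharP.char_is_prime_or_zero k q with hprime | h0
  · have : Fact q.Prime := ⟨hprime⟩
    rw [ringExpChar.eq k q]
    exact exists_pow_of_nil q _ A hnil rfl
  · subst h0
    have : CharZero k := CharP.charP_to_charZero k
    rw [ringExpChar.eq_one]
    exact ⟨0, by rw [pow_zero]; exact finrank_eq_one_of_augI_eq_bot (augI_eq_bot_of_charZero hnil)⟩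

end Groth.Agent.Lib.Helper14.ConnOrder
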