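import Mathlib
import Groth.Agent.Lib.Helper14.HeightOne
import Groth.Agent.Lib.Helper14.ConnOrder2

set_option autoImplicit false

/-!
# The identity component of a finite commutative bialgebra over a field (helper14)
-/

namespace Groth.Agent.Lib.Helper14.ConnComp

open TensorProduct
open Groth.Agent.Lib.Helper14.HeightOne

section chain

variable {k : Type*} [Field k] {R : Type*} [CommRing R] [Algebra k R] [Module.Finite k R]

/-- a nil ideal of a finite-dimensional algebra is killed by the power `dim R` -/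
theorem pow_finrank_eq_bot (𝔫 : Ideal R) (hnil : ∀ x ∈ 𝔫, IsNilpotent x) :
    𝔫 ^ (Module.finrank k R) = ⊥ := by
  have h1 : IsNoetherian k R := inferInstance
  have h2 : IsNoetherianRing R := isNoetherian_of_tower k h1
  have hjac : 𝔫 ≤ Ideal.jacobson ⊥ := fun x hx =>
    Ideal.radical_le_jacobson (mem_nilradical.mpr (hnil x hx))
  have key : ∀ j : ℕ, Module.finrank k ((𝔫 ^ j).restrictScalars k) ≤ Module.finrank k R - j := by
    intro j
    induction j with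
    | zero => simpa using Submodule.finrank_le _
    | succ j ih =>
      by_cases h0 : 𝔫 ^ j = ⊥
      · have : 𝔫 ^ (j + 1) = ⊥ := by rw [pow_succ, h0, Ideal.bot_mul]
        rw [this]
        have hb : (⊥ : Ideal R).restrictScalars k = (⊥ : Submodule k R) := by
          ext x; simp
        rw [hb, finrank_bot]
        exact Nat.zero_le _
      · have hne : 𝔫 ^ (j + 1) ≠ 𝔫 ^ j := by
          intro heq
          apply h0
          refine Submodule.eq_bot_of_le_smul_of_le_jacobson_bot 𝔫 (𝔫 ^ j)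
            (IsNoetherian.noetherian _) ?_ hjac
          rw [Ideal.smul_eq_mul, ← pow_succ', heq]
        have hlt : (𝔫 ^ (j + 1)).restrictScalars k < (𝔫 ^ j).restrictScalars k := by
          refine lt_of_le_of_ne (fun x hx => Ideal.pow_le_pow_right (Nat.le_succ j) hx) ?_
          intro heq
          apply hne
          ext x
          have := SetLike.ext_iff.mp heq x
          exact this
        have := Submodule.finrank_lt_finrank_of_lt hlt
        omega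
  have hz := key (Module.finrank k R)
  rw [Nat.sub_self, Nat.le_zero, Submodule.finrank_eq_zero] at hz
  ext x
  have := SetLike.ext_iff.mp hz x
  exact this

end chain


section coideal

variable {k : Type*} [Field k] {A : Type*} [CommRing A] [Bialgebra k A]

/-- the sum of the two extended augmentation ideals in `B ⊗ B`, `B = A/𝔞` -/
noncomputable def 𝔠 (𝔞 : Ideal A) : Ideal ((A ⧸ 𝔞) ⊗[k] (A ⧸ 𝔞)) :=
  Ideal.map (Algebra.TensorProduct.includeLeft : (A ⧸ 𝔞) →ₐ[k] (A ⧸ 𝔞) ⊗[k] (A ⧸ 𝔞))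
      (Ideal.map (Ideal.Quotient.mk 𝔞) (augI k A)) ⊔
    Ideal.map (Algebra.TensorProduct.includeRight : (A ⧸ 𝔞) →ₐ[k] (A ⧸ 𝔞) ⊗[k] (A ⧸ 𝔞))
      (Ideal.map (Ideal.Quotient.mk 𝔞) (augI k A))

lemma map_sub_mem (𝔞 : Ideal A) (z : A ⊗[k] A) :
    Algebra.TensorProduct.map (Ideal.Quotient.mkₐ k 𝔞) (Ideal.Quotient.mkₐ k 𝔞) z
      - (eps (κ := k) (T (eps (κ := k)) z)) • (1 : (A ⧸ 𝔞) ⊗[k] (A ⧸ 𝔞)) ∈ 𝔠 (k := k) 𝔞 := by
  induction z using TensorProduct.induction_on with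
  | zero => simp
  | add z w hz hw =>
    have e : ∀ (a b : (A ⧸ 𝔞) ⊗[k] (A ⧸ 𝔞)) (s t : k),
        (a + b) - (s + t) • (1 : (A ⧸ 𝔞) ⊗[k] (A ⧸ 𝔞)) = (a - s • 1) + (b - t • 1) := by
      intro a b s t; rw [add_smul]; ring
    rw [map_add, map_add, map_add, e]
    exact add_mem hz hw
  | tmul b c =>
    set b' : A := b - eps (κ := k) b • (1 : A) with hb'
    set c' : A := c - eps (κ := k) c • (1 : A) with hc'
    have hb'I : b' ∈ augI k A := sub_eps_mem b
    have hc'I : c' ∈ augI k A := sub_eps_mem c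
    have e1 : Algebra.TensorProduct.map (Ideal.Quotient.mkₐ k 𝔞) (Ideal.Quotient.mkₐ k 𝔞)
          (b ⊗ₜ[k] c)
        - (eps (κ := k) (T (eps (κ := k)) (b ⊗ₜ[k] c))) • (1 : (A ⧸ 𝔞) ⊗[k] (A ⧸ 𝔞)) =
        (Ideal.Quotient.mkₐ k 𝔞 b') ⊗ₜ[k] (Ideal.Quotient.mkₐ k 𝔞 c) +
          eps (κ := k) b • ((1 : A ⧸ 𝔞) ⊗ₜ[k] (Ideal.Quotient.mkₐ k 𝔞 c')) := by
      rw [hb', hc']
      simp only [Algebra.TensorProduct.map_tmul, T_tmul, map_sub, map_smul, map_one, smul_eq_mul,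
        TensorProduct.sub_tmul, TensorProduct.tmul_sub, TensorProduct.smul_tmul',
        TensorProduct.tmul_smul, smul_sub, smul_smul, Algebra.TensorProduct.one_def]
      rw [mul_comm (eps (κ := k) c) (eps (κ := k) b)]
      abel
    rw [e1]
    refine add_mem ?_ ?_
    · refine Ideal.mem_sup_left ?_
      have : (Ideal.Quotient.mkₐ k 𝔞 b') ⊗ₜ[k] (Ideal.Quotient.mkₐ k 𝔞 c) =
          ((1 : A ⧸ 𝔞) ⊗ₜ[k] (Ideal.Quotient.mkₐ k 𝔞 c)) *
            (Algebra.TensorProduct.includeLeft : (A ⧸ 𝔞) →ₐ[k] (A ⧸ 𝔞) ⊗[k] (A ⧸ 𝔞))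
              (Ideal.Quotient.mk 𝔞 b') := by
        simp
      rw [this]
      exact Ideal.mul_mem_left _ _ (Ideal.mem_map_of_mem _ (Ideal.mem_map_of_mem _ hb'I))
    · refine Ideal.mem_sup_right ?_
      refine Submodule.smul_of_tower_mem _ _ ?_
      exact Ideal.mem_map_of_mem (Algebra.TensorProduct.includeRight :
        (A ⧸ 𝔞) →ₐ[k] (A ⧸ 𝔞) ⊗[k] (A ⧸ 𝔞)) (Ideal.mem_map_of_mem _ hc'I)

/-- `ψ = (π ⊗ π) ∘ Δ` -/
noncomputable def ψ (𝔞 : Ideal A) : A →ₐ[k] (A ⧸ 𝔞) ⊗[k] (A ⧸ 𝔞) :=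
  (Algebra.TensorProduct.map (Ideal.Quotient.mkₐ k 𝔞) (Ideal.Quotient.mkₐ k 𝔞)).comp
    (Bialgebra.comulAlgHom k A)

lemma augI_le_comap_ψ (𝔞 : Ideal A) : augI k A ≤ Ideal.comap (ψ (k := k) 𝔞) (𝔠 (k := k) 𝔞) := by
  intro x hx
  have h1 := map_sub_mem (k := k) 𝔞 (Coalgebra.comul (R := k) x)
  rw [T_eps_comul, mem_augI.mp hx, zero_smul, sub_zero] at h1
  exact h1

lemma 𝔠_pow_eq_bot (N : ℕ) : (𝔠 (k := k) (augI k A ^ N)) ^ (N + N) = ⊥ := by
  rw [eq_bot_iff]
  refine le_trans Ideal.sup_pow_add_le_pow_sup_pow ?_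
  have h0 : (Ideal.map (Ideal.Quotient.mk (augI k A ^ N)) (augI k A)) ^ N = ⊥ := by
    rw [← Ideal.map_pow, Ideal.map_quotient_self]
  have hl : (Ideal.map (Algebra.TensorProduct.includeLeft :
      (A ⧸ augI k A ^ N) →ₐ[k] (A ⧸ augI k A ^ N) ⊗[k] (A ⧸ augI k A ^ N))
      (Ideal.map (Ideal.Quotient.mk (augI k A ^ N)) (augI k A))) ^ N = ⊥ := by
    rw [← Ideal.map_pow, h0, Ideal.map_bot]
  have hr : (Ideal.map (Algebra.TensorProduct.includeRight :
      (A ⧸ augI k A ^ N) →ₐ[k] (A ⧸ augI k A ^ N) ⊗[k] (A ⧸ augI k A ^ N))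
      (Ideal.map (Ideal.Quotient.mk (augI k A ^ N)) (augI k A))) ^ N = ⊥ := by
    rw [← Ideal.map_pow, h0, Ideal.map_bot]
  rw [hl, hr, sup_bot_eq]

theorem isCoideal_pow (N : ℕ) (hN : 1 ≤ N) (hst : augI k A ^ (N + N) = augI k A ^ N) :
    ((augI k A ^ N).restrictScalars k).IsCoideal where
  counit_eq_zero := by
    intro x hx
    have : x ∈ augI k A := Ideal.pow_le_self (by omega) hx
    exact mem_augI.mp this
  map_mkQ_comul_eq_zero := by
    intro x hx
    have hx' : x ∈ augI k A ^ (N + N) := by rw [hst]; exact hx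
    have h1 : augI k A ^ (N + N) ≤
        Ideal.comap (ψ (k := k) (augI k A ^ N)) ((𝔠 (k := k) (augI k A ^ N)) ^ (N + N)) :=
      le_trans (Ideal.pow_right_mono (augI_le_comap_ψ _) _) (Ideal.le_comap_pow _ _)
    have h2 := h1 hx'
    rw [𝔠_pow_eq_bot, Ideal.mem_comap, Ideal.mem_bot] at h2
    exact h2

end coideal


section quot

open Groth.Agent.Lib.Helper14.ConnOrder

variable {k : Type*} [Field k] {A : Type*} [CommRing A] [Bialgebra k A] (N : ℕ)
  [h : ((augI k A ^ N).restrictScalars k).IsCoideal]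

lemma mk_mem_augI_iff (a : A) :
    Ideal.Quotient.mk (augI k A ^ N) a ∈ augI k (A ⧸ augI k A ^ N) ↔ a ∈ augI k A := by
  rw [mem_augI, mem_augI]
  rfl

lemma nil_quot : ∀ b ∈ augI k (A ⧸ augI k A ^ N), IsNilpotent b := by
  intro b hb
  obtain ⟨a, rfl⟩ := Ideal.Quotient.mk_surjective b
  have ha : a ∈ augI k A := (mk_mem_augI_iff N a).mp hb
  refine ⟨N, ?_⟩
  rw [← map_pow, Ideal.Quotient.eq_zero_iff_mem]
  exact Ideal.pow_mem_pow ha N

theorem exists_finrank_quot [Module.Finite k A] :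
    ∃ t : ℕ, Module.finrank k (A ⧸ augI k A ^ N) = ringExpChar k ^ t :=
  finrank_eq_ringExpChar_pow k _ (nil_quot N)

theorem augI_quot_pow_eq_bot [Module.Finite k A] :
    augI k (A ⧸ augI k A ^ N) ^ Module.finrank k (A ⧸ augI k A ^ N) = ⊥ :=
  pow_finrank_eq_bot _ (nil_quot N)

end quot

section stable

variable {k : Type*} [Field k] {A : Type*} [CommRing A] [Bialgebra k A] [Module.Finite k A]

theorem exists_stable_pow :
    ∃ N : ℕ, 1 ≤ N ∧ augI k A ^ (N + N) = augI k A ^ N ∧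
      (Ideal.jacobson (⊥ : Ideal A)) ^ N = ⊥ := by
  have hart : IsArtinianRing A := IsArtinianRing.of_finite k A
  let f : ℕ →o (Submodule A A)ᵒᵈ :=
    ⟨fun j => OrderDual.toDual (augI k A ^ j), by
      intro i j hij
      exact Ideal.pow_le_pow_right hij⟩
  obtain ⟨n₀, hn₀⟩ := IsArtinian.monotone_stabilizes f
  have hst : ∀ m, n₀ ≤ m → augI k A ^ n₀ = augI k A ^ m := fun m hm => hn₀ m hm
  obtain ⟨N₁, hN₁⟩ := IsArtinianRing.isNilpotent_jacobson_bot (R := A)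
  refine ⟨max n₀ N₁ + 1, by omega, ?_, ?_⟩
  · rw [← hst (max n₀ N₁ + 1 + (max n₀ N₁ + 1)) (by omega), ← hst (max n₀ N₁ + 1) (by omega)]
  · have : max n₀ N₁ + 1 = N₁ + (max n₀ N₁ + 1 - N₁) := by omega
    rw [this, pow_add, hN₁, Ideal.zero_eq_bot, Ideal.bot_mul]

end stable

end Groth.Agent.Lib.Helper14.ConnComp
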