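import Mathlib
import Groth.Agent.Lib.Helper14.ConnComp
import Groth.Agent.Lib.Helper14.HopfTranslate

set_option autoImplicit false

/-!
# A finite group scheme over an algebraically closed field is killed by its order (helper14)
-/

namespace Groth.Agent.Lib.Helper14.HopfOrder

open TensorProduct WithConv
open Groth.Agent.Lib.Helper14.HeightOne Groth.Agent.Lib.Helper14.ConvLemmas
open Groth.Agent.Lib.Helper14.HopfTranslate Groth.Agent.Lib.Helper14.ConnComp

section points

variable {k : Type*} [Field k] {A : Type*} [CommRing A] [Algebra k A]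

lemma algHom_eq_of_ker_eq (γ δ : A →ₐ[k] k)
    (h : RingHom.ker (γ : A →+* k) = RingHom.ker (δ : A →+* k)) : γ = δ := by
  apply AlgHom.ext
  intro a
  have h1 : a - algebraMap k A (γ a) ∈ RingHom.ker (γ : A →+* k) := by
    rw [RingHom.mem_ker]
    simp
  rw [h, RingHom.mem_ker] at h1
  have h2 : δ a - γ a = 0 := by simpa using h1
  exact (sub_eq_zero.mp h2).symm

lemma ker_isMaximal (γ : A →ₐ[k] k) : (RingHom.ker (γ : A →+* k)).IsMaximal := by
  apply RingHom.ker_isMaximal_of_surjective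
  intro t
  exact ⟨algebraMap k A t, by simp⟩

instance finite_algHom [Module.Finite k A] : Finite (A →ₐ[k] k) := by
  have hart : IsArtinianRing A := IsArtinianRing.of_finite k A
  let f : (A →ₐ[k] k) → MaximalSpectrum A := fun γ => ⟨RingHom.ker (γ : A →+* k), ker_isMaximal γ⟩
  refine Finite.of_injective f ?_
  intro γ δ hγδ
  apply algHom_eq_of_ker_eq
  exact congrArg MaximalSpectrum.asIdeal hγδ

lemma exists_algHom_of_isMaximal [IsAlgClosed k] [Module.Finite k A] (𝔪 : Ideal A)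
    [h𝔪 : 𝔪.IsMaximal] : ∃ γ : A →ₐ[k] k, RingHom.ker (γ : A →+* k) = 𝔪 := by
  let _ : Field (A ⧸ 𝔪) := Ideal.Quotient.field 𝔪
  have hint : Algebra.IsIntegral k (A ⧸ 𝔪) := Algebra.IsIntegral.of_finite k (A ⧸ 𝔪)
  have hbij : Function.Bijective (algebraMap k (A ⧸ 𝔪)) :=
    IsAlgClosed.algebraMap_bijective_of_isIntegral
  let e : k ≃ₐ[k] (A ⧸ 𝔪) := AlgEquiv.ofBijective (Algebra.ofId k (A ⧸ 𝔪)) hbij
  refine ⟨(e.symm : (A ⧸ 𝔪) →ₐ[k] k).comp (Ideal.Quotient.mkₐ k 𝔪), ?_⟩
  ext a
  rw [RingHom.mem_ker]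
  show e.symm (Ideal.Quotient.mk 𝔪 a) = 0 ↔ a ∈ 𝔪
  rw [map_eq_zero_iff _ e.symm.injective, Ideal.Quotient.eq_zero_iff_mem]

instance finite_withConv [Module.Finite k A] : Finite (WithConv (A →ₐ[k] k)) :=
  Finite.of_equiv _ (WithConv.equiv (A →ₐ[k] k)).symm

/-- the maximal ideal of a rational point -/
def 𝔪 (γ : WithConv (A →ₐ[k] k)) : Ideal A := RingHom.ker (γ.ofConv : A →+* k)

instance (γ : WithConv (A →ₐ[k] k)) : (𝔪 γ).IsMaximal := ker_isMaximal γ.ofConv

lemma 𝔪_injective : Function.Injective (𝔪 (k := k) (A := A)) := by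
  intro γ δ h
  apply WithConv.ofConv_injective
  exact algHom_eq_of_ker_eq _ _ h

lemma pairwise_coprime (N : ℕ) :
    Pairwise (Function.onFun IsCoprime fun γ : WithConv (A →ₐ[k] k) => 𝔪 γ ^ N) := by
  intro γ δ hne
  have : IsCoprime (𝔪 γ) (𝔪 δ) := Ideal.isCoprime_of_isMaximal (fun h => hne (𝔪_injective h))
  exact this.pow

lemma iInf_pow_eq_bot [IsAlgClosed k] [Module.Finite k A] (N : ℕ)
    (hjac : (Ideal.jacobson (⊥ : Ideal A)) ^ N = ⊥) :
    ⨅ γ : WithConv (A →ₐ[k] k), 𝔪 γ ^ N = ⊥ := by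
  classical
  have : Fintype (WithConv (A →ₐ[k] k)) := Fintype.ofFinite _
  have h1 : ∏ γ : WithConv (A →ₐ[k] k), 𝔪 γ ^ N = ⨅ γ : WithConv (A →ₐ[k] k), 𝔪 γ ^ N := by
    have := Ideal.prod_eq_iInf_of_pairwise_isCoprime (s := Finset.univ)
      (J := fun γ : WithConv (A →ₐ[k] k) => 𝔪 γ ^ N)
      (fun γ _ δ _ hne => pairwise_coprime N hne)
    simpa using this
  rw [← h1, Finset.prod_pow, eq_bot_iff, ← hjac]
  apply Ideal.pow_right_mono
  refine le_trans Ideal.prod_le_inf ?_
  rw [Ideal.jacobson]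
  apply le_sInf
  rintro J ⟨-, hJ⟩
  obtain ⟨γ, hγ⟩ := exists_algHom_of_isMaximal (k := k) J
  have : 𝔪 (toConv γ) = J := hγ
  rw [← this]
  exact Finset.inf_le (Finset.mem_univ _)

end points


section main

variable {k : Type*} [Field k] {A : Type*} [CommRing A] [HopfAlgebra k A]

/-- `comap (L γ) (I ^ N) = 𝔪_γ ^ N` -/
lemma comap_L_pow (γ : WithConv (A →ₐ[k] k)) (N : ℕ) :
    Ideal.comap (L γ) (augI k A ^ N) = 𝔪 γ ^ N := by
  have h1 : Ideal.comap (L γ) (augI k A) = 𝔪 γ := comap_L_ker_counit γ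
  have e : ∀ J : Ideal A, Ideal.comap (L γ) J =
      Ideal.map ((Lequiv γ).toRingEquiv.symm) J := by
    intro J
    rw [Ideal.map_symm]
    rfl
  rw [e, Ideal.map_pow, ← e, h1]

variable (N : ℕ) [hco : ((augI k A ^ N).restrictScalars k).IsCoideal]

/-- the component map `A → B = A/I^N` at a rational point -/
noncomputable def comp (γ : WithConv (A →ₐ[k] k)) : A →ₐ[k] (A ⧸ augI k A ^ N) :=
  (Ideal.Quotient.mkₐ k (augI k A ^ N)).comp (L γ)

omit hco in
lemma ker_comp (γ : WithConv (A →ₐ[k] k)) (a : A) : comp N γ a = 0 ↔ a ∈ 𝔪 γ ^ N := by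
  rw [← comap_L_pow, Ideal.mem_comap]
  show Ideal.Quotient.mk (augI k A ^ N) (L γ a) = 0 ↔ _
  rw [Ideal.Quotient.eq_zero_iff_mem]

omit hco in
lemma comp_surjective (γ : WithConv (A →ₐ[k] k)) : Function.Surjective (comp N γ) := by
  intro b
  obtain ⟨a, rfl⟩ := Ideal.Quotient.mk_surjective b
  exact ⟨(Lequiv γ).symm a, by
    show Ideal.Quotient.mk (augI k A ^ N) (Lequiv γ ((Lequiv γ).symm a)) = _
    rw [AlgEquiv.apply_symm_apply]⟩

omit hco in
/-- the order formula `dim A = |G(k)| * dim A°` -/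
theorem finrank_eq_card_mul [IsAlgClosed k] [Module.Finite k A]
    (hjac : (Ideal.jacobson (⊥ : Ideal A)) ^ N = ⊥) :
    Module.finrank k A =
      Nat.card (WithConv (A →ₐ[k] k)) * Module.finrank k (A ⧸ augI k A ^ N) := by
  classical
  have : Fintype (WithConv (A →ₐ[k] k)) := Fintype.ofFinite _
  let Ξ : A →ₗ[k] (WithConv (A →ₐ[k] k) → (A ⧸ augI k A ^ N)) :=
    LinearMap.pi fun γ => (comp N γ).toLinearMap
  have hinj : Function.Injective Ξ := by
    rw [← LinearMap.ker_eq_bot, LinearMap.ker_eq_bot']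
    intro a ha
    have h1 : a ∈ ⨅ γ : WithConv (A →ₐ[k] k), 𝔪 γ ^ N := by
      rw [Ideal.mem_iInf]
      intro γ
      rw [← ker_comp]
      exact congrFun ha γ
    rw [iInf_pow_eq_bot N hjac] at h1
    exact h1
  have hsurj : Function.Surjective Ξ := by
    intro b
    choose x hx using fun γ => comp_surjective N γ (b γ)
    obtain ⟨r, hr⟩ := Ideal.exists_forall_sub_mem_ideal (pairwise_coprime (k := k) (A := A) N) x
    refine ⟨r, ?_⟩
    funext γ
    show comp N γ r = b γ
    rw [← hx γ, ← sub_eq_zero, ← map_sub, ker_comp]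
    exact hr γ
  have e := LinearEquiv.ofBijective Ξ ⟨hinj, hsurj⟩
  rw [e.finrank_eq, Module.finrank_pi_fintype]
  simp [Nat.card_eq_fintype_card]

/-- the `k`-point `γ` translated by the projection `π : A → A°` is killed by `|G(k)| * dim A°` -/
theorem translate_pow_eq_one [Module.Finite k A] (p t : ℕ) [ExpChar k p]
    (ht : Module.finrank k (A ⧸ augI k A ^ N) = p ^ t) (γ : WithConv (A →ₐ[k] k)) :
    (ι (A ⧸ augI k A ^ N) γ * toConv (Ideal.Quotient.mkₐ k (augI k A ^ N))) ^
      (Nat.card (WithConv (A →ₐ[k] k)) * p ^ t) = 1 := by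
  set B := A ⧸ augI k A ^ N
  set m := Nat.card (WithConv (A →ₐ[k] k))
  set g : WithConv (A →ₐ[k] B) := ι B γ * toConv (Ideal.Quotient.mkₐ k (augI k A ^ N)) with hg
  have hεπ : (Bialgebra.counitAlgHom k B).comp (Ideal.Quotient.mkₐ k (augI k A ^ N)) =
      Bialgebra.counitAlgHom k A := by
    apply AlgHom.ext
    intro a
    rfl
  have h1 : postComp (Bialgebra.counitAlgHom k B) (g ^ m) = 1 := by
    rw [map_pow, hg, map_mul, postComp_ι, ι_self, postComp_apply, WithConv.ofConv_toConv, hεπ,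
      toConv_counit, mul_one]
    exact pow_card_eq_one'
  have h2 : ∀ a : A, (g ^ m).ofConv a - algebraMap k B (Coalgebra.counit a) ∈ augI k B := by
    intro a
    rw [mem_augI, map_sub]
    have h3 := congrArg (fun f : WithConv (A →ₐ[k] k) => f.ofConv a) h1
    simp only [postComp_apply, WithConv.ofConv_toConv, AlgHom.comp_apply] at h3
    have h4 : eps (κ := k) ((g ^ m).ofConv a) = Coalgebra.counit a := by
      have : (1 : WithConv (A →ₐ[k] k)).ofConv a = Coalgebra.counit a := by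
        simp [AlgHom.convOne_def]
      rw [← this, ← h3]
      rfl
    rw [h4]
    have h5 : eps (κ := k) (algebraMap k B (Coalgebra.counit (R := k) a)) =
        Coalgebra.counit (R := k) a := by
      rw [Algebra.algebraMap_eq_smul_one, map_smul, eps_one, smul_eq_mul, mul_one]
    rw [h5, sub_self]
  have hbot : augI k B ^ (p ^ t) = ⊥ := by
    rw [← ht]
    exact augI_quot_pow_eq_bot N
  have h6 := conv_pow_eq_one p (augI k B) t hbot (g ^ m).ofConv h2
  rw [WithConv.toConv_ofConv] at h6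
  rw [pow_mul]
  exact h6

end main


section final

universe u v

/-- **A finite group scheme over an algebraically closed field is killed by its order.** -/
theorem conv_pow_finrank_eq_one_of_isAlgClosed (k : Type u) [Field k] [IsAlgClosed k]
    (A : Type v) [CommRing A] [HopfAlgebra k A] [Module.Finite k A] :
    (toConv (AlgHom.id k A)) ^ (Module.finrank k A) = 1 := by
  classical
  obtain ⟨N, hN1, hst, hjac⟩ := exists_stable_pow (k := k) (A := A)
  have hco : ((augI k A ^ N).restrictScalars k).IsCoideal := isCoideal_pow N hN1 hst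
  obtain ⟨t, ht⟩ := exists_finrank_quot (k := k) (A := A) N
  have hn := finrank_eq_card_mul (k := k) (A := A) N hjac
  rw [ht] at hn
  have key := fun γ => translate_pow_eq_one (k := k) (A := A) N (ringExpChar k) t ht γ
  rw [← hn] at key
  apply WithConv.ofConv_injective
  apply AlgHom.ext
  intro a
  set P : WithConv (A →ₐ[k] A) := (toConv (AlgHom.id k A)) ^ (Module.finrank k A) with hP
  have hcomp : ∀ γ : WithConv (A →ₐ[k] k), comp N γ (P.ofConv a) =
      comp N γ ((1 : WithConv (A →ₐ[k] A)).ofConv a) := by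
    intro γ
    have h1 := comp_pow (comp N γ) (toConv (AlgHom.id k A)) (Module.finrank k A)
    rw [WithConv.ofConv_toConv, AlgHom.comp_id] at h1
    have h2 : toConv (comp N γ) =
        ι (A ⧸ augI k A ^ N) γ * toConv (Ideal.Quotient.mkₐ k (augI k A ^ N)) :=
      comp_L (Ideal.Quotient.mkₐ k (augI k A ^ N)) γ
    rw [h2, key γ] at h1
    have h3 := congrArg (fun f : WithConv (A →ₐ[k] (A ⧸ augI k A ^ N)) => f.ofConv a) h1
    simp only [WithConv.ofConv_toConv, AlgHom.comp_apply] at h3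
    rw [← hP] at h3
    rw [h3]
    simp [AlgHom.convOne_def]
  have hd : P.ofConv a - (1 : WithConv (A →ₐ[k] A)).ofConv a ∈
      ⨅ γ : WithConv (A →ₐ[k] k), 𝔪 γ ^ N := by
    rw [Ideal.mem_iInf]
    intro γ
    rw [← ker_comp, map_sub, hcomp γ, sub_self]
  rw [iInf_pow_eq_bot N hjac, Ideal.mem_bot, sub_eq_zero] at hd
  exact hd

end final

end Groth.Agent.Lib.Helper14.HopfOrder
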