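import Mathlib
import Groth.Agent.Lib.Helper14.HopfOrder
import Groth.Agent.Lib.Helper14.HopfBaseChange

set_option autoImplicit false

/-!
# A finite group scheme over a field is killed by its order (helper14)
-/

namespace Groth.Agent.Lib.Helper14.HopfOrder

open TensorProduct WithConv
open Groth.Agent.Lib.Helper14.ConvLemmas Groth.Agent.Lib.Helper14.HopfBaseChange

universe u v

/-- **A finite group scheme over a field is killed by its order** (SGA 3 VIIA 8.5). -/
theorem conv_pow_finrank_eq_one (k : Type u) [Field k] (A : Type v) [CommRing A]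
    [HopfAlgebra k A] [Module.Finite k A] :
    (toConv (AlgHom.id k A)) ^ (Module.finrank k A) = 1 := by
  let K := AlgebraicClosure k
  have h := conv_pow_finrank_eq_one_of_isAlgClosed K (K ⊗[k] A)
  rw [Module.finrank_baseChange] at h
  have h2 := congrArg (res K (k := k) (A := A) (R := K ⊗[k] A)) h
  rw [map_pow, map_one] at h2
  have h3 : res K (k := k) (A := A) (R := K ⊗[k] A) (toConv (AlgHom.id K (K ⊗[k] A))) =
      toConv (Algebra.TensorProduct.includeRight : A →ₐ[k] K ⊗[k] A) := by
    apply WithConv.ofConv_injective
    apply AlgHom.ext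
    intro a
    rfl
  rw [h3] at h2
  have h4 := comp_pow (Algebra.TensorProduct.includeRight : A →ₐ[k] K ⊗[k] A)
    (toConv (AlgHom.id k A)) (Module.finrank k A)
  rw [WithConv.ofConv_toConv, AlgHom.comp_id, h2] at h4
  apply WithConv.ofConv_injective
  apply AlgHom.ext
  intro a
  have hinj : Function.Injective (Algebra.TensorProduct.includeRight : A →ₐ[k] K ⊗[k] A) :=
    Algebra.TensorProduct.includeRight_injective (algebraMap k K).injective
  apply hinj
  have h5 := congrArg (fun f : WithConv (A →ₐ[k] K ⊗[k] A) => f.ofConv a) h4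
  simp only [WithConv.ofConv_toConv, AlgHom.comp_apply] at h5
  rw [h5]
  simp [AlgHom.convOne_def, Algebra.ofId_apply]

end Groth.Agent.Lib.Helper14.HopfOrder
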