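import Mathlib
import Groth.Agent.Lib.Helper14.HopfOrderField

set_option autoImplicit false

/-!
# A finite locally free group scheme over a reduced ring is killed by its order (helper14)
-/

namespace Groth.Agent.Lib.Helper14.HopfOrder

open TensorProduct WithConv
open Groth.Agent.Lib.Helper14.ConvLemmas Groth.Agent.Lib.Helper14.HopfBaseChange

universe u v w

/-- an element of a projective module over a reduced ring vanishing in all fibres is zero -/
theorem eq_zero_of_forall_fiber {R₀ : Type u} [CommRing R₀] [IsReduced R₀] {A : Type v}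
    [AddCommGroup A] [Module R₀ A] [Module.Projective R₀ A] (x : A)
    (h : ∀ p : PrimeSpectrum R₀, (1 : p.asIdeal.ResidueField) ⊗ₜ[R₀] x = 0) : x = 0 := by
  obtain ⟨s, hs⟩ := Module.projective_def'.mp (inferInstance : Module.Projective R₀ A)
  have hsx : s x = 0 := by
    ext a
    have hnil : IsNilpotent (s x a) := by
      rw [← mem_nilradical, nilradical_eq_sInf, Ideal.mem_sInf]
      intro J hJ
      have hJ' : J.IsPrime := hJ
      let p : PrimeSpectrum R₀ := ⟨J, hJ'⟩
      have h1 := h p
      have h2 := congrArg (LinearMap.lTensor p.asIdeal.ResidueField ((Finsupp.lapply a) ∘ₗ s)) h1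
      rw [LinearMap.lTensor_tmul, map_zero] at h2
      have h3 := congrArg (TensorProduct.rid R₀ p.asIdeal.ResidueField) h2
      rw [TensorProduct.rid_tmul, map_zero] at h3
      have h4 : algebraMap R₀ p.asIdeal.ResidueField (s x a) = 0 := by
        rw [Algebra.algebraMap_eq_smul_one]
        exact h3
      exact Ideal.algebraMap_residueField_eq_zero.mp h4
    simpa using hnil.eq_zero
  have := LinearMap.congr_fun hs x
  simp only [LinearMap.comp_apply, hsx, map_zero, LinearMap.id_apply] at this
  exact this.symm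

/-- **A finite locally free group scheme of order `n` over a reduced ring is killed by `n`.** -/
theorem conv_pow_eq_one_of_isReduced (R₀ : Type u) (A : Type v) [CommRing R₀] [IsReduced R₀]
    [CommRing A] [HopfAlgebra R₀ A] [Module.Finite R₀ A] [Module.Projective R₀ A] (n : ℕ)
    (hn : ∀ p : PrimeSpectrum R₀, Module.rankAtStalk (R := R₀) A p = n)
    (R : Type w) [CommRing R] [Algebra R₀ R] (g : A →ₐ[R₀] R) :
    WithConv.toConv g ^ n = 1 := by
  have hid : (toConv (AlgHom.id R₀ A)) ^ n = 1 := by
    apply WithConv.ofConv_injective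
    apply AlgHom.ext
    intro a
    rw [← sub_eq_zero]
    apply eq_zero_of_forall_fiber (R₀ := R₀)
    intro p
    let K := p.asIdeal.ResidueField
    have hfr : Module.finrank K (K ⊗[R₀] A) = n := by
      rw [← hn p, Module.rankAtStalk_eq]
    have h := conv_pow_finrank_eq_one K (K ⊗[R₀] A)
    rw [hfr] at h
    have h2 := congrArg (res K (k := R₀) (A := A) (R := K ⊗[R₀] A)) h
    rw [map_pow, map_one] at h2
    have h3 : res K (k := R₀) (A := A) (R := K ⊗[R₀] A) (toConv (AlgHom.id K (K ⊗[R₀] A))) =
        toConv (Algebra.TensorProduct.includeRight : A →ₐ[R₀] K ⊗[R₀] A) := by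
      apply WithConv.ofConv_injective
      apply AlgHom.ext
      intro a
      rfl
    rw [h3] at h2
    have h4 := comp_pow (Algebra.TensorProduct.includeRight : A →ₐ[R₀] K ⊗[R₀] A)
      (toConv (AlgHom.id R₀ A)) n
    rw [WithConv.ofConv_toConv, AlgHom.comp_id, h2] at h4
    have h5 := congrArg (fun f : WithConv (A →ₐ[R₀] K ⊗[R₀] A) => f.ofConv a) h4
    simp only [AlgHom.comp_apply] at h5
    have h6 : (1 : K) ⊗ₜ[R₀] ((toConv (AlgHom.id R₀ A) ^ n).ofConv a) =
        (1 : K) ⊗ₜ[R₀] ((1 : WithConv (A →ₐ[R₀] A)).ofConv a) := by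
      have : (1 : K) ⊗ₜ[R₀] ((toConv (AlgHom.id R₀ A) ^ n).ofConv a) =
          (Algebra.TensorProduct.includeRight : A →ₐ[R₀] K ⊗[R₀] A)
            ((toConv (AlgHom.id R₀ A) ^ n).ofConv a) := rfl
      rw [this]
      refine h5.trans ?_
      simp [AlgHom.convOne_def, Algebra.ofId_apply, Algebra.algebraMap_eq_smul_one,
        Algebra.TensorProduct.one_def, TensorProduct.tmul_smul]
    rw [TensorProduct.tmul_sub, h6, sub_self]
  have h1 := comp_pow g (toConv (AlgHom.id R₀ A)) n
  rw [WithConv.ofConv_toConv, AlgHom.comp_id, hid] at h1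
  rw [← h1]
  apply WithConv.ofConv_injective
  apply AlgHom.ext
  intro a
  simp [AlgHom.convOne_def]

end Groth.Agent.Lib.Helper14.HopfOrder
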