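import Mathlib
import Groth.Agent.Lib.Helper14.HopfOrderReduced

set_option autoImplicit false

namespace Groth.Agent.Lib.Helper14.GrpBridge

open CategoryTheory MonoidalCategory CartesianMonoidalCategory MonObj GrpObj AlgebraicGeometry
open CategoryTheory.Limits

universe u

/-- An affine group scheme over `Spec R` is `Spec` of a Hopf algebra, as a group object. -/
theorem exists_hopf (R : CommRingCat.{u}) (H : Over (Spec R)) [GrpObj H] [IsAffine H.left] :
    ∃ (A : Type u) (_ : CommRing A) (_ : HopfAlgebra R A)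
      (φ : (Spec (.of A)).asOver (Spec R) ≅ H), IsMonHom φ.hom := by
  have h : (hopfSpec R).essImage (Grp.mk H) := essImage_hopfSpec.mpr (by assumption)
  obtain ⟨X, ⟨e⟩⟩ := h
  refine ⟨X.unop.X, inferInstance, inferInstance, (Grp.forget _).mapIso e, ?_⟩
  exact inferInstanceAs (IsMonHom e.hom.hom.hom)

/-- triviality of a convolution power of the identity gives triviality of the power map -/
theorem spec_id_pow (R : CommRingCat.{u}) (A : Type u) [CommRing A] [HopfAlgebra R A] (n : ℕ)
    (h : (WithConv.toConv (AlgHom.id R A)) ^ n = 1) :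
    (𝟙 ((Spec (.of A)).asOver (Spec R)) : (Spec (.of A)).asOver (Spec R) ⟶ _) ^ n = 1 := by
  have h1 : Spec.mapMulEquiv (R := R) (S := A) (T := A) (WithConv.toConv (AlgHom.id R A)) =
      𝟙 ((Spec (.of A)).asOver (Spec R)) := by
    ext1
    simp [Spec.mapMulEquiv]
    rfl
  rw [← h1, ← map_pow, h, map_one]

/-- transfer of finiteness properties to the Hopf algebra -/
theorem props_of_iso (R : CommRingCat.{u}) (A : Type u) [CommRing A] [Algebra R A]
    (H : Over (Spec R)) (φ : (Spec (.of A)).asOver (Spec R) ≅ H)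
    [IsFinite H.hom] [Flat H.hom] [LocallyOfFinitePresentation H.hom] :
    Module.Finite R A ∧ Module.Flat R A ∧ Algebra.FinitePresentation R A ∧
      ∀ p : PrimeSpectrum R, Module.rankAtStalk (R := R) A p = H.hom.finrank p := by
  let f : R ⟶ CommRingCat.of A := CommRingCat.ofHom (algebraMap R A)
  let g : Spec (CommRingCat.of A) ⟶ H.left := φ.hom.left
  have hg : IsIso g := inferInstanceAs (IsIso ((Over.forget _).mapIso φ).hom)
  have hP : Spec.map f = g ≫ H.hom := (Over.w φ.hom).symm
  have hfin : IsFinite (Spec.map f) := by rw [hP]; infer_instance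
  have hflat : Flat (Spec.map f) := by rw [hP]; infer_instance
  have hfp : LocallyOfFinitePresentation (Spec.map f) := by rw [hP]; infer_instance
  have h1 : Module.Finite R A := by
    have := (IsFinite.SpecMap_iff f).mp hfin
    exact RingHom.finite_algebraMap.mp this
  have h2 : Module.Flat R A := by
    have := (Flat.SpecMap_iff (f := f)).mp hflat
    exact (RingHom.flat_algebraMap_iff).mp this
  have h3 : Algebra.FinitePresentation R A := by
    have := (HasRingHomProperty.Spec_iff (P := @LocallyOfFinitePresentation) (φ := f)).mp hfp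
    exact RingHom.finitePresentation_algebraMap.mp this
  refine ⟨h1, h2, h3, fun p => ?_⟩
  rw [← Scheme.Hom.finrank_SpecMap_algebraMap R A p]
  show Scheme.Hom.finrank (Spec.map f) p = _
  rw [hP, Scheme.Hom.finrank_comp_left_of_isIso]

/-- the power map of a finite locally free group scheme over a reduced affine base -/
theorem affine_pow_eq_one (R : CommRingCat.{u}) [_root_.IsReduced R] (H : Over (Spec R)) [GrpObj H]
    (n : ℕ) [IsFinite H.hom] [Flat H.hom] [LocallyOfFinitePresentation H.hom]
    (hr : ∀ y, H.hom.finrank y = n) : (𝟙 H : H ⟶ H) ^ n = 1 := by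
  have : IsAffine H.left := isAffine_of_isAffineHom H.hom
  obtain ⟨A, _, _, φ, hφ⟩ := exists_hopf R H
  obtain ⟨h1, h2, h3, h4⟩ := props_of_iso R A H φ
  have hfpm : Module.FinitePresentation R A := .of_finite_of_finitePresentation R A
  have hproj : Module.Projective R A := Module.Flat.projective_of_finitePresentation
  have hconv := HopfOrder.conv_pow_eq_one_of_isReduced R A n
    (fun p => by rw [h4]; exact hr p) A (AlgHom.id R A)
  have hP := spec_id_pow R A n hconv
  have hid : (𝟙 H : H ⟶ H) = φ.inv ≫ (𝟙 _ ≫ φ.hom) := by simp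
  rw [hid, ← MonObj.comp_pow, ← MonObj.pow_comp, hP, MonObj.one_comp, MonObj.comp_one]

section Local

open scoped Obj

/-- morphisms over `S` can be compared after base change to an open cover of `S` -/
theorem hom_ext_of_cover {S : Scheme.{u}} {G G' : Over S} (𝒰 : S.OpenCover) (f g : G ⟶ G')
    (h : ∀ i, (Over.pullback (𝒰.f i)).map f = (Over.pullback (𝒰.f i)).map g) : f = g := by
  apply Over.OverMorphism.ext
  apply Scheme.Cover.hom_ext (𝒰.pullback₁ G.hom)
  intro i
  have h1 : ((Over.pullback (𝒰.f i)).map f).left ≫ pullback.fst G'.hom (𝒰.f i) =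
      pullback.fst G.hom (𝒰.f i) ≫ f.left := by
    simp only [Over.pullback_map_left]
    exact pullback.lift_fst _ _ _
  have h2 : ((Over.pullback (𝒰.f i)).map g).left ≫ pullback.fst G'.hom (𝒰.f i) =
      pullback.fst G.hom (𝒰.f i) ≫ g.left := by
    simp only [Over.pullback_map_left]
    exact pullback.lift_fst _ _ _
  show pullback.fst G.hom (𝒰.f i) ≫ f.left = pullback.fst G.hom (𝒰.f i) ≫ g.left
  rw [← h1, ← h2, h i]

set_option synthInstance.maxHeartbeats 400000 in
/-- triviality of a power of the identity can be checked on an open cover of the base -/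
theorem pow_eq_one_of_cover {S : Scheme.{u}} (G : Over S) [GrpObj G] (n : ℕ) (𝒰 : S.OpenCover)
    (h : ∀ i, (𝟙 ((Over.pullback (𝒰.f i)).obj G) : (Over.pullback (𝒰.f i)).obj G ⟶ _) ^ n = 1) :
    (𝟙 G : G ⟶ G) ^ n = 1 := by
  apply hom_ext_of_cover 𝒰
  intro i
  have h1 : (Over.pullback (𝒰.f i)).map ((𝟙 G : G ⟶ G) ^ n) =
      ((Over.pullback (𝒰.f i)).map (𝟙 G)) ^ n :=
    map_pow ((Over.pullback (𝒰.f i)).homMonoidHom (X := G) (M := G)) (𝟙 G) n
  rw [h1, CategoryTheory.Functor.map_id, h i, Functor.map_one]

end Local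

end Groth.Agent.Lib.Helper14.GrpBridge
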