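import Mathlib
import Groth.Agent.Lib.Helper14.GrpBridge

set_option autoImplicit false

namespace Groth.Agent.Lib.Helper14.GrpBridge

open CategoryTheory MonoidalCategory CartesianMonoidalCategory MonObj GrpObj AlgebraicGeometry
open CategoryTheory.Limits TensorProduct

universe u

section alg

variable (R : Type u) [CommRing R] (A : Type u) {B : Type u} [CommRing A] [CommRing B] [Algebra R A]
  [Algebra R B]

/-- the scheme morphism attached to an algebra hom, as a morphism over `Spec R` -/
noncomputable abbrev specHom {T : Type u} [CommRing T] [Algebra R T] (x : A →ₐ[R] T) :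
    (Spec (.of T)).asOver (Spec (.of R)) ⟶ (Spec (.of A)).asOver (Spec (.of R)) :=
  (Spec.map (CommRingCat.ofHom x.toRingHom)).asOver _

lemma specHom_left {T : Type u} [CommRing T] [Algebra R T] (x : A →ₐ[R] T) :
    (specHom R A x).left = Spec.map (CommRingCat.ofHom (x : A →+* T)) := rfl

lemma specHom_comp {T : Type u} [CommRing T] [Algebra R T] (f : A →ₐ[R] B) (x : B →ₐ[R] T) :
    specHom R A (x.comp f) = specHom R B x ≫ specHom R A f := by
  ext1
  rw [Over.comp_left, specHom_left, specHom_left, specHom_left]
  exact Spec.map_comp (CommRingCat.ofHom (f : A →+* B)) (CommRingCat.ofHom (x : B →+* T))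

end alg

section hom

variable (R : Type u) [CommRing R] (A B : Type u) [CommRing A] [CommRing B] [Bialgebra R A]
  [Bialgebra R B]

lemma specHom_eq {T : Type u} [CommRing T] [Algebra R T] (x : A →ₐ[R] T) :
    specHom R A x = Spec.mapMulEquiv (R := R) (S := A) (T := T) (WithConv.toConv x) := rfl

/-- a monoid homomorphism between spectra of bialgebras comes from a bialgebra homomorphism -/
theorem exists_bialgHom
    (g : (Spec (.of B)).asOver (Spec (.of R)) ⟶ (Spec (.of A)).asOver (Spec (.of R)))
    [IsMonHom g] :
    ∃ f : A →ₐc[R] B, g = specHom R A (f : A →ₐ[R] B) := by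
  let f₀ : A →ₐ[R] B := ((Spec.mapMulEquiv (R := R) (S := A) (T := B)).symm g).ofConv
  have hf₀ : specHom R A f₀ = g := (Spec.mapMulEquiv (R := R) (S := A) (T := B)).apply_symm_apply g
  -- precomposition with `f₀` is multiplicative
  have hmul : ∀ {T : Type u} [CommRing T] [Algebra R T] (x y : B →ₐ[R] T),
      WithConv.toConv (x.comp f₀) * WithConv.toConv (y.comp f₀) =
        WithConv.toConv ((WithConv.toConv x * WithConv.toConv y).ofConv.comp f₀) := by
    intro T _ _ x y
    apply (Spec.mapMulEquiv (R := R) (S := A) (T := T)).injective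
    rw [map_mul]
    show specHom R A (x.comp f₀) * specHom R A (y.comp f₀) = specHom R A _
    rw [specHom_comp, specHom_comp, specHom_comp, hf₀, ← MonObj.mul_comp]
    congr 1
    exact (map_mul (Spec.mapMulEquiv (R := R) (S := B) (T := T)) _ _).symm
  have hone : ∀ {T : Type u} [CommRing T] [Algebra R T],
      (1 : WithConv (A →ₐ[R] T)) =
        WithConv.toConv ((1 : WithConv (B →ₐ[R] T)).ofConv.comp f₀) := by
    intro T _ _
    apply (Spec.mapMulEquiv (R := R) (S := A) (T := T)).injective
    rw [map_one]
    show _ = specHom R A _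
    rw [specHom_comp, hf₀]
    have : specHom R B (1 : WithConv (B →ₐ[R] T)).ofConv = 1 :=
      map_one (Spec.mapMulEquiv (R := R) (S := B) (T := T))
    rw [this, MonObj.one_comp]
  refine ⟨BialgHom.ofAlgHom f₀ ?_ ?_, hf₀.symm⟩
  · have h1 := hone (T := R)
    ext a
    have h2 := congrArg (fun t : WithConv (A →ₐ[R] R) => t.ofConv a) h1
    simp only [AlgHom.convOne_apply] at h2
    simpa using h2.symm
  · have h1 := hmul (T := B ⊗[R] B) Algebra.TensorProduct.includeLeft
      Algebra.TensorProduct.includeRight
    ext a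
    have h2 := congrArg (fun t : WithConv (A →ₐ[R] B ⊗[R] B) => t.ofConv a) h1
    simp only [AlgHom.comp_apply] at h2
    simp only [AlgHom.convMul_apply] at h2
    have h4 : ∀ w : B ⊗[R] B, (Algebra.TensorProduct.lift
        (Algebra.TensorProduct.includeLeft : B →ₐ[R] B ⊗[R] B)
        (Algebra.TensorProduct.includeRight : B →ₐ[R] B ⊗[R] B) (fun _ _ => .all _ _)) w = w := by
      intro w
      induction w using TensorProduct.induction_on with
      | zero => simp
      | tmul x y => simp
      | add x y hx hy => rw [map_add, hx, hy]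
    have h5 : ∀ w : A ⊗[R] A, (Algebra.TensorProduct.lift
        ((Algebra.TensorProduct.includeLeft : B →ₐ[R] B ⊗[R] B).comp f₀)
        ((Algebra.TensorProduct.includeRight : B →ₐ[R] B ⊗[R] B).comp f₀)
          (fun _ _ => .all _ _)) w = Algebra.TensorProduct.map f₀ f₀ w := by
      intro w
      induction w using TensorProduct.induction_on with
      | zero => simp
      | tmul x y => simp
      | add x y hx hy => rw [map_add, hx, hy, map_add]
    rw [h5, h4] at h2
    exact h2

end hom

section prod

variable (R : Type u) [CommRing R] (E Er E0 : Type u) [CommRing E] [CommRing Er] [CommRing E0]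
  [Bialgebra R E] [Algebra R Er] [Algebra R E0]

/-- the comparison morphism `Spec (Er ⊗ E0) ⟶ Spec Er × Spec E0` -/
noncomputable def prodComp : (Spec (.of (Er ⊗[R] E0))).asOver (Spec (.of R)) ⟶
    (Spec (.of Er)).asOver (Spec (.of R)) ⊗ (Spec (.of E0)).asOver (Spec (.of R)) :=
  lift (specHom R Er (Algebra.TensorProduct.includeLeft : Er →ₐ[R] Er ⊗[R] E0))
    (specHom R E0 (Algebra.TensorProduct.includeRight : E0 →ₐ[R] Er ⊗[R] E0))

lemma prodComp_left : (prodComp R Er E0).left = (pullbackSpecIso R Er E0).inv := by
  unfold prodComp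
  rw [Over.lift_left]
  apply pullback.hom_ext
  · rw [pullback.lift_fst]
    exact (pullbackSpecIso_inv_fst R Er E0).symm
  · rw [pullback.lift_snd]
    exact (pullbackSpecIso_inv_snd R Er E0).symm

instance isIso_prodComp : IsIso (prodComp R Er E0) := by
  have : IsIso ((Over.forget _).map (prodComp R Er E0)) := by
    show IsIso (prodComp R Er E0).left
    rw [prodComp_left]
    exact (pullbackSpecIso R Er E0).isIso_inv
  exact isIso_of_reflects_iso _ (Over.forget _)

theorem isIso_mul_of_bijective (fr : E →ₐ[R] Er) (f0 : E →ₐ[R] E0)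
    (hbij : Function.Bijective ((Algebra.TensorProduct.map fr f0).comp
      (Bialgebra.comulAlgHom R E))) :
    IsIso ((specHom R E fr ⊗ₘ specHom R E f0) ≫ μ[(Spec (.of E)).asOver (Spec (.of R))]) := by
  set Φ' : E →ₐ[R] Er ⊗[R] E0 := (Algebra.TensorProduct.map fr f0).comp
      (Bialgebra.comulAlgHom R E) with hΦ'
  have h1 : prodComp R Er E0 ≫ ((specHom R E fr ⊗ₘ specHom R E f0) ≫
      μ[(Spec (.of E)).asOver (Spec (.of R))]) = specHom R E Φ' := by
    unfold prodComp
    rw [← Category.assoc, lift_map, ← specHom_comp, ← specHom_comp, ← Hom.mul_def]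
    show Spec.mapMulEquiv (R := R) (S := E) (T := Er ⊗[R] E0) _ *
      Spec.mapMulEquiv (R := R) (S := E) (T := Er ⊗[R] E0) _ = _
    rw [← map_mul]
    show _ = Spec.mapMulEquiv (R := R) (S := E) (T := Er ⊗[R] E0) (WithConv.toConv Φ')
    congr 1
    apply WithConv.ofConv_injective
    ext a
    rw [AlgHom.convMul_apply]
    have h5 : ∀ w : E ⊗[R] E, (Algebra.TensorProduct.lift
        ((Algebra.TensorProduct.includeLeft : Er →ₐ[R] Er ⊗[R] E0).comp fr)
        ((Algebra.TensorProduct.includeRight : E0 →ₐ[R] Er ⊗[R] E0).comp f0)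
          (fun _ _ => .all _ _)) w = Algebra.TensorProduct.map fr f0 w := by
      intro w
      induction w using TensorProduct.induction_on with
      | zero => simp
      | tmul x y => simp
      | add x y hx hy => rw [map_add, hx, hy, map_add]
    exact h5 _
  have h2 : IsIso (specHom R E Φ') := by
    have h3 : IsIso (CommRingCat.ofHom (Φ' : E →+* Er ⊗[R] E0)) :=
      (ConcreteCategory.isIso_iff_bijective _).mpr hbij
    have : IsIso ((Over.forget _).map (specHom R E Φ')) := by
      show IsIso (Spec.map (CommRingCat.ofHom (Φ' : E →+* Er ⊗[R] E0)))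
      infer_instance
    exact isIso_of_reflects_iso _ (Over.forget _)
  rw [← h1] at h2
  exact IsIso.of_isIso_comp_left (prodComp R Er E0) _

end prod

end Groth.Agent.Lib.Helper14.GrpBridge
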