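import Mathlib.AlgebraicGeometry.Morphisms.FlatDescent
import Mathlib.AlgebraicGeometry.Group.Affine
import Mathlib.CategoryTheory.Monoidal.Cartesian.Over
import Mathlib.CategoryTheory.Monoidal.Grp
import Groth.Prelude.Def_Red2
import Groth.Prelude.Def_SGA3x

set_option autoImplicit false

namespace Groth.Agent.Lib.Helper14.MTDescent

open CategoryTheory MonoidalCategory CartesianMonoidalCategory MonObj GrpObj AlgebraicGeometry
open CategoryTheory.Limits

universe u

/-- relation between the base change of a morphism and the first projection -/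
theorem pullback_map_left_fst {S S' : Scheme.{u}} (f : S' ⟶ S) {G G' : Over S} (a : G ⟶ G') :
    ((Over.pullback f).map a).left ≫ pullback.fst G'.hom f = pullback.fst G.hom f ≫ a.left := by
  simp only [Over.pullback_map_left]
  exact pullback.lift_fst _ _ _

/-- morphisms over `S` can be compared after a flat surjective base change -/
theorem hom_ext_of_flat_surj {S S' : Scheme.{u}} (f : S' ⟶ S) [Flat f] [Surjective f]
    {G G' : Over S} (a b : G ⟶ G')
    (h : (Over.pullback f).map a = (Over.pullback f).map b) : a = b := by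
  apply Over.OverMorphism.ext
  have : Epi (pullback.fst G.hom f) := Flat.epi_of_flat_of_surjective _
  rw [← cancel_epi (pullback.fst G.hom f), ← pullback_map_left_fst, ← pullback_map_left_fst, h]

/-- morphisms over `S` can be compared after base change to an open cover of `S` -/
theorem hom_ext_of_cover {S : Scheme.{u}} {G G' : Over S} (𝒰 : S.OpenCover) (a b : G ⟶ G')
    (h : ∀ i, (Over.pullback (𝒰.f i)).map a = (Over.pullback (𝒰.f i)).map b) : a = b := by
  apply Over.OverMorphism.ext
  apply Scheme.Cover.hom_ext (𝒰.pullback₁ G.hom)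
  intro i
  show pullback.fst G.hom (𝒰.f i) ≫ a.left = pullback.fst G.hom (𝒰.f i) ≫ b.left
  rw [← pullback_map_left_fst, ← pullback_map_left_fst, h i]

/-- equality after base change along a composite gives equality after iterated base change -/
theorem map_map_eq_of_comp {S S' S'' : Scheme.{u}} (g : S'' ⟶ S') (f : S' ⟶ S)
    {G G' : Over S} (a b : G ⟶ G')
    (h : (Over.pullback (g ≫ f)).map a = (Over.pullback (g ≫ f)).map b) :
    (Over.pullback g).map ((Over.pullback f).map a) =
      (Over.pullback g).map ((Over.pullback f).map b) := by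
  have ha := (Over.pullbackComp g f).hom.naturality a
  have hb := (Over.pullbackComp g f).hom.naturality b
  rw [h] at ha
  have := ha.symm.trans hb
  exact (cancel_epi _).mp this


section mon

universe v₁ v₂ v₃ u₁ u₂ u₃
variable {C : Type u₁} {D : Type u₂} {E : Type u₃} [Category.{v₁} C] [Category.{v₂} D]
  [Category.{v₃} E]
  [CartesianMonoidalCategory C] [CartesianMonoidalCategory D] [CartesianMonoidalCategory E]

open scoped Obj

theorem isMonHom_app {F F' : C ⥤ D} [F.Monoidal] [F'.Monoidal] (α : F ⟶ F') (X : C) [MonObj X] :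
    IsMonHom (α.app X) :=
  ((Functor.mapMonNatTrans α).app (Mon.mk X)).isMonHom_hom

theorem isMonHom_app_comp {K : C ⥤ E} {F : C ⥤ D} {G : D ⥤ E} [K.Monoidal] [F.Monoidal]
    [G.Monoidal] (α : K ⟶ F ⋙ G) (X : C) [MonObj X] :
    @IsMonHom E _ _ (K.obj X) (G.obj (F.obj X)) (Functor.monObjObj (F := K) X)
      (Functor.monObjObj (F := G) (F.obj X)) (α.app X) := by
  have h := ((Functor.mapMonNatTrans α).app (Mon.mk X) ≫
    (Functor.mapMonCompIso (F := F) (G := G)).hom.app (Mon.mk X)).isMonHom_hom
  have e : ((Functor.mapMonNatTrans α).app (Mon.mk X) ≫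
    (Functor.mapMonCompIso (F := F) (G := G)).hom.app (Mon.mk X)).hom = α.app X := by
    simp
    exact Category.comp_id _
  rw [e] at h
  exact h

theorem isMonHom_comp_app {K : C ⥤ E} {F : C ⥤ D} {G : D ⥤ E} [K.Monoidal] [F.Monoidal]
    [G.Monoidal] (α : F ⋙ G ⟶ K) (X : C) [MonObj X] :
    @IsMonHom E _ _ (G.obj (F.obj X)) (K.obj X) (Functor.monObjObj (F := G) (F.obj X))
      (Functor.monObjObj (F := K) X) (α.app X) := by
  have h := ((Functor.mapMonCompIso (F := F) (G := G)).inv.app (Mon.mk X) ≫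
    (Functor.mapMonNatTrans α).app (Mon.mk X)).isMonHom_hom
  have e : ((Functor.mapMonCompIso (F := F) (G := G)).inv.app (Mon.mk X) ≫
    (Functor.mapMonNatTrans α).app (Mon.mk X)).hom = α.app X := by
    simp
    exact Category.id_comp _
  rw [e] at h
  exact h

end mon

open scoped Obj in
/-- iterated base change is base change along the composite, as group objects -/
theorem exists_bc_comp_iso {Z T T' : Scheme.{u}} (g : T' ⟶ T) (t : T ⟶ Z) (t' : T' ⟶ Z)
    (h : g ≫ t = t') (X : Over Z) [GrpObj X] :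
    ∃ c : Red.bc g (Red.bc t X) ≅ Red.bc t' X, IsMonHom c.hom := by
  subst h
  refine ⟨((Over.pullbackComp g t).app X).symm, ?_⟩
  exact isMonHom_comp_app (Over.pullbackComp g t).inv X

theorem exists_iso_of_grp_iso {C : Type*} [Category C] [CartesianMonoidalCategory C] {A B : C}
    [GrpObj A] [GrpObj B] (e : Grp.mk A ≅ Grp.mk B) : ∃ e' : A ≅ B, IsMonHom e'.hom :=
  ⟨(Grp.forget _).mapIso e, inferInstanceAs (IsMonHom e.hom.hom.hom)⟩

/-- the affine core statement -/
def AffCore : Prop :=
  ∀ (R : CommRingCat.{u}) (M : Type) [AddCommGroup M]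
    (v : Red.DS (Spec R) M ⟶ Red.Ga (Spec R)) [IsMonHom v], v = 1

open scoped Obj in
/-- conjugating by monoid isomorphisms -/
theorem eq_one_of_conj {S : Scheme.{u}} {A A' B B' : Over S} [GrpObj A] [GrpObj A'] [GrpObj B]
    [GrpObj B'] (a : A ≅ A') [IsMonHom a.hom] (b : B ≅ B') [IsMonHom b.hom] (v : A ⟶ B)
    (h : a.inv ≫ v ≫ b.hom = 1) : v = 1 := by
  have : v = a.hom ≫ (a.inv ≫ v ≫ b.hom) ≫ b.inv := by simp
  rw [this, h, MonObj.one_comp, MonObj.comp_one]

open scoped Obj in
/-- transporting triviality along a flat surjective base change -/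
theorem eq_one_of_bc {T T' : Scheme.{u}} (g : T' ⟶ T) [Flat g] [Surjective g] (M : Type)
    [AddCommGroup M]
    (h : ∀ (w : Red.DS T' M ⟶ Red.Ga T') [IsMonHom w], w = 1)
    (v : Red.DS T M ⟶ Red.Ga T) [IsMonHom v] : v = 1 := by
  apply hom_ext_of_flat_surj g
  rw [Functor.map_one]
  obtain ⟨cM, hcM⟩ := exists_bc_comp_iso g
    (Limits.IsTerminal.from specULiftZIsTerminal T)
    (Limits.IsTerminal.from specULiftZIsTerminal T') (specULiftZIsTerminal.hom_ext _ _)
    (Red.diag (ULift.{u} ℤ) M)
  obtain ⟨ca, hca⟩ := exists_bc_comp_iso g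
    (Limits.IsTerminal.from specULiftZIsTerminal T)
    (Limits.IsTerminal.from specULiftZIsTerminal T') (specULiftZIsTerminal.hom_ext _ _)
    Red.GaZ
  exact eq_one_of_conj cM ca _ (h _)

open scoped Obj in
theorem eq_one_of_affCore (hcore : AffCore.{u}) (U : Scheme.{u}) (M : Type) [AddCommGroup M]
    (v : Red.DS U M ⟶ Red.Ga U) [IsMonHom v] : v = 1 := by
  apply hom_ext_of_cover U.affineCover
  intro i
  rw [Functor.map_one]
  obtain ⟨cM, hcM⟩ := exists_bc_comp_iso (U.affineCover.f i)
    (Limits.IsTerminal.from specULiftZIsTerminal U)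
    (Limits.IsTerminal.from specULiftZIsTerminal _) (specULiftZIsTerminal.hom_ext _ _)
    (Red.diag (ULift.{u} ℤ) M)
  obtain ⟨ca, hca⟩ := exists_bc_comp_iso (U.affineCover.f i)
    (Limits.IsTerminal.from specULiftZIsTerminal U)
    (Limits.IsTerminal.from specULiftZIsTerminal _) (specULiftZIsTerminal.hom_ext _ _)
    Red.GaZ
  refine eq_one_of_conj cM ca _ ?_
  refine eq_one_of_bc (U.affineCover.X i).isoSpec.inv M ?_ _
  intro w _
  exact hcore _ M w

open scoped Obj in
theorem main (hcore : AffCore.{u}) (S : Scheme.{u}) (H : Over S) [GrpObj H]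
    (hH : SGA3x.IsMultTypeFT H) (v : H ⟶ Red.Ga S) [IsMonHom v] : v = 1 := by
  obtain ⟨S', f, hflat, hsurj, -, hloc⟩ := hH
  apply hom_ext_of_flat_surj f
  choose U hU hP using hloc
  have hcov : TopologicalSpace.IsOpenCover U := by
    refine TopologicalSpace.IsOpenCover.mk ?_
    rw [eq_top_iff]
    intro x _
    exact TopologicalSpace.Opens.mem_iSup.mpr ⟨x, hU x⟩
  apply hom_ext_of_cover (S'.openCoverOfIsOpenCover U hcov)
  intro s'
  change (Over.pullback (U s').ι).map _ = (Over.pullback (U s').ι).map _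
  apply map_map_eq_of_comp
  rw [Functor.map_one]
  obtain ⟨M, _, -, ⟨e⟩⟩ := hP s'
  obtain ⟨c, hc⟩ := exists_bc_comp_iso ((U s').ι ≫ f)
    (Limits.IsTerminal.from specULiftZIsTerminal S)
    (Limits.IsTerminal.from specULiftZIsTerminal _) (specULiftZIsTerminal.hom_ext _ _)
    Red.GaZ
  obtain ⟨e', he'⟩ := exists_iso_of_grp_iso e
  refine eq_one_of_conj e' c _ ?_
  exact eq_one_of_affCore hcore _ M _

end Groth.Agent.Lib.Helper14.MTDescent
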