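import Mathlib.RingTheory.Bialgebra.MonoidAlgebra
import Mathlib.RingTheory.Bialgebra.SymmetricAlgebra
import Mathlib.RingTheory.Bialgebra.TensorProduct
import Mathlib.RingTheory.HopfAlgebra.TensorProduct
import Mathlib.RingTheory.TensorProduct.Free
import Mathlib.RingTheory.Coalgebra.Convolution
import Mathlib.RingTheory.Bialgebra.Convolution

set_option autoImplicit false

namespace Groth.Agent.Lib.Helper14.MTPrim

open TensorProduct

universe u

/-- a primitive element of a bialgebra with a basis of group-like elements vanishes -/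
theorem eq_zero_of_primitive {A B : Type*} [CommRing A] [Ring B] [Bialgebra A B] {ι : Type*}
    (b : Module.Basis ι A B) (e : ι) (he : b e = 1)
    (hgl : ∀ n, Coalgebra.comul (R := A) (b n) = b n ⊗ₜ[A] b n) (y : B)
    (hy : Coalgebra.comul (R := A) y = y ⊗ₜ[A] 1 + 1 ⊗ₜ[A] y) : y = 0 := by
  classical
  have key : ∀ m, b.coord m y = 0 := by
    intro m
    let c : B →ₗ[A] A := b.coord m
    let φ : B ⊗[A] B →ₗ[A] A := LinearMap.mul' A A ∘ₗ TensorProduct.map c c
    have h1 : φ ∘ₗ Coalgebra.comul = c := by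
      refine b.ext fun n => ?_
      simp only [LinearMap.comp_apply, hgl, φ, TensorProduct.map_tmul, LinearMap.mul'_apply, c,
        Module.Basis.coord_apply, Module.Basis.repr_self, Finsupp.single_apply]
      split_ifs <;> simp
    have h2 : c y = c y * c 1 + c 1 * c y := by
      have := congrArg (fun l : B →ₗ[A] A => l y) h1
      simp only [LinearMap.comp_apply, hy, map_add, φ, TensorProduct.map_tmul,
        LinearMap.mul'_apply] at this
      exact this.symm
    have h3 : c 1 = if e = m then 1 else 0 := by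
      rw [← he]
      simp only [c, Module.Basis.coord_apply, Module.Basis.repr_self, Finsupp.single_apply]
    rw [h3] at h2
    split_ifs at h2 with hem
    · have : c y + c y = c y := by simpa using h2.symm
      exact add_eq_right.mp this
    · have : c y = 0 := by simpa using h2
      exact this
  apply b.repr.injective
  ext m
  simpa using key m

section bc

variable (K R : Type u) [CommRing K] [CommRing R] [Algebra K R]
  (P : Type u) [CommRing P] [Bialgebra K P] (D : Type u) [CommRing D] [Bialgebra K D]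

open Coalgebra

/-- Bialgebra homomorphisms from a base-changed bialgebra generated by a primitive element to
a base-changed bialgebra with a basis of group-like elements are trivial. -/
theorem toConv_eq_one (x : P) (hx : comul (R := K) x = x ⊗ₜ[K] 1 + 1 ⊗ₜ[K] x)
    (hcx : counit (R := K) x = 0)
    (hext : ∀ (g₁ g₂ : P →ₐ[K] R ⊗[K] D), g₁ x = g₂ x → g₁ = g₂)
    {ι : Type*} (b : Module.Basis ι K D) (e : ι) (he : b e = 1)
    (hgl : ∀ n, comul (R := K) (b n) = b n ⊗ₜ[K] b n)
    (f : R ⊗[K] P →ₐc[R] R ⊗[K] D) :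
    WithConv.toConv (f : R ⊗[K] P →ₐ[R] R ⊗[K] D) = 1 := by
  have hprim : comul (R := R) ((1 : R) ⊗ₜ[K] x) =
      ((1 : R) ⊗ₜ[K] x) ⊗ₜ[R] 1 + 1 ⊗ₜ[R] ((1 : R) ⊗ₜ[K] x) := by
    simp [hx, TensorProduct.tmul_add, Algebra.TensorProduct.one_def]
  have hy : comul (R := R) (f ((1 : R) ⊗ₜ[K] x)) =
      f ((1 : R) ⊗ₜ[K] x) ⊗ₜ[R] 1 + 1 ⊗ₜ[R] f ((1 : R) ⊗ₜ[K] x) := by
    have h := congrArg (fun l => l ((1 : R) ⊗ₜ[K] x)) (CoalgHomClass.map_comp_comul f)
    simp only [LinearMap.comp_apply] at h
    have h' : comul (R := R) (f ((1 : R) ⊗ₜ[K] x)) = _ := h.symm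
    rw [h', hprim]
    simp
  have hb : ∀ n, comul (R := R) (Algebra.TensorProduct.basis R b n) =
      Algebra.TensorProduct.basis R b n ⊗ₜ[R] Algebra.TensorProduct.basis R b n := by
    intro n
    simp [hgl]
  have h0 : f ((1 : R) ⊗ₜ[K] x) = 0 :=
    eq_zero_of_primitive (Algebra.TensorProduct.basis R b) e
      (by simp [he, Algebra.TensorProduct.one_def]) hb _ hy
  rw [AlgHom.convOne_def]
  congr 1
  apply Algebra.TensorProduct.ext'
  intro a p
  have h1 : ((f : R ⊗[K] P →ₐ[R] R ⊗[K] D).restrictScalars K).comp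
      Algebra.TensorProduct.includeRight =
      (((Algebra.ofId R (R ⊗[K] D)).comp (Bialgebra.counitAlgHom R (R ⊗[K] P))).restrictScalars
        K).comp Algebra.TensorProduct.includeRight := by
    apply hext
    simp only [AlgHom.comp_apply, Algebra.TensorProduct.includeRight_apply,
      AlgHom.restrictScalars_apply]
    rw [show (f : R ⊗[K] P →ₐ[R] R ⊗[K] D) ((1 : R) ⊗ₜ[K] x) = f ((1 : R) ⊗ₜ[K] x) from rfl, h0]
    simp [hcx]
  have h2 := congrArg (fun l : P →ₐ[K] R ⊗[K] D => l p) h1
  simp only [AlgHom.comp_apply, Algebra.TensorProduct.includeRight_apply,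
    AlgHom.restrictScalars_apply] at h2
  have h3 : a ⊗ₜ[K] p = a • ((1 : R) ⊗ₜ[K] p) := by
    rw [TensorProduct.smul_tmul', smul_eq_mul, mul_one]
  rw [h3, map_smul, map_smul, h2]
  rfl

end bc

section sym

variable (K R : Type u) [CommRing K] [CommRing R] [Algebra K R] (G : Type) [CommMonoid G]

/-- Bialgebra homomorphisms from the base change of the coordinate ring of the additive group
to the base change of a monoid algebra are trivial. -/
theorem toConv_eq_one_sym
    (f : R ⊗[K] SymmetricAlgebra K K →ₐc[R] R ⊗[K] MonoidAlgebra K G) :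
    WithConv.toConv (f : R ⊗[K] SymmetricAlgebra K K →ₐ[R] R ⊗[K] MonoidAlgebra K G) = 1 := by
  refine toConv_eq_one K R (SymmetricAlgebra K K) (MonoidAlgebra K G)
    (SymmetricAlgebra.ι K K 1) (SymmetricAlgebra.comul_ι _ _ _) (SymmetricAlgebra.counit_ι _ _ _)
    (fun g₁ g₂ h => ?_) (MonoidAlgebra.basis G K) 1
    (by rw [MonoidAlgebra.basis_apply]; rfl)
    (fun n => by rw [MonoidAlgebra.basis_apply]; exact MonoidAlgebra.comul_single _ _) f
  apply SymmetricAlgebra.algHom_ext
  apply LinearMap.ext_ring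
  exact h

end sym

end Groth.Agent.Lib.Helper14.MTPrim
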