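import Mathlib.AlgebraicGeometry.Group.Affine
import Mathlib.RingTheory.HopfAlgebra.TensorProduct
import Groth.Prelude.Def_Red2
import Groth.Agent.Lib.Helper14.MTDescent
import Groth.Agent.Lib.Helper14.MTPrim
import Groth.Agent.Lib.Helper14.GrpBridgeHom

set_option autoImplicit false

namespace Groth.Agent.Lib.Helper14.MTAffine

open CategoryTheory MonoidalCategory CartesianMonoidalCategory MonObj GrpObj AlgebraicGeometry
open CategoryTheory.Limits TensorProduct

universe u

section K
variable (K R : Type u) [CommRing K] [CommRing R] [Algebra K R] (A : Type u) [CommRing A]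
  [HopfAlgebra K A]


open scoped Obj in
theorem exists_bc_spec_iso :
    ∃ κ : Red.bc (Spec.map (CommRingCat.ofHom (algebraMap K R)))
        ((Spec (.of A)).asOver (Spec (.of K))) ≅ (Spec (.of (R ⊗[K] A))).asOver (Spec (.of R)),
      IsMonHom κ.hom := by
  have h : IsMonHom ((pullbackSymmetry .. ≪≫ pullbackSpecIso' K R A).hom.asOver (Spec (.of R))) :=
    inferInstance
  refine ⟨Over.isoMk (pullbackSymmetry .. ≪≫ pullbackSpecIso' K R A) ?_, ?_⟩
  · exact ((pullbackSymmetry .. ≪≫ pullbackSpecIso' K R A).hom.asOver (Spec (.of R))).w.trans rfl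
  · exact h

end K

section core

open Groth.Agent.Lib.Helper14

open scoped Obj in
theorem core' (R : Type u) [CommRing R] [Algebra (ULift.{u} ℤ) R] (M : Type) [AddCommGroup M]
    (t : Spec (.of R) ⟶ Spec (.of (ULift.{u} ℤ)))
    (v : Red.bc t (Red.diag (ULift.{u} ℤ) M) ⟶ Red.bc t Red.GaZ) [IsMonHom v] : v = 1 := by
  obtain rfl : t = Spec.map (CommRingCat.ofHom (algebraMap (ULift.{u} ℤ) R)) :=
    specULiftZIsTerminal.hom_ext _ _
  obtain ⟨κM, hκM⟩ := exists_bc_spec_iso (ULift.{u} ℤ) R
    (MonoidAlgebra (ULift.{u} ℤ) (Multiplicative M))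
  obtain ⟨κa, hκa⟩ := exists_bc_spec_iso (ULift.{u} ℤ) R
    (SymmetricAlgebra (ULift.{u} ℤ) (ULift.{u} ℤ))
  refine MTDescent.eq_one_of_conj κM κa v ?_
  obtain ⟨f, hf⟩ := GrpBridge.exists_bialgHom R _ _ (κM.inv ≫ v ≫ κa.hom)
  rw [hf, GrpBridge.specHom_eq]
  have key := MTPrim.toConv_eq_one_sym (ULift.{u} ℤ) R (Multiplicative M) f
  rw [key]
  exact map_one _

open scoped Obj in
theorem affCore : MTDescent.AffCore.{u} := by
  intro R M _ v _
  letI : Algebra (ULift.{u} ℤ) R :=
    RingHom.toAlgebra ((Int.castRingHom R).comp (ULift.ringEquiv : ULift.{u} ℤ ≃+* ℤ).toRingHom)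
  exact core' R M _ v

/-- every homomorphism from a group of multiplicative type to the additive group is trivial -/
theorem hom_multTypeFT_to_Ga_eq_one (S : Scheme.{u}) (H : Over S) [GrpObj H]
    (hH : SGA3x.IsMultTypeFT H) (v : H ⟶ Red.Ga S) [IsMonHom v] : v = 1 :=
  MTDescent.main affCore S H hH v

end core

end Groth.Agent.Lib.Helper14.MTAffine
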