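import Groth.Agent.Lib.Helper14.MTRigid

set_option autoImplicit false

namespace Groth.Agent.Lib.Helper14.MTRigidAlg2

open TensorProduct Coalgebra
open Groth.Agent.Lib.Helper14.MTAct Groth.Agent.Lib.Helper14.MTRigid

universe u

section

variable {B C H : Type u} [CommRing B] [CommRing C] [Algebra B C] [CommRing H] [Bialgebra B H]
  (P : PtAut B C H) {ι : Type*} [DecidableEq ι] (b : Module.Basis ι B H)
  (hgl : ∀ i, comul (R := B) (b i) = b i ⊗ₜ[B] b i)

include hgl in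
lemma ρ_apply_of_cf_one (i : ι) (hc : cf P b i i = 1) : P.ρ (b i) = (1 : C) ⊗ₜ[B] b i := by
  apply eq_of_coef_eq b
  intro k
  rw [coef_tmul]
  by_cases hk : i = k
  · subst hk
    rw [if_pos rfl]
    exact hc
  · rw [if_neg hk]
    have h1 := cf_mul P b hgl i k i
    rw [hc, mul_one, if_neg (Ne.symm hk)] at h1
    exact h1

lemma cf_one_of_ρ_apply (i : ι) (h : P.ρ (b i) = (1 : C) ⊗ₜ[B] b i) : cf P b i i = 1 := by
  rw [cf, h, coef_tmul, if_pos rfl]

variable [Group ι] (hb1 : b 1 = 1) (hbm : ∀ x y : ι, b (x * y) = b x * b y)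

include hb1 in
lemma cf_one_one : cf P b 1 1 = 1 := by
  apply cf_one_of_ρ_apply
  rw [hb1, map_one, Algebra.TensorProduct.one_def]

include hgl hbm in
lemma cf_mul_index (x y : ι) (hx : cf P b x x = 1) (hy : cf P b y y = 1) :
    cf P b (x * y) (x * y) = 1 := by
  apply cf_one_of_ρ_apply
  rw [hbm, map_mul, ρ_apply_of_cf_one P b hgl x hx, ρ_apply_of_cf_one P b hgl y hy,
    Algebra.TensorProduct.tmul_mul_tmul, mul_one]

include hgl hbm hb1 in
lemma cf_inv_index (x : ι) (hx : cf P b x x = 1) : cf P b x⁻¹ x⁻¹ = 1 := by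
  apply cf_one_of_ρ_apply
  have h1 : P.ρ (b x⁻¹) * P.ρ (b x) = 1 := by
    rw [← map_mul, ← hbm, inv_mul_cancel, hb1, map_one]
  rw [ρ_apply_of_cf_one P b hgl x hx] at h1
  have h2 : ((1 : C) ⊗ₜ[B] b x) * ((1 : C) ⊗ₜ[B] b x⁻¹) = 1 := by
    rw [Algebra.TensorProduct.tmul_mul_tmul, mul_one, ← hbm, mul_inv_cancel, hb1,
      Algebra.TensorProduct.one_def]
  calc P.ρ (b x⁻¹) = P.ρ (b x⁻¹) * (((1 : C) ⊗ₜ[B] b x) * ((1 : C) ⊗ₜ[B] b x⁻¹)) := by
        rw [h2, mul_one]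
    _ = (P.ρ (b x⁻¹) * ((1 : C) ⊗ₜ[B] b x)) * ((1 : C) ⊗ₜ[B] b x⁻¹) := by rw [mul_assoc]
    _ = (1 : C) ⊗ₜ[B] b x⁻¹ := by rw [h1, one_mul]

include hgl hbm hb1 in
/-- if the diagonal coefficients at a generating set are one, all are -/
lemma cf_eq_one_of_closure (F : Set ι) (hF : Subgroup.closure F = ⊤)
    (h : ∀ x ∈ F, cf P b x x = 1) (x : ι) : cf P b x x = 1 := by
  have hx : x ∈ Subgroup.closure F := by rw [hF]; trivial
  induction hx using Subgroup.closure_induction with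
  | mem y hy => exact h y hy
  | one => exact cf_one_one P b hb1
  | mul y z _ _ hy hz => exact cf_mul_index P b hgl hbm y z hy hz
  | inv y _ hy => exact cf_inv_index P b hgl hb1 hbm y hy

end

end Groth.Agent.Lib.Helper14.MTRigidAlg2
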