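import Mathlib.RingTheory.Bialgebra.TensorProduct
import Mathlib.RingTheory.TensorProduct.Free
import Mathlib.RingTheory.Bialgebra.Convolution
import Mathlib.RingTheory.Nilpotent.Lemmas
import Mathlib.RingTheory.Ideal.Quotient.Operations

set_option autoImplicit false

namespace Groth.Agent.Lib.Helper14.MTAct

open TensorProduct Coalgebra

universe u

section AC

variable {B : Type u} [CommRing B] (N : Ideal B)
  {H : Type u} [CommRing H] [Bialgebra B H] {ι : Type*} (b : Module.Basis ι B H) (e : ι)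
  {A : Type u} [CommRing A] [Algebra B A]

/-- the convolution product of two algebra homomorphisms out of a bialgebra -/
noncomputable abbrev cmul {C : Type u} [CommRing C] [Algebra B C] (γ γ' : H →ₐ[B] C) : H →ₐ[B] C :=
  (Algebra.TensorProduct.lmul' B).comp
    ((Algebra.TensorProduct.map γ γ').comp (Bialgebra.comulAlgHom B H))

/-- the trivial algebra homomorphism out of a bialgebra -/
noncomputable abbrev cone (C : Type u) [CommRing C] [Algebra B C] : H →ₐ[B] C :=
  (Algebra.ofId B C).comp (Bialgebra.counitAlgHom B H)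

/-- the classifying map of a pair of points -/
noncomputable abbrev θ {C : Type u} [CommRing C] [Algebra B C] (x : A →ₐ[B] C) (γ : H →ₐ[B] C) :
    A ⊗[B] H →ₐ[B] C :=
  Algebra.TensorProduct.productMap x γ

lemma θ_comp_incL {C : Type u} [CommRing C] [Algebra B C] (x : A →ₐ[B] C) (γ : H →ₐ[B] C) :
    (θ x γ).comp Algebra.TensorProduct.includeLeft = x := by
  ext a; simp [θ]

lemma θ_comp_incR {C : Type u} [CommRing C] [Algebra B C] (x : A →ₐ[B] C) (γ : H →ₐ[B] C) :
    (θ x γ).comp Algebra.TensorProduct.includeRight = γ := by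
  ext a; simp [θ]

/-- a natural action, on points, of the monoid functor of a bialgebra `H` on the functor of points
of an algebra `A` -/
structure PtAct (B H A : Type u) [CommRing B] [CommRing H] [Bialgebra B H] [CommRing A]
    [Algebra B A] where
  Φ : ∀ (C : Type u) [CommRing C] [Algebra B C], (H →ₐ[B] C) → (A →ₐ[B] C) → (A →ₐ[B] C)
  nat : ∀ (C C' : Type u) [CommRing C] [Algebra B C] [CommRing C'] [Algebra B C']
    (f : C →ₐ[B] C') (γ : H →ₐ[B] C) (x : A →ₐ[B] C),
    f.comp (Φ C γ x) = Φ C' (f.comp γ) (f.comp x)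
  one : ∀ (C : Type u) [CommRing C] [Algebra B C] (x : A →ₐ[B] C), Φ C (cone C) x = x
  mul : ∀ (C : Type u) [CommRing C] [Algebra B C] (γ γ' : H →ₐ[B] C) (x : A →ₐ[B] C),
    Φ C (cmul γ γ') x = Φ C γ (Φ C γ' x)

namespace PtAct

variable {B H A : Type u} [CommRing B] [CommRing H] [Bialgebra B H] [CommRing A] [Algebra B A]
  (P : PtAct B H A)

/-- the universal coaction -/
noncomputable def ρ : A →ₐ[B] A ⊗[B] H :=
  P.Φ (A ⊗[B] H) Algebra.TensorProduct.includeRight Algebra.TensorProduct.includeLeft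

lemma Φ_eq {C : Type u} [CommRing C] [Algebra B C] (γ : H →ₐ[B] C) (x : A →ₐ[B] C) :
    P.Φ C γ x = (θ x γ).comp P.ρ := by
  rw [ρ, P.nat, θ_comp_incL, θ_comp_incR]

end PtAct

section coef

variable {B : Type u} [CommRing B] {H : Type u} [CommRing H] [Algebra B H] {ι : Type*}
  (b : Module.Basis ι B H) (A : Type u) [CommRing A] [Algebra B A]

/-- coefficient maps of `A ⊗ H` with respect to a basis of `H` -/
noncomputable def coef (i : ι) : A ⊗[B] H →ₗ[B] A :=
  ((Algebra.TensorProduct.basis A b).coord i).restrictScalars B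

lemma coef_tmul [DecidableEq ι] (i j : ι) (a : A) :
    coef b A i (a ⊗ₜ[B] b j) = if j = i then a else 0 := by
  simp only [coef, LinearMap.restrictScalars_apply, Module.Basis.coord_apply,
    Algebra.TensorProduct.basis_repr_tmul, Module.Basis.repr_self]
  simp [Finsupp.single_apply]

lemma coef_smul (i : ι) (a : A) (z : A ⊗[B] H) : coef b A i (a • z) = a * coef b A i z := by
  simp [coef]

lemma eq_of_coef_eq (z z' : A ⊗[B] H) (h : ∀ i, coef b A i z = coef b A i z') : z = z' := by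
  apply (Algebra.TensorProduct.basis A b).repr.injective
  ext i
  exact h i

end coef

section K1

variable {B H A : Type u} [CommRing B] [CommRing H] [Bialgebra B H] [CommRing A] [Algebra B A]
  (P : PtAct B H A) {ι : Type*} [DecidableEq ι] (b : Module.Basis ι B H)
  (hgl : ∀ i, comul (R := B) (b i) = b i ⊗ₜ[B] b i)

omit [DecidableEq ι] in
lemma ext_basis {Q : Type*} [AddCommMonoid Q] [Module B Q] (f g : A ⊗[B] H →ₗ[B] Q)
    (h : ∀ a l, f (a ⊗ₜ[B] b l) = g (a ⊗ₜ[B] b l)) : f = g := by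
  apply TensorProduct.ext'
  intro a h'
  have : f ∘ₗ (TensorProduct.mk B A H a) = g ∘ₗ (TensorProduct.mk B A H a) :=
    b.ext (fun l => h a l)
  exact LinearMap.congr_fun this h'

/-- the coefficient operators of the universal coaction -/
noncomputable def π (i : ι) : A →ₗ[B] A := coef b A i ∘ₗ P.ρ.toLinearMap

/-- double coefficient maps -/
noncomputable def coef₂ (k i : ι) : (A ⊗[B] H) ⊗[B] H →ₗ[B] A :=
  coef b A k ∘ₗ coef b (A ⊗[B] H) i

lemma coef₂_tmul (k i l m : ι) (a : A) :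
    coef₂ (A := A) b k i ((a ⊗ₜ[B] b l) ⊗ₜ[B] b m) =
      if m = i then (if l = k then a else 0) else 0 := by
  simp only [coef₂, LinearMap.comp_apply, coef_tmul]
  split_ifs <;> simp [coef_tmul, *]

include hgl in
lemma lhs_eq (k i : ι) (z : A ⊗[B] H) :
    coef₂ (A := A) b k i
      (θ ((Algebra.TensorProduct.includeLeft : A ⊗[B] H →ₐ[B] (A ⊗[B] H) ⊗[B] H).comp
          (Algebra.TensorProduct.includeLeft : A →ₐ[B] A ⊗[B] H))
        (cmul ((Algebra.TensorProduct.includeLeft : A ⊗[B] H →ₐ[B] (A ⊗[B] H) ⊗[B] H).comp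
          (Algebra.TensorProduct.includeRight : H →ₐ[B] A ⊗[B] H))
          (Algebra.TensorProduct.includeRight : H →ₐ[B] (A ⊗[B] H) ⊗[B] H)) z) =
      if k = i then coef b A i z else 0 := by
  refine LinearMap.congr_fun (f := coef₂ (A := A) b k i ∘ₗ (θ _ _).toLinearMap)
    (g := if k = i then coef b A i else 0) (ext_basis b _ _ fun a l => ?_) z |>.trans ?_
  · simp only [LinearMap.comp_apply, AlgHom.toLinearMap_apply]
    simp [θ, cmul, hgl, coef₂_tmul]
    by_cases hki : k = i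
    · subst hki
      simp [coef_tmul]
      intro h1 h2
      exact absurd h2 h1
    · simp only [hki, if_false, LinearMap.zero_apply]
      by_cases hli : l = i
      · subst hli
        simp [Ne.symm hki]
      · simp [hli]
  · split_ifs <;> simp

lemma inner_eq (k i l : ι) (w : A ⊗[B] H) :
    coef₂ (A := A) b k i
      (θ ((Algebra.TensorProduct.includeLeft : A ⊗[B] H →ₐ[B] (A ⊗[B] H) ⊗[B] H).comp
          (Algebra.TensorProduct.includeLeft : A →ₐ[B] A ⊗[B] H))
        (Algebra.TensorProduct.includeRight : H →ₐ[B] (A ⊗[B] H) ⊗[B] H) w *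
        (((1 : A) ⊗ₜ[B] b l) ⊗ₜ[B] (1 : H))) =
      if l = k then coef b A i w else 0 := by
  refine LinearMap.congr_fun (f := coef₂ (A := A) b k i ∘ₗ
      (LinearMap.mulRight B (((1 : A) ⊗ₜ[B] b l) ⊗ₜ[B] (1 : H))) ∘ₗ (θ _ _).toLinearMap)
    (g := if l = k then coef b A i else 0) (ext_basis b _ _ fun a m => ?_) w |>.trans ?_
  · simp only [LinearMap.comp_apply, AlgHom.toLinearMap_apply, LinearMap.mulRight_apply]
    simp [θ, coef₂_tmul]
    by_cases hlk : l = k
    · subst hlk
      simp [coef_tmul]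
    · simp [hlk]
  · split_ifs <;> simp

lemma rhs_eq (k i : ι) (z : A ⊗[B] H) :
    coef₂ (A := A) b k i
      (θ ((θ ((Algebra.TensorProduct.includeLeft : A ⊗[B] H →ₐ[B] (A ⊗[B] H) ⊗[B] H).comp
            (Algebra.TensorProduct.includeLeft : A →ₐ[B] A ⊗[B] H))
          (Algebra.TensorProduct.includeRight : H →ₐ[B] (A ⊗[B] H) ⊗[B] H)).comp P.ρ)
        ((Algebra.TensorProduct.includeLeft : A ⊗[B] H →ₐ[B] (A ⊗[B] H) ⊗[B] H).comp
          (Algebra.TensorProduct.includeRight : H →ₐ[B] A ⊗[B] H)) z) =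
      π P b i (coef b A k z) := by
  refine LinearMap.congr_fun (f := coef₂ (A := A) b k i ∘ₗ (θ _ _).toLinearMap)
    (g := π P b i ∘ₗ coef b A k) (ext_basis b _ _ fun a l => ?_) z
  simp only [LinearMap.comp_apply, AlgHom.toLinearMap_apply]
  have h1 : θ ((θ ((Algebra.TensorProduct.includeLeft : A ⊗[B] H →ₐ[B] (A ⊗[B] H) ⊗[B] H).comp
            (Algebra.TensorProduct.includeLeft : A →ₐ[B] A ⊗[B] H))
          (Algebra.TensorProduct.includeRight : H →ₐ[B] (A ⊗[B] H) ⊗[B] H)).comp P.ρ)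
        ((Algebra.TensorProduct.includeLeft : A ⊗[B] H →ₐ[B] (A ⊗[B] H) ⊗[B] H).comp
          (Algebra.TensorProduct.includeRight : H →ₐ[B] A ⊗[B] H)) (a ⊗ₜ[B] b l) =
      θ ((Algebra.TensorProduct.includeLeft : A ⊗[B] H →ₐ[B] (A ⊗[B] H) ⊗[B] H).comp
          (Algebra.TensorProduct.includeLeft : A →ₐ[B] A ⊗[B] H))
        (Algebra.TensorProduct.includeRight : H →ₐ[B] (A ⊗[B] H) ⊗[B] H) (P.ρ a) *
        (((1 : A) ⊗ₜ[B] b l) ⊗ₜ[B] (1 : H)) := by
    simp [θ]
  rw [h1, inner_eq, coef_tmul]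
  split_ifs <;> simp [π]

include hgl in
/-- the coefficient operators are orthogonal idempotents -/
lemma π_π (k i : ι) (a : A) : π P b i (π P b k a) = if k = i then π P b i a else 0 := by
  have h := P.mul ((A ⊗[B] H) ⊗[B] H)
    ((Algebra.TensorProduct.includeLeft : A ⊗[B] H →ₐ[B] (A ⊗[B] H) ⊗[B] H).comp
      (Algebra.TensorProduct.includeRight : H →ₐ[B] A ⊗[B] H))
    (Algebra.TensorProduct.includeRight : H →ₐ[B] (A ⊗[B] H) ⊗[B] H)
    ((Algebra.TensorProduct.includeLeft : A ⊗[B] H →ₐ[B] (A ⊗[B] H) ⊗[B] H).comp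
      (Algebra.TensorProduct.includeLeft : A →ₐ[B] A ⊗[B] H))
  rw [P.Φ_eq, P.Φ_eq _ (P.Φ _ _ _), P.Φ_eq] at h
  have h2 := congrArg (fun f : A →ₐ[B] (A ⊗[B] H) ⊗[B] H => coef₂ (A := A) b k i (f a)) h
  simp only [AlgHom.comp_apply] at h2
  rw [lhs_eq b hgl, rhs_eq] at h2
  exact h2.symm

end K1

section final

variable {B H A : Type u} [CommRing B] [CommRing H] [Bialgebra B H] [CommRing A] [Algebra B A]
  (P : PtAct B H A) {ι : Type*} [DecidableEq ι] (b : Module.Basis ι B H)
  (hgl : ∀ i, comul (R := B) (b i) = b i ⊗ₜ[B] b i) (e : ι) (he : b e = 1)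
  (N : Ideal B) (hN : IsNilpotent N)
  (nil : ∀ (C : Type u) [CommRing C] [Algebra B C], (∀ n ∈ N, algebraMap B C n = 0) →
    ∀ (γ : H →ₐ[B] C) (x : A →ₐ[B] C), P.Φ C γ x = x)

lemma coef_mem_of_mem (z : A ⊗[B] H)
    (hz : z ∈ Ideal.map (algebraMap B (A ⊗[B] H)) N) (i : ι) :
    coef b A i z ∈ N • (⊤ : Submodule B A) := by
  have hz' : z ∈ N • (⊤ : Submodule B (A ⊗[B] H)) := by
    rw [Ideal.smul_top_eq_map]
    exact hz
  refine Submodule.smul_induction_on hz' (fun n hn c _ => ?_) (fun x y hx hy => ?_)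
  · rw [map_smul]
    exact Submodule.smul_mem_smul hn Submodule.mem_top
  · rw [map_add]
    exact Submodule.add_mem _ hx hy

include nil in
lemma ρ_sub_mem (a : A) :
    P.ρ a - a ⊗ₜ[B] (1 : H) ∈ Ideal.map (algebraMap B (A ⊗[B] H)) N := by
  set 𝔫 := Ideal.map (algebraMap B (A ⊗[B] H)) N
  have hkill : ∀ n ∈ N, algebraMap B ((A ⊗[B] H) ⧸ 𝔫) n = 0 := by
    intro n hn
    rw [IsScalarTower.algebraMap_apply B (A ⊗[B] H) ((A ⊗[B] H) ⧸ 𝔫)]
    exact Ideal.Quotient.eq_zero_iff_mem.mpr (Ideal.mem_map_of_mem _ hn)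
  have h1 := nil ((A ⊗[B] H) ⧸ 𝔫) hkill
    ((Ideal.Quotient.mkₐ B 𝔫).comp Algebra.TensorProduct.includeRight)
    ((Ideal.Quotient.mkₐ B 𝔫).comp Algebra.TensorProduct.includeLeft)
  rw [← P.nat] at h1
  have h2 := congrArg (fun f : A →ₐ[B] (A ⊗[B] H) ⧸ 𝔫 => f a) h1
  simp only [AlgHom.comp_apply, Ideal.Quotient.mkₐ_eq_mk] at h2
  exact Ideal.Quotient.eq.mp h2

include nil he in
lemma π_mem (i : ι) (hi : i ≠ e) (a : A) : π P b i a ∈ N • (⊤ : Submodule B A) := by
  have h1 := coef_mem_of_mem b N _ (ρ_sub_mem P N nil a) i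
  rw [map_sub, ← he, coef_tmul, if_neg (Ne.symm hi), sub_zero] at h1
  exact h1

include nil he hgl hN in
lemma π_eq_zero (i : ι) (hi : i ≠ e) : π P b i = 0 := by
  have hle : LinearMap.range (π P b i) ≤ N • LinearMap.range (π P b i) := by
    have h1 : LinearMap.range (π P b i) ≤ N • (⊤ : Submodule B A) := by
      rintro _ ⟨a, rfl⟩
      exact π_mem P b e he N nil i hi a
    have h2 : LinearMap.range (π P b i) ≤ Submodule.map (π P b i) (LinearMap.range (π P b i)) := by
      rintro _ ⟨a, rfl⟩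
      refine ⟨π P b i a, ⟨a, rfl⟩, ?_⟩
      rw [π_π P b hgl, if_pos rfl]
    refine h2.trans ((Submodule.map_mono h1).trans ?_)
    rw [Submodule.map_smul'', Submodule.map_top]
  have hpow : ∀ k : ℕ, LinearMap.range (π P b i) ≤ N ^ k • LinearMap.range (π P b i) := by
    intro k
    induction k with
    | zero => simp
    | succ k ih =>
      refine ih.trans ?_
      rw [pow_succ, Submodule.mul_smul]
      exact Submodule.smul_mono le_rfl hle
  obtain ⟨k, hk⟩ := hN
  have h3 := hpow k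
  rw [hk, Ideal.zero_eq_bot, Submodule.bot_smul, le_bot_iff, LinearMap.range_eq_bot] at h3
  exact h3

include nil he hgl hN in
theorem ρ_eq : P.ρ = Algebra.TensorProduct.includeLeft := by
  have hz : ∀ a : A, P.ρ a = (π P b e a) ⊗ₜ[B] (1 : H) := by
    intro a
    apply eq_of_coef_eq b
    intro i
    rw [← he, coef_tmul]
    by_cases hi : i = e
    · subst hi
      rw [if_pos rfl]
      rfl
    · rw [if_neg (Ne.symm hi)]
      have := π_eq_zero P b hgl e he N hN nil i hi
      exact LinearMap.congr_fun this a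
  have hone := P.one A (AlgHom.id B A)
  rw [P.Φ_eq] at hone
  ext a
  have h1 := congrArg (fun f : A →ₐ[B] A => f a) hone
  simp only [AlgHom.comp_apply, AlgHom.id_apply] at h1
  rw [hz a] at h1
  simp [θ, cone] at h1
  rw [hz a, h1]
  rfl

include nil he hgl hN in
/-- a natural action on points which is trivial modulo a nilpotent ideal is trivial -/
theorem trivial (C : Type u) [CommRing C] [Algebra B C] (γ : H →ₐ[B] C) (x : A →ₐ[B] C) :
    P.Φ C γ x = x := by
  rw [P.Φ_eq, ρ_eq P b hgl e he N hN nil, θ_comp_incL]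

end final

end AC

end Groth.Agent.Lib.Helper14.MTAct
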