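import Mathlib
import Groth.Agent.Lib.Helper14.MTAct
import Groth.Agent.Lib.Helper14.GrpBridgeHom

set_option autoImplicit false

namespace Groth.Agent.Lib.Helper14.MTActGeom

open CategoryTheory MonoidalCategory CartesianMonoidalCategory MonObj GrpObj AlgebraicGeometry
open CategoryTheory.Limits TensorProduct
open Groth.Agent.Lib.Helper14 GrpBridge

universe u

section model

variable {B : Type u} [CommRing B] (N : Ideal B) (hN : IsNilpotent N)
  {D X' : Over (Spec (CommRingCat.of B))}
  (act : D ⊗ X' ⟶ X')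
  (nil : ∀ (C : Type u) [CommRing C] [Algebra B C], (∀ n ∈ N, algebraMap B C n = 0) →
    ∀ (g : (Spec (.of C)).asOver (Spec (.of B)) ⟶ D)
      (x : (Spec (.of C)).asOver (Spec (.of B)) ⟶ X'), lift g x ≫ act = x)

include hN nil in
/-- an action which is trivial modulo a nilpotent ideal is topologically trivial -/
theorem act_apply (z : (D ⊗ X').left) : act.left z = (snd D X').left z := by
  let κ := (D ⊗ X').left.residueField z
  let pt₀ : Spec κ ⟶ (D ⊗ X').left := (D ⊗ X').left.fromSpecResidueField z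
  let φ : CommRingCat.of B ⟶ κ := Spec.preimage (pt₀ ≫ (D ⊗ X').hom)
  letI : Algebra B κ := φ.hom.toAlgebra
  have hφ : Spec.map (CommRingCat.ofHom (algebraMap B κ)) = pt₀ ≫ (D ⊗ X').hom :=
    Spec.map_preimage _
  let pt : (Spec (.of κ)).asOver (Spec (.of B)) ⟶ D ⊗ X' := Over.homMk pt₀ hφ.symm
  have hkill : ∀ n ∈ N, algebraMap B κ n = 0 := by
    intro n hn
    obtain ⟨k, hk⟩ := hN
    have : n ^ k = 0 := by
      have h1 : n ^ k ∈ N ^ k := Ideal.pow_mem_pow hn k
      rw [hk] at h1
      exact h1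
    have h2 : (algebraMap B κ n) ^ k = 0 := by rw [← map_pow, this, map_zero]
    exact pow_eq_zero_iff (n := k) (by
      rintro rfl
      simp at h2) |>.mp h2
  have h1 := nil κ hkill (pt ≫ fst D X') (pt ≫ snd D X')
  rw [lift_comp_fst_snd] at h1
  have h2 := congrArg (fun f => f.left (IsLocalRing.closedPoint κ)) h1
  simp only [Over.comp_left, Scheme.Hom.comp_apply] at h2
  have h3 : pt.left (IsLocalRing.closedPoint κ) = z :=
    Scheme.fromSpecResidueField_apply z _
  rw [h3] at h2
  exact h2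

end model

section pts

variable {B : Type u} [CommRing B] {X' : Over (Spec (CommRingCat.of B))}
  {A : Type u} [CommRing A] [Algebra B A] (j : Spec (CommRingCat.of A) ⟶ X'.left)
  (hA : j ≫ X'.hom = Spec.map (CommRingCat.ofHom (algebraMap B A)))

/-- the point of `X'` attached to an algebra homomorphism out of the coordinate ring of an
affine chart -/
noncomputable def ξ {C : Type u} [CommRing C] [Algebra B C] (x : A →ₐ[B] C) :
    (Spec (.of C)).asOver (Spec (.of B)) ⟶ X' :=
  Over.homMk (Spec.map (CommRingCat.ofHom (x : A →+* C)) ≫ j) (by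
    show (Spec.map (CommRingCat.ofHom (x : A →+* C)) ≫ j) ≫ X'.hom =
      Spec.map (CommRingCat.ofHom (algebraMap B C))
    rw [Category.assoc, hA, ← Spec.map_comp, ← CommRingCat.ofHom_comp, AlgHom.comp_algebraMap])

lemma ξ_left {C : Type u} [CommRing C] [Algebra B C] (x : A →ₐ[B] C) :
    (ξ j hA x).left = Spec.map (CommRingCat.ofHom (x : A →+* C)) ≫ j := rfl

lemma ξ_injective [IsOpenImmersion j] {C : Type u} [CommRing C] [Algebra B C]
    (x y : A →ₐ[B] C) (h : ξ j hA x = ξ j hA y) : x = y := by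
  have h1 := congrArg (fun f => f.left) h
  simp only [ξ_left] at h1
  have h2 := (cancel_mono j).mp h1
  have h3 := Spec.map_injective h2
  apply AlgHom.coe_ringHom_injective
  exact congrArg CommRingCat.Hom.hom h3

lemma ξ_comp {C C' : Type u} [CommRing C] [Algebra B C] [CommRing C'] [Algebra B C']
    (f : C →ₐ[B] C') (x : A →ₐ[B] C) :
    ξ j hA (f.comp x) = specHom B C f ≫ ξ j hA x := by
  ext1
  rw [Over.comp_left, ξ_left, ξ_left, specHom_left]
  have : Spec.map (CommRingCat.ofHom ((f.comp x : A →ₐ[B] C') : A →+* C')) =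
      Spec.map (CommRingCat.ofHom (f : C →+* C')) ≫
        Spec.map (CommRingCat.ofHom (x : A →+* C)) := by
    rw [← Spec.map_comp]
    rfl
  rw [this, Category.assoc]
  rfl

lemma exists_ξ_eq [IsOpenImmersion j] {C : Type u} [CommRing C] [Algebra B C]
    (m : (Spec (.of C)).asOver (Spec (.of B)) ⟶ X')
    (hm : Set.range m.left ⊆ Set.range j) : ∃ y : A →ₐ[B] C, ξ j hA y = m := by
  let l : Spec (.of C) ⟶ Spec (.of A) := IsOpenImmersion.lift j m.left hm
  have hl : l ≫ j = m.left := IsOpenImmersion.lift_fac _ _ _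
  let y₀ : CommRingCat.of A ⟶ CommRingCat.of C := Spec.preimage l
  have hy₀ : Spec.map y₀ = l := Spec.map_preimage _
  have hcomm : CommRingCat.ofHom (algebraMap B A) ≫ y₀ = CommRingCat.ofHom (algebraMap B C) := by
    apply Spec.map_injective
    rw [Spec.map_comp, hy₀, ← hA, ← Category.assoc, hl]
    exact Over.w m
  refine ⟨⟨y₀.hom, fun r => ?_⟩, ?_⟩
  · exact congrArg (fun f => f.hom r) hcomm
  · ext1
    rw [ξ_left]
    show Spec.map (CommRingCat.ofHom y₀.hom) ≫ j = m.left
    rw [← hl, ← hy₀]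
    rfl

end pts

section model2

variable {B : Type u} [CommRing B] (N : Ideal B) (hN : IsNilpotent N)
  {Hh : Type u} [CommRing Hh] [Bialgebra B Hh]
  {X' : Over (Spec (CommRingCat.of B))}
  (act : (Spec (.of Hh)).asOver (Spec (.of B)) ⊗ X' ⟶ X')
  (one : ∀ (Y : Over (Spec (CommRingCat.of B))) (x : Y ⟶ X'),
    lift (1 : Y ⟶ (Spec (.of Hh)).asOver (Spec (.of B))) x ≫ act = x)
  (mul : ∀ (Y : Over (Spec (CommRingCat.of B)))
    (g h : Y ⟶ (Spec (.of Hh)).asOver (Spec (.of B))) (x : Y ⟶ X'),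
    lift (g * h) x ≫ act = lift g (lift h x ≫ act) ≫ act)
  (nil : ∀ (C : Type u) [CommRing C] [Algebra B C], (∀ n ∈ N, algebraMap B C n = 0) →
    ∀ (g : (Spec (.of C)).asOver (Spec (.of B)) ⟶ (Spec (.of Hh)).asOver (Spec (.of B)))
      (x : (Spec (.of C)).asOver (Spec (.of B)) ⟶ X'), lift g x ≫ act = x)
  {A : Type u} [CommRing A] [Algebra B A] (j : Spec (CommRingCat.of A) ⟶ X'.left)
  [IsOpenImmersion j]
  (hA : j ≫ X'.hom = Spec.map (CommRingCat.ofHom (algebraMap B A)))

include hN nil in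
lemma exists_pt (C : Type u) [CommRing C] [Algebra B C] (χ : Hh →ₐ[B] C) (x : A →ₐ[B] C) :
    ∃ y : A →ₐ[B] C, ξ j hA y = lift (specHom B Hh χ) (ξ j hA x) ≫ act := by
  apply exists_ξ_eq
  rintro _ ⟨c, rfl⟩
  rw [Over.comp_left, Scheme.Hom.comp_apply, act_apply N hN act nil, ← Scheme.Hom.comp_apply,
    ← Over.comp_left, lift_snd, ξ_left]
  exact ⟨(Spec.map (CommRingCat.ofHom (x : A →+* C))) c, rfl⟩

/-- the action on points of the affine chart -/
noncomputable def ptAct : MTAct.PtAct B Hh A where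
  Φ C _ _ χ x := (exists_pt N hN act nil j hA C χ x).choose
  nat C C' _ _ _ _ f χ x := by
    apply ξ_injective j hA
    rw [ξ_comp, (exists_pt N hN act nil j hA C χ x).choose_spec,
      (exists_pt N hN act nil j hA C' (f.comp χ) (f.comp x)).choose_spec, ← Category.assoc,
      comp_lift, ξ_comp, specHom_comp]
  one C _ _ x := by
    apply ξ_injective j hA
    rw [(exists_pt N hN act nil j hA C _ x).choose_spec]
    have : specHom B Hh (MTAct.cone (H := Hh) C) = 1 := by
      rw [specHom_eq]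
      exact map_one _
    rw [this, one]
  mul C _ _ χ χ' x := by
    apply ξ_injective j hA
    rw [(exists_pt N hN act nil j hA C _ x).choose_spec,
      (exists_pt N hN act nil j hA C χ _).choose_spec,
      (exists_pt N hN act nil j hA C χ' x).choose_spec]
    have : specHom B Hh (MTAct.cmul χ χ') = specHom B Hh χ * specHom B Hh χ' := by
      rw [specHom_eq, specHom_eq, specHom_eq, ← map_mul]
      rfl
    rw [this, mul]

end model2

section model3

variable {B : Type u} [CommRing B] (N : Ideal B) (hN : IsNilpotent N)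
  {Hh : Type u} [CommRing Hh] [Bialgebra B Hh]
  {I : Type*} [DecidableEq I] (b : Module.Basis I B Hh)
  (hgl : ∀ i, Coalgebra.comul (R := B) (b i) = b i ⊗ₜ[B] b i) (e : I) (he : b e = 1)
  {X' : Over (Spec (CommRingCat.of B))}
  (act : (Spec (.of Hh)).asOver (Spec (.of B)) ⊗ X' ⟶ X')
  (one : ∀ (Y : Over (Spec (CommRingCat.of B))) (x : Y ⟶ X'),
    lift (1 : Y ⟶ (Spec (.of Hh)).asOver (Spec (.of B))) x ≫ act = x)
  (mul : ∀ (Y : Over (Spec (CommRingCat.of B)))
    (g h : Y ⟶ (Spec (.of Hh)).asOver (Spec (.of B))) (x : Y ⟶ X'),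
    lift (g * h) x ≫ act = lift g (lift h x ≫ act) ≫ act)
  (nil : ∀ (C : Type u) [CommRing C] [Algebra B C], (∀ n ∈ N, algebraMap B C n = 0) →
    ∀ (g : (Spec (.of C)).asOver (Spec (.of B)) ⟶ (Spec (.of Hh)).asOver (Spec (.of B)))
      (x : (Spec (.of C)).asOver (Spec (.of B)) ⟶ X'), lift g x ≫ act = x)

include hN b hgl e he one mul nil in
theorem pt_trivial {A : Type u} [CommRing A] [Algebra B A] (j : Spec (CommRingCat.of A) ⟶ X'.left)
    [IsOpenImmersion j] (hA : j ≫ X'.hom = Spec.map (CommRingCat.ofHom (algebraMap B A)))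
    (C : Type u) [CommRing C] [Algebra B C] (χ : Hh →ₐ[B] C) (x : A →ₐ[B] C) :
    lift (specHom B Hh χ) (ξ j hA x) ≫ act = ξ j hA x := by
  have hnil : ∀ (C : Type u) [CommRing C] [Algebra B C], (∀ n ∈ N, algebraMap B C n = 0) →
      ∀ (χ : Hh →ₐ[B] C) (x : A →ₐ[B] C), (ptAct N hN act one mul nil j hA).Φ C χ x = x := by
    intro C _ _ hC χ x
    apply ξ_injective j hA
    exact (exists_pt N hN act nil j hA C χ x).choose_spec.trans (nil C hC _ _)
  have h := MTAct.trivial (ptAct N hN act one mul nil j hA) b hgl e he N hN hnil C χ x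
  have h2 := (exists_pt N hN act nil j hA C χ x).choose_spec
  rw [← h2]
  exact congrArg (ξ j hA) h

include hN b hgl e he one mul nil in
theorem piece_trivial {A : Type u} [CommRing A] (j : Spec (CommRingCat.of A) ⟶ X'.left)
    (hj : IsOpenImmersion j) (C : Type u) [CommRing C]
    (p : Spec (CommRingCat.of C) ⟶ ((Spec (.of Hh)).asOver (Spec (.of B)) ⊗ X').left)
    (hp : Set.range (p ≫ (snd ((Spec (.of Hh)).asOver (Spec (.of B))) X').left) ⊆ Set.range j) :
    p ≫ act.left = p ≫ (snd ((Spec (.of Hh)).asOver (Spec (.of B))) X').left := by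
  -- the algebra structures
  let φA : CommRingCat.of B ⟶ CommRingCat.of A := Spec.preimage (j ≫ X'.hom)
  letI : Algebra B A := φA.hom.toAlgebra
  have hA : j ≫ X'.hom = Spec.map (CommRingCat.ofHom (algebraMap B A)) :=
    (Spec.map_preimage _).symm
  let φC : CommRingCat.of B ⟶ CommRingCat.of C :=
    Spec.preimage (p ≫ ((Spec (.of Hh)).asOver (Spec (.of B)) ⊗ X').hom)
  letI : Algebra B C := φC.hom.toAlgebra
  have hC : Spec.map (CommRingCat.ofHom (algebraMap B C)) =
      p ≫ ((Spec (.of Hh)).asOver (Spec (.of B)) ⊗ X').hom := Spec.map_preimage _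
  let pt : (Spec (.of C)).asOver (Spec (.of B)) ⟶ (Spec (.of Hh)).asOver (Spec (.of B)) ⊗ X' :=
    Over.homMk p hC.symm
  obtain ⟨x, hx⟩ := exists_ξ_eq j hA (pt ≫ snd _ X') hp
  let χ : Hh →ₐ[B] C := ((Spec.mapMulEquiv (R := B) (S := Hh) (T := C)).symm (pt ≫ fst _ X')).ofConv
  have hχ : specHom B Hh χ = pt ≫ fst _ X' :=
    (Spec.mapMulEquiv (R := B) (S := Hh) (T := C)).apply_symm_apply _
  have h := pt_trivial N hN b hgl e he act one mul nil j hA C χ x
  rw [hχ, hx, lift_comp_fst_snd] at h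
  exact congrArg (fun f => f.left) h

include hN b hgl e he one mul nil in
/-- local model: an action of the spectrum of a bialgebra with a basis of group-like elements
which is trivial modulo a nilpotent ideal of the base is trivial -/
theorem act_eq_snd : act = snd ((Spec (.of Hh)).asOver (Spec (.of B))) X' := by
  apply Over.OverMorphism.ext
  let 𝒱 := X'.left.affineOpenCover
  let 𝒲 := 𝒱.openCover.pullback₁ (snd ((Spec (.of Hh)).asOver (Spec (.of B))) X').left
  apply Scheme.Cover.hom_ext 𝒲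
  intro i
  apply Scheme.Cover.hom_ext (𝒲.X i).affineOpenCover.openCover
  intro k
  rw [← Category.assoc, ← Category.assoc]
  have hj : IsOpenImmersion (𝒱.f i) := 𝒱.map_prop i
  refine piece_trivial N hN b hgl e he act one mul nil (A := 𝒱.X i) (𝒱.f i) hj
    (((𝒲.X i).affineOpenCover).X k) _ ?_
  rintro _ ⟨c, rfl⟩
  refine ⟨((((𝒲.X i).affineOpenCover).f k) ≫ pullback.snd
    (snd ((Spec (.of Hh)).asOver (Spec (.of B))) X').left (𝒱.f i)) c, ?_⟩
  have hmor : ((((𝒲.X i).affineOpenCover).f k) ≫ pullback.snd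
      (snd ((Spec (.of Hh)).asOver (Spec (.of B))) X').left (𝒱.f i)) ≫ 𝒱.f i =
      ((𝒲.X i).affineOpenCover.openCover.f k ≫ 𝒲.f i) ≫
        (snd ((Spec (.of Hh)).asOver (Spec (.of B))) X').left := by
    rw [Category.assoc, Category.assoc]
    congr 1
    exact pullback.condition.symm
  exact congrArg (fun f : Spec ((𝒲.X i).affineOpenCover.X k) ⟶ X'.left => f c) hmor

end model3

end Groth.Agent.Lib.Helper14.MTActGeom
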