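import Groth.Agent.Lib.Helper14.MTAct

set_option autoImplicit false

namespace Groth.Agent.Lib.Helper14.MTRigid

open TensorProduct Coalgebra
open Groth.Agent.Lib.Helper14.MTAct

universe u

/-- a natural family, parametrised by the points of `Spec C`, of endomorphisms (on points) of the
monoid functor of a bialgebra `H`, multiplicative in the second variable -/
structure PtAut (B C H : Type u) [CommRing B] [CommRing C] [Algebra B C] [CommRing H]
    [Bialgebra B H] where
  Φ : ∀ (C' : Type u) [CommRing C'] [Algebra B C'], (C →ₐ[B] C') → (H →ₐ[B] C') → (H →ₐ[B] C')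
  nat : ∀ (C' C'' : Type u) [CommRing C'] [Algebra B C'] [CommRing C''] [Algebra B C'']
    (f : C' →ₐ[B] C'') (g : C →ₐ[B] C') (d : H →ₐ[B] C'),
    f.comp (Φ C' g d) = Φ C'' (f.comp g) (f.comp d)
  mul : ∀ (C' : Type u) [CommRing C'] [Algebra B C'] (g : C →ₐ[B] C') (d d' : H →ₐ[B] C'),
    Φ C' g (cmul d d') = cmul (Φ C' g d) (Φ C' g d')

section

variable {B C H : Type u} [CommRing B] [CommRing C] [Algebra B C] [CommRing H] [Bialgebra B H]
  (P : PtAut B C H) {ι : Type*} [DecidableEq ι] (b : Module.Basis ι B H)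
  (hgl : ∀ i, comul (R := B) (b i) = b i ⊗ₜ[B] b i)

/-- the universal coaction -/
noncomputable def PtAut.ρ : H →ₐ[B] C ⊗[B] H :=
  P.Φ (C ⊗[B] H) Algebra.TensorProduct.includeLeft Algebra.TensorProduct.includeRight

lemma PtAut.Φ_eq {C' : Type u} [CommRing C'] [Algebra B C'] (g : C →ₐ[B] C') (d : H →ₐ[B] C') :
    P.Φ C' g d = (θ g d).comp P.ρ := by
  rw [PtAut.ρ, P.nat, θ_comp_incL, θ_comp_incR]

/-- the matrix coefficients of the universal coaction -/
noncomputable def cf (i k : ι) : C := coef b C k (P.ρ (b i))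

omit [DecidableEq ι] in
include hgl in
lemma cmul_apply_gl {C' : Type u} [CommRing C'] [Algebra B C'] (d d' : H →ₐ[B] C') (i : ι) :
    cmul d d' (b i) = d (b i) * d' (b i) := by
  simp [cmul, hgl]

lemma rhs_eq' (k l : ι) (z z' : C ⊗[B] H) :
    coef₂ (A := C) b k l
      (θ ((Algebra.TensorProduct.includeLeft : C ⊗[B] H →ₐ[B] (C ⊗[B] H) ⊗[B] H).comp
          (Algebra.TensorProduct.includeLeft : C →ₐ[B] C ⊗[B] H))
        ((Algebra.TensorProduct.includeLeft : C ⊗[B] H →ₐ[B] (C ⊗[B] H) ⊗[B] H).comp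
          (Algebra.TensorProduct.includeRight : H →ₐ[B] C ⊗[B] H)) z *
       θ ((Algebra.TensorProduct.includeLeft : C ⊗[B] H →ₐ[B] (C ⊗[B] H) ⊗[B] H).comp
          (Algebra.TensorProduct.includeLeft : C →ₐ[B] C ⊗[B] H))
        (Algebra.TensorProduct.includeRight : H →ₐ[B] (C ⊗[B] H) ⊗[B] H) z') =
      coef b C k z * coef b C l z' := by
  refine LinearMap.congr_fun (f := coef₂ (A := C) b k l ∘ₗ
      (LinearMap.mulRight B (θ _ _ z')) ∘ₗ (θ _ _).toLinearMap)
    (g := (LinearMap.mulRight B (coef b C l z')) ∘ₗ coef b C k)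
    (ext_basis b _ _ fun a m => ?_) z
  simp only [LinearMap.comp_apply, AlgHom.toLinearMap_apply, LinearMap.mulRight_apply]
  refine LinearMap.congr_fun (f := coef₂ (A := C) b k l ∘ₗ
      (LinearMap.mulLeft B (θ _ _ (a ⊗ₜ[B] b m))) ∘ₗ (θ _ _).toLinearMap)
    (g := (LinearMap.mulLeft B (coef b C k (a ⊗ₜ[B] b m))) ∘ₗ coef b C l)
    (ext_basis b _ _ fun a' m' => ?_) z'
  simp only [LinearMap.comp_apply, AlgHom.toLinearMap_apply, LinearMap.mulLeft_apply]
  simp [θ, coef₂_tmul, coef_tmul]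

include hgl in
/-- the matrix coefficients in each row are orthogonal idempotents -/
lemma cf_mul (i k l : ι) : cf P b i k * cf P b i l = if k = l then cf P b i l else 0 := by
  have h := P.mul ((C ⊗[B] H) ⊗[B] H)
    ((Algebra.TensorProduct.includeLeft : C ⊗[B] H →ₐ[B] (C ⊗[B] H) ⊗[B] H).comp
      (Algebra.TensorProduct.includeLeft : C →ₐ[B] C ⊗[B] H))
    ((Algebra.TensorProduct.includeLeft : C ⊗[B] H →ₐ[B] (C ⊗[B] H) ⊗[B] H).comp
      (Algebra.TensorProduct.includeRight : H →ₐ[B] C ⊗[B] H))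
    (Algebra.TensorProduct.includeRight : H →ₐ[B] (C ⊗[B] H) ⊗[B] H)
  have h2 := congrArg (fun f : H →ₐ[B] (C ⊗[B] H) ⊗[B] H => coef₂ (A := C) b k l (f (b i))) h
  rw [cmul_apply_gl b hgl, P.Φ_eq, P.Φ_eq, P.Φ_eq, AlgHom.comp_apply, AlgHom.comp_apply,
    AlgHom.comp_apply, lhs_eq b hgl, rhs_eq'] at h2
  exact h2.symm

include hgl in
lemma cf_idem (i : ι) : IsIdempotentElem (cf P b i i) := by
  have := cf_mul P b hgl i i i
  rwa [if_pos rfl] at this

omit [DecidableEq ι] in
lemma coef_θ {C' : Type u} [CommRing C'] [Algebra B C'] (g : C →ₐ[B] C') (k : ι)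
    (z : C ⊗[B] H) :
    coef b C' k (θ ((Algebra.TensorProduct.includeLeft : C' →ₐ[B] C' ⊗[B] H).comp g)
      (Algebra.TensorProduct.includeRight : H →ₐ[B] C' ⊗[B] H) z) = g (coef b C k z) := by
  classical
  refine LinearMap.congr_fun (f := coef b C' k ∘ₗ (θ _ _).toLinearMap)
    (g := g.toLinearMap ∘ₗ coef b C k) (ext_basis b _ _ fun a m => ?_) z
  simp only [LinearMap.comp_apply, AlgHom.toLinearMap_apply]
  simp [θ, coef_tmul]
  split_ifs <;> simp

/-- a point which acts trivially sees the identity matrix -/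
lemma cf_eval_of_fix {C' : Type u} [CommRing C'] [Algebra B C'] (g₁ : C →ₐ[B] C')
    (h : P.Φ (C' ⊗[B] H) ((Algebra.TensorProduct.includeLeft : C' →ₐ[B] C' ⊗[B] H).comp g₁)
      Algebra.TensorProduct.includeRight = Algebra.TensorProduct.includeRight) (i k : ι) :
    g₁ (cf P b i k) = if i = k then 1 else 0 := by
  rw [P.Φ_eq] at h
  have h1 := congrArg (fun f : H →ₐ[B] C' ⊗[B] H => coef b C' k (f (b i))) h
  simp only [AlgHom.comp_apply] at h1
  rw [coef_θ] at h1
  rw [cf, h1, Algebra.TensorProduct.includeRight_apply, coef_tmul]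

include hgl in
/-- if the diagonal coefficients are all one, the family is trivial -/
lemma Φ_eq_self (hc : ∀ i, cf P b i i = 1) {C' : Type u} [CommRing C'] [Algebra B C']
    (g : C →ₐ[B] C') (d : H →ₐ[B] C') : P.Φ C' g d = d := by
  have hρ : ∀ i, P.ρ (b i) = (1 : C) ⊗ₜ[B] b i := by
    intro i
    apply eq_of_coef_eq b
    intro k
    rw [coef_tmul]
    by_cases hk : i = k
    · subst hk
      rw [if_pos rfl]
      exact hc i
    · rw [if_neg hk]
      have h1 := cf_mul P b hgl i k i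
      rw [hc i, mul_one, if_neg (Ne.symm hk)] at h1
      exact h1
  rw [P.Φ_eq]
  apply AlgHom.toLinearMap_injective
  apply b.ext
  intro i
  simp only [AlgHom.toLinearMap_apply, AlgHom.comp_apply]
  rw [hρ i]
  simp [θ]

end

end Groth.Agent.Lib.Helper14.MTRigid
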