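import Mathlib
import Groth.Agent.Lib.Helper14.MTRigid
import Groth.Agent.Lib.Helper14.MTActGeom
import Groth.Agent.Lib.Helper14.GrpBridgeHom

set_option autoImplicit false

namespace Groth.Agent.Lib.Helper14.MTRigidGeom

open CategoryTheory MonoidalCategory CartesianMonoidalCategory MonObj GrpObj AlgebraicGeometry
open CategoryTheory.Limits TensorProduct
open Groth.Agent.Lib.Helper14 GrpBridge MTActGeom

universe u

section chart

variable {B : Type u} [CommRing B] {Hh : Type u} [CommRing Hh] [Bialgebra B Hh]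
  {K' : Over (Spec (CommRingCat.of B))}
  (act : K' ⊗ (Spec (.of Hh)).asOver (Spec (.of B)) ⟶ (Spec (.of Hh)).asOver (Spec (.of B)))
  (hmul : ∀ (Y : Over (Spec (CommRingCat.of B))) (k : Y ⟶ K')
    (d d' : Y ⟶ (Spec (.of Hh)).asOver (Spec (.of B))),
    lift k (d * d') ≫ act = (lift k d ≫ act) * (lift k d' ≫ act))
  {C : Type u} [CommRing C] [Algebra B C] (j : Spec (CommRingCat.of C) ⟶ K'.left)
  (hC : j ≫ K'.hom = Spec.map (CommRingCat.ofHom (algebraMap B C)))

/-- the value of the family on a pair of points -/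
noncomputable def Φ₀ (C' : Type u) [CommRing C'] [Algebra B C'] (g : C →ₐ[B] C')
    (d : Hh →ₐ[B] C') : Hh →ₐ[B] C' :=
  WithConv.ofConv ((Spec.mapMulEquiv (R := B) (S := Hh) (T := C')).symm
    (lift (ξ j hC g) (specHom B Hh d) ≫ act))

lemma specHom_Φ₀ (C' : Type u) [CommRing C'] [Algebra B C'] (g : C →ₐ[B] C')
    (d : Hh →ₐ[B] C') :
    specHom B Hh (Φ₀ act j hC C' g d) = lift (ξ j hC g) (specHom B Hh d) ≫ act := by
  rw [specHom_eq, Φ₀]
  exact (Spec.mapMulEquiv (R := B) (S := Hh) (T := C')).apply_symm_apply _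

lemma specHom_injective {C' : Type u} [CommRing C'] [Algebra B C'] (d d' : Hh →ₐ[B] C')
    (h : specHom B Hh d = specHom B Hh d') : d = d' := by
  rw [specHom_eq, specHom_eq] at h
  exact WithConv.toConv_injective ((Spec.mapMulEquiv (R := B) (S := Hh) (T := C')).injective h)

include hmul in
/-- the family of endomorphisms on points attached to a chart -/
noncomputable def ptAut : MTRigid.PtAut B C Hh where
  Φ C' _ _ g d := Φ₀ act j hC C' g d
  nat C' C'' _ _ _ _ f g d := by
    apply specHom_injective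
    rw [specHom_comp, specHom_Φ₀, specHom_Φ₀, ← Category.assoc, comp_lift, ξ_comp, specHom_comp]
  mul C' _ _ g d d' := by
    apply specHom_injective
    have h1 : ∀ δ δ' : Hh →ₐ[B] C',
        specHom B Hh (MTAct.cmul δ δ') = specHom B Hh δ * specHom B Hh δ' := by
      intro δ δ'
      rw [specHom_eq, specHom_eq, specHom_eq, ← map_mul]
      rfl
    rw [specHom_Φ₀, h1, h1, hmul, specHom_Φ₀, specHom_Φ₀]

include hmul in
lemma lift_ξ_specHom_act (C' : Type u) [CommRing C'] [Algebra B C'] (g : C →ₐ[B] C')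
    (d : Hh →ₐ[B] C') :
    lift (ξ j hC g) (specHom B Hh d) ≫ act = specHom B Hh ((ptAut act hmul j hC).Φ C' g d) :=
  (specHom_Φ₀ act j hC C' g d).symm

variable {I : Type*} [DecidableEq I] (b : Module.Basis I B Hh)
  (hgl : ∀ i, Coalgebra.comul (R := B) (b i) = b i ⊗ₜ[B] b i)

include hgl in
/-- on a chart whose diagonal coefficients are one the action is the projection -/
theorem piece_trivial [IsOpenImmersion j] (hc : ∀ i, MTRigid.cf (ptAut act hmul j hC) b i i = 1)
    (C' : Type u) [CommRing C']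
    (p : Spec (CommRingCat.of C') ⟶ (K' ⊗ (Spec (.of Hh)).asOver (Spec (.of B))).left)
    (hp : Set.range (p ≫ (fst K' ((Spec (.of Hh)).asOver (Spec (.of B)))).left) ⊆ Set.range j) :
    p ≫ act.left = p ≫ (snd K' ((Spec (.of Hh)).asOver (Spec (.of B)))).left := by
  let φC : CommRingCat.of B ⟶ CommRingCat.of C' :=
    Spec.preimage (p ≫ (K' ⊗ (Spec (.of Hh)).asOver (Spec (.of B))).hom)
  letI : Algebra B C' := φC.hom.toAlgebra
  have hC' : Spec.map (CommRingCat.ofHom (algebraMap B C')) =
      p ≫ (K' ⊗ (Spec (.of Hh)).asOver (Spec (.of B))).hom := Spec.map_preimage _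
  let pt : (Spec (.of C')).asOver (Spec (.of B)) ⟶ K' ⊗ (Spec (.of Hh)).asOver (Spec (.of B)) :=
    Over.homMk p hC'.symm
  obtain ⟨g, hg⟩ := exists_ξ_eq j hC (pt ≫ fst K' _) hp
  let δ : Hh →ₐ[B] C' :=
    ((Spec.mapMulEquiv (R := B) (S := Hh) (T := C')).symm (pt ≫ snd K' _)).ofConv
  have hδ : specHom B Hh δ = pt ≫ snd K' _ :=
    (Spec.mapMulEquiv (R := B) (S := Hh) (T := C')).apply_symm_apply _
  have h := lift_ξ_specHom_act act hmul j hC C' g δ
  rw [MTRigid.Φ_eq_self (ptAut act hmul j hC) b hgl hc, hg, hδ, lift_comp_fst_snd] at h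
  exact congrArg (fun f => f.left) h

end chart

section idem

lemma eq_zero_of_idem_nilpotent {R : Type*} [CommRing R] (e : R) (he : IsIdempotentElem e)
    (hn : IsNilpotent e) : e = 0 := by
  obtain ⟨n, hn⟩ := hn
  cases n with
  | zero =>
    rw [pow_zero] at hn
    rw [← mul_one e, hn, mul_zero]
  | succ n => rw [← he.pow_succ_eq n, hn]

/-- idempotents of a ring with preconnected spectrum are trivial -/
lemma eq_zero_or_one_of_idem {R : Type*} [CommRing R] [PreconnectedSpace (PrimeSpectrum R)]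
    (e : R) (he : IsIdempotentElem e) : e = 0 ∨ e = 1 := by
  have hcl : IsClopen ((PrimeSpectrum.basicOpen e : TopologicalSpace.Opens (PrimeSpectrum R)) :
      Set (PrimeSpectrum R)) :=
    PrimeSpectrum.isClopen_iff.mpr ⟨e, he, rfl⟩
  rcases _root_.isClopen_iff.mp hcl with h | h
  · left
    apply eq_zero_of_idem_nilpotent e he
    rw [← PrimeSpectrum.basicOpen_eq_bot_iff]
    exact TopologicalSpace.Opens.ext h
  · right
    have h2 : ((PrimeSpectrum.basicOpen (1 - e) : TopologicalSpace.Opens (PrimeSpectrum R)) :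
        Set (PrimeSpectrum R)) = ∅ := by
      rw [← PrimeSpectrum.zeroLocus_eq_basicOpen_of_isIdempotentElem e he]
      have h3 := PrimeSpectrum.basicOpen_eq_zeroLocus_compl e
      rw [h] at h3
      exact Set.compl_univ_iff.mp h3.symm
    have h4 : (1 - e) = 0 := by
      apply eq_zero_of_idem_nilpotent _ he.one_sub
      rw [← PrimeSpectrum.basicOpen_eq_bot_iff]
      exact TopologicalSpace.Opens.ext h2
    exact (sub_eq_zero.mp h4).symm

end idem

section charts

variable {B : Type u} [CommRing B] {Hh : Type u} [CommRing Hh] [Bialgebra B Hh]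
  {K' : Over (Spec (CommRingCat.of B))}
  (act : K' ⊗ (Spec (.of Hh)).asOver (Spec (.of B)) ⟶ (Spec (.of Hh)).asOver (Spec (.of B)))
  (hmul : ∀ (Y : Over (Spec (CommRingCat.of B))) (k : Y ⟶ K')
    (d d' : Y ⟶ (Spec (.of Hh)).asOver (Spec (.of B))),
    lift k (d * d') ≫ act = (lift k d ≫ act) * (lift k d' ≫ act))
  {I : Type*} [DecidableEq I] (b : Module.Basis I B Hh)
  (hgl : ∀ i, Coalgebra.comul (R := B) (b i) = b i ⊗ₜ[B] b i)

/-- the canonical algebra structure on a chart -/
@[reducible] noncomputable def chartAlg {C : Type u} [CommRing C]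
    (j : Spec (CommRingCat.of C) ⟶ K'.left) : Algebra B C :=
  (Spec.preimage (j ≫ K'.hom)).hom.toAlgebra

lemma chart_hC {C : Type u} [CommRing C] (j : Spec (CommRingCat.of C) ⟶ K'.left) :
    j ≫ K'.hom = Spec.map (CommRingCat.ofHom (@algebraMap B C _ _ (chartAlg j))) :=
  (Spec.map_preimage _).symm

/-- the diagonal coefficients of a chart -/
noncomputable def dcf {C : Type u} [CommRing C] (j : Spec (CommRingCat.of C) ⟶ K'.left)
    (i : I) : C :=
  letI := chartAlg (K' := K') j
  MTRigid.cf (ptAut act hmul j (chart_hC j)) b i i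

include hgl in
/-- if the diagonal coefficients of all charts of an affine open cover are one, the action is
trivial -/
theorem act_eq_snd_of_cover (𝒱 : K'.left.AffineOpenCover)
    (hc : ∀ α i, dcf act hmul b (𝒱.f α) i = 1) :
    act = snd K' ((Spec (.of Hh)).asOver (Spec (.of B))) := by
  apply Over.OverMorphism.ext
  let 𝒲 := 𝒱.openCover.pullback₁ (fst K' ((Spec (.of Hh)).asOver (Spec (.of B)))).left
  apply Scheme.Cover.hom_ext 𝒲
  intro α
  apply Scheme.Cover.hom_ext (𝒲.X α).affineOpenCover.openCover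
  intro k
  rw [← Category.assoc, ← Category.assoc]
  letI := chartAlg (K' := K') (𝒱.f α)
  refine piece_trivial act hmul (𝒱.f α) (chart_hC _) b hgl (hc α)
    (((𝒲.X α).affineOpenCover).X k) _ ?_
  rintro _ ⟨c, rfl⟩
  refine ⟨((((𝒲.X α).affineOpenCover).f k) ≫ pullback.snd
    (fst K' ((Spec (.of Hh)).asOver (Spec (.of B)))).left (𝒱.f α)) c, ?_⟩
  have hmor : ((((𝒲.X α).affineOpenCover).f k) ≫ pullback.snd
      (fst K' ((Spec (.of Hh)).asOver (Spec (.of B)))).left (𝒱.f α)) ≫ 𝒱.f α =
      ((𝒲.X α).affineOpenCover.openCover.f k ≫ 𝒲.f α) ≫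
        (fst K' ((Spec (.of Hh)).asOver (Spec (.of B)))).left := by
    rw [Category.assoc, Category.assoc]
    congr 1
    exact pullback.condition.symm
  exact congrArg (fun f : Spec ((𝒲.X α).affineOpenCover.X k) ⟶ K'.left => f c) hmor

include hgl in
/-- on a chart with preconnected spectrum containing the unit section, the diagonal
coefficients are one -/
theorem dcf_eq_one_of_connected [GrpObj K']
    (hone : ∀ (Y : Over (Spec (CommRingCat.of B)))
      (d : Y ⟶ (Spec (.of Hh)).asOver (Spec (.of B))), lift (1 : Y ⟶ K') d ≫ act = d)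
    {C : Type u} [CommRing C] (j : Spec (CommRingCat.of C) ⟶ K'.left) [IsOpenImmersion j]
    [PreconnectedSpace (PrimeSpectrum C)]
    (hunit : Set.range (1 : (Spec (.of B)).asOver (Spec (.of B)) ⟶ K').left ⊆ Set.range j)
    (i : I) : dcf act hmul b j i = 1 := by
  letI := chartAlg (K' := K') j
  obtain ⟨ε, hε⟩ := exists_ξ_eq j (chart_hC j) (1 : (Spec (.of B)).asOver (Spec (.of B)) ⟶ K') hunit
  have hfix : (ptAut act hmul j (chart_hC j)).Φ (B ⊗[B] Hh)
      ((Algebra.TensorProduct.includeLeft : B →ₐ[B] B ⊗[B] Hh).comp ε)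
      Algebra.TensorProduct.includeRight = Algebra.TensorProduct.includeRight := by
    apply specHom_injective
    change specHom B Hh (Φ₀ act j (chart_hC j) _ _ _) = _
    rw [specHom_Φ₀, ξ_comp, hε, MonObj.comp_one, hone]
  have h1 := MTRigid.cf_eval_of_fix (ptAut act hmul j (chart_hC j)) b ε hfix i i
  rw [if_pos rfl] at h1
  have hid := MTRigid.cf_idem (ptAut act hmul j (chart_hC j)) b hgl i
  rcases eq_zero_or_one_of_idem _ hid with h0 | h0
  · rw [h0, map_zero] at h1
    have hB : (algebraMap B C) 0 = (algebraMap B C) 1 := by rw [h1]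
    rw [map_zero, map_one] at hB
    have : Subsingleton C := subsingleton_of_zero_eq_one hB
    exact Subsingleton.elim _ _
  · exact h0

include hgl hmul in
/-- local model: a connected affine group acting by group automorphisms on the spectrum of a
bialgebra with a basis of group-like elements acts trivially -/
theorem act_eq_snd_of_affine_connected [GrpObj K'] [IsAffine K'.left] [ConnectedSpace K'.left]
    (hone : ∀ (Y : Over (Spec (CommRingCat.of B)))
      (d : Y ⟶ (Spec (.of Hh)).asOver (Spec (.of B))), lift (1 : Y ⟶ K') d ≫ act = d) :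
    act = snd K' ((Spec (.of Hh)).asOver (Spec (.of B))) := by
  have hsurj : Function.Surjective K'.left.isoSpec.inv :=
    (Scheme.Hom.homeomorph K'.left.isoSpec.inv).surjective
  let 𝒱 : Scheme.AffineOpenCover.{u} K'.left :=
    { I₀ := PUnit.{u+1}
      X := fun _ => Γ(K'.left, ⊤)
      f := fun _ => K'.left.isoSpec.inv
      idx := fun _ => PUnit.unit
      covers := fun x => hsurj x
      map_prop := fun _ => inferInstance }
  haveI : ConnectedSpace (PrimeSpectrum Γ(K'.left, ⊤)) :=
    (Scheme.Hom.homeomorph K'.left.isoSpec.hom).connectedSpace_iff.mp inferInstance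
  refine act_eq_snd_of_cover act hmul b hgl 𝒱 (fun α i => ?_)
  refine dcf_eq_one_of_connected act hmul b hgl hone (K'.left.isoSpec.inv) ?_ i
  intro y _
  exact hsurj y

end charts

end Groth.Agent.Lib.Helper14.MTRigidGeom
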