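import Mathlib
import Groth.Agent.Lib.Helper14.MTRigidGeom

set_option autoImplicit false

namespace Groth.Agent.Lib.Helper14.MTRigidGeom2

open CategoryTheory MonoidalCategory CartesianMonoidalCategory MonObj GrpObj AlgebraicGeometry
open CategoryTheory.Limits TensorProduct
open Groth.Agent.Lib.Helper14 GrpBridge MTActGeom MTRigidGeom

universe u

section funct

variable {B : Type u} [CommRing B] {Hh : Type u} [CommRing Hh] [Bialgebra B Hh]
  {K' : Over (Spec (CommRingCat.of B))}
  (act : K' ⊗ (Spec (.of Hh)).asOver (Spec (.of B)) ⟶ (Spec (.of Hh)).asOver (Spec (.of B)))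
  (hmul : ∀ (Y : Over (Spec (CommRingCat.of B))) (k : Y ⟶ K')
    (d d' : Y ⟶ (Spec (.of Hh)).asOver (Spec (.of B))),
    lift k (d * d') ≫ act = (lift k d ≫ act) * (lift k d' ≫ act))
  {I : Type*} [DecidableEq I] (b : Module.Basis I B Hh)

/-- functoriality of the matrix coefficients in the chart -/
theorem cf_comp {C C₁ : Type u} [CommRing C] [Algebra B C] [CommRing C₁] [Algebra B C₁]
    (j : Spec (CommRingCat.of C) ⟶ K'.left)
    (hC : j ≫ K'.hom = Spec.map (CommRingCat.ofHom (algebraMap B C)))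
    (j₁ : Spec (CommRingCat.of C₁) ⟶ K'.left)
    (hC₁ : j₁ ≫ K'.hom = Spec.map (CommRingCat.ofHom (algebraMap B C₁)))
    (φ : C →ₐ[B] C₁) (hj : j₁ = Spec.map (CommRingCat.ofHom (φ : C →+* C₁)) ≫ j) (i k : I) :
    MTRigid.cf (ptAut act hmul j₁ hC₁) b i k = φ (MTRigid.cf (ptAut act hmul j hC) b i k) := by
  have hξ : ∀ (C' : Type u) [CommRing C'] [Algebra B C'] (g : C₁ →ₐ[B] C'),
      ξ j₁ hC₁ g = ξ j hC (g.comp φ) := by
    intro C' _ _ g
    ext1
    rw [ξ_left, ξ_left, hj, ← Category.assoc, ← Spec.map_comp]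
    rfl
  have hΦ : ∀ (C' : Type u) [CommRing C'] [Algebra B C'] (g : C₁ →ₐ[B] C') (d : Hh →ₐ[B] C'),
      (ptAut act hmul j₁ hC₁).Φ C' g d = (ptAut act hmul j hC).Φ C' (g.comp φ) d := by
    intro C' _ _ g d
    apply specHom_injective
    change specHom B Hh (Φ₀ act j₁ hC₁ C' g d) = specHom B Hh (Φ₀ act j hC C' (g.comp φ) d)
    rw [specHom_Φ₀, specHom_Φ₀, hξ]
  have hρ : (ptAut act hmul j₁ hC₁).ρ =
      (MTAct.θ ((Algebra.TensorProduct.includeLeft : C₁ →ₐ[B] C₁ ⊗[B] Hh).comp φ)
        (Algebra.TensorProduct.includeRight : Hh →ₐ[B] C₁ ⊗[B] Hh)).comp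
        (ptAut act hmul j hC).ρ := by
    rw [MTRigid.PtAut.ρ, hΦ, MTRigid.PtAut.Φ_eq]
  rw [MTRigid.cf, hρ, AlgHom.comp_apply, MTRigid.coef_θ]
  rfl

/-- functoriality of the diagonal coefficients -/
theorem dcf_comp {C C₁ : Type u} [CommRing C] [CommRing C₁]
    (j : Spec (CommRingCat.of C) ⟶ K'.left) (φ : C →+* C₁) (i : I) :
    dcf act hmul b (Spec.map (CommRingCat.ofHom φ) ≫ j) i = φ (dcf act hmul b j i) := by
  letI := chartAlg (K' := K') j
  letI := chartAlg (K' := K') (Spec.map (CommRingCat.ofHom φ) ≫ j)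
  have hcomm : ∀ r : B, φ (algebraMap B C r) = algebraMap B C₁ r := by
    have h1 : CommRingCat.ofHom (algebraMap B C) ≫ CommRingCat.ofHom φ =
        CommRingCat.ofHom (algebraMap B C₁) := by
      apply Spec.map_injective
      rw [Spec.map_comp, ← chart_hC j, ← chart_hC (Spec.map (CommRingCat.ofHom φ) ≫ j),
        Category.assoc]
    intro r
    exact congrArg (fun l => l.hom r) h1
  let φ' : C →ₐ[B] C₁ := ⟨φ, hcomm⟩
  exact cf_comp act hmul b j (chart_hC j) _ (chart_hC _) φ' rfl i i

end funct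

section residue

/-- the residue field point of a point of a chart factors through the chart -/
theorem exists_residue_hom {X : Scheme.{u}} {C : Type u} [CommRing C]
    (j : Spec (CommRingCat.of C) ⟶ X) [IsOpenImmersion j] (x : Spec (CommRingCat.of C)) :
    ∃ g : C →+* X.residueField (j x),
      Spec.map (CommRingCat.ofHom g) ≫ j = X.fromSpecResidueField (j x) ∧
      RingHom.ker g = x.asIdeal := by
  have hr : Set.range (X.fromSpecResidueField (j x)) ⊆ Set.range j := by
    rw [Scheme.range_fromSpecResidueField]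
    rintro _ rfl
    exact ⟨x, rfl⟩
  let l : Spec (X.residueField (j x)) ⟶ Spec (CommRingCat.of C) :=
    IsOpenImmersion.lift j (X.fromSpecResidueField (j x)) hr
  have hl : l ≫ j = X.fromSpecResidueField (j x) := IsOpenImmersion.lift_fac _ _ _
  let g₀ : CommRingCat.of C ⟶ X.residueField (j x) := Spec.preimage l
  have hg₀ : Spec.map g₀ = l := Spec.map_preimage _
  refine ⟨g₀.hom, ?_, ?_⟩
  · show Spec.map g₀ ≫ j = _
    rw [hg₀, hl]
  · let pt : Spec (X.residueField (j x)) := IsLocalRing.closedPoint (X.residueField (j x))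
    have h1 : j (l pt) = j x := by
      rw [← Scheme.Hom.comp_apply, hl, Scheme.fromSpecResidueField_apply]
    have h2 : l pt = x := j.isOpenEmbedding.injective h1
    have h3 : (l pt).asIdeal = Ideal.comap g₀.hom pt.asIdeal := by
      rw [← hg₀]
      rfl
    have h4 : pt.asIdeal = ⊥ := by
      show IsLocalRing.maximalIdeal _ = ⊥
      exact IsLocalRing.maximalIdeal_eq_bot
    have h5 : x.asIdeal = (l pt).asIdeal := congrArg PrimeSpectrum.asIdeal h2.symm
    rw [h5, h3, h4]
    rfl

end residue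

section good

variable {B : Type u} [CommRing B] {Hh : Type u} [CommRing Hh] [Bialgebra B Hh]
  {K' : Over (Spec (CommRingCat.of B))}
  (act : K' ⊗ (Spec (.of Hh)).asOver (Spec (.of B)) ⟶ (Spec (.of Hh)).asOver (Spec (.of B)))
  (hmul : ∀ (Y : Over (Spec (CommRingCat.of B))) (k : Y ⟶ K')
    (d d' : Y ⟶ (Spec (.of Hh)).asOver (Spec (.of B))),
    lift k (d * d') ≫ act = (lift k d ≫ act) * (lift k d' ≫ act))
  {I : Type*} [DecidableEq I] (b : Module.Basis I B Hh)
  (hgl : ∀ i, Coalgebra.comul (R := B) (b i) = b i ⊗ₜ[B] b i)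

include hgl in
lemma dcf_idem {C : Type u} [CommRing C] (j : Spec (CommRingCat.of C) ⟶ K'.left) (i : I) :
    IsIdempotentElem (dcf act hmul b j i) := by
  letI := chartAlg (K' := K') j
  exact MTRigid.cf_idem (ptAut act hmul j (chart_hC j)) b hgl i

/-- the set of points at which the `i`-th character is fixed -/
def Good (i : I) : Set K'.left :=
  {y | dcf act hmul b (K'.left.fromSpecResidueField y) i = 1}

include hgl in
lemma good_chart {C : Type u} [CommRing C] (j : Spec (CommRingCat.of C) ⟶ K'.left)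
    (hj : IsOpenImmersion j) (x : Spec (CommRingCat.of C)) (i : I) :
    j x ∈ Good act hmul b i ↔ dcf act hmul b j i ∉ x.asIdeal := by
  obtain ⟨g, hg, hker⟩ := exists_residue_hom j x
  have h1 : dcf act hmul b (K'.left.fromSpecResidueField (j x)) i = g (dcf act hmul b j i) := by
    rw [← hg]
    exact dcf_comp act hmul b j g i
  have hid : IsIdempotentElem (g (dcf act hmul b j i)) := (dcf_idem act hmul b hgl j i).map g
  rw [Good, Set.mem_setOf_eq, h1, ← hker, RingHom.mem_ker]
  constructor
  · intro h h'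
    rw [h] at h'
    exact one_ne_zero (α := K'.left.residueField (j x)) h'
  · intro h
    have h2 : g (dcf act hmul b j i) * (g (dcf act hmul b j i) - 1) = 0 := by
      rw [mul_sub, hid.eq, _root_.mul_one, sub_self]
    rcases mul_eq_zero.mp h2 with h3 | h3
    · exact absurd h3 h
    · exact sub_eq_zero.mp h3

include hgl in
lemma good_chart_image {C : Type u} [CommRing C] (j : Spec (CommRingCat.of C) ⟶ K'.left)
    (hj : IsOpenImmersion j) (i : I) :
    j '' {x | dcf act hmul b j i ∉ x.asIdeal} ⊆ Good act hmul b i := by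
  rintro _ ⟨x, hx, rfl⟩
  exact (good_chart act hmul b hgl j hj x i).mpr hx

include hgl in
lemma bad_chart_image {C : Type u} [CommRing C] (j : Spec (CommRingCat.of C) ⟶ K'.left)
    (hj : IsOpenImmersion j) (i : I) :
    j '' {x | (1 - dcf act hmul b j i) ∉ x.asIdeal} ⊆ (Good act hmul b i)ᶜ := by
  rintro _ ⟨x, hx, rfl⟩
  rw [Set.mem_compl_iff, good_chart act hmul b hgl j hj x i, not_not]
  have h : dcf act hmul b j i * (1 - dcf act hmul b j i) ∈ x.asIdeal := by
    rw [mul_sub, _root_.mul_one, (dcf_idem act hmul b hgl j i).eq, sub_self]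
    exact zero_mem _
  exact (x.isPrime.mem_or_mem h).resolve_right hx

lemma one_mem_of_mem_of_one_sub_mem {C : Type u} [CommRing C] (J : Ideal C) (e : C)
    (h1 : e ∈ J) (h2 : 1 - e ∈ J) : (1 : C) ∈ J := by
  have h := add_mem h1 h2
  rwa [add_sub_cancel] at h

lemma isOpen_image_setOf_notMem {X : Scheme.{u}} {C : Type u} [CommRing C]
    (j : Spec (CommRingCat.of C) ⟶ X) (hj : IsOpenImmersion j) (e : C) :
    IsOpen (j '' {x | e ∉ x.asIdeal}) := by
  apply j.isOpenEmbedding.isOpenMap
  exact (PrimeSpectrum.basicOpen e).2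

include hgl in
lemma isClopen_good (i : I) : IsClopen (Good act hmul b i) := by
  constructor
  · rw [← isOpen_compl_iff, isOpen_iff_forall_mem_open]
    intro y hy
    obtain ⟨x, hx⟩ := K'.left.affineOpenCover.covers y
    have hj : IsOpenImmersion (K'.left.affineOpenCover.f (K'.left.affineOpenCover.idx y)) :=
      K'.left.affineOpenCover.map_prop _
    refine ⟨_, bad_chart_image act hmul b hgl
      (K'.left.affineOpenCover.f (K'.left.affineOpenCover.idx y)) hj i,
      isOpen_image_setOf_notMem _ hj _, ⟨x, ?_, hx⟩⟩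
    rw [← hx, Set.mem_compl_iff] at hy
    have h1 := good_chart act hmul b hgl
      (K'.left.affineOpenCover.f (K'.left.affineOpenCover.idx y)) hj x i
    have hy' : dcf act hmul b (K'.left.affineOpenCover.f (K'.left.affineOpenCover.idx y)) i ∈
        x.asIdeal := by
      by_contra hc
      exact hy (h1.mpr hc)
    intro h
    apply x.isPrime.ne_top
    rw [Ideal.eq_top_iff_one]
    exact one_mem_of_mem_of_one_sub_mem _ _ hy' h
  · rw [isOpen_iff_forall_mem_open]
    intro y hy
    obtain ⟨x, hx⟩ := K'.left.affineOpenCover.covers y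
    have hj : IsOpenImmersion (K'.left.affineOpenCover.f (K'.left.affineOpenCover.idx y)) :=
      K'.left.affineOpenCover.map_prop _
    refine ⟨_, good_chart_image act hmul b hgl
      (K'.left.affineOpenCover.f (K'.left.affineOpenCover.idx y)) hj i,
      isOpen_image_setOf_notMem _ hj _, ⟨x, ?_, hx⟩⟩
    rw [← hx] at hy
    exact (good_chart act hmul b hgl
      (K'.left.affineOpenCover.f (K'.left.affineOpenCover.idx y)) hj x i).mp hy

end good


section unit

variable {B : Type u} [CommRing B] {Hh : Type u} [CommRing Hh] [Bialgebra B Hh]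
  {K' : Over (Spec (CommRingCat.of B))} [GrpObj K']
  (act : K' ⊗ (Spec (.of Hh)).asOver (Spec (.of B)) ⟶ (Spec (.of Hh)).asOver (Spec (.of B)))
  (hmul : ∀ (Y : Over (Spec (CommRingCat.of B))) (k : Y ⟶ K')
    (d d' : Y ⟶ (Spec (.of Hh)).asOver (Spec (.of B))),
    lift k (d * d') ≫ act = (lift k d ≫ act) * (lift k d' ≫ act))
  (hone : ∀ (Y : Over (Spec (CommRingCat.of B)))
      (d : Y ⟶ (Spec (.of Hh)).asOver (Spec (.of B))), lift (1 : Y ⟶ K') d ≫ act = d)
  {I : Type*} [DecidableEq I] (b : Module.Basis I B Hh)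
  (hgl : ∀ i, Coalgebra.comul (R := B) (b i) = b i ⊗ₜ[B] b i)

lemma asOver_self_hom (B : Type u) [CommRing B] :
    ((Spec (.of B)).asOver (Spec (.of B))).hom = 𝟙 (Spec (CommRingCat.of B)) := by
  show Spec.map (CommRingCat.ofHom (algebraMap B B)) = _
  rw [Algebra.algebraMap_self]
  exact Spec.map_id _

lemma ξ_eq_one {C : Type u} [CommRing C] [Algebra B C] (j : Spec (CommRingCat.of C) ⟶ K'.left)
    (hC : j ≫ K'.hom = Spec.map (CommRingCat.ofHom (algebraMap B C)))
    (q₀ : Spec (CommRingCat.of C) ⟶ Spec (CommRingCat.of B))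
    (hq : j = q₀ ≫ (1 : (Spec (.of B)).asOver (Spec (.of B)) ⟶ K').left)
    {C' : Type u} [CommRing C'] [Algebra B C'] (g : C →ₐ[B] C') : ξ j hC g = 1 := by
  have hq₀ : q₀ = Spec.map (CommRingCat.ofHom (algebraMap B C)) := by
    have hw : (1 : (Spec (.of B)).asOver (Spec (.of B)) ⟶ K').left ≫ K'.hom =
        𝟙 (Spec (CommRingCat.of B)) :=
      (Over.w (1 : (Spec (.of B)).asOver (Spec (.of B)) ⟶ K')).trans (asOver_self_hom B)
    have h1 : q₀ ≫ ((1 : (Spec (.of B)).asOver (Spec (.of B)) ⟶ K').left ≫ K'.hom) = q₀ :=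
      (congrArg (fun m : Spec (CommRingCat.of B) ⟶ Spec (CommRingCat.of B) => q₀ ≫ m) hw).trans
        (Category.comp_id q₀)
    rw [← hC, hq, Category.assoc]
    exact h1.symm
  have h : ξ j hC g = (Over.homMk (Spec.map (CommRingCat.ofHom (algebraMap B C')))
      (by rw [asOver_self_hom]; exact Category.comp_id _) :
      (Spec (.of C')).asOver (Spec (.of B)) ⟶ (Spec (.of B)).asOver (Spec (.of B))) ≫ 1 := by
    ext1
    show Spec.map (CommRingCat.ofHom (g : C →+* C')) ≫ j =
      Spec.map (CommRingCat.ofHom (algebraMap B C')) ≫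
        (1 : (Spec (.of B)).asOver (Spec (.of B)) ⟶ K').left
    rw [hq, hq₀, ← Category.assoc, ← Spec.map_comp,
      ← CommRingCat.ofHom_comp, AlgHom.comp_algebraMap]
  rw [h, MonObj.comp_one]

include hone in
lemma dcf_eq_one_of_unit {C : Type u} [CommRing C]
    (q₀ : Spec (CommRingCat.of C) ⟶ Spec (CommRingCat.of B)) (i : I) :
    dcf act hmul b (q₀ ≫ (1 : (Spec (.of B)).asOver (Spec (.of B)) ⟶ K').left) i = 1 := by
  letI := chartAlg (K' := K') (q₀ ≫ (1 : (Spec (.of B)).asOver (Spec (.of B)) ⟶ K').left)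
  have hfix : (ptAut act hmul _ (chart_hC
        (q₀ ≫ (1 : (Spec (.of B)).asOver (Spec (.of B)) ⟶ K').left))).Φ (C ⊗[B] Hh)
      ((Algebra.TensorProduct.includeLeft : C →ₐ[B] C ⊗[B] Hh).comp (AlgHom.id B C))
      Algebra.TensorProduct.includeRight = Algebra.TensorProduct.includeRight := by
    apply specHom_injective
    change specHom B Hh (Φ₀ act _ (chart_hC _) _ _ _) = _
    rw [specHom_Φ₀, ξ_eq_one _ (chart_hC _) q₀ rfl, hone]
  have h1 := MTRigid.cf_eval_of_fix (ptAut act hmul _ (chart_hC
    (q₀ ≫ (1 : (Spec (.of B)).asOver (Spec (.of B)) ⟶ K').left))) b (AlgHom.id B C) hfix i i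
  rw [if_pos rfl] at h1
  exact h1

include hone in
lemma unit_mem_good (t : Spec (CommRingCat.of B)) (i : I) :
    (1 : (Spec (.of B)).asOver (Spec (.of B)) ⟶ K').left t ∈ Good act hmul b i := by
  have h1 : Spec.map ((1 : (Spec (.of B)).asOver (Spec (.of B)) ⟶ K').left.residueFieldMap t) ≫
      K'.left.fromSpecResidueField ((1 : (Spec (.of B)).asOver (Spec (.of B)) ⟶ K').left t) =
      (Spec (CommRingCat.of B)).fromSpecResidueField t ≫
        (1 : (Spec (.of B)).asOver (Spec (.of B)) ⟶ K').left :=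
    Scheme.Hom.SpecMap_residueFieldMap_fromSpecResidueField
      (1 : (Spec (.of B)).asOver (Spec (.of B)) ⟶ K').left t
  have h2 := dcf_comp act hmul b (K'.left.fromSpecResidueField
    ((1 : (Spec (.of B)).asOver (Spec (.of B)) ⟶ K').left t))
    ((1 : (Spec (.of B)).asOver (Spec (.of B)) ⟶ K').left.residueFieldMap t).hom i
  have h3 : dcf act hmul b (Spec.map (CommRingCat.ofHom
      ((1 : (Spec (.of B)).asOver (Spec (.of B)) ⟶ K').left.residueFieldMap t).hom) ≫
      K'.left.fromSpecResidueField ((1 : (Spec (.of B)).asOver (Spec (.of B)) ⟶ K').left t)) i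
      = 1 := by
    have h4 := dcf_eq_one_of_unit act hmul hone b
      ((Spec (CommRingCat.of B)).fromSpecResidueField t) i
    have h5 := congrArg (fun q => dcf act hmul b q i) h1
    exact h5.trans h4
  show dcf act hmul b _ i = 1
  apply ((1 : (Spec (.of B)).asOver (Spec (.of B)) ⟶ K').left.residueFieldMap t).hom.injective
  exact (h2.symm.trans h3).trans (map_one _).symm

lemma unit_hom_apply (t : Spec (CommRingCat.of B)) :
    K'.hom ((1 : (Spec (.of B)).asOver (Spec (.of B)) ⟶ K').left t) = t := by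
  have hw : (1 : (Spec (.of B)).asOver (Spec (.of B)) ⟶ K').left ≫ K'.hom =
      𝟙 (Spec (CommRingCat.of B)) :=
    (Over.w (1 : (Spec (.of B)).asOver (Spec (.of B)) ⟶ K')).trans (asOver_self_hom B)
  have h := congrArg (fun f : Spec (CommRingCat.of B) ⟶ Spec (CommRingCat.of B) => f t) hw
  exact h

include hgl hone hmul in
/-- a group with connected fibres acting by group automorphisms on the spectrum of a bialgebra
with a basis of group-like elements acts trivially -/
theorem act_eq_snd_of_fibres_connected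
    (hconn : ∀ t : Spec (CommRingCat.of B), _root_.IsPreconnected (K'.hom ⁻¹' {t})) :
    act = snd K' ((Spec (.of Hh)).asOver (Spec (.of B))) := by
  have hgood : ∀ (i : I) (y : K'.left), y ∈ Good act hmul b i := by
    intro i y
    have hsub := (hconn (K'.hom y)).subset_isClopen (isClopen_good act hmul b hgl i)
      ⟨(1 : (Spec (.of B)).asOver (Spec (.of B)) ⟶ K').left (K'.hom y),
        unit_hom_apply (K'.hom y), unit_mem_good act hmul hone b (K'.hom y) i⟩
    exact hsub rfl
  refine act_eq_snd_of_cover act hmul b hgl K'.left.affineOpenCover (fun α i => ?_)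
  have hj : IsOpenImmersion (K'.left.affineOpenCover.f α) := K'.left.affineOpenCover.map_prop α
  have hid := dcf_idem act hmul b hgl (K'.left.affineOpenCover.f α) i
  have hnil : IsNilpotent (1 - dcf act hmul b (K'.left.affineOpenCover.f α) i) := by
    rw [nilpotent_iff_mem_prime]
    intro J hJ
    have h1 := (good_chart act hmul b hgl _ hj ⟨J, hJ⟩ i).mp (hgood i _)
    have h2 : dcf act hmul b (K'.left.affineOpenCover.f α) i *
        (1 - dcf act hmul b (K'.left.affineOpenCover.f α) i) ∈ J := by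
      rw [mul_sub, _root_.mul_one, hid.eq, sub_self]
      exact zero_mem _
    exact (hJ.mem_or_mem h2).resolve_left h1
  have h0 := eq_zero_of_idem_nilpotent _ hid.one_sub hnil
  exact (sub_eq_zero.mp h0).symm

include hgl hone hmul in
/-- a geometrically connected group acting by group automorphisms on the spectrum of a bialgebra
with a basis of group-like elements acts trivially -/
theorem act_eq_snd_of_geometricallyConnected [GeometricallyConnected K'.hom] :
    act = snd K' ((Spec (.of Hh)).asOver (Spec (.of B))) :=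
  act_eq_snd_of_fibres_connected act hmul hone b hgl
    (fun t => (Scheme.Hom.isConnected_preimage_singleton K'.hom t).isPreconnected)

end unit

end Groth.Agent.Lib.Helper14.MTRigidGeom2
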