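import Mathlib
import Groth.Agent.Lib.Helper14.MTRigidGeom2
import Groth.Agent.Lib.Helper14.MTRigidAlg2

set_option autoImplicit false

namespace Groth.Agent.Lib.Helper14.MTFix1

open CategoryTheory MonoidalCategory CartesianMonoidalCategory MonObj GrpObj AlgebraicGeometry
open CategoryTheory.Limits TensorProduct
open Groth.Agent.Lib.Helper14 GrpBridge MTActGeom MTRigidGeom MTRigidGeom2

universe u

section triv

variable {B : Type u} [CommRing B] {Hh : Type u} [CommRing Hh] [Bialgebra B Hh]
  {K' : Over (Spec (CommRingCat.of B))}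
  (act : K' ⊗ (Spec (.of Hh)).asOver (Spec (.of B)) ⟶ (Spec (.of Hh)).asOver (Spec (.of B)))
  (hmul : ∀ (Y : Over (Spec (CommRingCat.of B))) (k : Y ⟶ K')
    (d d' : Y ⟶ (Spec (.of Hh)).asOver (Spec (.of B))),
    lift k (d * d') ≫ act = (lift k d ≫ act) * (lift k d' ≫ act))
  {I : Type*} [DecidableEq I] (b : Module.Basis I B Hh)
  (hgl : ∀ i, Coalgebra.comul (R := B) (b i) = b i ⊗ₜ[B] b i)

/-- a point of `K'` acts trivially -/
def TrivB {Y : Over (Spec (CommRingCat.of B))} (k : Y ⟶ K') : Prop :=
  ∀ (Y' : Over (Spec (CommRingCat.of B))) (y : Y' ⟶ Y)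
    (d : Y' ⟶ (Spec (.of Hh)).asOver (Spec (.of B))), lift (y ≫ k) d ≫ act = d

variable {act} in
lemma TrivB.comp {Y Y₁ : Over (Spec (CommRingCat.of B))} {k : Y ⟶ K'} (h : TrivB act k)
    (y : Y₁ ⟶ Y) : TrivB act (y ≫ k) := by
  intro Y' y' d
  rw [← Category.assoc]
  exact h Y' (y' ≫ y) d

/-- the diagonal coefficients may be computed with any compatible algebra structure -/
lemma dcf_eq_cf {C : Type u} [CommRing C] [inst : Algebra B C]
    (j : Spec (CommRingCat.of C) ⟶ K'.left)
    (hC : j ≫ K'.hom = Spec.map (CommRingCat.ofHom (algebraMap B C))) (i : I) :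
    dcf act hmul b j i = MTRigid.cf (ptAut act hmul j hC) b i i := by
  have h : inst = chartAlg (K' := K') j := by
    apply Algebra.algebra_ext
    intro r
    have h1 : CommRingCat.ofHom (algebraMap B C) = Spec.preimage (j ≫ K'.hom) := by
      apply Spec.map_injective
      rw [Spec.map_preimage, hC]
    exact congrArg (fun f => f.hom r) h1
  subst h
  rfl

omit [Bialgebra B Hh] in
/-- points factoring through a chart, as composites -/
lemma ξ_eq_comp {C : Type u} [CommRing C] [Algebra B C] (q : Spec (CommRingCat.of C) ⟶ K'.left)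
    (hC : q ≫ K'.hom = Spec.map (CommRingCat.ofHom (algebraMap B C)))
    {C' : Type u} [CommRing C'] [Algebra B C'] (g : C →ₐ[B] C') :
    ∃ y : (Spec (.of C')).asOver (Spec (.of B)) ⟶ Over.mk (q ≫ K'.hom),
      ξ q hC g = y ≫ (Over.homMk q rfl : Over.mk (q ≫ K'.hom) ⟶ K') := by
  refine ⟨Over.homMk (Spec.map (CommRingCat.ofHom (g : C →+* C'))) ?_, ?_⟩
  · show Spec.map (CommRingCat.ofHom (g : C →+* C')) ≫ q ≫ K'.hom =
      Spec.map (CommRingCat.ofHom (algebraMap B C'))
    rw [hC, ← Spec.map_comp, ← CommRingCat.ofHom_comp, AlgHom.comp_algebraMap]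
  · apply Over.OverMorphism.ext
    rfl

/-- a trivially acting point has diagonal coefficients one -/
lemma dcf_eq_one_of_trivB {C : Type u} [CommRing C] (q : Spec (CommRingCat.of C) ⟶ K'.left)
    (h : TrivB act (Over.homMk q rfl : Over.mk (q ≫ K'.hom) ⟶ K')) (i : I) :
    dcf act hmul b q i = 1 := by
  letI := chartAlg (K' := K') q
  have hfix : (ptAut act hmul q (chart_hC q)).Φ (C ⊗[B] Hh)
      ((Algebra.TensorProduct.includeLeft : C →ₐ[B] C ⊗[B] Hh).comp (AlgHom.id B C))
      Algebra.TensorProduct.includeRight = Algebra.TensorProduct.includeRight := by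
    apply specHom_injective
    change specHom B Hh (Φ₀ act q (chart_hC q) _ _ _) = _
    rw [specHom_Φ₀]
    obtain ⟨y, hy⟩ := ξ_eq_comp q (chart_hC q)
      ((Algebra.TensorProduct.includeLeft : C →ₐ[B] C ⊗[B] Hh).comp (AlgHom.id B C))
    rw [hy]
    exact h _ _ _
  have h1 := MTRigid.cf_eval_of_fix (ptAut act hmul q (chart_hC q)) b (AlgHom.id B C) hfix i i
  rw [if_pos rfl] at h1
  exact h1


/-- the image of a point under a trivially acting family lies in the good locus -/
lemma mem_good_of_trivB {Y : Over (Spec (CommRingCat.of B))} (k : Y ⟶ K') (hk : TrivB act k)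
    (y : Y.left) (i : I) : k.left y ∈ Good act hmul b i := by
  have h1 : Spec.map (k.left.residueFieldMap y) ≫ K'.left.fromSpecResidueField (k.left y) =
      Y.left.fromSpecResidueField y ≫ k.left :=
    Scheme.Hom.SpecMap_residueFieldMap_fromSpecResidueField k.left y
  have h4 : (Over.homMk (Y.left.fromSpecResidueField y ≫ k.left) rfl :
      Over.mk ((Y.left.fromSpecResidueField y ≫ k.left) ≫ K'.hom) ⟶ K') =
      (Over.homMk (Y.left.fromSpecResidueField y) (by
        show _ ≫ Y.hom = (Y.left.fromSpecResidueField y ≫ k.left) ≫ K'.hom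
        rw [Category.assoc, Over.w]) :
        Over.mk ((Y.left.fromSpecResidueField y ≫ k.left) ≫ K'.hom) ⟶ Y) ≫ k := by
    apply Over.OverMorphism.ext
    rfl
  have hT : TrivB act (Over.homMk (Y.left.fromSpecResidueField y ≫ k.left) rfl :
      Over.mk ((Y.left.fromSpecResidueField y ≫ k.left) ≫ K'.hom) ⟶ K') := by
    rw [h4]
    exact hk.comp _
  have h2 : dcf act hmul b (Y.left.fromSpecResidueField y ≫ k.left) i = 1 :=
    dcf_eq_one_of_trivB act hmul b _ hT i
  have h3 := dcf_comp act hmul b (K'.left.fromSpecResidueField (k.left y))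
    (k.left.residueFieldMap y).hom i
  have h5 : dcf act hmul b (Spec.map (CommRingCat.ofHom (k.left.residueFieldMap y).hom) ≫
      K'.left.fromSpecResidueField (k.left y)) i = 1 :=
    (congrArg (fun q => dcf act hmul b q i) h1).trans h2
  show dcf act hmul b _ i = 1
  apply (k.left.residueFieldMap y).hom.injective
  exact (h3.symm.trans h5).trans (map_one _).symm


include hgl in
/-- a chart all of whose points are good has diagonal coefficient one -/
lemma dcf_eq_one_of_forall_good {C : Type u} [CommRing C] (j : Spec (CommRingCat.of C) ⟶ K'.left)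
    (hj : IsOpenImmersion j) (i : I) (h : ∀ x, j x ∈ Good act hmul b i) :
    dcf act hmul b j i = 1 := by
  have hid := dcf_idem act hmul b hgl j i
  have hnil : IsNilpotent (1 - dcf act hmul b j i) := by
    rw [nilpotent_iff_mem_prime]
    intro J hJ
    have h1 := (good_chart act hmul b hgl j hj ⟨J, hJ⟩ i).mp (h _)
    have h2 : dcf act hmul b j i * (1 - dcf act hmul b j i) ∈ J := by
      rw [mul_sub, _root_.mul_one, hid.eq, sub_self]
      exact zero_mem _
    exact (hJ.mem_or_mem h2).resolve_left h1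
  have h0 := eq_zero_of_idem_nilpotent _ hid.one_sub hnil
  exact (sub_eq_zero.mp h0).symm

section map

variable {K'' : Over (Spec (CommRingCat.of B))} (m : K'' ⟶ K')

/-- the restriction of the action along a morphism -/
noncomputable def actMap :
    K'' ⊗ (Spec (.of Hh)).asOver (Spec (.of B)) ⟶ (Spec (.of Hh)).asOver (Spec (.of B)) :=
  (m ▷ (Spec (.of Hh)).asOver (Spec (.of B))) ≫ act

lemma lift_actMap (Y : Over (Spec (CommRingCat.of B))) (k : Y ⟶ K'')
    (d : Y ⟶ (Spec (.of Hh)).asOver (Spec (.of B))) :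
    lift k d ≫ actMap act m = lift (k ≫ m) d ≫ act := by
  rw [actMap, ← Category.assoc, lift_whiskerRight]

include hmul in
lemma actMap_mul (Y : Over (Spec (CommRingCat.of B))) (k : Y ⟶ K'')
    (d d' : Y ⟶ (Spec (.of Hh)).asOver (Spec (.of B))) :
    lift k (d * d') ≫ actMap act m = (lift k d ≫ actMap act m) * (lift k d' ≫ actMap act m) := by
  rw [lift_actMap, lift_actMap, lift_actMap, hmul]

lemma dcf_actMap {C : Type u} [CommRing C] (j : Spec (CommRingCat.of C) ⟶ K''.left) (i : I) :
    dcf (actMap act m) (actMap_mul act hmul m) b j i = dcf act hmul b (j ≫ m.left) i := by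
  letI := chartAlg (K' := K'') j
  have hC' : (j ≫ m.left) ≫ K'.hom = Spec.map (CommRingCat.ofHom (algebraMap B C)) := by
    rw [Category.assoc, Over.w]
    exact chart_hC j
  rw [dcf_eq_cf act hmul b (j ≫ m.left) hC' i]
  show MTRigid.cf (ptAut (actMap act m) (actMap_mul act hmul m) j (chart_hC j)) b i i = _
  have hΦ : ∀ (C' : Type u) [CommRing C'] [Algebra B C'] (g : C →ₐ[B] C') (d : Hh →ₐ[B] C'),
      (ptAut (actMap act m) (actMap_mul act hmul m) j (chart_hC j)).Φ C' g d =
        (ptAut act hmul (j ≫ m.left) hC').Φ C' g d := by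
    intro C' _ _ g d
    apply specHom_injective
    change specHom B Hh (Φ₀ (actMap act m) j (chart_hC j) C' g d) =
      specHom B Hh (Φ₀ act (j ≫ m.left) hC' C' g d)
    rw [specHom_Φ₀, specHom_Φ₀, lift_actMap]
    congr 2
  rw [MTRigid.cf, MTRigid.cf, MTRigid.PtAut.ρ, MTRigid.PtAut.ρ, hΦ]

end map


include hgl in
/-- the action is trivial on an open subscheme contained in the good locus -/
theorem trivB_of_forall_good (U : K'.left.Opens)
    (hU : ∀ y ∈ U, ∀ i, y ∈ Good act hmul b i) :
    TrivB act (Over.homMk U.ι rfl : Over.mk (U.ι ≫ K'.hom) ⟶ K') := by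
  have h : actMap act (Over.homMk U.ι rfl : Over.mk (U.ι ≫ K'.hom) ⟶ K') = snd _ _ := by
    refine act_eq_snd_of_cover (actMap act _) (actMap_mul act hmul _) b hgl
      (U : Scheme.{u}).affineOpenCover (fun α i => ?_)
    rw [dcf_actMap act hmul]
    have hj : IsOpenImmersion ((U : Scheme.{u}).affineOpenCover.f α ≫
        (Over.homMk U.ι rfl : Over.mk (U.ι ≫ K'.hom) ⟶ K').left) := by
      haveI : IsOpenImmersion ((U : Scheme.{u}).affineOpenCover.f α) :=
        (U : Scheme.{u}).affineOpenCover.map_prop α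
      show IsOpenImmersion ((U : Scheme.{u}).affineOpenCover.f α ≫ U.ι)
      infer_instance
    apply dcf_eq_one_of_forall_good act hmul b hgl _ hj i
    intro x
    refine hU _ ?_ i
    show (U.ι (((U : Scheme.{u}).affineOpenCover.f α) x)) ∈ U
    exact (((U : Scheme.{u}).affineOpenCover.f α) x).2
  intro Y' y d
  rw [← lift_actMap, h, lift_snd]


section group_index

variable [Group I] (hb1 : b 1 = 1) (hbm : ∀ x y : I, b (x * y) = b x * b y)

/-- the locus of points fixing all characters -/
def GoodAll : Set K'.left := {y | ∀ i, y ∈ Good act hmul b i}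

include hgl hb1 hbm in
lemma goodAll_eq_of_closure (F : Set I) (hF : Subgroup.closure F = ⊤) :
    GoodAll act hmul b = ⋂ i ∈ F, Good act hmul b i := by
  ext y
  simp only [GoodAll, Set.mem_setOf_eq, Set.mem_iInter]
  constructor
  · intro h i _
    exact h i
  · intro h i
    letI := chartAlg (K' := K') (K'.left.fromSpecResidueField y)
    exact MTRigidAlg2.cf_eq_one_of_closure (ptAut act hmul _ (chart_hC _)) b hgl hb1 hbm F hF
      (fun x hx => h x hx) i

include hgl hb1 hbm in
lemma isClopen_goodAll (hfg : Group.FG I) : IsClopen (GoodAll act hmul b) := by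
  obtain ⟨F, hF⟩ := Group.fg_def.mp hfg
  rw [goodAll_eq_of_closure act hmul b hgl hb1 hbm (↑F) hF]
  exact Set.Finite.isClopen_biInter F.finite_toSet (fun i _ => isClopen_good act hmul b hgl i)

include hgl hb1 hbm hmul in
/-- the fixed locus of the action is open and closed, and classifies the trivially acting
points -/
theorem exists_fixOpens (hfg : Group.FG I) :
    ∃ G : K'.left.Opens, IsClosed (G : Set K'.left) ∧
      ∀ (Y : Over (Spec (CommRingCat.of B))) (k : Y ⟶ K'),
        TrivB act k ↔ Set.range k.left ⊆ (G : Set K'.left) := by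
  have hcl := isClopen_goodAll act hmul b hgl hb1 hbm hfg
  refine ⟨⟨GoodAll act hmul b, hcl.isOpen⟩, hcl.isClosed, fun Y k => ⟨?_, ?_⟩⟩
  · rintro hk _ ⟨y, rfl⟩ i
    exact mem_good_of_trivB act hmul b k hk y i
  · intro h
    let G : K'.left.Opens := ⟨GoodAll act hmul b, hcl.isOpen⟩
    have hr : Set.range k.left ⊆ Set.range G.ι := by
      rw [Scheme.Opens.range_ι]
      exact h
    let k₀ : Y ⟶ Over.mk (G.ι ≫ K'.hom) :=
      Over.homMk (IsOpenImmersion.lift G.ι k.left hr) (by
        show _ ≫ G.ι ≫ K'.hom = Y.hom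
        rw [← Category.assoc, IsOpenImmersion.lift_fac, Over.w])
    have hk : k = k₀ ≫ (Over.homMk G.ι rfl : Over.mk (G.ι ≫ K'.hom) ⟶ K') := by
      apply Over.OverMorphism.ext
      exact (IsOpenImmersion.lift_fac _ _ _).symm
    rw [hk]
    exact (trivB_of_forall_good act hmul b hgl G (fun y hy i => hy i)).comp k₀

end group_index

end triv

end Groth.Agent.Lib.Helper14.MTFix1
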