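import Mathlib.CategoryTheory.Monoidal.Cartesian.Over
import Mathlib.CategoryTheory.Monoidal.Grp
import Mathlib.CategoryTheory.Adjunction.Basic

set_option autoImplicit false

namespace Groth.Agent.Lib.Helper14.MTTransport

open CategoryTheory MonoidalCategory CartesianMonoidalCategory MonObj

universe v₁ v₂ u₁ u₂

section general

variable {C : Type u₁} [Category.{v₁} C] [CartesianMonoidalCategory C]
  {C' : Type u₂} [Category.{v₂} C'] [CartesianMonoidalCategory C']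
  {L : C' ⥤ C} {F : C ⥤ C'} (adj : L ⊣ F) [F.Monoidal]

/-- the adjunct of a point -/
abbrev ψ {Y : C'} {Z : C} (v : Y ⟶ F.obj Z) : L.obj Y ⟶ Z := (adj.homEquiv Y Z).symm v

lemma ψ_comp_map {Y : C'} {Z Z' : C} (v : Y ⟶ F.obj Z) (h : Z ⟶ Z') :
    ψ adj (v ≫ F.map h) = ψ adj v ≫ h :=
  adj.homEquiv_naturality_right_symm v h

lemma ψ_injective {Y : C'} {Z : C} (v v' : Y ⟶ F.obj Z) (h : ψ adj v = ψ adj v') : v = v' :=
  (adj.homEquiv Y Z).symm.injective h

open Functor.LaxMonoidal Functor.Monoidal in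
lemma ψ_lift_μ {Y : C'} {G X : C} (y : Y ⟶ F.obj G) (x : Y ⟶ F.obj X) :
    ψ adj (lift y x ≫ Functor.LaxMonoidal.μ F G X) = lift (ψ adj y) (ψ adj x) := by
  apply CartesianMonoidalCategory.hom_ext
  · rw [← ψ_comp_map, Category.assoc, μ_fst, lift_fst, lift_fst]
  · rw [← ψ_comp_map, Category.assoc, μ_snd, lift_snd, lift_snd]

open scoped Obj in
open Functor.LaxMonoidal Functor.Monoidal in
lemma ψ_mul {Y : C'} {G : C} [MonObj G] (y y' : Y ⟶ F.obj G) :
    ψ adj (y * y') = ψ adj y * ψ adj y' := by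
  rw [Hom.mul_def, Hom.mul_def, Functor.obj.μ_def, ← Category.assoc, ψ_comp_map, ψ_lift_μ]

open scoped Obj in
open Functor.LaxMonoidal Functor.Monoidal in
lemma ψ_one {Y : C'} {G : C} [MonObj G] :
    ψ adj (1 : Y ⟶ F.obj G) = 1 := by
  rw [Hom.one_def, Hom.one_def, Functor.obj.η_def, ← Category.assoc, ψ_comp_map]
  congr 1
  exact toUnit_unique _ _

end general

section transport

variable {C : Type u₁} [Category.{v₁} C] [CartesianMonoidalCategory C]
  {C' : Type u₂} [Category.{v₂} C'] [CartesianMonoidalCategory C']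
  {L : C' ⥤ C} {F : C ⥤ C'} (adj : L ⊣ F) [F.Monoidal]
  {G X : C} [MonObj G] (act : G ⊗ X ⟶ X)
  (one : ∀ (Y : C) (x : Y ⟶ X), lift (1 : Y ⟶ G) x ≫ act = x)
  (mul : ∀ (Y : C) (g h : Y ⟶ G) (x : Y ⟶ X),
    lift (g * h) x ≫ act = lift g (lift h x ≫ act) ≫ act)

open scoped Obj

variable {D : C'} [MonObj D] (ε : F.obj G ≅ D) [IsMonHom ε.hom]

/-- the transported action -/
def tact : D ⊗ F.obj X ⟶ F.obj X :=
  (ε.inv ▷ F.obj X) ≫ Functor.LaxMonoidal.μ F G X ≫ F.map act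

lemma ψ_tact (Y : C') (d : Y ⟶ D) (x : Y ⟶ F.obj X) :
    ψ adj (lift d x ≫ tact act ε) = lift (ψ adj (d ≫ ε.inv)) (ψ adj x) ≫ act := by
  rw [tact, lift_whiskerRight_assoc, ← Category.assoc, ψ_comp_map, ψ_lift_μ]

include one adj in
lemma tact_one (Y : C') (x : Y ⟶ F.obj X) : lift (1 : Y ⟶ D) x ≫ tact act ε = x := by
  apply ψ_injective adj
  rw [ψ_tact, MonObj.one_comp, ψ_one, one]

include mul adj in
lemma tact_mul (Y : C') (d d' : Y ⟶ D) (x : Y ⟶ F.obj X) :
    lift (d * d') x ≫ tact act ε = lift d (lift d' x ≫ tact act ε) ≫ tact act ε := by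
  apply ψ_injective adj
  rw [ψ_tact, ψ_tact, ψ_tact, MonObj.mul_comp, ψ_mul, mul]

lemma map_eq_of_tact_eq (h : tact act ε = snd D (F.obj X)) :
    F.map act = F.map (snd G X) := by
  have h1 : (ε.inv ▷ F.obj X) ≫ Functor.LaxMonoidal.μ F G X ≫ F.map act =
      (ε.inv ▷ F.obj X) ≫ Functor.LaxMonoidal.μ F G X ≫ F.map (snd G X) := by
    rw [Functor.Monoidal.μ_snd, whiskerRight_snd]
    exact h
  have h2 := (cancel_epi _).mp h1
  exact (cancel_epi _).mp h2

end transport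

end Groth.Agent.Lib.Helper14.MTTransport
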