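import Mathlib.CategoryTheory.Monoidal.Cartesian.Over
import Mathlib.CategoryTheory.Monoidal.Grp
import Mathlib.CategoryTheory.Adjunction.Basic
import Groth.Agent.Lib.Helper14.MTTransport

set_option autoImplicit false

namespace Groth.Agent.Lib.Helper14.MTFix2

open CategoryTheory MonoidalCategory CartesianMonoidalCategory MonObj
open Groth.Agent.Lib.Helper14.MTTransport

universe v₁ v₂ u₁ u₂

section transport

variable {C : Type u₁} [Category.{v₁} C] [CartesianMonoidalCategory C]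
  {C' : Type u₂} [Category.{v₂} C'] [CartesianMonoidalCategory C']
  {L : C' ⥤ C} {F : C ⥤ C'} (adj : L ⊣ F) [F.Monoidal]
  {K H : C} [MonObj H] (act : K ⊗ H ⟶ H)
  (hmul : ∀ (Y : C) (k : Y ⟶ K) (h h' : Y ⟶ H),
    lift k (h * h') ≫ act = (lift k h ≫ act) * (lift k h' ≫ act))

open scoped Obj

variable {D : C'} [MonObj D] (ε : F.obj H ≅ D) [IsMonHom ε.hom]

/-- the transported action on an isomorphic copy of the space -/
def tactY : F.obj K ⊗ D ⟶ D :=
  (F.obj K ◁ ε.inv) ≫ Functor.LaxMonoidal.μ F K H ≫ F.map act ≫ ε.hom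

lemma lift_tactY (Y : C') (k : Y ⟶ F.obj K) (d : Y ⟶ D) :
    lift k d ≫ tactY act ε =
      (lift k (d ≫ ε.inv) ≫ Functor.LaxMonoidal.μ F K H ≫ F.map act) ≫ ε.hom := by
  rw [tactY, lift_whiskerLeft_assoc, Category.assoc, Category.assoc]

lemma ψ_lift_μ_act (Y : C') (k : Y ⟶ F.obj K) (h : Y ⟶ F.obj H) :
    ψ adj (lift k h ≫ Functor.LaxMonoidal.μ F K H ≫ F.map act) = lift (ψ adj k) (ψ adj h) ≫ act := by
  rw [← Category.assoc, ψ_comp_map, ψ_lift_μ]

include hmul adj in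
lemma tactY_mul (Y : C') (k : Y ⟶ F.obj K) (d d' : Y ⟶ D) :
    lift k (d * d') ≫ tactY act ε = (lift k d ≫ tactY act ε) * (lift k d' ≫ tactY act ε) := by
  rw [lift_tactY, lift_tactY, lift_tactY, ← MonObj.mul_comp]
  congr 1
  apply ψ_injective adj
  rw [ψ_mul, ψ_lift_μ_act, ψ_lift_μ_act, ψ_lift_μ_act, MonObj.mul_comp, ψ_mul, hmul]

lemma map_eq_of_tactY_eq (h : tactY act ε = snd (F.obj K) D) :
    F.map act = F.map (snd K H) := by
  have h1 : (F.obj K ◁ ε.inv) ≫ Functor.LaxMonoidal.μ F K H ≫ F.map act ≫ ε.hom =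
      (F.obj K ◁ ε.inv) ≫ Functor.LaxMonoidal.μ F K H ≫ F.map (snd K H) ≫ ε.hom := by
    rw [Functor.Monoidal.μ_snd_assoc, whiskerLeft_snd_assoc, Iso.inv_hom_id, Category.comp_id]
    exact h
  have h2 := (cancel_epi _).mp h1
  have h3 := (cancel_epi _).mp h2
  exact (cancel_mono _).mp h3

/-- a point acts trivially -/
def TrivS {X : C} (n : X ⟶ K) : Prop :=
  ∀ (X' : C) (x : X' ⟶ X) (h : X' ⟶ H), lift (x ≫ n) h ≫ act = h

/-- a point acts trivially for the transported action -/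
def TrivT {Y : C'} (k : Y ⟶ F.obj K) : Prop :=
  ∀ (Y' : C') (y : Y' ⟶ Y) (d : Y' ⟶ D), lift (y ≫ k) d ≫ tactY act ε = d

variable {act} in
lemma TrivS.comp {X X₁ : C} {n : X ⟶ K} (h : TrivS act n) (x : X₁ ⟶ X) : TrivS act (x ≫ n) := by
  intro X' x' h'
  rw [← Category.assoc]
  exact h X' (x' ≫ x) h'

lemma trivS_iff {X : C} (n : X ⟶ K) : TrivS act n ↔ (n ▷ H) ≫ act = snd X H := by
  constructor
  · intro h
    have h1 := h (X ⊗ H) (fst X H) (snd X H)
    have h2 : lift (fst X H ≫ n) (snd X H) = n ▷ H := by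
      apply CartesianMonoidalCategory.hom_ext
      · rw [lift_fst, whiskerRight_fst]
      · rw [lift_snd, whiskerRight_snd]
    rwa [h2] at h1
  · intro h X' x h'
    have h2 : lift (x ≫ n) h' = lift x h' ≫ (n ▷ H) := by
      rw [lift_whiskerRight]
    rw [h2, Category.assoc, h, lift_snd]

include adj in
lemma trivT_of_trivS {Y : C'} (k : Y ⟶ F.obj K) (h : TrivS act (ψ adj k)) : TrivT act ε k := by
  intro Y' y d
  rw [lift_tactY]
  have h1 : lift (y ≫ k) (d ≫ ε.inv) ≫ Functor.LaxMonoidal.μ F K H ≫ F.map act = d ≫ ε.inv := by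
    apply ψ_injective adj
    rw [ψ_lift_μ_act]
    have h2 : ψ adj (y ≫ k) = L.map y ≫ ψ adj k := adj.homEquiv_naturality_left_symm y k
    rw [h2]
    exact h _ _ _
  rw [h1, Category.assoc, Iso.inv_hom_id, Category.comp_id]

include adj in
lemma trivS_of_trivT {Y : C'}
    (hL : ∀ (X' : C) (x : X' ⟶ L.obj Y), ∃ (Y' : C') (y : Y' ⟶ Y) (e : X' ≅ L.obj Y'),
      e.hom ≫ L.map y = x)
    (k : Y ⟶ F.obj K) (h : TrivT act ε k) : TrivS act (ψ adj k) := by
  intro X' x h'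
  obtain ⟨Y', y, e, rfl⟩ := hL X' x
  rw [← cancel_epi e.inv, ← Category.assoc, comp_lift]
  have h2 : ψ adj (y ≫ k) = L.map y ≫ ψ adj k := adj.homEquiv_naturality_left_symm y k
  have h3 : e.inv ≫ (e.hom ≫ L.map y) ≫ ψ adj k = ψ adj (y ≫ k) := by
    rw [h2, Category.assoc, Iso.inv_hom_id_assoc]
  rw [h3]
  let h₀ : Y' ⟶ F.obj H := adj.homEquiv _ _ (e.inv ≫ h')
  have hh₀ : ψ adj h₀ = e.inv ≫ h' := (adj.homEquiv _ _).symm_apply_apply _
  have h4 := h Y' y (h₀ ≫ ε.hom)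
  rw [lift_tactY, cancel_mono, Category.assoc, Iso.hom_inv_id, Category.comp_id] at h4
  have h5 := congrArg (ψ adj) h4
  rw [ψ_lift_μ_act, hh₀] at h5
  exact h5

include adj in
lemma trivT_map_of_trivS {X : C} (n : X ⟶ K) (h : TrivS act n) : TrivT act ε (F.map n) := by
  apply trivT_of_trivS adj
  have h1 := ψ_comp_map adj (𝟙 (F.obj X)) n
  rw [Category.id_comp] at h1
  rw [h1]
  exact h.comp _

lemma tactY_whisker {X : C} (n : X ⟶ K) :
    tactY ((n ▷ H) ≫ act) ε = (F.map n ▷ D) ≫ tactY act ε := by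
  rw [tactY, tactY, Functor.map_comp, Category.assoc,
    ← Functor.LaxMonoidal.μ_natural_left_assoc, ← whisker_exchange_assoc]

lemma map_eq_of_trivT_map {X : C} (n : X ⟶ K) (h : TrivT act ε (F.map n)) :
    F.map ((n ▷ H) ≫ act) = F.map (snd X H) := by
  apply map_eq_of_tactY_eq ((n ▷ H) ≫ act) ε
  rw [tactY_whisker]
  have h1 := h (F.obj X ⊗ D) (fst _ _) (snd _ _)
  have h2 : lift (fst (F.obj X) D ≫ F.map n) (snd (F.obj X) D) = F.map n ▷ D := by
    apply CartesianMonoidalCategory.hom_ext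
    · rw [lift_fst, whiskerRight_fst]
    · rw [lift_snd, whiskerRight_snd]
  rwa [h2] at h1

end transport

end Groth.Agent.Lib.Helper14.MTFix2
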