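import Mathlib.CategoryTheory.Monoidal.Cartesian.Over
import Mathlib.CategoryTheory.Monoidal.Grp
import Mathlib.CategoryTheory.Adjunction.Basic
import Groth.Agent.Lib.Helper14.MTTransport

set_option autoImplicit false

namespace Groth.Agent.Lib.Helper14.MTTransportX

open CategoryTheory MonoidalCategory CartesianMonoidalCategory MonObj
open Groth.Agent.Lib.Helper14.MTTransport

universe v₁ v₂ u₁ u₂

section transport

variable {C : Type u₁} [Category.{v₁} C] [CartesianMonoidalCategory C]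
  {C' : Type u₂} [Category.{v₂} C'] [CartesianMonoidalCategory C']
  {L : C' ⥤ C} {F : C ⥤ C'} (adj : L ⊣ F) [F.Monoidal]
  {K H : C} [MonObj K] [MonObj H] (act : K ⊗ H ⟶ H)
  (hone : ∀ (Y : C) (h : Y ⟶ H), lift (1 : Y ⟶ K) h ≫ act = h)
  (hmul : ∀ (Y : C) (k : Y ⟶ K) (h h' : Y ⟶ H),
    lift k (h * h') ≫ act = (lift k h ≫ act) * (lift k h' ≫ act))

open scoped Obj

variable {D : C'} [MonObj D] (ε : F.obj H ≅ D) [IsMonHom ε.hom]

/-- the transported action on an isomorphic copy of the space -/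
def tactX : F.obj K ⊗ D ⟶ D :=
  (F.obj K ◁ ε.inv) ≫ Functor.LaxMonoidal.μ F K H ≫ F.map act ≫ ε.hom

lemma lift_tactX (Y : C') (k : Y ⟶ F.obj K) (d : Y ⟶ D) :
    lift k d ≫ tactX act ε =
      (lift k (d ≫ ε.inv) ≫ Functor.LaxMonoidal.μ F K H ≫ F.map act) ≫ ε.hom := by
  rw [tactX, lift_whiskerLeft_assoc, Category.assoc, Category.assoc]

lemma ψ_lift_μ_act (Y : C') (k : Y ⟶ F.obj K) (h : Y ⟶ F.obj H) :
    ψ adj (lift k h ≫ Functor.LaxMonoidal.μ F K H ≫ F.map act) = lift (ψ adj k) (ψ adj h) ≫ act := by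
  rw [← Category.assoc, ψ_comp_map, ψ_lift_μ]

include hone adj in
lemma tactX_one (Y : C') (d : Y ⟶ D) : lift (1 : Y ⟶ F.obj K) d ≫ tactX act ε = d := by
  rw [lift_tactX]
  have h1 : lift (1 : Y ⟶ F.obj K) (d ≫ ε.inv) ≫ Functor.LaxMonoidal.μ F K H ≫ F.map act =
      d ≫ ε.inv := by
    apply ψ_injective adj
    rw [ψ_lift_μ_act, ψ_one, hone]
  rw [h1, Category.assoc, Iso.inv_hom_id, Category.comp_id]

include hmul adj in
lemma tactX_mul (Y : C') (k : Y ⟶ F.obj K) (d d' : Y ⟶ D) :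
    lift k (d * d') ≫ tactX act ε = (lift k d ≫ tactX act ε) * (lift k d' ≫ tactX act ε) := by
  rw [lift_tactX, lift_tactX, lift_tactX, ← MonObj.mul_comp]
  congr 1
  apply ψ_injective adj
  rw [ψ_mul, ψ_lift_μ_act, ψ_lift_μ_act, ψ_lift_μ_act, MonObj.mul_comp, ψ_mul, hmul]

lemma map_eq_of_tactX_eq (h : tactX act ε = snd (F.obj K) D) :
    F.map act = F.map (snd K H) := by
  have h1 : (F.obj K ◁ ε.inv) ≫ Functor.LaxMonoidal.μ F K H ≫ F.map act ≫ ε.hom =
      (F.obj K ◁ ε.inv) ≫ Functor.LaxMonoidal.μ F K H ≫ F.map (snd K H) ≫ ε.hom := by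
    rw [Functor.Monoidal.μ_snd_assoc, whiskerLeft_snd_assoc, Iso.inv_hom_id, Category.comp_id]
    exact h
  have h2 := (cancel_epi _).mp h1
  have h3 := (cancel_epi _).mp h2
  exact (cancel_mono _).mp h3

end transport

end Groth.Agent.Lib.Helper14.MTTransportX
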