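import Mathlib
import Groth.Prelude.Def_Red2
import Groth.Prelude.Def_SGA3x
import Groth.Prelude.Def_AlgGrp
import Groth.Prelude.Def_TwC
import Groth.Agent.Lib.Helper14.MTRigidGeom2
import Groth.Agent.Lib.Helper14.MTTransportX
import Groth.Agent.Lib.Helper14.MTDescent
import Groth.Agent.Lib.Helper14.MTAffine

set_option autoImplicit false

namespace Groth.Agent.Lib.Helper14.MTRigidMain2

open CategoryTheory MonoidalCategory CartesianMonoidalCategory MonObj GrpObj AlgebraicGeometry
open CategoryTheory.Limits TensorProduct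
open Groth.Agent.Lib.Helper14

universe u

section assembly

open scoped Obj

variable {S : Scheme.{u}} (G H : Over S) [GrpObj G] [GrpObj H] (act : G ⊗ H ⟶ H)
  (hone : ∀ (Y : Over S) (h : Y ⟶ H), lift (1 : Y ⟶ G) h ≫ act = h)
  (hmul : ∀ (Y : Over S) (k : Y ⟶ G) (h h' : Y ⟶ H),
    lift k (h * h') ≫ act = (lift k h ≫ act) * (lift k h' ≫ act))

include hone hmul in
theorem local_case (K B : Type u) [CommRing K] [CommRing B] [Algebra K B]
    (g : Spec (.of B) ⟶ S) (M : Type) [AddCommGroup M]
    (ε : Red.bc g H ≅ Red.bc (Spec.map (CommRingCat.ofHom (algebraMap K B))) (Red.diag K M))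
    [IsMonHom ε.hom] [GeometricallyConnected (Red.bc g G).hom] :
    (Over.pullback g).map act = (Over.pullback g).map (snd G H) := by
  obtain ⟨κ, hκ⟩ := MTAffine.exists_bc_spec_iso K B (MonoidAlgebra K (Multiplicative M))
  let ε' := ε ≪≫ κ
  haveI : IsMonHom ε'.hom := by
    dsimp only [ε', Iso.trans_hom]
    infer_instance
  classical
  let b := Algebra.TensorProduct.basis B (MonoidAlgebra.basis (Multiplicative M) K)
  have hgl : ∀ n, Coalgebra.comul (R := B) (b n) = b n ⊗ₜ[B] b n := by
    intro n
    simp [b, MonoidAlgebra.basis_apply]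
  refine MTTransportX.map_eq_of_tactX_eq act ε' ?_
  exact MTRigidGeom2.act_eq_snd_of_geometricallyConnected _
    (MTTransportX.tactX_mul (Over.mapPullbackAdj g) act hmul ε')
    (MTTransportX.tactX_one (Over.mapPullbackAdj g) act hone ε') b hgl

include hone hmul in
theorem step2_aux [GeometricallyConnected G.hom]
    (T : Scheme.{u}) (g : T ⟶ S) (M : Type) [AddCommGroup M]
    (e : Red.bc g H ≅ Red.DS T M) [IsMonHom e.hom]
    (R : CommRingCat.{u}) (kk : Spec R ⟶ T) :
    (Over.pullback (kk ≫ g)).map act = (Over.pullback (kk ≫ g)).map (snd G H) := by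
  letI : Algebra (ULift.{u} ℤ) R :=
    RingHom.toAlgebra ((Int.castRingHom R).comp (ULift.ringEquiv : ULift.{u} ℤ ≃+* ℤ).toRingHom)
  obtain ⟨c, hc⟩ := MTDescent.exists_bc_comp_iso kk g (kk ≫ g) rfl H
  obtain ⟨c', hc'⟩ := MTDescent.exists_bc_comp_iso kk
    (Limits.IsTerminal.from specULiftZIsTerminal T)
    (Spec.map (CommRingCat.ofHom (algebraMap (ULift.{u} ℤ) R)))
    (specULiftZIsTerminal.hom_ext _ _) (Red.diag (ULift.{u} ℤ) M)
  let ε : Red.bc (kk ≫ g) H ≅
      Red.bc (Spec.map (CommRingCat.ofHom (algebraMap (ULift.{u} ℤ) R)))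
        (Red.diag (ULift.{u} ℤ) M) :=
    c.symm ≪≫ (Over.pullback kk).mapIso e ≪≫ c'
  haveI : IsMonHom ε.hom := by
    dsimp only [ε, Iso.trans_hom, Iso.symm_hom, Functor.mapIso_hom]
    infer_instance
  haveI : GeometricallyConnected (Red.bc (kk ≫ g) G).hom :=
    inferInstanceAs (GeometricallyConnected (pullback.snd G.hom (kk ≫ g)))
  exact local_case G H act hone hmul (ULift.{u} ℤ) R (kk ≫ g) M ε

include hone hmul in
theorem step2 [GeometricallyConnected G.hom] (T : Scheme.{u}) (g : T ⟶ S) (M : Type)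
    [AddCommGroup M] (e : Red.bc g H ≅ Red.DS T M) [IsMonHom e.hom] :
    (Over.pullback g).map act = (Over.pullback g).map (snd G H) := by
  apply MTDescent.hom_ext_of_cover T.affineOpenCover.openCover
  intro k
  apply MTDescent.map_map_eq_of_comp
  exact step2_aux G H act hone hmul T g M e (T.affineOpenCover.X k) (T.affineOpenCover.f k)

include hone hmul in
/-- **Rigidity**: a geometrically connected group acting by group automorphisms on a group of
multiplicative type acts trivially. -/
theorem main [GeometricallyConnected G.hom] (hH : SGA3x.IsMultTypeFT H) : act = snd G H := by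
  obtain ⟨S', f, hflat, hsurj, -, hloc⟩ := hH
  apply MTDescent.hom_ext_of_flat_surj f
  choose U hU hP using hloc
  have hcov : TopologicalSpace.IsOpenCover U := by
    refine TopologicalSpace.IsOpenCover.mk ?_
    rw [eq_top_iff]
    intro x _
    exact TopologicalSpace.Opens.mem_iSup.mpr ⟨x, hU x⟩
  apply MTDescent.hom_ext_of_cover (S'.openCoverOfIsOpenCover U hcov)
  intro s'
  change (Over.pullback (U s').ι).map _ = (Over.pullback (U s').ι).map _
  apply MTDescent.map_map_eq_of_comp
  obtain ⟨M, _, -, ⟨e⟩⟩ := hP s'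
  obtain ⟨e', he'⟩ := MTDescent.exists_iso_of_grp_iso e
  exact step2 G H act hone hmul _ _ M e'

end assembly

end Groth.Agent.Lib.Helper14.MTRigidMain2
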