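import Mathlib
import Groth.Prelude.Def_Red2
import Groth.Prelude.Def_SGA3x
import Groth.Prelude.Def_AlgGrp
import Groth.Agent.Lib.Helper14.MTDescent
import Groth.Agent.Lib.Helper14.MTRigidMain2

set_option autoImplicit false

namespace Groth.Agent.Lib.Helper14.MTQuot

open CategoryTheory MonoidalCategory CartesianMonoidalCategory MonObj GrpObj AlgebraicGeometry
open CategoryTheory.Limits
open Groth.Agent.Lib.Helper14

universe u

section cat

variable {C : Type*} [Category C] [CartesianMonoidalCategory C]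

/-- whiskering is a base change -/
theorem isPullback_whiskerRight {E U : C} (p : E ⟶ U) (H : C) :
    IsPullback (p ▷ H) (fst E H) (fst U H) p := by
  refine ⟨⟨whiskerRight_fst p H⟩, ⟨PullbackCone.IsLimit.mk _ (fun s => lift s.snd (s.fst ≫ snd U H))
    (fun s => ?_) (fun s => lift_fst _ _) (fun s m h1 h2 => ?_)⟩⟩
  · apply CartesianMonoidalCategory.hom_ext
    · rw [Category.assoc, whiskerRight_fst, lift_fst_assoc]
      exact s.condition.symm
    · rw [Category.assoc, whiskerRight_snd, lift_snd]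
  · apply CartesianMonoidalCategory.hom_ext
    · rw [lift_fst]
      exact h2
    · rw [lift_snd, ← h1, Category.assoc, whiskerRight_snd]

end cat

section comm

open scoped Obj

variable {S : Scheme.{u}} (H : Over S) [GrpObj H]

/-- a group of multiplicative type is commutative -/
theorem comm_of_multType (hH : SGA3x.IsMultTypeFT H) (X : Over S) (a b : X ⟶ H) :
    a * b = b * a := by
  obtain ⟨S', f, hflat, hsurj, -, hloc⟩ := hH
  apply MTDescent.hom_ext_of_flat_surj f
  choose U hU hP using hloc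
  have hcov : TopologicalSpace.IsOpenCover U := by
    refine TopologicalSpace.IsOpenCover.mk ?_
    rw [eq_top_iff]
    intro x _
    exact TopologicalSpace.Opens.mem_iSup.mpr ⟨x, hU x⟩
  apply MTDescent.hom_ext_of_cover (S'.openCoverOfIsOpenCover U hcov)
  intro s'
  change (Over.pullback (U s').ι).map _ = (Over.pullback (U s').ι).map _
  apply MTDescent.map_map_eq_of_comp
  obtain ⟨M, _, -, ⟨e⟩⟩ := hP s'
  obtain ⟨e', he'⟩ := MTDescent.exists_iso_of_grp_iso e
  rw [Functor.map_mul, Functor.map_mul, ← cancel_mono e'.hom, MonObj.mul_comp, MonObj.mul_comp]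
  have hc : IsMulCommutative ((Over.pullback ((U s').ι ≫ f)).obj X ⟶ Red.DS (U s' : Scheme.{u}) M) :=
    (isCommMonObj_iff_isMulCommutative _).mp inferInstance _
  exact hc.is_comm.comm _ _

end comm

section quot

variable {S : Scheme.{u}} {E H U : Over S} [GrpObj E] [GrpObj H] [GrpObj U]
  (p : E ⟶ U) [IsMonHom p] (i : H ⟶ E) [IsMonHom i] (hker : AlgGrp.IsKernel i p)

include hker in
lemma mono_of_isKernel : Mono i := ⟨fun a b hab => hker.hom_ext hab (toUnit_unique _ _)⟩

include hker in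
lemma comp_i_comp_p {Y : Over S} (h : Y ⟶ H) : (h ≫ i) ≫ p = 1 := by
  rw [Category.assoc, hker.w, ← Category.assoc, Hom.one_def]
  congr 1
  exact toUnit_unique _ _

include hker in
lemma exists_of_comp_p_eq_one {Y : Over S} (e : Y ⟶ E) (he : e ≫ p = 1) :
    ∃ c : Y ⟶ H, c ≫ i = e :=
  ⟨hker.lift e (toUnit Y) (by rw [he, Hom.one_def]), hker.lift_fst _ _ _⟩

include hker in
lemma exists_conj : ∃ n' : E ⊗ H ⟶ H, ∀ (Y : Over S) (k : Y ⟶ E) (h : Y ⟶ H),
    (lift k h ≫ n') ≫ i = k * (h ≫ i) * k⁻¹ := by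
  obtain ⟨c, hc⟩ := exists_of_comp_p_eq_one p i hker (fst E H * (snd E H ≫ i) * (fst E H)⁻¹)
    (by rw [MonObj.mul_comp, MonObj.mul_comp, GrpObj.inv_comp, comp_i_comp_p p i hker,
      _root_.mul_one, mul_inv_cancel])
  refine ⟨c, fun Y k h => ?_⟩
  rw [Category.assoc, hc, MonObj.comp_mul, MonObj.comp_mul, GrpObj.comp_inv, lift_fst,
    lift_snd_assoc]

lemma lift_comp_whisker {Y : Over S} (k : Y ⟶ E) (d : Y ⟶ H) :
    lift k d ≫ (p ▷ H) = lift (k ≫ p) d := by
  apply CartesianMonoidalCategory.hom_ext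
  · rw [Category.assoc, whiskerRight_fst, lift_fst_assoc, lift_fst]
  · rw [Category.assoc, whiskerRight_snd, lift_snd, lift_snd]

lemma whisker_left_props (H' : Over S) [Surjective p.left] [Flat p.left] [QuasiCompact p.left] :
    Surjective (p ▷ H').left ∧ Flat (p ▷ H').left ∧ QuasiCompact (p ▷ H').left := by
  have sq : IsPullback (fst E H').left (p ▷ H').left p.left (fst U H').left :=
    ((isPullback_whiskerRight p H').map (Over.forget S)).flip
  exact ⟨MorphismProperty.of_isPullback (P := @Surjective) sq inferInstance,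
    MorphismProperty.of_isPullback (P := @Flat) sq inferInstance,
    MorphismProperty.of_isPullback (P := @QuasiCompact) sq inferInstance⟩

end quot

section main

variable {S : Scheme.{u}} {E H U : Over S} [GrpObj E] [GrpObj H] [GrpObj U]
  (p : E ⟶ U) [IsMonHom p] (i : H ⟶ E) [IsMonHom i] (hker : AlgGrp.IsKernel i p)

include hker in
/-- an extension of a geometrically connected group by a group of multiplicative type is
central -/
theorem central_of_extension [Surjective p.left] [Flat p.left] [QuasiCompact p.left]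
    [GeometricallyConnected U.hom] (hH : SGA3x.IsMultTypeFT H)
    (X : Over S) (h : X ⟶ H) (e : X ⟶ E) : (h ≫ i) * e = e * (h ≫ i) := by
  haveI : Mono i := mono_of_isKernel p i hker
  obtain ⟨n', hn'⟩ := exists_conj p i hker
  -- the conjugation action only depends on the image in `U`
  have hinv : ∀ (Y : Over S) (k k' : Y ⟶ E) (d : Y ⟶ H), k ≫ p = k' ≫ p →
      lift k d ≫ n' = lift k' d ≫ n' := by
    intro Y k k' d hkk
    obtain ⟨c, hc⟩ := exists_of_comp_p_eq_one p i hker (k⁻¹ * k')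
      (by rw [MonObj.mul_comp, GrpObj.inv_comp, ← hkk, inv_mul_cancel])
    have hk' : k' = k * (c ≫ i) := by rw [hc, mul_inv_cancel_left]
    have hcd : (c ≫ i) * (d ≫ i) = (d ≫ i) * (c ≫ i) := by
      rw [← MonObj.mul_comp, ← MonObj.mul_comp, comm_of_multType H hH Y c d]
    rw [← cancel_mono i, hn', hn', hk', _root_.mul_inv_rev]
    have : k * (c ≫ i) * (d ≫ i) * ((c ≫ i)⁻¹ * k⁻¹) =
        k * ((c ≫ i) * (d ≫ i) * (c ≫ i)⁻¹) * k⁻¹ := by group
    rw [this, hcd, mul_inv_cancel_right]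
  -- the action is multiplicative
  have hone' : ∀ (Y : Over S) (d : Y ⟶ H), lift (1 : Y ⟶ E) d ≫ n' = d := by
    intro Y d
    rw [← cancel_mono i, hn', inv_one, _root_.mul_one, _root_.one_mul]
  have hmul' : ∀ (Y : Over S) (k : Y ⟶ E) (d d' : Y ⟶ H),
      lift k (d * d') ≫ n' = (lift k d ≫ n') * (lift k d' ≫ n') := by
    intro Y k d d'
    rw [← cancel_mono i, hn', MonObj.mul_comp, MonObj.mul_comp, hn', hn']
    simp only [_root_.mul_assoc, inv_mul_cancel_left]
  -- descent to `U`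
  obtain ⟨hs, hf, hq⟩ := whisker_left_props p H
  haveI := hs
  haveI := hf
  haveI := hq
  have hcoeq : ∀ {Z : Scheme.{u}} (g₁ g₂ : Z ⟶ (E ⊗ H).left),
      g₁ ≫ (p ▷ H).left = g₂ ≫ (p ▷ H).left → g₁ ≫ n'.left = g₂ ≫ n'.left := by
    intro Z g₁ g₂ hg
    have hg₂ : g₂ ≫ (E ⊗ H).hom = g₁ ≫ (E ⊗ H).hom := by
      rw [← Over.w (p ▷ H), ← Category.assoc, ← hg, Category.assoc]
    let G₁ : Over.mk (g₁ ≫ (E ⊗ H).hom) ⟶ E ⊗ H := Over.homMk g₁ rfl
    let G₂ : Over.mk (g₁ ≫ (E ⊗ H).hom) ⟶ E ⊗ H := Over.homMk g₂ hg₂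
    have hG : G₁ ≫ (p ▷ H) = G₂ ≫ (p ▷ H) := by
      apply Over.OverMorphism.ext
      exact hg
    have h1 : (G₁ ≫ fst E H) ≫ p = (G₂ ≫ fst E H) ≫ p := by
      rw [Category.assoc, Category.assoc, ← whiskerRight_fst, ← Category.assoc, hG,
        Category.assoc]
    have h2 : G₁ ≫ snd E H = G₂ ≫ snd E H := by
      rw [← whiskerRight_snd p H, ← Category.assoc, hG, Category.assoc]
    have h3 := hinv _ (G₁ ≫ fst E H) (G₂ ≫ fst E H) (G₁ ≫ snd E H) h1
    have e1 : lift (G₁ ≫ fst E H) (G₁ ≫ snd E H) = G₁ := by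
      apply CartesianMonoidalCategory.hom_ext <;> simp
    have e2 : lift (G₂ ≫ fst E H) (G₁ ≫ snd E H) = G₂ := by
      rw [h2]
      apply CartesianMonoidalCategory.hom_ext <;> simp
    rw [e1, e2] at h3
    exact congrArg (fun m => m.left) h3
  let a : (U ⊗ H).left ⟶ H.left := EffectiveEpi.desc (p ▷ H).left n'.left hcoeq
  have hfac : (p ▷ H).left ≫ a = n'.left := EffectiveEpi.fac _ _ _
  haveI : Epi (p ▷ H).left := Flat.epi_of_flat_of_surjective _
  let actU : U ⊗ H ⟶ H := Over.homMk a (by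
    rw [← cancel_epi (p ▷ H).left, ← Category.assoc, hfac, Over.w, Over.w])
  have hactU : (p ▷ H) ≫ actU = n' := by
    ext1
    exact hfac
  have hlift : ∀ (Y : Over S) (k : Y ⟶ E) (d : Y ⟶ H),
      lift (k ≫ p) d ≫ actU = lift k d ≫ n' := by
    intro Y k d
    rw [← lift_comp_whisker, Category.assoc, hactU]
  have hone : ∀ (Y : Over S) (d : Y ⟶ H), lift (1 : Y ⟶ U) d ≫ actU = d := by
    intro Y d
    rw [← MonObj.one_comp (X := Y) p, hlift, hone']
  have huniv : lift (fst U (H ⊗ H)) ((snd U (H ⊗ H) ≫ fst H H) * (snd U (H ⊗ H) ≫ snd H H)) ≫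
      actU = (lift (fst U (H ⊗ H)) (snd U (H ⊗ H) ≫ fst H H) ≫ actU) *
        (lift (fst U (H ⊗ H)) (snd U (H ⊗ H) ≫ snd H H) ≫ actU) := by
    obtain ⟨hs', hf', -⟩ := whisker_left_props p (H ⊗ H)
    haveI := hs'
    haveI := hf'
    haveI : Epi (p ▷ (H ⊗ H)).left := Flat.epi_of_flat_of_surjective _
    haveI : Epi (p ▷ (H ⊗ H)) := (Over.forget S).epi_of_epi_map ‹_›
    rw [← cancel_epi (p ▷ (H ⊗ H))]
    simp only [MonObj.comp_mul, ← Category.assoc, comp_lift, whiskerRight_fst, whiskerRight_snd]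
    rw [hlift, hlift, hlift, hmul']
  have hmul : ∀ (Y : Over S) (k : Y ⟶ U) (d d' : Y ⟶ H),
      lift k (d * d') ≫ actU = (lift k d ≫ actU) * (lift k d' ≫ actU) := by
    intro Y k d d'
    have := congrArg (fun m => lift k (lift d d') ≫ m) huniv
    simp only [MonObj.comp_mul, ← Category.assoc, comp_lift, lift_fst, lift_snd] at this
    simpa using this
  have hact : actU = snd U H := MTRigidMain2.main U H actU hone hmul hH
  have hn'' : n' = snd E H := by rw [← hactU, hact, whiskerRight_snd]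
  have h1 := hn' X e h
  rw [hn'', lift_snd] at h1
  have h2 : e * (h ≫ i) * e⁻¹ * e = (h ≫ i) * e := by rw [← h1]
  rw [inv_mul_cancel_right] at h2
  exact h2.symm

end main

end Groth.Agent.Lib.Helper14.MTQuot
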