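import Mathlib
import Groth.Prelude.Def_Red2
import Groth.Prelude.Def_SGA3x
import Groth.Prelude.Def_AlgGrp
import Groth.Agent.Lib.Helper14.MTFix1
import Groth.Agent.Lib.Helper14.MTFix2
import Groth.Agent.Lib.Helper14.MTQuot
import Groth.Agent.Lib.Helper14.MTDescent
import Groth.Agent.Lib.Helper14.MTAffine

set_option autoImplicit false

namespace Groth.Agent.Lib.Helper14.MTFix3

open CategoryTheory MonoidalCategory CartesianMonoidalCategory MonObj GrpObj AlgebraicGeometry
open CategoryTheory.Limits TensorProduct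
open Groth.Agent.Lib.Helper14 MTFix2

universe u

section overMap

/-- every morphism into `(Over.map g).obj Y` comes from a morphism into `Y` -/
theorem hL_overMap {S T : Scheme.{u}} (g : T ⟶ S) (Y : Over T) (X' : Over S)
    (x : X' ⟶ (Over.map g).obj Y) :
    ∃ (Y' : Over T) (y : Y' ⟶ Y) (e : X' ≅ (Over.map g).obj Y'),
      e.hom ≫ (Over.map g).map y = x := by
  refine ⟨Over.mk (x.left ≫ Y.hom), Over.homMk x.left rfl,
    Over.isoMk (Iso.refl _) ?_, ?_⟩
  · have := Over.w x
    simp only [Over.map_obj_hom] at this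
    simp [this]
  · apply Over.OverMorphism.ext
    simp

end overMap

section whisker

variable {S : Scheme.{u}}

lemma whiskerRight_left_props {X₁ X₂ : Over S} (q : X₁ ⟶ X₂) (H : Over S)
    [Surjective q.left] [Flat q.left] :
    Surjective (q ▷ H).left ∧ Flat (q ▷ H).left := by
  have sq : IsPullback (fst X₁ H).left (q ▷ H).left q.left (fst X₂ H).left :=
    ((MTQuot.isPullback_whiskerRight q H).map (Over.forget S)).flip
  exact ⟨MorphismProperty.of_isPullback (P := @Surjective) sq inferInstance,
    MorphismProperty.of_isPullback (P := @Flat) sq inferInstance⟩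

lemma epi_whiskerRight {X₁ X₂ : Over S} (q : X₁ ⟶ X₂) (H : Over S)
    [Surjective q.left] [Flat q.left] : Epi (q ▷ H) := by
  obtain ⟨hs, hf⟩ := whiskerRight_left_props q H
  haveI := hs
  haveI := hf
  haveI : Epi (q ▷ H).left := Flat.epi_of_flat_of_surjective _
  exact (Over.forget S).epi_of_epi_map ‹_›

end whisker

section slevel

variable {S : Scheme.{u}} {N H : Over S} [GrpObj H] (act : N ⊗ H ⟶ H)

/-- triviality descends along flat surjective morphisms -/
lemma trivS_of_comp {X₁ X₂ : Over S} (q : X₁ ⟶ X₂) [Surjective q.left] [Flat q.left]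
    (n : X₂ ⟶ N) (h : TrivS act (q ≫ n)) : TrivS act n := by
  rw [trivS_iff] at h ⊢
  haveI := epi_whiskerRight q H
  rw [← cancel_epi (q ▷ H), ← Category.assoc, ← comp_whiskerRight, h, whiskerRight_snd]

/-- the residue field point of a point of `N` -/
noncomputable def ptS (y : N.left) : Over.mk (N.left.fromSpecResidueField y ≫ N.hom) ⟶ N :=
  Over.homMk (N.left.fromSpecResidueField y) rfl

/-- the fixed locus -/
def Wset : Set N.left := {y | TrivS act (ptS y)}

instance (X : Scheme.{u}) (x : X) : Subsingleton ↥(Spec (X.residueField x)) :=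
  inferInstanceAs (Subsingleton (PrimeSpectrum (X.residueField x)))

lemma surjective_to_residueField {X Y : Scheme.{u}} (x : X) [Nonempty Y]
    (t : Y ⟶ Spec (X.residueField x)) : Surjective t := by
  refine ⟨fun y => ?_⟩
  obtain ⟨y₀⟩ := ‹Nonempty Y›
  exact ⟨y₀, Subsingleton.elim _ _⟩


/-- a family which is a flat surjective pullback of a residue field point acts trivially iff the
point lies in the fixed locus -/
lemma trivS_iff_mem_Wset {X₀ : Over S} (n₀ : X₀ ⟶ N) (z : N.left)
    (q : X₀ ⟶ Over.mk (N.left.fromSpecResidueField z ≫ N.hom)) (hq : q ≫ ptS z = n₀)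
    [Flat q.left] [Surjective q.left] : TrivS act n₀ ↔ z ∈ Wset act := by
  constructor
  · intro h
    rw [← hq] at h
    exact trivS_of_comp act q _ h
  · intro h
    rw [← hq]
    exact TrivS.comp h q

/-- a point `t : Spec L ⟶ N.left` from the spectrum of a residue field acts trivially iff
its image point lies in the fixed locus -/
lemma trivS_point_iff {Y : Scheme.{u}} (y : Y) (X₀h : Spec (Y.residueField y) ⟶ S)
    (n₀ : Over.mk X₀h ⟶ N)
    (z : N.left) (φ : N.left.residueField z ⟶ Y.residueField y)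
    (ht : n₀.left = Spec.map φ ≫ N.left.fromSpecResidueField z) :
    TrivS act n₀ ↔ z ∈ Wset act := by
  let q : Over.mk X₀h ⟶ Over.mk (N.left.fromSpecResidueField z ≫ N.hom) :=
    Over.homMk (Spec.map φ) (by
      show Spec.map φ ≫ N.left.fromSpecResidueField z ≫ N.hom = X₀h
      rw [← Category.assoc, ← ht]
      exact Over.w n₀)
  have hq : q ≫ ptS z = n₀ := by
    apply Over.OverMorphism.ext
    exact ht.symm
  haveI : Flat q.left := by
    show Flat (Spec.map φ)
    infer_instance
  haveI : Surjective q.left := by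
    show Surjective (Spec.map φ)
    haveI : Nonempty ↥(Spec (Y.residueField y)) :=
      inferInstanceAs (Nonempty (PrimeSpectrum (Y.residueField y)))
    exact surjective_to_residueField z _
  exact trivS_iff_mem_Wset act n₀ z q hq

/-- the image of a point under a trivially acting family lies in the fixed locus -/
lemma mem_Wset_of_trivS {X : Over S} (n : X ⟶ N) (h : TrivS act n) (x : X.left) :
    n.left x ∈ Wset act := by
  have h1 : Spec.map (n.left.residueFieldMap x) ≫ N.left.fromSpecResidueField (n.left x) =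
      X.left.fromSpecResidueField x ≫ n.left :=
    Scheme.Hom.SpecMap_residueFieldMap_fromSpecResidueField n.left x
  let a : Over.mk (X.left.fromSpecResidueField x ≫ X.hom) ⟶ X :=
    Over.homMk (X.left.fromSpecResidueField x) rfl
  rw [← trivS_point_iff act x (X.left.fromSpecResidueField x ≫ X.hom) (a ≫ n)
    (n.left x) _ h1.symm]
  exact TrivS.comp h _


section local_case

open scoped Obj

variable (hmul : ∀ (Y : Over S) (k : Y ⟶ N) (h h' : Y ⟶ H),
    lift k (h * h') ≫ act = (lift k h ≫ act) * (lift k h' ≫ act))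

include hmul in
/-- the local structure of the fixed locus -/
theorem local_case (K R : Type u) [CommRing K] [CommRing R] [Algebra K R]
    (g : Spec (.of R) ⟶ S) (M : Type) [AddCommGroup M] (hfg : AddGroup.FG M)
    (ε : Red.bc g H ≅ Red.bc (Spec.map (CommRingCat.ofHom (algebraMap K R))) (Red.diag K M))
    [IsMonHom ε.hom] :
    ∃ G : (Red.bc g N).left.Opens, IsClosed (G : Set (Red.bc g N).left) ∧
      (∀ y' : (Red.bc g N).left, y' ∈ G ↔ pullback.fst N.hom g y' ∈ Wset act) ∧
      ∀ (X : Over S) (n : X ⟶ N), (∀ x, n.left x ∈ Wset act) →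
        (Over.pullback g).map ((n ▷ H) ≫ act) = (Over.pullback g).map (snd X H) := by
  obtain ⟨κ, hκ⟩ := MTAffine.exists_bc_spec_iso K R (MonoidAlgebra K (Multiplicative M))
  let ε' := ε ≪≫ κ
  haveI : IsMonHom ε'.hom := by
    dsimp only [ε', Iso.trans_hom]
    infer_instance
  classical
  let b := Algebra.TensorProduct.basis R (MonoidAlgebra.basis (Multiplicative M) K)
  have hgl : ∀ n, Coalgebra.comul (R := R) (b n) = b n ⊗ₜ[R] b n := by
    intro n
    simp [b, MonoidAlgebra.basis_apply]
  have hb1 : b 1 = 1 := by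
    simp [b, MonoidAlgebra.basis_apply, MonoidAlgebra.one_def, Algebra.TensorProduct.one_def]
  have hbm : ∀ x y : Multiplicative M, b (x * y) = b x * b y := by
    intro x y
    simp [b, MonoidAlgebra.basis_apply, MonoidAlgebra.single_mul_single]
  have hfg' : Group.FG (Multiplicative M) := AddGroup.fg_iff_mul_fg.mp hfg
  let adj := Over.mapPullbackAdj g
  obtain ⟨G, hGc, hG⟩ := MTFix1.exists_fixOpens (tactY act ε')
    (tactY_mul adj act hmul ε') b hgl hb1 hbm hfg'
  have hKL : ∀ y' : (Red.bc g N).left, y' ∈ G ↔ pullback.fst N.hom g y' ∈ Wset act := by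
    intro y'
    let k : Over.mk ((Red.bc g N).left.fromSpecResidueField y' ≫ (Red.bc g N).hom) ⟶ Red.bc g N :=
      Over.homMk ((Red.bc g N).left.fromSpecResidueField y') rfl
    have h1 : y' ∈ G ↔ Set.range k.left ⊆ (G : Set (Red.bc g N).left) := by
      show y' ∈ G ↔ Set.range ((Red.bc g N).left.fromSpecResidueField y') ⊆ _
      rw [Scheme.range_fromSpecResidueField, Set.singleton_subset_iff]
      rfl
    rw [h1, ← hG]
    have h2 : MTFix1.TrivB (tactY act ε') k ↔ TrivS act (MTTransport.ψ adj k) :=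
      ⟨trivS_of_trivT adj act ε' (hL_overMap g _) k, trivT_of_trivS adj act ε' k⟩
    rw [h2]
    have h3 : (MTTransport.ψ adj k).left =
        Spec.map ((pullback.fst N.hom g).residueFieldMap y') ≫
          N.left.fromSpecResidueField (pullback.fst N.hom g y') := by
      rw [Scheme.Hom.SpecMap_residueFieldMap_fromSpecResidueField]
      simp [MTTransport.ψ, Adjunction.homEquiv_counit, adj, k]
    exact trivS_point_iff act y' _ (MTTransport.ψ adj k) _ _ h3
  refine ⟨G, hGc, hKL, fun X n hn => ?_⟩
  apply map_eq_of_trivT_map act ε' n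
  show MTFix1.TrivB (tactY act ε') ((Over.pullback g).map n)
  rw [hG]
  rintro _ ⟨x', rfl⟩
  show ((Over.pullback g).map n).left x' ∈ G
  rw [hKL]
  have h4 := congrArg (fun m : (Red.bc g X).left ⟶ N.left => m x')
    (MTDescent.pullback_map_left_fst g n)
  simp only [Scheme.Hom.comp_apply] at h4
  rw [h4]
  exact hn _

end local_case


section global

open scoped Obj

variable (hmul : ∀ (Y : Over S) (k : Y ⟶ N) (h h' : Y ⟶ H),
    lift k (h * h') ≫ act = (lift k h ≫ act) * (lift k h' ≫ act))

include hmul in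
/-- the local structure of the fixed locus, for a chart of a trivialising scheme -/
theorem local_case' (T : Scheme.{u}) (g : T ⟶ S) (M : Type) [AddCommGroup M]
    (hfg : AddGroup.FG M) (e : Red.bc g H ≅ Red.DS T M) [IsMonHom e.hom]
    (R : CommRingCat.{u}) (kk : Spec R ⟶ T) (g' : Spec R ⟶ S) (hg' : kk ≫ g = g') :
    ∃ G : (Red.bc g' N).left.Opens, IsClosed (G : Set (Red.bc g' N).left) ∧
      (∀ y' : (Red.bc g' N).left, y' ∈ G ↔ pullback.fst N.hom g' y' ∈ Wset act) ∧
      ∀ (X : Over S) (n : X ⟶ N), (∀ x, n.left x ∈ Wset act) →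
        (Over.pullback g').map ((n ▷ H) ≫ act) =
          (Over.pullback g').map (snd X H) := by
  subst hg'
  letI : Algebra (ULift.{u} ℤ) R :=
    RingHom.toAlgebra ((Int.castRingHom R).comp (ULift.ringEquiv : ULift.{u} ℤ ≃+* ℤ).toRingHom)
  obtain ⟨c, hc⟩ := MTDescent.exists_bc_comp_iso kk g (kk ≫ g) rfl H
  obtain ⟨c', hc'⟩ := MTDescent.exists_bc_comp_iso kk
    (Limits.IsTerminal.from specULiftZIsTerminal T)
    (Spec.map (CommRingCat.ofHom (algebraMap (ULift.{u} ℤ) R)))
    (specULiftZIsTerminal.hom_ext _ _) (Red.diag (ULift.{u} ℤ) M)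
  let ε : Red.bc (kk ≫ g) H ≅
      Red.bc (Spec.map (CommRingCat.ofHom (algebraMap (ULift.{u} ℤ) R)))
        (Red.diag (ULift.{u} ℤ) M) :=
    c.symm ≪≫ (Over.pullback kk).mapIso e ≪≫ c'
  haveI : IsMonHom ε.hom := by
    dsimp only [ε, Iso.trans_hom, Iso.symm_hom, Functor.mapIso_hom]
    infer_instance
  exact local_case act hmul (ULift.{u} ℤ) R (kk ≫ g) M hfg ε

include hmul in
/-- a family all of whose points lie in the fixed locus acts trivially -/
theorem trivS_of_forall_mem_Wset (hH : SGA3x.IsMultTypeFT H) {X : Over S} (n : X ⟶ N)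
    (hn : ∀ x, n.left x ∈ Wset act) : TrivS act n := by
  rw [trivS_iff]
  obtain ⟨S', f, hflat, hsurj, -, hloc⟩ := hH
  apply MTDescent.hom_ext_of_flat_surj f
  choose U hU hP using hloc
  have hcov : TopologicalSpace.IsOpenCover U := by
    refine TopologicalSpace.IsOpenCover.mk ?_
    rw [eq_top_iff]
    intro x _
    exact TopologicalSpace.Opens.mem_iSup.mpr ⟨x, hU x⟩
  apply MTDescent.hom_ext_of_cover (S'.openCoverOfIsOpenCover U hcov)
  intro s'
  change (Over.pullback (U s').ι).map _ = (Over.pullback (U s').ι).map _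
  apply MTDescent.map_map_eq_of_comp
  obtain ⟨M, _, hfg, ⟨e⟩⟩ := hP s'
  obtain ⟨e', he'⟩ := MTDescent.exists_iso_of_grp_iso e
  apply MTDescent.hom_ext_of_cover (U s' : Scheme.{u}).affineOpenCover.openCover
  intro k
  apply MTDescent.map_map_eq_of_comp
  obtain ⟨G, -, -, hG⟩ := local_case' act hmul (U s' : Scheme.{u}) ((U s').ι ≫ f) M hfg e'
    ((U s' : Scheme.{u}).affineOpenCover.X k) ((U s' : Scheme.{u}).affineOpenCover.f k) _ rfl
  exact hG X n hn

end global

end slevel

end Groth.Agent.Lib.Helper14.MTFix3
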