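import Mathlib
import Groth.Agent.Lib.Helper14.MTFix3

set_option autoImplicit false

namespace Groth.Agent.Lib.Helper14.MTFix4

open CategoryTheory MonoidalCategory CartesianMonoidalCategory MonObj GrpObj AlgebraicGeometry
open CategoryTheory.Limits
open Groth.Agent.Lib.Helper14 MTFix2 MTFix3

universe u

section topo

/-- openness can be checked on an open cover -/
lemma isOpen_of_cover {X : Scheme.{u}} (P : X.OpenCover) (A : Set X)
    (h : ∀ i, IsOpen ((P.f i) ⁻¹' A)) : IsOpen A := by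
  rw [P.isOpenCover_opensRange.isOpen_iff_inter]
  intro i
  rw [Scheme.Hom.coe_opensRange, ← Set.image_preimage_eq_inter_range]
  exact (P.f i).isOpenEmbedding.isOpenMap _ (h i)

/-- the base change of an fpqc covering is submersive -/
theorem isOpen_of_isOpen_preimage_pullback_fst {S S' Q : Scheme.{u}} (q : Q ⟶ S) (f : S' ⟶ S)
    [Flat f]
    (hcov : ∀ V : S.Opens, IsAffineOpen V → ∃ W : S'.Opens, IsCompact (W : Set S') ∧
      f.base '' (W : Set S') = (V : Set S))
    (A : Set Q) (hA : IsOpen ((pullback.fst q f) ⁻¹' A)) : IsOpen A := by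
  rw [isOpen_iff_forall_mem_open]
  intro a ha
  obtain ⟨V, hV, hsV, -⟩ := exists_isAffineOpen_mem_and_subset (U := ⊤) (x := q a) (by simp)
  obtain ⟨W, hWc, hWV⟩ := hcov V hV
  have hrange : Set.range (W.ι ≫ f) ⊆ Set.range V.ι := by
    rw [Scheme.Opens.range_ι]
    rintro _ ⟨x, rfl⟩
    rw [← hWV]
    exact ⟨x.1, x.2, rfl⟩
  let w : (W : Scheme.{u}) ⟶ (V : Scheme.{u}) := IsOpenImmersion.lift V.ι (W.ι ≫ f) hrange
  have hw : w ≫ V.ι = W.ι ≫ f := IsOpenImmersion.lift_fac _ _ _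
  haveI : Flat (w ≫ V.ι) := by
    rw [hw]
    infer_instance
  haveI : Flat w :=
    (MorphismProperty.IsStableUnderBaseChange.hasOfPostcompProperty_monomorphisms
      (P := @Flat)).of_postcomp w V.ι (inferInstanceAs (Mono V.ι)) ‹_›
  haveI : Surjective w := by
    refine ⟨fun v => ?_⟩
    have hv : (v.1 : S) ∈ (V : Set S) := v.2
    rw [← hWV] at hv
    obtain ⟨x, hxW, hx⟩ := hv
    refine ⟨⟨x, hxW⟩, ?_⟩
    apply V.ι.injective
    have h5 := congrArg (fun m : (W : Scheme.{u}) ⟶ S => m ⟨x, hxW⟩) hw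
    exact h5.trans hx
  haveI : CompactSpace (W : Scheme.{u}) := isCompact_iff_compactSpace.mp hWc
  haveI : IsAffine (V : Scheme.{u}) := hV
  haveI : QuasiCompact w := inferInstance
  let QV : Q.Opens := q ⁻¹ᵁ V
  let qV : (QV : Scheme.{u}) ⟶ (V : Scheme.{u}) := q ∣_ V
  have hqV : qV ≫ V.ι = QV.ι ≫ q := morphismRestrict_ι q V
  let π : pullback qV w ⟶ (QV : Scheme.{u}) := pullback.fst qV w
  have hquot : Topology.IsQuotientMap π := Flat.isQuotientMap_of_surjective π
  let θ : pullback qV w ⟶ pullback q f :=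
    pullback.lift (π ≫ QV.ι) (pullback.snd qV w ≫ W.ι) (by
      rw [Category.assoc, ← hqV, ← Category.assoc, pullback.condition, Category.assoc, hw,
        Category.assoc])
  have hθ : θ ≫ pullback.fst q f = π ≫ QV.ι := pullback.lift_fst _ _ _
  have h1 : IsOpen (π ⁻¹' (QV.ι ⁻¹' A)) := by
    have h2 : π ⁻¹' (QV.ι ⁻¹' A) = θ ⁻¹' ((pullback.fst q f) ⁻¹' A) := by
      ext x
      simp only [Set.mem_preimage]
      rw [← Scheme.Hom.comp_apply, ← Scheme.Hom.comp_apply, hθ]
    rw [h2]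
    exact hA.preimage θ.continuous
  have h3 : IsOpen (QV.ι ⁻¹' A) := hquot.isOpen_preimage.mp h1
  refine ⟨QV.ι '' (QV.ι ⁻¹' A), Set.image_preimage_subset _ _,
    QV.ι.isOpenEmbedding.isOpenMap _ h3, ?_⟩
  exact ⟨⟨a, hsV⟩, ha, rfl⟩

end topo

section clopen

open scoped Obj

variable {S : Scheme.{u}} {N H : Over S} [GrpObj H] (act : N ⊗ H ⟶ H)
  (hmul : ∀ (Y : Over S) (k : Y ⟶ N) (h h' : Y ⟶ H),
    lift k (h * h') ≫ act = (lift k h ≫ act) * (lift k h' ≫ act))

include hmul in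
/-- the fixed locus of an action on a group of multiplicative type is open and closed -/
theorem isClopen_Wset (hH : SGA3x.IsMultTypeFT H) : IsClopen (Wset act) := by
  obtain ⟨S', f, hflat, hsurj, hcov, hloc⟩ := hH
  haveI := hflat
  choose U hU hP using hloc
  have hUcov : TopologicalSpace.IsOpenCover U := by
    refine TopologicalSpace.IsOpenCover.mk ?_
    rw [eq_top_iff]
    intro x _
    exact TopologicalSpace.Opens.mem_iSup.mpr ⟨x, hU x⟩
  let 𝒰 : S'.OpenCover := (S'.openCoverOfIsOpenCover U hUcov).bind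
    (fun s' => (U s' : Scheme.{u}).affineOpenCover.openCover)
  let PP := Scheme.Pullback.openCoverOfRight 𝒰 N.hom f
  have key : ∀ i, IsClopen ((PP.f i) ⁻¹' ((pullback.fst N.hom f) ⁻¹' Wset act)) := by
    rintro ⟨s', k⟩
    obtain ⟨M, _, hfg, ⟨e⟩⟩ := hP s'
    obtain ⟨e', he'⟩ := MTDescent.exists_iso_of_grp_iso e
    obtain ⟨G, hGc, hG, -⟩ := local_case' act hmul (U s' : Scheme.{u}) ((U s').ι ≫ f) M hfg e'
      ((U s' : Scheme.{u}).affineOpenCover.X k) ((U s' : Scheme.{u}).affineOpenCover.f k)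
      (𝒰.f ⟨s', k⟩ ≫ f) (Category.assoc _ _ _).symm
    have h1 : IsClopen ((pullback.fst N.hom (𝒰.f ⟨s', k⟩ ≫ f)) ⁻¹' Wset act) := by
      have h4 : (pullback.fst N.hom (𝒰.f ⟨s', k⟩ ≫ f)) ⁻¹' Wset act =
          G.1 := by
        ext y'
        exact (hG y').symm
      rw [h4]
      exact ⟨hGc, G.2⟩
    have h2 : PP.f ⟨s', k⟩ ≫ pullback.fst N.hom f = pullback.fst N.hom (𝒰.f ⟨s', k⟩ ≫ f) := by
      exact (pullback.lift_fst _ _ _).trans (Category.comp_id _)
    have h3 : (PP.f ⟨s', k⟩) ⁻¹' ((pullback.fst N.hom f) ⁻¹' Wset act) =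
        (pullback.fst N.hom (𝒰.f ⟨s', k⟩ ≫ f)) ⁻¹' Wset act := by
      ext y'
      rw [Set.mem_preimage, Set.mem_preimage, ← Scheme.Hom.comp_apply, h2]
      rfl
    rw [h3]
    exact h1
  have hopen : IsOpen ((pullback.fst N.hom f) ⁻¹' Wset act) :=
    isOpen_of_cover PP _ (fun i => (key i).isOpen)
  have hclosed : IsOpen ((pullback.fst N.hom f) ⁻¹' (Wset act)ᶜ) := by
    apply isOpen_of_cover PP
    intro i
    rw [Set.preimage_compl, Set.preimage_compl]
    exact (key i).isClosed.isOpen_compl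
  exact ⟨isOpen_compl_iff.mp (isOpen_of_isOpen_preimage_pullback_fst N.hom f hcov _ hclosed),
    isOpen_of_isOpen_preimage_pullback_fst N.hom f hcov _ hopen⟩

include hmul in
/-- the fixed locus of an action on a group of multiplicative type is an open and closed
subscheme classifying the trivially acting points -/
theorem exists_fixOpens (hH : SGA3x.IsMultTypeFT H) :
    ∃ W : N.left.Opens, IsClosed (W : Set N.left) ∧
      ∀ (X : Over S) (n : X ⟶ N), TrivS act n ↔ Set.range n.left ⊆ (W : Set N.left) := by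
  have hcl := isClopen_Wset act hmul hH
  refine ⟨⟨Wset act, hcl.isOpen⟩, hcl.isClosed, fun X n => ⟨?_, ?_⟩⟩
  · rintro h _ ⟨x, rfl⟩
    exact mem_Wset_of_trivS act n h x
  · intro h
    exact trivS_of_forall_mem_Wset act hmul hH n (fun x => h ⟨x, rfl⟩)

end clopen

end Groth.Agent.Lib.Helper14.MTFix4
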