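import Mathlib.AlgebraicGeometry.IdealSheaf.Functorial
import Mathlib.AlgebraicGeometry.Morphisms.ClosedImmersion

set_option autoImplicit false

namespace Groth.Agent.Lib.Helper14.MTNil

open CategoryTheory AlgebraicGeometry CategoryTheory.Limits

universe u

/-- lifting through a closed immersion into an affine scheme -/
theorem exists_lift {Z T Y : Scheme.{u}} [IsAffine T] (i' : Z ⟶ T) [IsClosedImmersion i']
    (y' : Y ⟶ T) (H : RingHom.ker i'.appTop.hom ≤ RingHom.ker y'.appTop.hom) :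
    ∃ p : Y ⟶ Z, p ≫ i' = y' := by
  refine ⟨IsClosedImmersion.lift i' y' ?_, IsClosedImmersion.lift_fac _ _ _⟩
  rw [Scheme.ker_of_isAffine, Scheme.ker_of_isAffine]
  apply Scheme.IdealSheafData.le_of_isAffine
  simpa using H

/-- the ideal of the restriction of a closed immersion with nilpotent ideal on an affine open
is nilpotent -/
theorem isNilpotent_ker {S S₀ : Scheme.{u}} (i₀ : S₀ ⟶ S) [IsClosedImmersion i₀]
    (U : S.affineOpens) (h : IsNilpotent (i₀.ker.ideal U)) :
    IsNilpotent (RingHom.ker (pullback.fst U.1.ι i₀).appTop.hom) := by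
  have H : IsPullback (pullback.fst U.1.ι i₀) (pullback.snd U.1.ι i₀) U.1.ι i₀ :=
    IsPullback.of_hasPullback _ _
  have key := Scheme.ker_ideal_of_isPullback_of_isOpenImmersion i₀ (pullback.fst U.1.ι i₀)
    (pullback.snd U.1.ι i₀) U.1.ι H ⟨⊤, isAffineOpen_top _⟩
  have hU : (⟨U.1.ι ''ᵁ ⊤, (isAffineOpen_top _).image_of_isOpenImmersion _⟩ : S.affineOpens) = U :=
    Subtype.ext (by simp)
  have h' : ∀ V : S.affineOpens, V = U → IsNilpotent (i₀.ker.ideal V) := by
    rintro V rfl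
    exact h
  have hk : RingHom.ker (pullback.fst U.1.ι i₀).appTop.hom =
      (pullback.fst U.1.ι i₀).ker.ideal ⟨⊤, isAffineOpen_top _⟩ := by
    rw [Scheme.Hom.ker_apply]
    rfl
  rw [hk, key]
  obtain ⟨n, hn⟩ := h' _ hU
  refine ⟨n, ?_⟩
  rw [Ideal.zero_eq_bot] at hn ⊢
  rw [eq_bot_iff]
  refine (Ideal.le_comap_pow _ n).trans ?_
  rw [hn]
  intro z hz
  have hz' : (U.1.ι.appIso ⊤).inv.hom z = 0 := hz
  have hinj : Function.Injective (U.1.ι.appIso ⊤).inv.hom :=
    (ConcreteCategory.bijective_of_isIso (U.1.ι.appIso ⊤).inv).1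
  exact hinj (hz'.trans (map_zero _).symm)

end Groth.Agent.Lib.Helper14.MTNil
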