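import Mathlib
import Groth.Prelude.Def_Red2
import Groth.Prelude.Def_SGA3x
import Groth.Prelude.Def_AlgGrp
import Groth.Prelude.Def_TwC
import Groth.Agent.Lib.Helper14.MTActGeom
import Groth.Agent.Lib.Helper14.MTTransport
import Groth.Agent.Lib.Helper14.MTDescent
import Groth.Agent.Lib.Helper14.MTAffine
import Groth.Agent.Lib.Helper14.MTNil

set_option autoImplicit false

namespace Groth.Agent.Lib.Helper14.MTActMain

open CategoryTheory MonoidalCategory CartesianMonoidalCategory MonObj GrpObj AlgebraicGeometry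
open CategoryTheory.Limits TensorProduct
open Groth.Agent.Lib.Helper14

universe u

section pts

variable {S : Scheme.{u}} {G X : Over S} [GrpObj G] (a : AlgGrp.Action G X)

lemma act_one_pt (Y : Over S) (x : Y ⟶ X) : lift (1 : Y ⟶ G) x ≫ a.act = x := by
  have h : lift (1 : Y ⟶ G) x = lift (toUnit Y) x ≫ (η[G] ▷ X) := by
    rw [lift_whiskerRight]
    rfl
  rw [h, Category.assoc, a.one_act, lift_leftUnitor_hom]

lemma act_mul_pt (Y : Over S) (g h : Y ⟶ G) (x : Y ⟶ X) :
    lift (g * h) x ≫ a.act = lift g (lift h x ≫ a.act) ≫ a.act := by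
  have h' : lift (g * h) x = lift (lift g h) x ≫ (μ[G] ▷ X) := by
    rw [lift_whiskerRight]
    rfl
  rw [h', Category.assoc, a.mul_act, lift_lift_associator_hom_assoc, lift_whiskerLeft_assoc]

end pts

section local_case

open scoped Obj

variable {S S₀ : Scheme.{u}} (i₀ : S₀ ⟶ S) [IsClosedImmersion i₀]
  (G X : Over S) [GrpObj G] (a : AlgGrp.Action G X)
  (h0 : ∀ (Y : Over S) (p : Y ⟶ Over.mk i₀) (g : Y ⟶ G) (x : Y ⟶ X), lift g x ≫ a.act = x)

include h0 in
theorem local_case (US : S.affineOpens) (hUS : IsNilpotent (i₀.ker.ideal US))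
    (K B : Type u) [CommRing K] [CommRing B] [Algebra K B]
    (g : Spec (.of B) ⟶ S) (g' : Spec (.of B) ⟶ US.1.toScheme) (hg : g' ≫ US.1.ι = g)
    (M : Type) [AddCommGroup M]
    (ε : Red.bc g G ≅ Red.bc (Spec.map (CommRingCat.ofHom (algebraMap K B))) (Red.diag K M))
    [IsMonHom ε.hom] :
    (Over.pullback g).map a.act = (Over.pullback g).map (snd G X) := by
  obtain ⟨κ, hκ⟩ := MTAffine.exists_bc_spec_iso K B (MonoidAlgebra K (Multiplicative M))
  let ε' := ε ≪≫ κ
  haveI : IsMonHom ε'.hom := by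
    dsimp only [ε', Iso.trans_hom]
    infer_instance
  let i' := pullback.fst US.1.ι i₀
  let J' := RingHom.ker i'.appTop.hom
  have hJ' : IsNilpotent J' := MTNil.isNilpotent_ker i₀ US hUS
  let φ : Γ(US.1.toScheme, ⊤) →+* B := (g'.appTop ≫ (Scheme.ΓSpecIso (.of B)).hom).hom
  let N : Ideal B := Ideal.map φ J'
  have hN : IsNilpotent N := by
    obtain ⟨n, hn⟩ := hJ'
    refine ⟨n, ?_⟩
    rw [← Ideal.map_pow, hn, Ideal.zero_eq_bot, Ideal.map_bot]
    rfl
  classical
  let b := Algebra.TensorProduct.basis B (MonoidAlgebra.basis (Multiplicative M) K)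
  have hgl : ∀ n, Coalgebra.comul (R := B) (b n) = b n ⊗ₜ[B] b n := by
    intro n
    simp [b, MonoidAlgebra.basis_apply]
  have he : b 1 = 1 := by
    simp [b, MonoidAlgebra.basis_apply, Algebra.TensorProduct.one_def, MonoidAlgebra.one_def]
  refine MTTransport.map_eq_of_tact_eq a.act ε' ?_
  refine MTActGeom.act_eq_snd N hN b hgl 1 he _
    (MTTransport.tact_one (Over.mapPullbackAdj g) a.act (act_one_pt a) ε')
    (MTTransport.tact_mul (Over.mapPullbackAdj g) a.act (act_mul_pt a) ε') ?_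
  intro C _ _ hC d x
  apply MTTransport.ψ_injective (Over.mapPullbackAdj g)
  rw [MTTransport.ψ_tact]
  have hker : RingHom.ker i'.appTop.hom ≤
      RingHom.ker (Spec.map (CommRingCat.ofHom (algebraMap B C)) ≫ g').appTop.hom := by
    intro j hj
    have hφ : φ j ∈ N := Ideal.mem_map_of_mem φ hj
    have h1 := hC _ hφ
    rw [RingHom.mem_ker, Scheme.Hom.comp_appTop]
    have hinj : Function.Injective (Scheme.ΓSpecIso (CommRingCat.of C)).hom.hom :=
      (ConcreteCategory.bijective_of_isIso (Scheme.ΓSpecIso (CommRingCat.of C)).hom).1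
    apply hinj
    rw [map_zero]
    have h2 := congrArg (fun l => l.hom (g'.appTop.hom j))
      (Scheme.ΓSpecIso_naturality (CommRingCat.ofHom (algebraMap B C)))
    simp only [CommRingCat.hom_comp, RingHom.comp_apply] at h2
    rw [CommRingCat.hom_comp, RingHom.comp_apply]
    exact h2.trans h1
  obtain ⟨p, hp⟩ := MTNil.exists_lift i' (Spec.map (CommRingCat.ofHom (algebraMap B C)) ≫ g') hker
  refine h0 _ (Over.homMk (p ≫ pullback.snd US.1.ι i₀) ?_) _ _
  subst hg
  change (p ≫ pullback.snd US.1.ι i₀) ≫ i₀ =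
    Spec.map (CommRingCat.ofHom (algebraMap B C)) ≫ g' ≫ US.1.ι
  rw [Category.assoc, ← pullback.condition, ← Category.assoc, hp, Category.assoc]

end local_case

section assembly

open scoped Obj

variable {S S₀ : Scheme.{u}} (i₀ : S₀ ⟶ S) [IsClosedImmersion i₀]
  (hnil : ∀ x : S, ∃ U : S.affineOpens, x ∈ (U : S.Opens) ∧ IsNilpotent (i₀.ker.ideal U))
  (G X : Over S) [GrpObj G] (a : AlgGrp.Action G X)
  (h0 : ∀ (Y : Over S) (p : Y ⟶ Over.mk i₀) (g : Y ⟶ G) (x : Y ⟶ X), lift g x ≫ a.act = x)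

include h0 in
theorem step2_aux (US : S.affineOpens) (hUS : IsNilpotent (i₀.ker.ideal US))
    (T : Scheme.{u}) (g : T ⟶ S) (M : Type) [AddCommGroup M]
    (e : Red.bc g G ≅ Red.DS T M) [IsMonHom e.hom]
    (R : CommRingCat.{u}) (kk : Spec R ⟶ T) (g' : Spec R ⟶ US.1.toScheme)
    (hcomm : g' ≫ US.1.ι = kk ≫ g) :
    (Over.pullback (kk ≫ g)).map a.act = (Over.pullback (kk ≫ g)).map (snd G X) := by
  letI : Algebra (ULift.{u} ℤ) R :=
    RingHom.toAlgebra ((Int.castRingHom R).comp (ULift.ringEquiv : ULift.{u} ℤ ≃+* ℤ).toRingHom)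
  obtain ⟨c, hc⟩ := MTDescent.exists_bc_comp_iso kk g (kk ≫ g) rfl G
  obtain ⟨c', hc'⟩ := MTDescent.exists_bc_comp_iso kk
    (Limits.IsTerminal.from specULiftZIsTerminal T)
    (Spec.map (CommRingCat.ofHom (algebraMap (ULift.{u} ℤ) R)))
    (specULiftZIsTerminal.hom_ext _ _) (Red.diag (ULift.{u} ℤ) M)
  let ε : Red.bc (kk ≫ g) G ≅
      Red.bc (Spec.map (CommRingCat.ofHom (algebraMap (ULift.{u} ℤ) R)))
        (Red.diag (ULift.{u} ℤ) M) :=
    c.symm ≪≫ (Over.pullback kk).mapIso e ≪≫ c'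
  haveI : IsMonHom ε.hom := by
    dsimp only [ε, Iso.trans_hom, Iso.symm_hom, Functor.mapIso_hom]
    infer_instance
  exact local_case i₀ G X a h0 US hUS (ULift.{u} ℤ) R (kk ≫ g) g' hcomm M ε

include hnil h0 in
theorem step2 (T : Scheme.{u}) (g : T ⟶ S) (M : Type) [AddCommGroup M]
    (e : Red.bc g G ≅ Red.DS T M) [IsMonHom e.hom] :
    (Over.pullback g).map a.act = (Over.pullback g).map (snd G X) := by
  choose US hx hUS using hnil
  have hcov : TopologicalSpace.IsOpenCover (fun x : S => (US x).1) := by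
    refine TopologicalSpace.IsOpenCover.mk ?_
    rw [eq_top_iff]
    intro x _
    exact TopologicalSpace.Opens.mem_iSup.mpr ⟨x, hx x⟩
  let 𝒱 := S.openCoverOfIsOpenCover (fun x : S => (US x).1) hcov
  let 𝒲 := 𝒱.pullback₁ g
  let 𝒰 := 𝒲.bind (fun j => (𝒲.X j).affineOpenCover.openCover)
  apply MTDescent.hom_ext_of_cover 𝒰
  rintro ⟨x, k⟩
  apply MTDescent.map_map_eq_of_comp
  refine step2_aux i₀ G X a h0 (US x) (hUS x) T g M e ((𝒲.X x).affineOpenCover.X k)
    ((𝒲.X x).affineOpenCover.f k ≫ pullback.fst g (𝒱.f x))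
    ((𝒲.X x).affineOpenCover.f k ≫ pullback.snd g (𝒱.f x)) ?_
  rw [Category.assoc, Category.assoc]
  congr 1
  exact pullback.condition.symm

include hnil h0 in
theorem main
    (hG : TwC.Locally S TwC.Topology.fpqc (fun S' f => ∃ (M : Type) (_ : AddCommGroup M),
      Nonempty (Grp.mk (Red.bc f G) ≅ Grp.mk (Red.DS S' M)))) :
    a.act = snd G X := by
  obtain ⟨S', f, hflat, hsurj, -, hloc⟩ := hG
  apply MTDescent.hom_ext_of_flat_surj f
  choose U hU hP using hloc
  have hcov : TopologicalSpace.IsOpenCover U := by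
    refine TopologicalSpace.IsOpenCover.mk ?_
    rw [eq_top_iff]
    intro x _
    exact TopologicalSpace.Opens.mem_iSup.mpr ⟨x, hU x⟩
  apply MTDescent.hom_ext_of_cover (S'.openCoverOfIsOpenCover U hcov)
  intro s'
  change (Over.pullback (U s').ι).map _ = (Over.pullback (U s').ι).map _
  apply MTDescent.map_map_eq_of_comp
  obtain ⟨M, _, ⟨e⟩⟩ := hP s'
  obtain ⟨e', he'⟩ := MTDescent.exists_iso_of_grp_iso e
  exact step2 i₀ hnil G X a h0 _ _ M e'

end assembly

end Groth.Agent.Lib.Helper14.MTActMain
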