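import Mathlib
import Groth.Agent.Lib.Helper14.MTAct

set_option autoImplicit false

namespace Groth.Agent.Lib.Helper14.MTFree1

open TensorProduct Coalgebra
open Groth.Agent.Lib.Helper14.MTAct

universe u

section alg

variable {B H A : Type u} [CommRing B] [CommRing H] [Bialgebra B H] [CommRing A] [Algebra B A]
  (P : PtAct B H A) {M : Type} [AddCommGroup M] [DecidableEq M] (b : Module.Basis M B H)
  (hgl : ∀ i, comul (R := B) (b i) = b i ⊗ₜ[B] b i)
  (hε : ∀ i, counit (R := B) (b i) = 1)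
  (hb0 : b 0 = 1) (hbadd : ∀ m n, b (m + n) = b m * b n)

omit [DecidableEq M] in
/-- expansion of an element of `A ⊗ H` along the basis -/
lemma expand (z : A ⊗[B] H) :
    z = ∑ m ∈ ((Algebra.TensorProduct.basis A b).repr z).support, coef b A m z ⊗ₜ[B] b m := by
  have h := (Algebra.TensorProduct.basis A b).linearCombination_repr z
  rw [Finsupp.linearCombination_apply, Finsupp.sum] at h
  conv_lhs => rw [← h]
  refine Finset.sum_congr rfl (fun m _ => ?_)
  rw [Algebra.TensorProduct.basis_apply, TensorProduct.smul_tmul', smul_eq_mul, mul_one]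
  rfl

omit [DecidableEq M] in
lemma eq_of_forall_coef {Q : Type*} [AddCommMonoid Q] [Module B Q] (f g : A ⊗[B] H →ₗ[B] Q)
    (z : A ⊗[B] H) (h : ∀ m, f (coef b A m z ⊗ₜ[B] b m) = g (coef b A m z ⊗ₜ[B] b m)) :
    f z = g z := by
  have hz := expand b z
  calc f z = f (∑ m ∈ ((Algebra.TensorProduct.basis A b).repr z).support,
        coef b A m z ⊗ₜ[B] b m) := congrArg f hz
    _ = g (∑ m ∈ ((Algebra.TensorProduct.basis A b).repr z).support,
        coef b A m z ⊗ₜ[B] b m) := by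
      rw [map_sum, map_sum]
      exact Finset.sum_congr rfl (fun m _ => h m)
    _ = g z := (congrArg g hz).symm

include hgl in
/-- the coefficient operators produce homogeneous elements -/
lemma ρ_π (m : M) (a : A) : P.ρ (π P b m a) = π P b m a ⊗ₜ[B] b m := by
  apply eq_of_coef_eq b
  intro i
  rw [coef_tmul]
  have h := π_π P b hgl m i a
  by_cases hmi : m = i
  · subst hmi
    rw [if_pos rfl] at h ⊢
    exact h
  · rw [if_neg hmi] at h ⊢
    exact h

include hbadd in
lemma π_mul_of_homog (m n : M) (a c : A) (ha : P.ρ a = a ⊗ₜ[B] b m) :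
    π P b n (a * c) = a * π P b (n - m) c := by
  have key : (coef b A n) ∘ₗ (LinearMap.mulLeft B (a ⊗ₜ[B] b m)) =
      (LinearMap.mulLeft B a) ∘ₗ (coef b A (n - m)) := by
    apply ext_basis b
    intro a' l
    simp only [LinearMap.comp_apply, LinearMap.mulLeft_apply, Algebra.TensorProduct.tmul_mul_tmul,
      ← hbadd, coef_tmul]
    by_cases h : l = n - m
    · subst h
      simp
    · rw [if_neg h, if_neg, mul_zero]
      intro h'
      exact h (by rw [← h']; abel)
  have h1 := LinearMap.congr_fun key (P.ρ c)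
  simp only [LinearMap.comp_apply, LinearMap.mulLeft_apply] at h1
  show coef b A n (P.ρ (a * c)) = a * coef b A (n - m) (P.ρ c)
  rw [map_mul, ha]
  exact h1

include hb0 in
lemma π_zero_one : π P b 0 1 = 1 := by
  show coef b A 0 (P.ρ 1) = 1
  rw [map_one, Algebra.TensorProduct.one_def, ← hb0, coef_tmul, if_pos rfl]

/-- an ideal stable under the coefficient operators -/
def Stable (J : Ideal A) : Prop := ∀ m a, a ∈ J → π P b m a ∈ J

omit [DecidableEq M] in
lemma stable_sup {J J' : Ideal A} (h : Stable P b J) (h' : Stable P b J') :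
    Stable P b (J ⊔ J') := by
  intro m a ha
  obtain ⟨x, hx, y, hy, rfl⟩ := Submodule.mem_sup.mp ha
  rw [map_add]
  exact Submodule.add_mem_sup (h m x hx) (h' m y hy)

include hbadd in
lemma stable_span_singleton (m : M) (t : A) (ht : P.ρ t = t ⊗ₜ[B] b m) :
    Stable P b (Ideal.span {t}) := by
  intro n a ha
  obtain ⟨c, rfl⟩ := Ideal.mem_span_singleton'.mp ha
  rw [mul_comm, π_mul_of_homog P b hbadd m n t c ht]
  exact Ideal.mul_mem_right _ _ (Ideal.subset_span rfl)

include hbadd hgl in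
lemma stable_span_range (m₀ : M) : Stable P b (Ideal.span (Set.range (π P b m₀))) := by
  intro n a ha
  refine Submodule.closure_induction (p := fun x _ => π P b n x ∈ Ideal.span (Set.range (π P b m₀)))
    ?_ ?_ ?_ ha
  · rw [map_zero]
    exact Submodule.zero_mem _
  · intro x y _ _ hx hy
    rw [map_add]
    exact Submodule.add_mem _ hx hy
  · rintro r _ ⟨a', rfl⟩
    rw [smul_eq_mul, mul_comm, π_mul_of_homog P b hbadd m₀ n _ r (ρ_π P b hgl m₀ a')]
    exact Ideal.mul_mem_right _ _ (Ideal.subset_span ⟨a', rfl⟩)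

omit [DecidableEq M] in
lemma stable_sSup_chain (c : Set (Ideal A)) (hc : IsChain (· ≤ ·) c) (hne : c.Nonempty)
    (hst : ∀ J ∈ c, Stable P b J) : Stable P b (sSup c) := by
  intro m a ha
  have hdir : DirectedOn (· ≤ ·) c := hc.directedOn
  obtain ⟨J, hJ, haJ⟩ := (Submodule.mem_sSup_of_directed hne hdir).mp ha
  exact (Submodule.mem_sSup_of_directed hne hdir).mpr ⟨J, hJ, hst J hJ m a haJ⟩

omit [DecidableEq M] in
include hb0 hbadd in
/-- algebra homomorphisms out of `H` from characters -/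
lemma exists_algHom (C : Type u) [CommRing C] [Algebra B C] (χ : M → C) (h0 : χ 0 = 1)
    (hadd : ∀ m n, χ (m + n) = χ m * χ n) : ∃ γ : H →ₐ[B] C, ∀ m, γ (b m) = χ m := by
  let f : H →ₗ[B] C := b.constr B χ
  have hf : ∀ m, f (b m) = χ m := fun m => b.constr_basis B χ m
  have hbil : (LinearMap.mul B H).compr₂ f = (LinearMap.mul B C).compl₁₂ f f := by
    apply b.ext
    intro m
    apply b.ext
    intro n
    simp only [LinearMap.compr₂_apply, LinearMap.compl₁₂_apply, LinearMap.mul_apply', ← hbadd, hf,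
      hadd]
  refine ⟨AlgHom.ofLinearMap f ?_ ?_, fun m => hf m⟩
  · rw [← hb0, hf, h0]
  · intro x y
    exact LinearMap.congr_fun (LinearMap.congr_fun hbil x) y

/-- the candidate set for Zorn's lemma -/
def Cand (m₀ : M) : Set (Ideal A) :=
  {J | Stable P b J ∧ J ≠ ⊤ ∧ Ideal.span (Set.range (π P b m₀)) ≤ J}

include hgl hbadd in
lemma exists_maximal (m₀ : M) (h : Ideal.span (Set.range (π P b m₀)) ≠ ⊤) :
    ∃ J, Maximal (· ∈ Cand P b m₀) J := by
  have hz : ∀ c ⊆ Cand P b m₀, IsChain (· ≤ ·) c → ∀ y ∈ c, ∃ ub ∈ Cand P b m₀, ∀ z ∈ c, z ≤ ub := by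
    intro c hc hchain y hy
    refine ⟨sSup c, ⟨?_, ?_, ?_⟩, fun z hz => le_sSup hz⟩
    · exact stable_sSup_chain P b c hchain ⟨y, hy⟩ (fun J hJ => (hc hJ).1)
    · intro htop
      have h1 : (1 : A) ∈ sSup c := by rw [htop]; exact Submodule.mem_top
      obtain ⟨J, hJ, h1J⟩ := (Submodule.mem_sSup_of_directed ⟨y, hy⟩ hchain.directedOn).mp h1
      exact (hc hJ).2.1 ((Ideal.eq_top_iff_one J).mpr h1J)
    · exact (hc hy).2.2.trans (le_sSup hy)
  obtain ⟨J, -, hJ⟩ := zorn_le_nonempty₀ (Cand P b m₀) hz (Ideal.span (Set.range (π P b m₀)))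
    ⟨stable_span_range P b hgl hbadd m₀, h, le_rfl⟩
  exact ⟨J, hJ⟩

include hgl hb0 hbadd in
lemma key (m₀ : M) (J : Ideal A) (hJ : Maximal (· ∈ Cand P b m₀) J) (m : M) (a : A)
    (ht : π P b m a ∉ J) : ∃ c, 1 - π P b m a * π P b (-m) c ∈ J := by
  set t := π P b m a with ht_def
  have hρ : P.ρ t = t ⊗ₜ[B] b m := ρ_π P b hgl m a
  have hst : Stable P b (J ⊔ Ideal.span {t}) :=
    stable_sup P b hJ.prop.1 (stable_span_singleton P b hbadd m t hρ)
  have htop : J ⊔ Ideal.span {t} = ⊤ := by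
    by_contra hne
    have hmem : J ⊔ Ideal.span {t} ∈ Cand P b m₀ := ⟨hst, hne, hJ.prop.2.2.trans le_sup_left⟩
    have hle := hJ.le_of_ge hmem le_sup_left
    exact ht (hle (Submodule.mem_sup_right (Ideal.subset_span rfl)))
  have h1 : (1 : A) ∈ J ⊔ Ideal.span {t} := by rw [htop]; exact Submodule.mem_top
  obtain ⟨j, hj, y, hy, hjy⟩ := Submodule.mem_sup.mp h1
  obtain ⟨c, rfl⟩ := Ideal.mem_span_singleton'.mp hy
  refine ⟨c, ?_⟩
  have h2 := congrArg (π P b 0) hjy
  rw [map_add, π_zero_one P b hb0, mul_comm, π_mul_of_homog P b hbadd m 0 t c hρ, zero_sub] at h2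
  have h3 : 1 - t * π P b (-m) c = π P b 0 j := by rw [← h2]; ring
  rw [h3]
  exact hJ.prop.1 0 j hj

/-- the degrees which survive modulo a maximal stable ideal form a subgroup -/
def Sg (m₀ : M) (J : Ideal A) (hJ : Maximal (· ∈ Cand P b m₀) J)
    (hgl : ∀ i, comul (R := B) (b i) = b i ⊗ₜ[B] b i)
    (hb0 : b 0 = 1) (hbadd : ∀ m n, b (m + n) = b m * b n) : AddSubgroup M where
  carrier := {m | ∃ a, π P b m a ∉ J}
  zero_mem' := ⟨1, by
    rw [π_zero_one P b hb0]
    exact fun h => hJ.prop.2.1 ((Ideal.eq_top_iff_one J).mpr h)⟩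
  add_mem' := by
    rintro m n ⟨a, ha⟩ ⟨a', ha'⟩
    obtain ⟨c, hc⟩ := key P b hgl hb0 hbadd m₀ J hJ m a ha
    obtain ⟨c', hc'⟩ := key P b hgl hb0 hbadd m₀ J hJ n a' ha'
    refine ⟨π P b m a * π P b n a', ?_⟩
    have hh : π P b (m + n) (π P b m a * π P b n a') = π P b m a * π P b n a' := by
      rw [π_mul_of_homog P b hbadd m (m + n) _ _ (ρ_π P b hgl m a), add_sub_cancel_left,
        π_π P b hgl, if_pos rfl]
    rw [hh]
    intro hmem
    apply hJ.prop.2.1
    rw [Ideal.eq_top_iff_one]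
    have e : (1 : A) = (1 - π P b m a * π P b (-m) c) + π P b m a * π P b (-m) c *
        (1 - π P b n a' * π P b (-n) c') + (π P b m a * π P b n a') *
          (π P b (-m) c * π P b (-n) c') := by ring
    rw [e]
    exact J.add_mem (J.add_mem hc (J.mul_mem_left _ hc')) (J.mul_mem_right _ hmem)
  neg_mem' := by
    rintro m ⟨a, ha⟩
    obtain ⟨c, hc⟩ := key P b hgl hb0 hbadd m₀ J hJ m a ha
    refine ⟨c, fun hmem => hJ.prop.2.1 ?_⟩
    rw [Ideal.eq_top_iff_one]
    have e : (1 : A) = (1 - π P b m a * π P b (-m) c) + π P b m a * π P b (-m) c := by ring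
    rw [e]
    exact J.add_mem hc (J.mul_mem_left _ hmem)

omit [DecidableEq M] in
include hε in
/-- criterion for a point to be fixed -/
lemma Φ_eq_self_of (C : Type u) [CommRing C] [Algebra B C] (γ : H →ₐ[B] C) (x : A →ₐ[B] C)
    (h : ∀ m a, x (π P b m a) * γ (b m) = x (π P b m a)) : P.Φ C γ x = x := by
  have h1 := P.one C x
  rw [P.Φ_eq] at h1 ⊢
  ext a
  have h2 := eq_of_forall_coef b (θ x γ).toLinearMap (θ x (cone C)).toLinearMap (P.ρ a) ?_
  · calc ((θ x γ).comp P.ρ) a = (θ x (cone C)) (P.ρ a) := h2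
      _ = x a := AlgHom.congr_fun h1 a
  · intro m
    show θ x γ (π P b m a ⊗ₜ[B] b m) = θ x (cone C) (π P b m a ⊗ₜ[B] b m)
    simp only [θ, Algebra.TensorProduct.productMap_apply_tmul, cone, AlgHom.comp_apply,
      Bialgebra.counitAlgHom_apply, hε, map_one, mul_one]
    exact h m a

include hgl hε hb0 hbadd in
/-- a free action of a diagonalisable group on an affine scheme: every graded piece
generates the unit ideal -/
theorem span_range_π_eq_top
    (hfree : ∀ (C : Type u) [CommRing C] [Algebra B C] (γ : H →ₐ[B] C) (x : A →ₐ[B] C),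
      P.Φ C γ x = x → γ = cone C) (m₀ : M) :
    Ideal.span (Set.range (π P b m₀)) = ⊤ := by
  by_contra hne
  obtain ⟨J, hJ⟩ := exists_maximal P b hgl hbadd m₀ hne
  set S' := Sg P b m₀ J hJ hgl hb0 hbadd with hS'
  have hm₀ : m₀ ∉ S' := by
    rintro ⟨a, ha⟩
    exact ha (hJ.prop.2.2 (Ideal.subset_span ⟨a, rfl⟩))
  let x : A →ₐ[B] AddMonoidAlgebra (A ⧸ J) (M ⧸ S') :=
    (AddMonoidAlgebra.singleZeroAlgHom).comp (Ideal.Quotient.mkₐ B J)
  obtain ⟨γ, hγ⟩ := exists_algHom b hb0 hbadd (AddMonoidAlgebra (A ⧸ J) (M ⧸ S'))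
    (fun m => AddMonoidAlgebra.single ((m : M) : M ⧸ S') (1 : A ⧸ J))
    (by rw [QuotientAddGroup.mk_zero, AddMonoidAlgebra.one_def])
    (by
      intro m n
      rw [AddMonoidAlgebra.single_mul_single, mul_one, QuotientAddGroup.mk_add])
  have hfix : P.Φ _ γ x = x := by
    refine Φ_eq_self_of P b hε _ γ x (fun m a => ?_)
    by_cases hm : m ∈ S'
    · rw [hγ, (QuotientAddGroup.eq_zero_iff m).mpr hm, ← AddMonoidAlgebra.one_def, mul_one]
    · have hmem : π P b m a ∈ J := by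
        by_contra h
        exact hm ⟨a, h⟩
      have hx : x (π P b m a) = 0 := by
        simp only [x, AlgHom.comp_apply, Ideal.Quotient.mkₐ_eq_mk,
          Ideal.Quotient.eq_zero_iff_mem.mpr hmem, map_zero]
      rw [hx, zero_mul]
  have hγ1 := hfree _ γ x hfix
  have h1 : γ (b m₀) = 1 := by
    rw [hγ1]
    simp only [cone, AlgHom.comp_apply, Bialgebra.counitAlgHom_apply, hε, map_one]
  rw [hγ, AddMonoidAlgebra.one_def] at h1
  have hne0 : ((m₀ : M) : M ⧸ S') ≠ 0 := fun h => hm₀ ((QuotientAddGroup.eq_zero_iff m₀).mp h)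
  have h2 : (Finsupp.single ((m₀ : M) : M ⧸ S') (1 : A ⧸ J)) 0 =
      (Finsupp.single (0 : M ⧸ S') (1 : A ⧸ J)) 0 :=
    congrArg (fun f : AddMonoidAlgebra (A ⧸ J) (M ⧸ S') => f.coeff 0) h1
  rw [Finsupp.single_eq_same, Finsupp.single_eq_of_ne hne0.symm] at h2
  apply hJ.prop.2.1
  rw [Ideal.eq_top_iff_one]
  exact Ideal.Quotient.eq_zero_iff_mem.mp h2.symm

/-- the graph map on coordinate rings -/
noncomputable def Ψ : A ⊗[B] A →ₐ[B] A ⊗[B] H :=
  Algebra.TensorProduct.productMap P.ρ (Algebra.TensorProduct.includeLeft : A →ₐ[B] A ⊗[B] H)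

omit [DecidableEq M] in
lemma Ψ_tmul (a a' : A) : Ψ P (a ⊗ₜ[B] a') = P.ρ a * (a' ⊗ₜ[B] (1 : H)) := by
  simp [Ψ, Algebra.TensorProduct.productMap_apply_tmul]

include hgl hε hb0 hbadd in
/-- for a free action the graph map on coordinate rings is surjective -/
theorem Ψ_surjective
    (hfree : ∀ (C : Type u) [CommRing C] [Algebra B C] (γ : H →ₐ[B] C) (x : A →ₐ[B] C),
      P.Φ C γ x = x → γ = cone C) : Function.Surjective (Ψ P) := by
  have ha1 : ∀ a : A, a ⊗ₜ[B] (1 : H) ∈ (Ψ P).range := fun a =>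
    ⟨1 ⊗ₜ[B] a, by
      show Ψ P (1 ⊗ₜ[B] a) = _
      rw [Ψ_tmul, map_one, one_mul]⟩
  have hρ : ∀ a : A, P.ρ a ∈ (Ψ P).range := fun a =>
    ⟨a ⊗ₜ[B] 1, by
      show Ψ P (a ⊗ₜ[B] 1) = _
      rw [Ψ_tmul, ← Algebra.TensorProduct.one_def, mul_one]⟩
  have h1b : ∀ m : M, (1 : A) ⊗ₜ[B] b m ∈ (Ψ P).range := by
    intro m
    let I : Ideal A :=
      { carrier := {a | a ⊗ₜ[B] b m ∈ (Ψ P).range}
        add_mem' := by
          intro a a' ha ha'
          show (a + a') ⊗ₜ[B] b m ∈ (Ψ P).range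
          rw [TensorProduct.add_tmul]
          exact Subalgebra.add_mem _ ha ha'
        zero_mem' := by
          show (0 : A) ⊗ₜ[B] b m ∈ (Ψ P).range
          rw [TensorProduct.zero_tmul]
          exact Subalgebra.zero_mem _
        smul_mem' := by
          intro c a ha
          show (c • a) ⊗ₜ[B] b m ∈ (Ψ P).range
          have : (c • a) ⊗ₜ[B] b m = (c ⊗ₜ[B] (1 : H)) * (a ⊗ₜ[B] b m) := by
            rw [Algebra.TensorProduct.tmul_mul_tmul, one_mul, smul_eq_mul]
          rw [this]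
          exact Subalgebra.mul_mem _ (ha1 c) ha }
    have hle : Ideal.span (Set.range (π P b m)) ≤ I := by
      rw [Ideal.span_le]
      rintro _ ⟨a, rfl⟩
      show π P b m a ⊗ₜ[B] b m ∈ (Ψ P).range
      rw [← ρ_π P b hgl m a]
      exact hρ _
    rw [span_range_π_eq_top P b hgl hε hb0 hbadd hfree m] at hle
    exact hle Submodule.mem_top
  intro z
  have hz : z ∈ (Ψ P).range := by
    rw [expand b z]
    refine Subalgebra.sum_mem _ (fun m _ => ?_)
    have : coef b A m z ⊗ₜ[B] b m = (coef b A m z ⊗ₜ[B] (1 : H)) * ((1 : A) ⊗ₜ[B] b m) := by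
      rw [Algebra.TensorProduct.tmul_mul_tmul, one_mul, mul_one]
    rw [this]
    exact Subalgebra.mul_mem _ (ha1 _) (h1b m)
  exact hz

end alg

end Groth.Agent.Lib.Helper14.MTFree1
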