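import Mathlib
import Groth.Agent.Lib.Helper14.MTFree1
import Groth.Agent.Lib.Helper14.MTActGeom
import Groth.Agent.Lib.Helper14.MTRigidGeom

set_option autoImplicit false

namespace Groth.Agent.Lib.Helper14.MTFree2

open CategoryTheory MonoidalCategory CartesianMonoidalCategory MonObj GrpObj AlgebraicGeometry
open CategoryTheory.Limits TensorProduct
open Groth.Agent.Lib.Helper14 GrpBridge MTActGeom

universe u

section prod

variable {B : Type u} [CommRing B] {X₁ X₂ : Over (Spec (CommRingCat.of B))}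
  {A₁ A₂ : Type u} [CommRing A₁] [Algebra B A₁] [CommRing A₂] [Algebra B A₂]
  (j₁ : Spec (CommRingCat.of A₁) ⟶ X₁.left) (hj₁ : IsIso j₁)
  (h₁ : j₁ ≫ X₁.hom = Spec.map (CommRingCat.ofHom (algebraMap B A₁)))
  (j₂ : Spec (CommRingCat.of A₂) ⟶ X₂.left) (hj₂ : IsIso j₂)
  (h₂ : j₂ ≫ X₂.hom = Spec.map (CommRingCat.ofHom (algebraMap B A₂)))

include h₁ h₂ hj₁ hj₂ in
lemma isPullback_charts :
    IsPullback
      (Spec.map (CommRingCat.ofHom
        (Algebra.TensorProduct.includeLeftRingHom : A₁ →+* A₁ ⊗[B] A₂)) ≫ j₁)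
      (Spec.map (CommRingCat.ofHom
        ((Algebra.TensorProduct.includeRight : A₂ →ₐ[B] A₁ ⊗[B] A₂).toRingHom)) ≫ j₂)
      X₁.hom X₂.hom := by
  have h := isPullback_SpecMap_of_isPushout _ _ _ _ (CommRingCat.isPushout_tensorProduct B A₁ A₂)
  refine IsPullback.of_iso h (Iso.refl _) (asIso j₁) (asIso j₂) (Iso.refl _) ?_ ?_ ?_ ?_
  · simp
  · simp
  · simp [h₁]
  · simp [h₂]

include hj₁ hj₂ in
/-- the product of two affine objects over an affine base is the spectrum of the tensor product -/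
lemma isIso_lift_ξ :
    IsIso (lift (ξ j₁ h₁ (Algebra.TensorProduct.includeLeft : A₁ →ₐ[B] A₁ ⊗[B] A₂))
      (ξ j₂ h₂ (Algebra.TensorProduct.includeRight : A₂ →ₐ[B] A₁ ⊗[B] A₂))) := by
  have hp := isPullback_charts j₁ hj₁ h₁ j₂ hj₂ h₂
  let e : (Spec (.of (A₁ ⊗[B] A₂))).asOver (Spec (.of B)) ≅ X₁ ⊗ X₂ :=
    Over.isoMk hp.isoPullback (by
      show hp.isoPullback.hom ≫ pullback.fst X₁.hom X₂.hom ≫ X₁.hom = _
      rw [← Category.assoc, IsPullback.isoPullback_hom_fst, Category.assoc, h₁, ← Spec.map_comp]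
      rfl)
  have he : lift (ξ j₁ h₁ (Algebra.TensorProduct.includeLeft : A₁ →ₐ[B] A₁ ⊗[B] A₂))
      (ξ j₂ h₂ (Algebra.TensorProduct.includeRight : A₂ →ₐ[B] A₁ ⊗[B] A₂)) = e.hom := by
    apply CartesianMonoidalCategory.hom_ext
    · rw [lift_fst]
      apply Over.OverMorphism.ext
      exact (IsPullback.isoPullback_hom_fst hp).symm
    · rw [lift_snd]
      apply Over.OverMorphism.ext
      exact (IsPullback.isoPullback_hom_snd hp).symm
  rw [he]
  infer_instance

end prod

section model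

variable {B : Type u} [CommRing B] {Hh : Type u} [CommRing Hh] [Bialgebra B Hh]
  {X' : Over (Spec (CommRingCat.of B))}
  (act : (Spec (.of Hh)).asOver (Spec (.of B)) ⊗ X' ⟶ X')
  (one : ∀ (Y : Over (Spec (CommRingCat.of B))) (x : Y ⟶ X'),
    lift (1 : Y ⟶ (Spec (.of Hh)).asOver (Spec (.of B))) x ≫ act = x)
  (mul : ∀ (Y : Over (Spec (CommRingCat.of B)))
    (g h : Y ⟶ (Spec (.of Hh)).asOver (Spec (.of B))) (x : Y ⟶ X'),
    lift (g * h) x ≫ act = lift g (lift h x ≫ act) ≫ act)
  {A : Type u} [CommRing A] [Algebra B A] (j : Spec (CommRingCat.of A) ⟶ X'.left) [IsIso j]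
  (hA : j ≫ X'.hom = Spec.map (CommRingCat.ofHom (algebraMap B A)))

lemma exists_pt (C : Type u) [CommRing C] [Algebra B C] (χ : Hh →ₐ[B] C) (x : A →ₐ[B] C) :
    ∃ y : A →ₐ[B] C, ξ j hA y = lift (specHom B Hh χ) (ξ j hA x) ≫ act := by
  apply exists_ξ_eq
  intro p _
  refine ⟨(inv j) p, ?_⟩
  rw [← Scheme.Hom.comp_apply, IsIso.inv_hom_id]
  rfl

/-- the action on points of an affine object -/
noncomputable def ptAct : MTAct.PtAct B Hh A where
  Φ C _ _ χ x := (exists_pt act j hA C χ x).choose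
  nat C C' _ _ _ _ f χ x := by
    apply ξ_injective j hA
    rw [ξ_comp, (exists_pt act j hA C χ x).choose_spec,
      (exists_pt act j hA C' (f.comp χ) (f.comp x)).choose_spec, ← Category.assoc,
      comp_lift, ξ_comp, specHom_comp]
  one C _ _ x := by
    apply ξ_injective j hA
    rw [(exists_pt act j hA C _ x).choose_spec]
    have : specHom B Hh (MTAct.cone (H := Hh) C) = 1 := by
      rw [specHom_eq]
      exact map_one _
    rw [this, one]
  mul C _ _ χ χ' x := by
    apply ξ_injective j hA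
    rw [(exists_pt act j hA C _ x).choose_spec,
      (exists_pt act j hA C χ _).choose_spec,
      (exists_pt act j hA C χ' x).choose_spec]
    have : specHom B Hh (MTAct.cmul χ χ') = specHom B Hh χ * specHom B Hh χ' := by
      rw [specHom_eq, specHom_eq, specHom_eq, ← map_mul]
      rfl
    rw [this, mul]

lemma ξ_Φ (C : Type u) [CommRing C] [Algebra B C] (χ : Hh →ₐ[B] C) (x : A →ₐ[B] C) :
    ξ j hA ((ptAct act one mul j hA).Φ C χ x) = lift (specHom B Hh χ) (ξ j hA x) ≫ act :=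
  (exists_pt act j hA C χ x).choose_spec

omit [Bialgebra B Hh] in
lemma ξ_id [Algebra B Hh] (C : Type u) [CommRing C] [Algebra B C] (χ : Hh →ₐ[B] C)
    (hD : 𝟙 ((Spec (.of Hh)).asOver (Spec (.of B))).left ≫
      ((Spec (.of Hh)).asOver (Spec (.of B))).hom =
      Spec.map (CommRingCat.ofHom (algebraMap B Hh))) :
    ξ (X' := (Spec (.of Hh)).asOver (Spec (.of B)))
      (𝟙 ((Spec (.of Hh)).asOver (Spec (.of B))).left) hD χ = specHom B Hh χ := by
  apply Over.OverMorphism.ext
  exact Category.comp_id _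

variable {M : Type} [AddCommGroup M] [DecidableEq M] (b : Module.Basis M B Hh)
  (hgl : ∀ i, Coalgebra.comul (R := B) (b i) = b i ⊗ₜ[B] b i)
  (hε : ∀ i, Coalgebra.counit (R := B) (b i) = 1)
  (hb0 : b 0 = 1) (hbadd : ∀ m n, b (m + n) = b m * b n)
  (hfree : ∀ (C : Type u) [CommRing C] [Algebra B C]
    (g : (Spec (.of C)).asOver (Spec (.of B)) ⟶ (Spec (.of Hh)).asOver (Spec (.of B)))
    (x : (Spec (.of C)).asOver (Spec (.of B)) ⟶ X'), lift g x ≫ act = x → g = 1)

include hfree in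
lemma ptAct_free (C : Type u) [CommRing C] [Algebra B C] (χ : Hh →ₐ[B] C) (x : A →ₐ[B] C)
    (h : (ptAct act one mul j hA).Φ C χ x = x) : χ = MTAct.cone C := by
  have h1 := ξ_Φ act one mul j hA C χ x
  rw [h] at h1
  have h2 := hfree C _ _ h1.symm
  apply MTRigidGeom.specHom_injective
  rw [h2, specHom_eq]
  exact (map_one _).symm

include b hgl hε hb0 hbadd hfree one mul j hA in
/-- local model: the graph of a free action of a diagonalisable group on an affine scheme is a
closed immersion -/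
theorem graph_chart : IsClosedImmersion (lift act (snd _ X')).left := by
  have hD : 𝟙 ((Spec (.of Hh)).asOver (Spec (.of B))).left ≫
      ((Spec (.of Hh)).asOver (Spec (.of B))).hom =
      Spec.map (CommRingCat.ofHom (algebraMap B Hh)) := Category.id_comp _
  let P := ptAct act one mul j hA
  -- the universal points
  let w' : (Spec (.of (A ⊗[B] Hh))).asOver (Spec (.of B)) ⟶
      X' ⊗ (Spec (.of Hh)).asOver (Spec (.of B)) :=
    lift (ξ j hA (Algebra.TensorProduct.includeLeft : A →ₐ[B] A ⊗[B] Hh))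
      (ξ (X' := (Spec (.of Hh)).asOver (Spec (.of B)))
        (𝟙 ((Spec (.of Hh)).asOver (Spec (.of B))).left) hD
        (Algebra.TensorProduct.includeRight : Hh →ₐ[B] A ⊗[B] Hh))
  haveI : IsIso w' := isIso_lift_ξ j inferInstance hA
    (𝟙 ((Spec (.of Hh)).asOver (Spec (.of B))).left) (IsIso.id _) hD
  obtain ⟨w, hwdef⟩ : ∃ w : (Spec (.of (A ⊗[B] Hh))).asOver (Spec (.of B)) ⟶
      (Spec (.of Hh)).asOver (Spec (.of B)) ⊗ X', w = w' ≫ (β_ _ _).hom := ⟨_, rfl⟩
  haveI : IsIso w := by rw [hwdef]; infer_instance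
  obtain ⟨v, hvdef⟩ : ∃ v : (Spec (.of (A ⊗[B] A))).asOver (Spec (.of B)) ⟶ X' ⊗ X',
      v = lift (ξ j hA (Algebra.TensorProduct.includeLeft : A →ₐ[B] A ⊗[B] A))
        (ξ j hA (Algebra.TensorProduct.includeRight : A →ₐ[B] A ⊗[B] A)) := ⟨_, rfl⟩
  haveI : IsIso v := by rw [hvdef]; exact isIso_lift_ξ j inferInstance hA j inferInstance hA
  have hw1 : w ≫ fst _ _ = specHom B Hh (Algebra.TensorProduct.includeRight : Hh →ₐ[B] A ⊗[B] Hh) := by
    rw [hwdef]
    simp only [w', Category.assoc, braiding_hom_fst, lift_snd]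
    exact ξ_id _ _ hD
  have hw2 : w ≫ snd _ _ = ξ j hA (Algebra.TensorProduct.includeLeft : A →ₐ[B] A ⊗[B] Hh) := by
    rw [hwdef]
    simp only [w', Category.assoc, braiding_hom_snd, lift_fst]
  have hw : w = lift (specHom B Hh (Algebra.TensorProduct.includeRight : Hh →ₐ[B] A ⊗[B] Hh))
      (ξ j hA (Algebra.TensorProduct.includeLeft : A →ₐ[B] A ⊗[B] Hh)) := by
    apply CartesianMonoidalCategory.hom_ext
    · rw [hw1, lift_fst]
    · rw [hw2, lift_snd]
  have key : w ≫ lift act (snd _ X') = specHom B (A ⊗[B] A) (MTFree1.Ψ P) ≫ v := by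
    apply CartesianMonoidalCategory.hom_ext
    · rw [Category.assoc, lift_fst, Category.assoc, hvdef, lift_fst, ← ξ_comp, hw,
        ← ξ_Φ act one mul j hA]
      congr 1
      simp only [MTFree1.Ψ, Algebra.TensorProduct.productMap_left]
      rfl
    · rw [Category.assoc, lift_snd, Category.assoc, hvdef, lift_snd, ← ξ_comp, hw2]
      congr 1
      simp only [MTFree1.Ψ, Algebra.TensorProduct.productMap_right]
  have hsurj : Function.Surjective (MTFree1.Ψ P) :=
    MTFree1.Ψ_surjective P b hgl hε hb0 hbadd (ptAct_free act one mul j hA hfree)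
  have hgraph : lift act (snd _ X') = inv w ≫ specHom B (A ⊗[B] A) (MTFree1.Ψ P) ≫ v := by
    rw [IsIso.eq_inv_comp]
    exact key
  rw [hgraph, Over.comp_left, Over.comp_left]
  haveI : IsClosedImmersion (specHom B (A ⊗[B] A) (MTFree1.Ψ P)).left :=
    IsClosedImmersion.spec_of_surjective _ hsurj
  haveI : IsIso (inv w).left := (Over.forget _).map_isIso (inv w)
  haveI : IsIso v.left := (Over.forget _).map_isIso v
  infer_instance

end model

end Groth.Agent.Lib.Helper14.MTFree2
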