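import Mathlib
import Groth.Prelude.Def_Red2
import Groth.Prelude.Def_SGA3x
import Groth.Prelude.Def_AlgGrp
import Groth.Prelude.Def_TwC
import Groth.Agent.Lib.Helper14.MTFree2
import Groth.Agent.Lib.Helper14.MTTransport
import Groth.Agent.Lib.Helper14.MTDescent
import Groth.Agent.Lib.Helper14.MTAffine
import Groth.Agent.Lib.Helper14.MTActMain
import Groth.Agent.Lib.Helper4.FpqcCov
import Groth.Agent.Lib.Helper24.HomogSep.BaseChange

set_option autoImplicit false

namespace Groth.Agent.Lib.Helper14.MTFree3

open CategoryTheory MonoidalCategory CartesianMonoidalCategory MonObj GrpObj AlgebraicGeometry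
open CategoryTheory.Limits TensorProduct
open Groth.Agent.Lib.Helper14

universe v₁ v₂ u₁ u₂ u

section transport

variable {C : Type u₁} [Category.{v₁} C] [CartesianMonoidalCategory C]
  {C' : Type u₂} [Category.{v₂} C'] [CartesianMonoidalCategory C']
  {F : C ⥤ C'} [F.Monoidal]
  {G X : C} [MonObj G] (act : G ⊗ X ⟶ X)

open scoped Obj

variable {D : C'} [MonObj D] (ε : F.obj G ≅ D)

/-- the graph of the transported action -/
lemma graph_tact :
    lift (MTTransport.tact act ε) (snd D (F.obj X)) ≫ Functor.LaxMonoidal.μ F X X =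
      (ε.inv ▷ F.obj X) ≫ Functor.LaxMonoidal.μ F G X ≫ F.map (lift act (snd G X)) := by
  rw [← Functor.Monoidal.lift_μ, ← Category.assoc (ε.inv ▷ F.obj X), comp_lift_assoc,
    Category.assoc, Category.assoc, Functor.Monoidal.μ_snd, whiskerRight_snd]
  rfl

end transport

section local_case

open scoped Obj

variable {S : Scheme.{u}} (G X : Over S) [GrpObj G] (a : AlgGrp.Action G X)
  (hX : IsAffineHom X.hom)
  (hfree : ∀ (Y : Over S) (g : Y ⟶ G) (x : Y ⟶ X), lift g x ≫ a.act = x → g = 1)

include hX hfree in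
theorem local_case (K R : Type u) [CommRing K] [CommRing R] [Algebra K R]
    (g : Spec (.of R) ⟶ S) (M : Type) [AddCommGroup M]
    (ε : Red.bc g G ≅ Red.bc (Spec.map (CommRingCat.ofHom (algebraMap K R))) (Red.diag K M))
    [IsMonHom ε.hom] :
    IsClosedImmersion ((Over.pullback g).map (lift a.act (snd G X))).left := by
  obtain ⟨κ, hκ⟩ := MTAffine.exists_bc_spec_iso K R (MonoidAlgebra K (Multiplicative M))
  let ε' := ε ≪≫ κ
  haveI : IsMonHom ε'.hom := by
    dsimp only [ε', Iso.trans_hom]
    infer_instance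
  classical
  let b₀ := Algebra.TensorProduct.basis R (MonoidAlgebra.basis (Multiplicative M) K)
  let b := b₀.reindex (Multiplicative.toAdd : Multiplicative M ≃ M)
  have hb : ∀ m, b m = (1 : R) ⊗ₜ[K] MonoidAlgebra.single (Multiplicative.ofAdd m) (1 : K) := by
    intro m
    simp [b, b₀, MonoidAlgebra.basis_apply]
  have hgl : ∀ m, Coalgebra.comul (R := R) (b m) = b m ⊗ₜ[R] b m := by
    intro m
    rw [hb]
    simp
  have hε : ∀ m, Coalgebra.counit (R := R) (b m) = 1 := by
    intro m
    rw [hb]
    simp
  have hb0 : b 0 = 1 := by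
    rw [hb]
    simp [Algebra.TensorProduct.one_def, MonoidAlgebra.one_def]
  have hbadd : ∀ m n, b (m + n) = b m * b n := by
    intro m n
    rw [hb, hb, hb]
    simp [MonoidAlgebra.single_mul_single]
  -- the base change of `X` is affine
  haveI : IsAffine (Red.bc g X).left := by
    have : IsAffineHom (pullback.snd X.hom g) := by
      haveI := hX
      infer_instance
    exact isAffine_of_isAffineHom (pullback.snd X.hom g)
  let j : Spec (CommRingCat.of Γ((Red.bc g X).left, ⊤)) ⟶ (Red.bc g X).left :=
    (Red.bc g X).left.isoSpec.inv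
  haveI : IsIso j := by
    dsimp only [j]
    infer_instance
  let φA : CommRingCat.of R ⟶ CommRingCat.of Γ((Red.bc g X).left, ⊤) :=
    Spec.preimage (j ≫ (Red.bc g X).hom)
  letI : Algebra R Γ((Red.bc g X).left, ⊤) := φA.hom.toAlgebra
  have hA : j ≫ (Red.bc g X).hom =
      Spec.map (CommRingCat.ofHom (algebraMap R Γ((Red.bc g X).left, ⊤))) :=
    (Spec.map_preimage _).symm
  have hfree' : ∀ (C : Type u) [CommRing C] [Algebra R C]
      (d : (Spec (.of C)).asOver (Spec (.of R)) ⟶
        (Spec (.of (R ⊗[K] MonoidAlgebra K (Multiplicative M)))).asOver (Spec (.of R)))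
      (x : (Spec (.of C)).asOver (Spec (.of R)) ⟶ Red.bc g X),
      lift d x ≫ MTTransport.tact a.act ε' = x → d = 1 := by
    intro C _ _ d x h
    have h1 := congrArg (MTTransport.ψ (Over.mapPullbackAdj g)) h
    rw [MTTransport.ψ_tact] at h1
    have h2 := hfree _ _ _ h1
    have h3 : d ≫ ε'.inv = 1 :=
      MTTransport.ψ_injective (Over.mapPullbackAdj g) _ _
        (h2.trans (MTTransport.ψ_one (Over.mapPullbackAdj g)).symm)
    calc d = (d ≫ ε'.inv) ≫ ε'.hom := by rw [Category.assoc, Iso.inv_hom_id, Category.comp_id]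
      _ = 1 ≫ ε'.hom := by rw [h3]
      _ = 1 := MonObj.one_comp _
  have hchart := MTFree2.graph_chart (MTTransport.tact a.act ε')
    (MTTransport.tact_one (Over.mapPullbackAdj g) a.act (MTActMain.act_one_pt a) ε')
    (MTTransport.tact_mul (Over.mapPullbackAdj g) a.act (MTActMain.act_mul_pt a) ε')
    j hA b hgl hε hb0 hbadd hfree'
  have hgt := graph_tact (F := Over.pullback g) a.act ε'
  have heq : (Over.pullback g).map (lift a.act (snd G X)) =
      inv ((ε'.inv ▷ (Over.pullback g).obj X) ≫ Functor.LaxMonoidal.μ (Over.pullback g) G X) ≫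
        lift (MTTransport.tact a.act ε') (snd _ _) ≫
          Functor.LaxMonoidal.μ (Over.pullback g) X X := by
    rw [IsIso.eq_inv_comp, Category.assoc]
    exact hgt.symm
  rw [heq, Over.comp_left, Over.comp_left]
  haveI : IsIso (inv ((ε'.inv ▷ (Over.pullback g).obj X) ≫
      Functor.LaxMonoidal.μ (Over.pullback g) G X)).left := (Over.forget _).map_isIso _
  haveI : IsIso (Functor.LaxMonoidal.μ (Over.pullback g) X X).left :=
    (Over.forget _).map_isIso _
  infer_instance

end local_case

section descent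

variable {S : Scheme.{u}} {A B : Over S} (φ : A ⟶ B)

/-- a property stable under isomorphisms passes from one base change to another -/
lemma pullback_snd_of_map_left (P : MorphismProperty Scheme.{u}) [P.RespectsIso] {T : Scheme.{u}}
    (g : T ⟶ S) (h : P ((Over.pullback g).map φ).left) :
    P (pullback.snd φ.left (pullback.fst B.hom g)) := by
  have sq := (Groth.Agent.Lib.Helper24.HomogSep.isPullback_pullback_map g φ).flip
  have : pullback.snd φ.left (pullback.fst B.hom g) =
      sq.isoPullback.inv ≫ ((Over.pullback g).map φ).left := by simp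
  rw [this]
  exact (P.cancel_left_of_respectsIso _ _).mpr h

/-- Zariski descent along an open cover of the base -/
theorem of_openCover_comp {T : Scheme.{u}} (g : T ⟶ S) (𝒱 : T.OpenCover)
    (h : ∀ k, IsClosedImmersion ((Over.pullback (𝒱.f k ≫ g)).map φ).left) :
    IsClosedImmersion ((Over.pullback g).map φ).left := by
  apply IsZariskiLocalAtTarget.of_openCover (P := @IsClosedImmersion)
    (𝒱.pullback₁ ((Over.pullback g).obj B).hom)
  intro k
  apply pullback_snd_of_map_left ((Over.pullback g).map φ) @IsClosedImmersion (𝒱.f k)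
  have nat := (Over.pullbackComp (𝒱.f k) g).hom.naturality φ
  have nat' := congrArg (fun m => m.left) nat
  simp only [Over.comp_left, Functor.comp_map] at nat'
  have e1 : IsIso ((Over.pullbackComp (𝒱.f k) g).hom.app A).left :=
    (Over.forget _).map_isIso ((Over.pullbackComp (𝒱.f k) g).hom.app A)
  have e2 : IsIso ((Over.pullbackComp (𝒱.f k) g).hom.app B).left :=
    (Over.forget _).map_isIso ((Over.pullbackComp (𝒱.f k) g).hom.app B)
  have h3 : ((Over.pullback (𝒱.f k)).map ((Over.pullback g).map φ)).left =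
      inv ((Over.pullbackComp (𝒱.f k) g).hom.app A).left ≫
        ((Over.pullback (𝒱.f k ≫ g)).map φ).left ≫
          ((Over.pullbackComp (𝒱.f k) g).hom.app B).left := by
    rw [IsIso.eq_inv_comp]
    exact nat'.symm
  rw [h3]
  haveI := h k
  infer_instance

/-- fpqc descent along a covering of the base -/
theorem of_isCov {S' : Scheme.{u}} (f : S' ⟶ S) (hf : Groth.Agent.Lib.Helper4.FpqcCov.IsCov f)
    (h : IsClosedImmersion ((Over.pullback f).map φ).left) : IsClosedImmersion φ.left := by
  have sq := (Groth.Agent.Lib.Helper24.HomogSep.isPullback_pullback_map f φ).flip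
  have hq : Groth.Agent.Lib.Helper4.FpqcCov.IsCov
      ((pullbackSymmetry f B.hom).hom ≫ pullback.fst B.hom f) := by
    rw [pullbackSymmetry_hom_comp_fst]
    exact hf.baseChange B.hom
  exact Groth.Agent.Lib.Helper4.FpqcCov.descends_of_dominated' (P := @IsClosedImmersion) hq sq h

end descent

section assembly

open scoped Obj

variable {S : Scheme.{u}} (G X : Over S) [GrpObj G] (a : AlgGrp.Action G X)
  (hX : IsAffineHom X.hom)
  (hfree : ∀ (Y : Over S) (g : Y ⟶ G) (x : Y ⟶ X), lift g x ≫ a.act = x → g = 1)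

include hX hfree in
theorem step2_aux (T : Scheme.{u}) (g : T ⟶ S) (M : Type) [AddCommGroup M]
    (e : Red.bc g G ≅ Red.DS T M) [IsMonHom e.hom]
    (R : CommRingCat.{u}) (kk : Spec R ⟶ T) :
    IsClosedImmersion ((Over.pullback (kk ≫ g)).map (lift a.act (snd G X))).left := by
  letI : Algebra (ULift.{u} ℤ) R :=
    RingHom.toAlgebra ((Int.castRingHom R).comp (ULift.ringEquiv : ULift.{u} ℤ ≃+* ℤ).toRingHom)
  obtain ⟨c, hc⟩ := MTDescent.exists_bc_comp_iso kk g (kk ≫ g) rfl G
  obtain ⟨c', hc'⟩ := MTDescent.exists_bc_comp_iso kk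
    (Limits.IsTerminal.from specULiftZIsTerminal T)
    (Spec.map (CommRingCat.ofHom (algebraMap (ULift.{u} ℤ) R)))
    (specULiftZIsTerminal.hom_ext _ _) (Red.diag (ULift.{u} ℤ) M)
  let ε : Red.bc (kk ≫ g) G ≅
      Red.bc (Spec.map (CommRingCat.ofHom (algebraMap (ULift.{u} ℤ) R)))
        (Red.diag (ULift.{u} ℤ) M) :=
    c.symm ≪≫ (Over.pullback kk).mapIso e ≪≫ c'
  haveI : IsMonHom ε.hom := by
    dsimp only [ε, Iso.trans_hom, Iso.symm_hom, Functor.mapIso_hom]
    infer_instance
  exact local_case G X a hX hfree (ULift.{u} ℤ) R (kk ≫ g) M ε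

include hX hfree in
theorem step2 (T : Scheme.{u}) (g : T ⟶ S) (M : Type) [AddCommGroup M]
    (e : Red.bc g G ≅ Red.DS T M) [IsMonHom e.hom] :
    IsClosedImmersion ((Over.pullback g).map (lift a.act (snd G X))).left := by
  apply of_openCover_comp _ g T.affineOpenCover.openCover
  intro k
  exact step2_aux G X a hX hfree T g M e (T.affineOpenCover.X k) (T.affineOpenCover.f k)

include hX hfree in
/-- the graph of a free action of a group of multiplicative type on a scheme affine over the base
is a closed immersion -/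
theorem main_graph
    (hG : TwC.Locally S TwC.Topology.fpqc (fun S' f => ∃ (M : Type) (_ : AddCommGroup M),
      Nonempty (Grp.mk (Red.bc f G) ≅ Grp.mk (Red.DS S' M)))) :
    IsClosedImmersion (lift a.act (snd G X)).left := by
  obtain ⟨S', f, hflat, hsurj, hcov', hloc⟩ := hG
  apply of_isCov _ f ⟨hsurj, hflat, hcov'⟩
  choose U hU hP using hloc
  have hcov : TopologicalSpace.IsOpenCover U := by
    refine TopologicalSpace.IsOpenCover.mk ?_
    rw [eq_top_iff]
    intro x _
    exact TopologicalSpace.Opens.mem_iSup.mpr ⟨x, hU x⟩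
  apply of_openCover_comp _ f (S'.openCoverOfIsOpenCover U hcov)
  intro s'
  change IsClosedImmersion ((Over.pullback ((U s').ι ≫ f)).map _).left
  obtain ⟨M, _, ⟨e⟩⟩ := hP s'
  obtain ⟨e', he'⟩ := MTDescent.exists_iso_of_grp_iso e
  exact step2 G X a hX hfree _ _ M e'

end assembly

section orbit

variable {S : Scheme.{u}} {G X : Over S} [GrpObj G] (a : AlgGrp.Action G X)

/-- the orbit map is a base change of the graph morphism -/
lemma isPullback_orbit (σ : 𝟙_ (Over S) ⟶ X) :
    IsPullback (lift (𝟙 G) (toUnit G ≫ σ)) (a.orbitMap σ) (lift a.act (snd G X))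
      (lift (𝟙 X) (toUnit X ≫ σ)) := by
  have hcomm : lift (𝟙 G) (toUnit G ≫ σ) ≫ lift a.act (snd G X) =
      a.orbitMap σ ≫ lift (𝟙 X) (toUnit X ≫ σ) := by
    apply CartesianMonoidalCategory.hom_ext
    · simp only [Category.assoc, lift_fst, Category.comp_id]
      rfl
    · simp only [Category.assoc, lift_snd]
      rw [← Category.assoc (a.orbitMap σ)]
      congr 1
      exact toUnit_unique _ _
  have key : ∀ c : PullbackCone (lift a.act (snd G X)) (lift (𝟙 X) (toUnit X ≫ σ)),
      (c.fst ≫ fst G X) ≫ lift (𝟙 G) (toUnit G ≫ σ) = c.fst := by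
    intro c
    apply CartesianMonoidalCategory.hom_ext
    · simp only [Category.assoc, lift_fst, Category.comp_id]
    · simp only [Category.assoc, lift_snd]
      have h := congrArg (fun m => m ≫ snd X X) c.condition
      simp only [Category.assoc, lift_snd] at h
      rw [h, ← Category.assoc, ← Category.assoc, ← Category.assoc]
      congr 1
      exact toUnit_unique _ _
  refine ⟨⟨hcomm⟩, ⟨PullbackCone.IsLimit.mk _ (fun c => c.fst ≫ fst G X) key ?_ ?_⟩⟩
  · intro c
    have h := congrArg (fun m => m ≫ fst X X) c.condition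
    simp only [Category.assoc, lift_fst, Category.comp_id] at h
    rw [← h]
    show (c.fst ≫ fst G X) ≫ lift (𝟙 G) (toUnit G ≫ σ) ≫ a.act = _
    rw [← Category.assoc, key c]
  · intro c m hm _
    rw [← hm, Category.assoc, lift_fst, Category.comp_id]

theorem orbit_isClosedImmersion (σ : 𝟙_ (Over S) ⟶ X)
    (h : IsClosedImmersion (lift a.act (snd G X)).left) :
    IsClosedImmersion (a.orbitMap σ).left := by
  have sq := (isPullback_orbit a σ).map (Over.forget S)
  exact MorphismProperty.of_isPullback (P := @IsClosedImmersion) sq h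

end orbit

end Groth.Agent.Lib.Helper14.MTFree3
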