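import Mathlib

set_option autoImplicit false

namespace Groth.Agent.Lib.Helper14.MTHom1

open TensorProduct Coalgebra

universe u

section alg

variable {B : Type u} [CommRing B] {HM HN : Type u} [CommRing HM] [CommRing HN]
  [Bialgebra B HM] [Bialgebra B HN]
  {M N : Type} [AddCommGroup M] [AddCommGroup N]
  (bM : Module.Basis M B HM) (bN : Module.Basis N B HN)
  (hglM : ∀ m, comul (R := B) (bM m) = bM m ⊗ₜ[B] bM m)
  (hεM : ∀ m, counit (R := B) (bM m) = 1)
  (hM0 : bM 0 = 1) (hMadd : ∀ m m', bM (m + m') = bM m * bM m')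
  (hglN : ∀ n, comul (R := B) (bN n) = bN n ⊗ₜ[B] bN n)
  (hεN : ∀ n, counit (R := B) (bN n) = 1)
  (hN0 : bN 0 = 1) (hNadd : ∀ n n', bN (n + n') = bN n * bN n')
  (f : HN →ₐc[B] HM)

/-- the coefficients of the images of the group-like basis elements -/
noncomputable def c (n : N) (m : M) : B := bM.repr (f (bN n)) m

include hglN in
lemma comul_f (n : N) : comul (R := B) (f (bN n)) = f (bN n) ⊗ₜ[B] f (bN n) := by
  rw [← CoalgHomClass.map_comp_comul_apply, hglN, TensorProduct.map_tmul]
  rfl

include hεN in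
lemma counit_f (n : N) : counit (R := B) (f (bN n)) = 1 := by
  rw [CoalgHomClass.counit_comp_apply, hεN]

include hglM hglN in
lemma c_orth [DecidableEq M] (n : N) (m m' : M) :
    c bM bN f n m * c bM bN f n m' = if m = m' then c bM bN f n m else 0 := by
  have h := comul_f bN hglN f n
  have h1 := congrArg (fun z => (bM.tensorProduct bM).repr z (m, m')) h
  simp only [Module.Basis.tensorProduct_repr_tmul_apply, smul_eq_mul] at h1
  have key : (Finsupp.lapply (m, m')) ∘ₗ ((bM.tensorProduct bM).repr : HM ⊗[B] HM →ₗ[B] _) ∘ₗ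
      (comul : HM →ₗ[B] HM ⊗[B] HM) = if m = m' then bM.coord m else 0 := by
    apply bM.ext
    intro k
    simp only [LinearMap.comp_apply, hglM, LinearEquiv.coe_coe,
      Finsupp.lapply_apply, Module.Basis.tensorProduct_repr_tmul_apply, Module.Basis.repr_self,
      smul_eq_mul]
    by_cases hmm : m = m'
    · subst hmm
      simp only [if_true, Module.Basis.coord_apply, Module.Basis.repr_self]
      by_cases hk : k = m
      · subst hk; simp
      · simp [Finsupp.single_apply, hk]
    · simp only [if_neg hmm, LinearMap.zero_apply]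
      by_cases hk : k = m
      · subst hk
        simp [Finsupp.single_apply, hmm]
      · simp [Finsupp.single_apply, hk]
  have h2 := LinearMap.congr_fun key (f (bN n))
  simp only [LinearMap.comp_apply, LinearEquiv.coe_coe, Finsupp.lapply_apply] at h2
  rw [h2] at h1
  unfold c
  rw [mul_comm] at h1
  rw [← h1]
  split_ifs <;> simp

include hεM hεN in
lemma c_sum (n : N) : ((bM.repr (f (bN n))).sum fun _ a => a) = 1 := by
  have key : (counit : HM →ₗ[B] B) =
      (Finsupp.linearCombination B (fun _ : M => (1 : B))) ∘ₗ (bM.repr : HM →ₗ[B] M →₀ B) := by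
    apply bM.ext
    intro k
    simp [hεM]
  have h := counit_f bN hεN f n
  rw [key] at h
  simp only [LinearMap.comp_apply, LinearEquiv.coe_coe, Finsupp.linearCombination_apply,
    smul_eq_mul, mul_one] at h
  exact h

include hεM hεN in
lemma exists_c_notMem (n : N) (𝔭 : Ideal B) (h𝔭 : 𝔭 ≠ ⊤) : ∃ m, c bM bN f n m ∉ 𝔭 := by
  by_contra hcon
  push_neg at hcon
  apply h𝔭
  rw [Ideal.eq_top_iff_one, ← c_sum bM bN hεM hεN f n]
  exact Ideal.sum_mem _ (fun m _ => hcon m)

include hglM hglN in
/-- the key local identity -/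
lemma c_smul [DecidableEq M] (n : N) (m : M) :
    c bM bN f n m • f (bN n) = c bM bN f n m • bM m := by
  apply bM.repr.injective
  ext m'
  rw [map_smul, map_smul, Finsupp.smul_apply, Finsupp.smul_apply, smul_eq_mul, smul_eq_mul,
    Module.Basis.repr_self, Finsupp.single_apply]
  have h := c_orth bM bN hglM hglN f n m m'
  unfold c at h ⊢
  rw [h]
  split_ifs <;> simp

include hglM hglN hMadd hNadd in
lemma c_mul [DecidableEq M] (n n' : N) (m m' : M) :
    c bM bN f n m * c bM bN f n' m' * c bM bN f (n + n') (m + m') =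
      c bM bN f n m * c bM bN f n' m' := by
  have h1 : (c bM bN f n m * c bM bN f n' m') • f (bN (n + n')) =
      (c bM bN f n m * c bM bN f n' m') • bM (m + m') := by
    rw [hNadd, map_mul, hMadd, ← smul_mul_smul_comm, c_smul bM bN hglM hglN f n m,
      c_smul bM bN hglM hglN f n' m', smul_mul_smul_comm]
  have h2 := congrArg (fun z => bM.repr z (m + m')) h1
  simp only [map_smul, Finsupp.smul_apply, smul_eq_mul, Module.Basis.repr_self,
    Finsupp.single_eq_same, mul_one] at h2
  exact h2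

include hM0 hN0 in
lemma c_zero_zero : c bM bN f 0 0 = 1 := by
  unfold c
  rw [hN0, map_one, ← hM0, Module.Basis.repr_self, Finsupp.single_eq_same]

section prime

variable (𝔭 : Ideal B) [h𝔭 : 𝔭.IsPrime]

include hεM hεN h𝔭 in
lemma exists_index (n : N) : ∃ m, c bM bN f n m ∉ 𝔭 :=
  exists_c_notMem bM bN hεM hεN f n 𝔭 h𝔭.ne_top

/-- the value at a prime of the locally constant function attached to `n` -/
noncomputable def φfun (n : N) : M := (exists_index bM bN hεM hεN f 𝔭 n).choose

lemma φfun_spec (n : N) : c bM bN f n (φfun bM bN hεM hεN f 𝔭 n) ∉ 𝔭 :=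
  (exists_index bM bN hεM hεN f 𝔭 n).choose_spec

include hglM hglN in
lemma φfun_unique (n : N) (m : M) (hm : c bM bN f n m ∉ 𝔭) : m = φfun bM bN hεM hεN f 𝔭 n := by
  classical
  by_contra hne
  have h := c_orth bM bN hglM hglN f n m (φfun bM bN hεM hεN f 𝔭 n)
  rw [if_neg hne] at h
  have h0 : c bM bN f n m * c bM bN f n (φfun bM bN hεM hεN f 𝔭 n) ∈ 𝔭 := by
    rw [h]; exact 𝔭.zero_mem
  rcases h𝔭.mem_or_mem h0 with h1 | h1
  · exact hm h1
  · exact φfun_spec bM bN hεM hεN f 𝔭 n h1

/-- the group homomorphism attached to a bialgebra homomorphism at a prime -/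
noncomputable def φ (hglM : ∀ m, comul (R := B) (bM m) = bM m ⊗ₜ[B] bM m)
    (hMadd : ∀ m m', bM (m + m') = bM m * bM m')
    (hglN : ∀ n, comul (R := B) (bN n) = bN n ⊗ₜ[B] bN n)
    (hNadd : ∀ n n', bN (n + n') = bN n * bN n') : N →+ M :=
  AddMonoidHom.mk' (φfun bM bN hεM hεN f 𝔭) (by
    classical
    intro n n'
    symm
    apply φfun_unique bM bN hglM hεM hglN hεN f 𝔭
    intro hmem
    have h := c_mul bM bN hglM hMadd hglN hNadd f n n' (φfun bM bN hεM hεN f 𝔭 n)
      (φfun bM bN hεM hεN f 𝔭 n')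
    have h1 : c bM bN f n (φfun bM bN hεM hεN f 𝔭 n) * c bM bN f n' (φfun bM bN hεM hεN f 𝔭 n') ∈ 𝔭 := by
      rw [← h]
      exact 𝔭.mul_mem_left _ hmem
    rcases h𝔭.mem_or_mem h1 with h2 | h2
    · exact φfun_spec bM bN hεM hεN f 𝔭 n h2
    · exact φfun_spec bM bN hεM hεN f 𝔭 n' h2)

lemma φ_apply (n : N) :
    φ bM bN hεM hεN f 𝔭 hglM hMadd hglN hNadd n = φfun bM bN hεM hεN f 𝔭 n := rfl

lemma φ_eq_iff (n : N) (m : M) :
    φ bM bN hεM hεN f 𝔭 hglM hMadd hglN hNadd n = m ↔ c bM bN f n m ∉ 𝔭 := by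
  constructor
  · rintro rfl
    exact φfun_spec bM bN hεM hεN f 𝔭 n
  · intro h
    exact (φfun_unique bM bN hglM hεM hglN hεN f 𝔭 n m h).symm

end prime

/-- group-like basis data on a bialgebra -/
structure GLB (B H : Type u) [CommRing B] [CommRing H] [Bialgebra B H] (M : Type)
    [AddCommGroup M] where
  b : Module.Basis M B H
  gl : ∀ m, comul (R := B) (b m) = b m ⊗ₜ[B] b m
  ε : ∀ m, counit (R := B) (b m) = 1
  zero : b 0 = 1
  add : ∀ m m', b (m + m') = b m * b m'

variable (GM : GLB B HM M) (GN : GLB B HN N)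

/-- the group homomorphism at a point of the spectrum -/
noncomputable abbrev φP (x : PrimeSpectrum B) : N →+ M :=
  φ GM.b GN.b GM.ε GN.ε f x.asIdeal GM.gl GM.add GN.gl GN.add

lemma φP_eq_iff (x : PrimeSpectrum B) (n : N) (m : M) :
    φP f GM GN x n = m ↔ x ∈ PrimeSpectrum.basicOpen (c GM.b GN.b f n m) := by
  rw [PrimeSpectrum.mem_basicOpen]
  exact φ_eq_iff GM.b GN.b GM.gl GM.ε GM.add GN.gl GN.ε GN.add f x.asIdeal n m

/-- the attached homomorphism is locally constant -/
lemma isOpen_setOf_φP_eq (hN : AddGroup.FG N) (φ₀ : N →+ M) :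
    IsOpen {x : PrimeSpectrum B | φP f GM GN x = φ₀} := by
  obtain ⟨s, hs⟩ := (AddGroup.fg_def).mp hN
  have h : {x : PrimeSpectrum B | φP f GM GN x = φ₀} =
      ⋂ n ∈ s, (PrimeSpectrum.basicOpen (c GM.b GN.b f n (φ₀ n)) : Set (PrimeSpectrum B)) := by
    ext x
    simp only [Set.mem_setOf_eq, Set.mem_iInter, SetLike.mem_coe]
    constructor
    · rintro rfl n _
      exact (φP_eq_iff f GM GN x n _).mp rfl
    · intro hx
      apply AddMonoidHom.eq_of_eqOn_dense hs
      intro n hn
      exact (φP_eq_iff f GM GN x n _).mpr (hx n hn)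
  rw [h]
  exact isOpen_biInter_finset (fun n _ => (PrimeSpectrum.basicOpen _).isOpen)

/-- **Theorem A**: any property of the attached homomorphism cuts out a clopen subset -/
theorem isClopen_setOf (hN : AddGroup.FG N) (P : (N →+ M) → Prop) :
    IsClopen {x : PrimeSpectrum B | P (φP f GM GN x)} := by
  have hopen : ∀ Q : (N →+ M) → Prop, IsOpen {x : PrimeSpectrum B | Q (φP f GM GN x)} := by
    intro Q
    have : {x : PrimeSpectrum B | Q (φP f GM GN x)} =
        ⋃ φ₀ ∈ {φ₀ : N →+ M | Q φ₀}, {x : PrimeSpectrum B | φP f GM GN x = φ₀} := by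
      ext x
      simp
    rw [this]
    exact isOpen_biUnion (fun φ₀ _ => isOpen_setOf_φP_eq f GM GN hN φ₀)
  refine ⟨?_, hopen P⟩
  rw [← isOpen_compl_iff]
  exact hopen (fun φ₀ => ¬ P φ₀)

lemma c_idem (n : N) (m : M) : c GM.b GN.b f n m * c GM.b GN.b f n m = c GM.b GN.b f n m := by
  classical
  rw [c_orth GM.b GN.b GM.gl GN.gl f n m m, if_pos rfl]

/-- **Theorem B**: over a base on which the attached homomorphism is constant, the base change of
the bialgebra homomorphism is induced by that homomorphism of groups -/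
theorem tmul_f_eq (C : Type u) [CommRing C] [Algebra B C] (φ₀ : N →+ M)
    (hconst : ∀ 𝔮 : PrimeSpectrum C, φP f GM GN (𝔮.comap (algebraMap B C)) = φ₀) (n : N) :
    (1 : C) ⊗ₜ[B] f (GN.b n) = (1 : C) ⊗ₜ[B] GM.b (φ₀ n) := by
  classical
  set e := c GM.b GN.b f n (φ₀ n) with he
  have hnot : ∀ 𝔮 : PrimeSpectrum C, algebraMap B C e ∉ 𝔮.asIdeal := by
    intro 𝔮
    have h1 := (φP_eq_iff f GM GN (𝔮.comap (algebraMap B C)) n (φ₀ n)).mp (by rw [hconst 𝔮])
    rw [PrimeSpectrum.mem_basicOpen] at h1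
    exact h1
  have hunit : IsUnit (algebraMap B C e) := by
    by_contra hnu
    obtain ⟨𝔪, h𝔪, hmem⟩ := exists_max_ideal_of_mem_nonunits hnu
    exact hnot ⟨𝔪, h𝔪.isPrime⟩ hmem
  have hone : algebraMap B C e = 1 := by
    have hidem : algebraMap B C e * algebraMap B C e = algebraMap B C e := by
      rw [← map_mul, c_idem]
    have := hunit.mul_left_cancel (a := algebraMap B C e) (b := algebraMap B C e) (c := 1)
      (by rw [hidem, mul_one])
    exact this
  have h1 : (1 : C) ⊗ₜ[B] f (GN.b n) = (algebraMap B C e) ⊗ₜ[B] f (GN.b n) := by rw [hone]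
  have h2 : (1 : C) ⊗ₜ[B] GM.b (φ₀ n) = (algebraMap B C e) ⊗ₜ[B] GM.b (φ₀ n) := by rw [hone]
  rw [h1, h2, Algebra.algebraMap_eq_smul_one, TensorProduct.smul_tmul, TensorProduct.smul_tmul,
    c_smul GM.b GN.b GM.gl GN.gl f n (φ₀ n)]

end alg

section ThmC

variable {B : Type u} [CommRing B] {HM HN : Type u} [CommRing HM] [CommRing HN]
  [Algebra B HM] [Algebra B HN]
  {M N : Type} [AddCommGroup M] [AddCommGroup N]
  (bM : Module.Basis M B HM) (bN : Module.Basis N B HN)
  (C : Type u) [CommRing C] [Algebra B C] (φ₀ : N →+ M)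
  (g : C ⊗[B] HN →ₗ[C] C ⊗[B] HM)
  (hg : ∀ n, g ((1 : C) ⊗ₜ[B] bN n) = (1 : C) ⊗ₜ[B] bM (φ₀ n))

include hg in
lemma g_basis (n : N) : g (Algebra.TensorProduct.basis C bN n) =
    Algebra.TensorProduct.basis C bM (φ₀ n) := by
  rw [Algebra.TensorProduct.basis_apply, Algebra.TensorProduct.basis_apply]
  exact hg n

include hg in
theorem bijective_of_bijective (h : Function.Bijective φ₀) : Function.Bijective g := by
  let E := (Algebra.TensorProduct.basis C bN).equiv (Algebra.TensorProduct.basis C bM)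
    (Equiv.ofBijective φ₀ h)
  have : g = E.toLinearMap := by
    apply (Algebra.TensorProduct.basis C bN).ext
    intro n
    rw [g_basis bM bN C φ₀ g hg]
    exact ((Algebra.TensorProduct.basis C bN).equiv_apply n (Algebra.TensorProduct.basis C bM)
      (Equiv.ofBijective φ₀ h)).symm
  rw [this]
  exact E.bijective

include hg in
theorem injective_of_injective [Nontrivial C] (h : Function.Injective g) :
    Function.Injective φ₀ := by
  intro n n' hnn
  have h1 : g (Algebra.TensorProduct.basis C bN n) = g (Algebra.TensorProduct.basis C bN n') := by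
    rw [g_basis bM bN C φ₀ g hg, g_basis bM bN C φ₀ g hg, hnn]
  exact (Algebra.TensorProduct.basis C bN).injective (h h1)

include hg in
lemma range_g : LinearMap.range g =
    Submodule.span C ((Algebra.TensorProduct.basis C bM) '' (Set.range φ₀)) := by
  rw [← Submodule.map_top, ← (Algebra.TensorProduct.basis C bN).span_eq, Submodule.map_span]
  congr 1
  ext z
  constructor
  · rintro ⟨_, ⟨n, rfl⟩, rfl⟩
    exact ⟨φ₀ n, ⟨n, rfl⟩, (g_basis bM bN C φ₀ g hg n).symm⟩
  · rintro ⟨_, ⟨n, rfl⟩, rfl⟩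
    exact ⟨_, ⟨n, rfl⟩, g_basis bM bN C φ₀ g hg n⟩

include hg in
theorem surjective_of_surjective [Nontrivial C] (h : Function.Surjective g) :
    Function.Surjective φ₀ := by
  intro m
  have h1 : Algebra.TensorProduct.basis C bM m ∈ LinearMap.range g := by
    rw [LinearMap.range_eq_top.mpr h]
    exact Submodule.mem_top
  rw [range_g bM bN C φ₀ g hg, Module.Basis.mem_span_image] at h1
  have h2 : m ∈ ((Algebra.TensorProduct.basis C bM).repr
      (Algebra.TensorProduct.basis C bM m)).support := by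
    rw [Module.Basis.repr_self, Finsupp.mem_support_iff, Finsupp.single_eq_same]
    exact one_ne_zero
  exact h1 h2

include hg in
theorem surjective_of_surjective' (h : Function.Surjective φ₀) : Function.Surjective g := by
  rw [← LinearMap.range_eq_top, range_g bM bN C φ₀ g hg, Set.range_eq_univ.mpr h, Set.image_univ,
    (Algebra.TensorProduct.basis C bM).span_eq]

end ThmC

end Groth.Agent.Lib.Helper14.MTHom1
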