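import Mathlib
import Groth.Prelude.Def_Red2
import Groth.Agent.Lib.Helper14.MTHom1
import Groth.Agent.Lib.Helper14.MTDescent
import Groth.Agent.Lib.Helper14.GrpBridgeHom

set_option autoImplicit false

namespace Groth.Agent.Lib.Helper14.MTHom2

open CategoryTheory MonoidalCategory CartesianMonoidalCategory MonObj GrpObj AlgebraicGeometry
open CategoryTheory.Limits TensorProduct
open Groth.Agent.Lib.Helper14 GrpBridge

universe u

section bcSpec

variable (K R : Type u) [CommRing K] [CommRing R] [Algebra K R] (A : Type u) [CommRing A]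
  [Algebra K A]

/-- base change of an affine scheme over an affine base, explicitly -/
noncomputable def bcSpec :
    Red.bc (Spec.map (CommRingCat.ofHom (algebraMap K R)))
        ((Spec (.of A)).asOver (Spec (.of K))) ≅ (Spec (.of (R ⊗[K] A))).asOver (Spec (.of R)) :=
  Over.isoMk (pullbackSymmetry .. ≪≫ pullbackSpecIso' K R A)
    (((pullbackSymmetry .. ≪≫ pullbackSpecIso' K R A).hom.asOver (Spec (.of R))).w.trans rfl)

lemma bcSpec_inv_left_fst :
    (bcSpec K R A).inv.left ≫ pullback.fst _ _ =
      Spec.map (CommRingCat.ofHom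
        ((Algebra.TensorProduct.includeRight : A →ₐ[K] R ⊗[K] A).toRingHom)) := by
  show ((pullbackSpecIso' K R A).inv ≫ (pullbackSymmetry (Spec (.of A) ↘ Spec (.of K))
    (Spec (.of R) ↘ Spec (.of K))).inv) ≫ pullback.fst (Spec (.of A) ↘ Spec (.of K))
      (Spec (.of R) ↘ Spec (.of K)) = _
  rw [Category.assoc, pullbackSymmetry_inv_comp_fst]
  exact pullbackSpecIso_inv_snd K R A

lemma bcSpec_inv_left_snd :
    (bcSpec K R A).inv.left ≫ pullback.snd _ _ =
      Spec.map (CommRingCat.ofHom
        (Algebra.TensorProduct.includeLeftRingHom : R →+* R ⊗[K] A)) := by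
  show ((pullbackSpecIso' K R A).inv ≫ (pullbackSymmetry (Spec (.of A) ↘ Spec (.of K))
    (Spec (.of R) ↘ Spec (.of K))).inv) ≫ pullback.snd (Spec (.of A) ↘ Spec (.of K))
      (Spec (.of R) ↘ Spec (.of K)) = _
  rw [Category.assoc, pullbackSymmetry_inv_comp_snd]
  exact pullbackSpecIso_inv_fst K R A

variable {A} in
/-- naturality of the explicit base change isomorphism -/
lemma bcSpec_natural {A' : Type u} [CommRing A'] [Algebra K A'] (f : A' →ₐ[K] A) :
    (bcSpec K R A).inv ≫
        (Over.pullback (Spec.map (CommRingCat.ofHom (algebraMap K R)))).map (specHom K A' f) =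
      specHom R (R ⊗[K] A') (Algebra.TensorProduct.map (AlgHom.id R R) f) ≫
        (bcSpec K R A').inv := by
  apply Over.OverMorphism.ext
  rw [Over.comp_left, Over.comp_left]
  apply pullback.hom_ext
  · rw [Category.assoc, MTDescent.pullback_map_left_fst, ← Category.assoc,
      bcSpec_inv_left_fst, Category.assoc, bcSpec_inv_left_fst, specHom_left, specHom_left]
    show Spec.map (CommRingCat.ofHom
        ((Algebra.TensorProduct.includeRight : A →ₐ[K] R ⊗[K] A).toRingHom)) ≫
        Spec.map (CommRingCat.ofHom (f : A' →+* A)) =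
      Spec.map (CommRingCat.ofHom ((Algebra.TensorProduct.map (AlgHom.id R R) f :
        R ⊗[K] A' →ₐ[R] R ⊗[K] A) : R ⊗[K] A' →+* R ⊗[K] A)) ≫
        Spec.map (CommRingCat.ofHom
          ((Algebra.TensorProduct.includeRight : A' →ₐ[K] R ⊗[K] A').toRingHom))
    rw [← Spec.map_comp, ← Spec.map_comp]
    congr 1
    all_goals (ext a; simp)
  · have hw : ((Over.pullback (Spec.map (CommRingCat.ofHom (algebraMap K R)))).map
        (specHom K A' f)).left ≫ pullback.snd _ _ = pullback.snd _ _ :=
      Over.w ((Over.pullback (Spec.map (CommRingCat.ofHom (algebraMap K R)))).map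
        (specHom K A' f))
    rw [Category.assoc, hw, bcSpec_inv_left_snd, Category.assoc, bcSpec_inv_left_snd,
      specHom_left]
    show Spec.map (CommRingCat.ofHom
        (Algebra.TensorProduct.includeLeftRingHom : R →+* R ⊗[K] A)) =
      Spec.map (CommRingCat.ofHom ((Algebra.TensorProduct.map (AlgHom.id R R) f :
        R ⊗[K] A' →ₐ[R] R ⊗[K] A) : R ⊗[K] A' →+* R ⊗[K] A)) ≫
        Spec.map (CommRingCat.ofHom
          (Algebra.TensorProduct.includeLeftRingHom : R →+* R ⊗[K] A'))
    rw [← Spec.map_comp]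
    congr 1
    all_goals (ext a; simp)

end bcSpec

section chart

variable {S : Scheme.{u}} {G H : Over S} (u : G ⟶ H)
  {B : Type u} [CommRing B] (k : Spec (CommRingCat.of B) ⟶ S)
  {HM HN : Type u} [CommRing HM] [CommRing HN] [Algebra B HM] [Algebra B HN]
  (εG : Red.bc k G ≅ (Spec (.of HM)).asOver (Spec (.of B)))
  (εH : Red.bc k H ≅ (Spec (.of HN)).asOver (Spec (.of B)))
  (f : HN →ₐ[B] HM) (hf : εG.inv ≫ (Over.pullback k).map u ≫ εH.hom = specHom B HN f)

include hf in
/-- the base change of `u` to an algebra over the chart is the spectrum of the base change of the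
algebra homomorphism of the chart -/
theorem star (R : Type u) [CommRing R] [Algebra B R] :
    ∃ (α : Red.bc (Spec.map (CommRingCat.ofHom (algebraMap B R)) ≫ k) G ≅
        (Spec (.of (R ⊗[B] HM))).asOver (Spec (.of R)))
      (β : Red.bc (Spec.map (CommRingCat.ofHom (algebraMap B R)) ≫ k) H ≅
        (Spec (.of (R ⊗[B] HN))).asOver (Spec (.of R))),
      (Over.pullback (Spec.map (CommRingCat.ofHom (algebraMap B R)) ≫ k)).map u ≫ β.hom =
        α.hom ≫ specHom R (R ⊗[B] HN) (Algebra.TensorProduct.map (AlgHom.id R R) f) := by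
  set r := Spec.map (CommRingCat.ofHom (algebraMap B R)) with hr
  let pc := Over.pullbackComp r k
  refine ⟨pc.app G ≪≫ (Over.pullback r).mapIso εG ≪≫ bcSpec B R HM,
    pc.app H ≪≫ (Over.pullback r).mapIso εH ≪≫ bcSpec B R HN, ?_⟩
  have nat := pc.hom.naturality u
  have h1 : (Over.pullback k).map u ≫ εH.hom = εG.hom ≫ specHom B HN f := by
    rw [← hf, Iso.hom_inv_id_assoc]
  have h2 : (Over.pullback r).map (specHom B HN f) ≫ (bcSpec B R HN).hom =
      (bcSpec B R HM).hom ≫ specHom R (R ⊗[B] HN) (Algebra.TensorProduct.map (AlgHom.id R R) f) := by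
    rw [← Iso.inv_comp_eq, ← Category.assoc, bcSpec_natural, Category.assoc, Iso.inv_hom_id,
      Category.comp_id]
  simp only [Iso.trans_hom, Iso.app_hom, Functor.mapIso_hom, Category.assoc]
  rw [← Category.assoc, nat, Category.assoc]
  congr 1
  simp only [Functor.comp_map]
  rw [← Category.assoc, ← Functor.map_comp, h1, Functor.map_comp, Category.assoc, h2]

end chart

end Groth.Agent.Lib.Helper14.MTHom2
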