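import Mathlib
import Groth.Prelude.Def_Red2
import Groth.Agent.Lib.Helper14.MTHom2
import Groth.Agent.Lib.Helper14.MTRigidGeom2
import Groth.Agent.Lib.Helper24.HomogSep.BaseChange

set_option autoImplicit false

namespace Groth.Agent.Lib.Helper14.MTHom3

open CategoryTheory MonoidalCategory CartesianMonoidalCategory MonObj GrpObj AlgebraicGeometry
open CategoryTheory.Limits TensorProduct
open Groth.Agent.Lib.Helper14 GrpBridge

universe u

section transfer

variable {S : Scheme.{u}} {G H : Over S} (u : G ⟶ H)
  {B : Type u} [CommRing B] (k : Spec (CommRingCat.of B) ⟶ S)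
  {HM HN : Type u} [CommRing HM] [CommRing HN] [Algebra B HM] [Algebra B HN]
  (εG : Red.bc k G ≅ (Spec (.of HM)).asOver (Spec (.of B)))
  (εH : Red.bc k H ≅ (Spec (.of HN)).asOver (Spec (.of B)))
  (f : HN →ₐ[B] HM) (hf : εG.inv ≫ (Over.pullback k).map u ≫ εH.hom = specHom B HN f)

include hf in
/-- properties of the base change of `u` to an algebra over a chart can be read off on the base
change of the algebra homomorphism of the chart -/
theorem transfer (P : MorphismProperty Scheme.{u}) [P.RespectsIso] (R : Type u) [CommRing R]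
    [Algebra B R] :
    P ((Over.pullback (Spec.map (CommRingCat.ofHom (algebraMap B R)) ≫ k)).map u).left ↔
      P (Spec.map (CommRingCat.ofHom ((Algebra.TensorProduct.map (AlgHom.id R R) f :
        R ⊗[B] HN →ₐ[R] R ⊗[B] HM) : R ⊗[B] HN →+* R ⊗[B] HM))) := by
  obtain ⟨α, β, h⟩ := MTHom2.star u k εG εH f hf R
  have h1 := congrArg (fun m => m.left) h
  simp only [Over.comp_left] at h1
  haveI : IsIso β.hom.left := (Over.forget _).map_isIso β.hom
  haveI : IsIso α.hom.left := (Over.forget _).map_isIso α.hom
  rw [← P.cancel_right_of_respectsIso _ β.hom.left, h1, P.cancel_left_of_respectsIso]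
  rfl

end transfer

section specIso

lemma isIso_specMap_iff {R S : Type u} [CommRing R] [CommRing S] (g : R →+* S) :
    IsIso (Spec.map (CommRingCat.ofHom g)) ↔ Function.Bijective g := by
  constructor
  · intro h
    have h1 : IsIso (Scheme.Spec.map (CommRingCat.ofHom g).op) := h
    have h2 : IsIso (CommRingCat.ofHom g).op := isIso_of_fully_faithful Scheme.Spec _
    have h3 : IsIso (CommRingCat.ofHom g) := isIso_of_op _
    exact (ConcreteCategory.isIso_iff_bijective (CommRingCat.ofHom g)).mp h3
  · intro h
    have h3 : IsIso (CommRingCat.ofHom g) :=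
      (ConcreteCategory.isIso_iff_bijective (CommRingCat.ofHom g)).mpr h
    infer_instance

end specIso

section fieldExt

/-- isomorphy of a base change can be tested after a further fpqc base change -/
theorem isIso_comp_iff {S T T' : Scheme.{u}} {G H : Over S} (u : G ⟶ H) (ρ : T' ⟶ T)
    (j : T ⟶ S) [Flat ρ] [Surjective ρ] [QuasiCompact ρ] :
    IsIso ((Over.pullback (ρ ≫ j)).map u).left ↔ IsIso ((Over.pullback j).map u).left := by
  have nat := (Over.pullbackComp ρ j).hom.naturality u
  have nat' := congrArg (fun m => m.left) nat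
  simp only [Over.comp_left, Functor.comp_map] at nat'
  have e1 : IsIso ((Over.pullbackComp ρ j).hom.app G).left :=
    (Over.forget _).map_isIso ((Over.pullbackComp ρ j).hom.app G)
  have e2 : IsIso ((Over.pullbackComp ρ j).hom.app H).left :=
    (Over.forget _).map_isIso ((Over.pullbackComp ρ j).hom.app H)
  have step1 : IsIso ((Over.pullback (ρ ≫ j)).map u).left ↔
      IsIso ((Over.pullback ρ).map ((Over.pullback j).map u)).left := by
    rw [← MorphismProperty.isomorphisms.iff, ← MorphismProperty.isomorphisms.iff,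
      ← (MorphismProperty.isomorphisms Scheme.{u}).cancel_right_of_respectsIso _
        ((Over.pullbackComp ρ j).hom.app H).left, nat',
      (MorphismProperty.isomorphisms Scheme.{u}).cancel_left_of_respectsIso]
  rw [step1]
  constructor
  · intro h
    have sq := Groth.Agent.Lib.Helper24.HomogSep.isPullback_pullback_map ρ
      ((Over.pullback j).map u)
    have hQ : (@Surjective ⊓ @Flat ⊓ @QuasiCompact : MorphismProperty Scheme.{u})
        (pullback.fst ((Over.pullback j).obj H).hom ρ) :=
      ⟨⟨inferInstance, inferInstance⟩, inferInstance⟩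
    exact (MorphismProperty.isomorphisms.iff _).mp
      (MorphismProperty.DescendsAlong.of_isPullback (P := MorphismProperty.isomorphisms Scheme.{u})
        sq hQ ((MorphismProperty.isomorphisms.iff _).mpr h))
  · intro h
    haveI : IsIso ((Over.forget T).map ((Over.pullback j).map u)) := h
    haveI : IsIso ((Over.pullback j).map u) := isIso_of_reflects_iso _ (Over.forget _)
    exact (Over.forget _).map_isIso ((Over.pullback ρ).map ((Over.pullback j).map u))

end fieldExt

section residue

theorem exists_residue_hom' {B : Type u} [CommRing B] (t : Spec (CommRingCat.of B)) :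
    ∃ g : B →+* (Spec (CommRingCat.of B)).residueField t,
      Spec.map (CommRingCat.ofHom g) = (Spec (CommRingCat.of B)).fromSpecResidueField t ∧
      RingHom.ker g = t.asIdeal := by
  obtain ⟨g, hg1, hg2⟩ := MTRigidGeom2.exists_residue_hom (𝟙 (Spec (CommRingCat.of B))) t
  rw [Category.comp_id] at hg1
  exact ⟨g, hg1, hg2⟩

end residue

section chartIso

variable {S : Scheme.{u}} {G H : Over S} (u : G ⟶ H)
  {B : Type u} [CommRing B] (k : Spec (CommRingCat.of B) ⟶ S)
  {HM HN : Type u} [CommRing HM] [CommRing HN] [Bialgebra B HM] [Bialgebra B HN]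
  (εG : Red.bc k G ≅ (Spec (.of HM)).asOver (Spec (.of B)))
  (εH : Red.bc k H ≅ (Spec (.of HN)).asOver (Spec (.of B)))
  {M N : Type} [AddCommGroup M] [AddCommGroup N]
  (GM : MTHom1.GLB B HM M) (GN : MTHom1.GLB B HN N)
  (f : HN →ₐc[B] HM)
  (hf : εG.inv ≫ (Over.pullback k).map u ≫ εH.hom = specHom B HN (f : HN →ₐ[B] HM))

include hf in
theorem isIso_iff_of_const (R : Type u) [CommRing R] [Algebra B R] (φ₀ : N →+ M)
    (hconst : ∀ 𝔮 : PrimeSpectrum R, MTHom1.φP f GM GN (𝔮.comap (algebraMap B R)) = φ₀) :
    (Function.Bijective φ₀ →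
      IsIso ((Over.pullback (Spec.map (CommRingCat.ofHom (algebraMap B R)) ≫ k)).map u).left) ∧
    (Nontrivial R →
      IsIso ((Over.pullback (Spec.map (CommRingCat.ofHom (algebraMap B R)) ≫ k)).map u).left →
      Function.Bijective φ₀) := by
  have ht := transfer u k εG εH (f : HN →ₐ[B] HM) hf (MorphismProperty.isomorphisms Scheme.{u}) R
  simp only [MorphismProperty.isomorphisms.iff] at ht
  rw [ht, isIso_specMap_iff]
  let g : R ⊗[B] HN →ₗ[R] R ⊗[B] HM :=
    (Algebra.TensorProduct.map (AlgHom.id R R) (f : HN →ₐ[B] HM)).toLinearMap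
  have hg : ∀ n, g ((1 : R) ⊗ₜ[B] GN.b n) = (1 : R) ⊗ₜ[B] GM.b (φ₀ n) := by
    intro n
    show (Algebra.TensorProduct.map (AlgHom.id R R) (f : HN →ₐ[B] HM)) ((1 : R) ⊗ₜ[B] GN.b n) = _
    rw [Algebra.TensorProduct.map_tmul]
    exact MTHom1.tmul_f_eq f GM GN R φ₀ hconst n
  refine ⟨fun h => MTHom1.bijective_of_bijective GM.b GN.b R φ₀ g hg h, fun hR h => ⟨?_, ?_⟩⟩
  · exact MTHom1.injective_of_injective GM.b GN.b R φ₀ g hg h.1
  · exact MTHom1.surjective_of_surjective GM.b GN.b R φ₀ g hg h.2

include hf in
/-- the fibre of `u` at the image of a point of a chart is an isomorphism iff the homomorphism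
of character groups at that point is bijective -/
theorem fibre_iff (t : Spec (CommRingCat.of B)) :
    IsIso ((Over.pullback (S.fromSpecResidueField (k t))).map u).left ↔
      Function.Bijective (MTHom1.φP f GM GN t) := by
  obtain ⟨g, hg1, hg2⟩ := exists_residue_hom' t
  letI : Algebra B ((Spec (CommRingCat.of B)).residueField t) := g.toAlgebra
  have hcomm : Spec.map (CommRingCat.ofHom (algebraMap B
      ((Spec (CommRingCat.of B)).residueField t))) ≫ k =
      Spec.map (k.residueFieldMap t) ≫ S.fromSpecResidueField (k t) := by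
    rw [Scheme.Hom.SpecMap_residueFieldMap_fromSpecResidueField]
    exact congrArg (· ≫ k) hg1
  have hconst : ∀ 𝔮 : PrimeSpectrum ((Spec (CommRingCat.of B)).residueField t),
      MTHom1.φP f GM GN (𝔮.comap (algebraMap B _)) = MTHom1.φP f GM GN t := by
    intro 𝔮
    congr 1
    apply PrimeSpectrum.ext
    show Ideal.comap g 𝔮.asIdeal = t.asIdeal
    have h0 : 𝔮.asIdeal = ⊥ :=
      (Ideal.eq_bot_or_top 𝔮.asIdeal).resolve_right 𝔮.isPrime.ne_top
    rw [h0, ← hg2]
    rfl
  have h1 := isIso_iff_of_const u k εG εH GM GN f hf _ (MTHom1.φP f GM GN t) hconst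
  have hfs : Flat (Spec.map (k.residueFieldMap t)) ∧
      Surjective (Spec.map (k.residueFieldMap t)) := by
    rw [flat_and_surjective_SpecMap_iff]
    letI : Algebra (S.residueField (k t)) ((Spec (CommRingCat.of B)).residueField t) :=
      (k.residueFieldMap t).hom.toAlgebra
    exact (RingHom.faithfullyFlat_algebraMap_iff).mpr inferInstance
  haveI := hfs.1
  haveI := hfs.2
  rw [← isIso_comp_iff u (Spec.map (k.residueFieldMap t)) (S.fromSpecResidueField (k t)), ← hcomm]
  exact ⟨h1.2 inferInstance, h1.1⟩

end chartIso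

end Groth.Agent.Lib.Helper14.MTHom3
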