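import Mathlib
import Groth.Prelude.Def_Red2
import Groth.Agent.Lib.Helper14.MTHom3
import Groth.Agent.Lib.Helper14.MTFree3
import Groth.Agent.Lib.Helper14.MTAffine
import Groth.Agent.Lib.Helper14.MTDescent
import Groth.Agent.Lib.Helper14.GrpBridgeHom
import Groth.Agent.Lib.Helper4.FpqcCov
import Groth.Agent.Lib.Helper4.QuotGrp
import Groth.Agent.Lib.Helper24.HomogSep.BaseChange

set_option autoImplicit false

namespace Groth.Agent.Lib.Helper14.MTHom4

open CategoryTheory MonoidalCategory CartesianMonoidalCategory MonObj GrpObj AlgebraicGeometry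
open CategoryTheory.Limits TensorProduct
open Groth.Agent.Lib.Helper14 GrpBridge

universe u

section generic

variable (P : MorphismProperty Scheme.{u})
variable {S : Scheme.{u}} {A B : Over S} (φ : A ⟶ B)

/-- iterated base change versus base change along the composite -/
lemma map_comp_iff [P.RespectsIso] {T T' : Scheme.{u}} (ρ : T' ⟶ T) (j : T ⟶ S) :
    P ((Over.pullback (ρ ≫ j)).map φ).left ↔
      P ((Over.pullback ρ).map ((Over.pullback j).map φ)).left := by
  have nat := (Over.pullbackComp ρ j).hom.naturality φ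
  have nat' := congrArg (fun m => m.left) nat
  simp only [Over.comp_left, Functor.comp_map] at nat'
  have e1 : IsIso ((Over.pullbackComp ρ j).hom.app A).left :=
    (Over.forget _).map_isIso ((Over.pullbackComp ρ j).hom.app A)
  have e2 : IsIso ((Over.pullbackComp ρ j).hom.app B).left :=
    (Over.forget _).map_isIso ((Over.pullbackComp ρ j).hom.app B)
  rw [← P.cancel_right_of_respectsIso _ ((Over.pullbackComp ρ j).hom.app B).left, nat',
    P.cancel_left_of_respectsIso]

/-- stability under base change, for base changes of morphisms over a base -/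
lemma map_of_map [P.IsStableUnderBaseChange] {T : Scheme.{u}} (g : T ⟶ S) (h : P φ.left) :
    P ((Over.pullback g).map φ).left :=
  P.of_isPullback (Groth.Agent.Lib.Helper24.HomogSep.isPullback_pullback_map g φ).flip h

lemma comp_of [P.IsStableUnderBaseChange] {T T' : Scheme.{u}} (ρ : T' ⟶ T) (j : T ⟶ S)
    (h : P ((Over.pullback j).map φ).left) : P ((Over.pullback (ρ ≫ j)).map φ).left :=
  (map_comp_iff P φ ρ j).mpr (map_of_map P _ ρ h)

/-- fpqc descent for base changes of morphisms over a base -/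
lemma comp_iff [P.IsStableUnderBaseChange]
    [P.DescendsAlong (@Surjective ⊓ @Flat ⊓ @QuasiCompact)] {T T' : Scheme.{u}} (ρ : T' ⟶ T)
    (j : T ⟶ S) [Flat ρ] [Surjective ρ] [QuasiCompact ρ] :
    P ((Over.pullback (ρ ≫ j)).map φ).left ↔ P ((Over.pullback j).map φ).left := by
  refine ⟨fun h => ?_, comp_of P φ ρ j⟩
  rw [map_comp_iff P φ ρ j] at h
  have sq := Groth.Agent.Lib.Helper24.HomogSep.isPullback_pullback_map ρ
    ((Over.pullback j).map φ)
  have hQ : (@Surjective ⊓ @Flat ⊓ @QuasiCompact : MorphismProperty Scheme.{u})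
      (pullback.fst ((Over.pullback j).obj B).hom ρ) :=
    ⟨⟨inferInstance, inferInstance⟩, inferInstance⟩
  exact MorphismProperty.DescendsAlong.of_isPullback (P := P) sq hQ h

/-- Zariski descent along an open cover of the base -/
theorem of_openCover_comp [IsZariskiLocalAtTarget P] {T : Scheme.{u}} (g : T ⟶ S)
    (𝒱 : T.OpenCover) (h : ∀ k, P ((Over.pullback (𝒱.f k ≫ g)).map φ).left) :
    P ((Over.pullback g).map φ).left := by
  apply IsZariskiLocalAtTarget.of_openCover (P := P)
    (𝒱.pullback₁ ((Over.pullback g).obj B).hom)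
  intro k
  apply MTFree3.pullback_snd_of_map_left ((Over.pullback g).map φ) P (𝒱.f k)
  exact (map_comp_iff P φ (𝒱.f k) g).mp (h k)

/-- fpqc descent along a covering of the base -/
theorem of_isCov [IsZariskiLocalAtTarget P] [P.IsStableUnderBaseChange]
    [P.DescendsAlong (@Surjective ⊓ @Flat ⊓ @QuasiCompact)] {S' : Scheme.{u}} (f : S' ⟶ S)
    (hf : Groth.Agent.Lib.Helper4.FpqcCov.IsCov f)
    (h : P ((Over.pullback f).map φ).left) : P φ.left := by
  have sq := (Groth.Agent.Lib.Helper24.HomogSep.isPullback_pullback_map f φ).flip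
  have hq : Groth.Agent.Lib.Helper4.FpqcCov.IsCov
      ((pullbackSymmetry f B.hom).hom ≫ pullback.fst B.hom f) := by
    rw [pullbackSymmetry_hom_comp_fst]
    exact hf.baseChange B.hom
  exact Groth.Agent.Lib.Helper4.FpqcCov.descends_of_dominated' (P := P) hq sq h

end generic

section chartHyp

/-- the algebraic input: how the property `P` of a homomorphism of diagonalizable groups with
constant homomorphism of character groups is read off on the latter -/
def ChartHyp (P : MorphismProperty Scheme.{u})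
    (Qp : ∀ (M N : Type) [AddCommGroup M] [AddCommGroup N], (N →+ M) → Prop) : Prop :=
  ∀ (B : Type u) [CommRing B] (HM HN : Type u) [CommRing HM] [CommRing HN] [Bialgebra B HM]
    [Bialgebra B HN] (M N : Type) [AddCommGroup M] [AddCommGroup N] (GM : MTHom1.GLB B HM M)
    (GN : MTHom1.GLB B HN N) (f : HN →ₐc[B] HM) (R : Type u) [CommRing R] [Algebra B R]
    (φ₀ : N →+ M),
    (∀ 𝔮 : PrimeSpectrum R, MTHom1.φP f GM GN (𝔮.comap (algebraMap B R)) = φ₀) →
    (Qp M N φ₀ → P (Spec.map (CommRingCat.ofHom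
      ((Algebra.TensorProduct.map (AlgHom.id R R) (f : HN →ₐ[B] HM) :
        R ⊗[B] HN →ₐ[R] R ⊗[B] HM) : R ⊗[B] HN →+* R ⊗[B] HM)))) ∧
    (Nontrivial R → P (Spec.map (CommRingCat.ofHom
      ((Algebra.TensorProduct.map (AlgHom.id R R) (f : HN →ₐ[B] HM) :
        R ⊗[B] HN →ₐ[R] R ⊗[B] HM) : R ⊗[B] HN →+* R ⊗[B] HM))) → Qp M N φ₀)

end chartHyp

section chart

variable (P : MorphismProperty Scheme.{u}) [P.IsStableUnderBaseChange]
  [P.DescendsAlong (@Surjective ⊓ @Flat ⊓ @QuasiCompact)]
variable {S : Scheme.{u}} {G H : Over S} (u : G ⟶ H)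
  {B : Type u} [CommRing B] (k : Spec (CommRingCat.of B) ⟶ S)
  {HM HN : Type u} [CommRing HM] [CommRing HN] [Bialgebra B HM] [Bialgebra B HN]
  {M N : Type} [AddCommGroup M] [AddCommGroup N]
  (GM : MTHom1.GLB B HM M) (GN : MTHom1.GLB B HN N)
  (f : HN →ₐc[B] HM)
  (Qp : (N →+ M) → Prop)
  (hI2 : ∀ (R : Type u) [CommRing R] [Algebra B R] (φ₀ : N →+ M),
    (∀ 𝔮 : PrimeSpectrum R, MTHom1.φP f GM GN (𝔮.comap (algebraMap B R)) = φ₀) →
    (Qp φ₀ →
      P ((Over.pullback (Spec.map (CommRingCat.ofHom (algebraMap B R)) ≫ k)).map u).left) ∧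
    (Nontrivial R →
      P ((Over.pullback (Spec.map (CommRingCat.ofHom (algebraMap B R)) ≫ k)).map u).left →
      Qp φ₀))

include hI2 in
/-- the fibre of `u` at the image of a point of a chart has `P` iff the homomorphism of
character groups at that point has the corresponding property -/
theorem fibre_iff (t : Spec (CommRingCat.of B)) :
    P ((Over.pullback (S.fromSpecResidueField (k t))).map u).left ↔
      Qp (MTHom1.φP f GM GN t) := by
  obtain ⟨g, hg1, hg2⟩ := MTHom3.exists_residue_hom' t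
  letI : Algebra B ((Spec (CommRingCat.of B)).residueField t) := g.toAlgebra
  have hcomm : Spec.map (CommRingCat.ofHom (algebraMap B
      ((Spec (CommRingCat.of B)).residueField t))) ≫ k =
      Spec.map (k.residueFieldMap t) ≫ S.fromSpecResidueField (k t) := by
    rw [Scheme.Hom.SpecMap_residueFieldMap_fromSpecResidueField]
    exact congrArg (· ≫ k) hg1
  have hconst : ∀ 𝔮 : PrimeSpectrum ((Spec (CommRingCat.of B)).residueField t),
      MTHom1.φP f GM GN (𝔮.comap (algebraMap B _)) = MTHom1.φP f GM GN t := by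
    intro 𝔮
    congr 1
    apply PrimeSpectrum.ext
    show Ideal.comap g 𝔮.asIdeal = t.asIdeal
    have h0 : 𝔮.asIdeal = ⊥ :=
      (Ideal.eq_bot_or_top 𝔮.asIdeal).resolve_right 𝔮.isPrime.ne_top
    rw [h0, ← hg2]
    rfl
  have h1 := hI2 _ (MTHom1.φP f GM GN t) hconst
  have hfs : Flat (Spec.map (k.residueFieldMap t)) ∧
      Surjective (Spec.map (k.residueFieldMap t)) := by
    rw [flat_and_surjective_SpecMap_iff]
    letI : Algebra (S.residueField (k t)) ((Spec (CommRingCat.of B)).residueField t) :=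
      (k.residueFieldMap t).hom.toAlgebra
    exact (RingHom.faithfullyFlat_algebraMap_iff).mpr inferInstance
  haveI := hfs.1
  haveI := hfs.2
  rw [← comp_iff P u (Spec.map (k.residueFieldMap t)) (S.fromSpecResidueField (k t)), ← hcomm]
  exact ⟨h1.2 inferInstance, h1.1⟩

/-- what a chart has to provide for the global statement -/
def ChartConclusion : Prop :=
  ∃ A : Set (Spec (CommRingCat.of B)), IsClopen A ∧
    (∀ t, t ∈ A ↔ P ((Over.pullback (S.fromSpecResidueField (k t))).map u).left) ∧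
    ∀ t ∈ A, ∃ r : B, t ∈ (PrimeSpectrum.basicOpen r : Set (PrimeSpectrum B)) ∧
      (PrimeSpectrum.basicOpen r : Set (PrimeSpectrum B)) ⊆ A ∧
      P ((Over.pullback (Spec.map (CommRingCat.ofHom (algebraMap B (Localization.Away r))) ≫
        k)).map u).left

include hI2 in
theorem chartConclusion (hN : AddGroup.FG N) : ChartConclusion P u k := by
  refine ⟨{t | Qp (MTHom1.φP f GM GN t)}, MTHom1.isClopen_setOf f GM GN hN Qp,
    fun t => (fibre_iff P u k GM GN f Qp hI2 t).symm, fun t ht => ?_⟩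
  have hO := (MTHom1.isClopen_setOf f GM GN hN
    (fun ψ => ψ = MTHom1.φP f GM GN t)).isOpen
  obtain ⟨_, ⟨r, rfl⟩, htr, hrO⟩ :=
    PrimeSpectrum.isTopologicalBasis_basic_opens.exists_subset_of_mem_open
      (show t ∈ {x : PrimeSpectrum B | MTHom1.φP f GM GN x = MTHom1.φP f GM GN t} from rfl) hO
  refine ⟨r, htr, fun t' ht' => ?_, ?_⟩
  · show Qp (MTHom1.φP f GM GN t')
    rw [show MTHom1.φP f GM GN t' = MTHom1.φP f GM GN t from hrO ht']
    exact ht
  · refine (hI2 (Localization.Away r) (MTHom1.φP f GM GN t) (fun 𝔮 => ?_)).1 ht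
    apply hrO
    show 𝔮.comap (algebraMap B (Localization.Away r)) ∈
      (PrimeSpectrum.basicOpen r : Set (PrimeSpectrum B))
    rw [SetLike.mem_coe, PrimeSpectrum.mem_basicOpen]
    intro hmem
    have hu : IsUnit (algebraMap B (Localization.Away r) r) :=
      IsLocalization.Away.algebraMap_isUnit r
    exact 𝔮.isPrime.ne_top (Ideal.eq_top_of_isUnit_mem _ hmem hu)

include GM GN in
/-- the conclusion for a chart, from the algebraic input -/
theorem chartConclusion' (Qp' : ∀ (M N : Type) [AddCommGroup M] [AddCommGroup N], (N →+ M) → Prop)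
    (hchart : ChartHyp P Qp')
    (εG : Red.bc k G ≅ (Spec (.of HM)).asOver (Spec (.of B)))
    (εH : Red.bc k H ≅ (Spec (.of HN)).asOver (Spec (.of B)))
    (hf : εG.inv ≫ (Over.pullback k).map u ≫ εH.hom = specHom B HN (f : HN →ₐ[B] HM))
    (hN : AddGroup.FG N) : ChartConclusion P u k := by
  refine chartConclusion P u k GM GN f (Qp' M N) (fun R' _ _ φ₀ hconst => ?_) hN
  have h1 := hchart B HM HN M N GM GN f R' φ₀ hconst
  rw [MTHom3.transfer u k εG εH (f : HN →ₐ[B] HM) hf P R']
  exact h1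

end chart

section glb

variable (K R : Type u) [CommRing K] [CommRing R] [Algebra K R] (M : Type) [AddCommGroup M]

/-- the group-like basis of the base change of a group algebra -/
theorem exists_glb : Nonempty (MTHom1.GLB R (R ⊗[K] MonoidAlgebra K (Multiplicative M)) M) := by
  classical
  let b₀ := Algebra.TensorProduct.basis R (MonoidAlgebra.basis (Multiplicative M) K)
  let b := b₀.reindex (Multiplicative.toAdd : Multiplicative M ≃ M)
  have hb : ∀ m, b m = (1 : R) ⊗ₜ[K] MonoidAlgebra.single (Multiplicative.ofAdd m) (1 : K) := by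
    intro m
    simp [b, b₀, MonoidAlgebra.basis_apply]
  have hgl : ∀ m, Coalgebra.comul (R := R) (b m) = b m ⊗ₜ[R] b m := by
    intro m
    rw [hb]
    simp
  have hε : ∀ m, Coalgebra.counit (R := R) (b m) = 1 := by
    intro m
    rw [hb]
    simp
  have hb0 : b 0 = 1 := by
    rw [hb]
    simp [Algebra.TensorProduct.one_def, MonoidAlgebra.one_def]
  have hbadd : ∀ m n, b (m + n) = b m * b n := by
    intro m n
    rw [hb, hb, hb]
    simp [MonoidAlgebra.single_mul_single]
  exact ⟨⟨b, hgl, hε, hb0, hbadd⟩⟩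

end glb

section chartDS

open scoped Obj in
lemma exists_bc_congr {Z T : Scheme.{u}} (t t' : T ⟶ Z) (h : t = t') (X : Over Z) [GrpObj X] :
    ∃ c : Red.bc t X ≅ Red.bc t' X, IsMonHom c.hom := by
  subst h
  exact ⟨Iso.refl _, by dsimp only [Iso.refl_hom]; infer_instance⟩

variable (P : MorphismProperty Scheme.{u}) [P.IsStableUnderBaseChange]
  [P.DescendsAlong (@Surjective ⊓ @Flat ⊓ @QuasiCompact)]
  (Qp : ∀ (M N : Type) [AddCommGroup M] [AddCommGroup N], (N →+ M) → Prop)
variable {S : Scheme.{u}} {G H : Over S} [GrpObj G] [GrpObj H] (u : G ⟶ H) [IsMonHom u]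

open scoped Obj in
theorem chart_of_diag (hchart : ChartHyp P Qp) (K R : Type u) [CommRing K] [CommRing R]
    [Algebra K R]
    (k : Spec (CommRingCat.of R) ⟶ S) (M N : Type) [AddCommGroup M] [AddCommGroup N]
    (hN : AddGroup.FG N)
    (eG : Red.bc k G ≅ Red.bc (Spec.map (CommRingCat.ofHom (algebraMap K R))) (Red.diag K M))
    [IsMonHom eG.hom]
    (eH : Red.bc k H ≅ Red.bc (Spec.map (CommRingCat.ofHom (algebraMap K R))) (Red.diag K N))
    [IsMonHom eH.hom] :
    ChartConclusion P u k := by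
  obtain ⟨κG, hκG⟩ := MTAffine.exists_bc_spec_iso K R (MonoidAlgebra K (Multiplicative M))
  obtain ⟨κH, hκH⟩ := MTAffine.exists_bc_spec_iso K R (MonoidAlgebra K (Multiplicative N))
  obtain ⟨εG, hεG⟩ : ∃ ε : Red.bc k G ≅ (Spec (.of (R ⊗[K]
      MonoidAlgebra K (Multiplicative M)))).asOver (Spec (.of R)), IsMonHom ε.hom := by
    refine ⟨eG ≪≫ κG, ?_⟩
    dsimp only [Iso.trans_hom]
    infer_instance
  obtain ⟨εH, hεH⟩ : ∃ ε : Red.bc k H ≅ (Spec (.of (R ⊗[K]
      MonoidAlgebra K (Multiplicative N)))).asOver (Spec (.of R)), IsMonHom ε.hom := by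
    refine ⟨eH ≪≫ κH, ?_⟩
    dsimp only [Iso.trans_hom]
    infer_instance
  haveI : IsMonHom εG.inv := inferInstance
  obtain ⟨f, hf⟩ := GrpBridge.exists_bialgHom R _ _ (εG.inv ≫ (Over.pullback k).map u ≫ εH.hom)
  obtain ⟨GM⟩ := exists_glb K R M
  obtain ⟨GN⟩ := exists_glb K R N
  exact chartConclusion' P u k GM GN f Qp hchart εG εH hf hN

open scoped Obj in
theorem chart_of_DS (hchart : ChartHyp P Qp) (R : Type u) [CommRing R]
    (k : Spec (CommRingCat.of R) ⟶ S) (M N : Type) [AddCommGroup M] [AddCommGroup N]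
    (hN : AddGroup.FG N)
    (eG : Red.bc k G ≅ Red.DS (Spec (CommRingCat.of R)) M) [IsMonHom eG.hom]
    (eH : Red.bc k H ≅ Red.DS (Spec (CommRingCat.of R)) N) [IsMonHom eH.hom] :
    ChartConclusion P u k := by
  letI : Algebra (ULift.{u} ℤ) R :=
    RingHom.toAlgebra ((Int.castRingHom R).comp (ULift.ringEquiv : ULift.{u} ℤ ≃+* ℤ).toRingHom)
  have hterm : Limits.IsTerminal.from specULiftZIsTerminal (Spec (CommRingCat.of R)) =
      Spec.map (CommRingCat.ofHom (algebraMap (ULift.{u} ℤ) R)) :=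
    specULiftZIsTerminal.hom_ext _ _
  obtain ⟨cG, hcG⟩ := exists_bc_congr _ _ hterm (Red.diag (ULift.{u} ℤ) M)
  obtain ⟨cH, hcH⟩ := exists_bc_congr _ _ hterm (Red.diag (ULift.{u} ℤ) N)
  haveI : IsMonHom (eG ≪≫ cG).hom := by
    dsimp only [Iso.trans_hom]
    infer_instance
  haveI : IsMonHom (eH ≪≫ cH).hom := by
    dsimp only [Iso.trans_hom]
    infer_instance
  exact chart_of_diag P Qp u hchart (ULift.{u} ℤ) R k M N hN (eG ≪≫ cG) (eH ≪≫ cH)

end chartDS

end Groth.Agent.Lib.Helper14.MTHom4
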