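import Mathlib
import Groth.Prelude.Def_Red2
import Groth.Agent.Lib.Helper14.MTHom4
import Groth.Agent.Lib.Helper14.MTFix4

set_option autoImplicit false

namespace Groth.Agent.Lib.Helper14.MTHom5

open CategoryTheory MonoidalCategory CartesianMonoidalCategory MonObj GrpObj AlgebraicGeometry
open CategoryTheory.Limits TensorProduct
open Groth.Agent.Lib.Helper14 GrpBridge
open Groth.Agent.Lib.Helper4.FpqcCov Groth.Agent.Lib.Helper4.QuotGrp

universe u

section local_descent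

variable (P : MorphismProperty Scheme.{u})
variable {S : Scheme.{u}} {A B : Over S} (φ : A ⟶ B)

/-- Zariski descent, pointwise version -/
theorem of_local [IsZariskiLocalAtTarget P] {T : Scheme.{u}} (g : T ⟶ S)
    (h : ∀ y : T, ∃ (W : Scheme.{u}) (w : W ⟶ T), IsOpenImmersion w ∧ y ∈ Set.range w ∧
      P ((Over.pullback (w ≫ g)).map φ).left) :
    P ((Over.pullback g).map φ).left := by
  choose W w hw hy hP using h
  exact MTHom4.of_openCover_comp P φ g
    (Scheme.Cover.mkOfCovers T W w (fun y => ⟨y, hy y⟩) hw) hP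

end local_descent

section cover

variable {S : Scheme.{u}}

/-- local triviality for the fpqc topology, with a condition on the type -/
def LocTriv (G : Over S) [GrpObj G] (PM : ∀ (M : Type) [AddCommGroup M], Prop) : Prop :=
  ∃ (S' : Scheme.{u}) (f : S' ⟶ S), Flat f ∧ Surjective f ∧
    (∀ V : S.Opens, IsAffineOpen V → ∃ W : S'.Opens, IsCompact (W : Set S') ∧
      f.base '' (W : Set S') = (V : Set S)) ∧
    ∀ s' : S', ∃ U : S'.Opens, s' ∈ U ∧ ∃ (M : Type) (_ : AddCommGroup M), PM M ∧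
      Nonempty (Grp.mk (Red.bc (U.ι ≫ f) G) ≅ Grp.mk (Red.DS (U : Scheme.{u}) M))

open scoped Obj in
/-- a trivialization passes to anything factoring through it -/
lemma triv_of_factor (G : Over S) [GrpObj G] {S' : Scheme.{u}} (t : S' ⟶ S) (M : Type)
    [AddCommGroup M] (e : Red.bc t G ≅ Red.DS S' M) [IsMonHom e.hom] {T : Scheme.{u}}
    (l : T ⟶ S') (q : T ⟶ S) (hq : l ≫ t = q) :
    ∃ e' : Red.bc q G ≅ Red.DS T M, IsMonHom e'.hom := by
  obtain ⟨c, hc⟩ := MTDescent.exists_bc_comp_iso l t q hq G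
  obtain ⟨c', hc'⟩ := MTDescent.exists_bc_comp_iso l
    (Limits.IsTerminal.from specULiftZIsTerminal S')
    (Limits.IsTerminal.from specULiftZIsTerminal T)
    (specULiftZIsTerminal.hom_ext _ _) (Red.diag (ULift.{u} ℤ) M)
  refine ⟨c.symm ≪≫ (Over.pullback l).mapIso e ≪≫ c', ?_⟩
  dsimp only [Iso.trans_hom, Iso.symm_hom, Functor.mapIso_hom]
  infer_instance

/-- common affine charts trivializing two groups of multiplicative type -/
theorem exists_common (G H : Over S) [GrpObj G] [GrpObj H]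
    (PM PN : ∀ (M : Type) [AddCommGroup M], Prop)
    (hG : LocTriv G PM) (hH : LocTriv H PN) :
    ∃ (S'' : Scheme.{u}) (p : S'' ⟶ S), IsCov p ∧
      ∀ x : S'', ∃ (R : CommRingCat.{u}) (j : Spec R ⟶ S''), IsOpenImmersion j ∧
        x ∈ Set.range j ∧
        ∃ (M : Type) (_ : AddCommGroup M) (N : Type) (_ : AddCommGroup N), PM M ∧ PN N ∧
          (∃ eG : Red.bc (j ≫ p) G ≅ Red.DS (Spec R) M, IsMonHom eG.hom) ∧
          (∃ eH : Red.bc (j ≫ p) H ≅ Red.DS (Spec R) N, IsMonHom eH.hom) := by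
  obtain ⟨S₁, f₁, hfl₁, hsj₁, hcv₁, hloc₁⟩ := hG
  obtain ⟨S₂, f₂, hfl₂, hsj₂, hcv₂, hloc₂⟩ := hH
  have hc₁ : IsCov f₁ := ⟨hsj₁, hfl₁, hcv₁⟩
  have hc₂ : IsCov f₂ := ⟨hsj₂, hfl₂, hcv₂⟩
  refine ⟨pullback f₂ f₁, pullback.snd f₂ f₁ ≫ f₁, IsCov.comp (hc₂.baseChange f₁) hc₁, ?_⟩
  intro x
  obtain ⟨U₁, hxU₁, M, iM, hPM, ⟨e₁⟩⟩ := hloc₁ ((pullback.snd f₂ f₁) x)
  obtain ⟨U₂, hxU₂, N, iN, hPN, ⟨e₂⟩⟩ := hloc₂ ((pullback.fst f₂ f₁) x)
  obtain ⟨e₁', he₁'⟩ := MTDescent.exists_iso_of_grp_iso e₁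
  obtain ⟨e₂', he₂'⟩ := MTDescent.exists_iso_of_grp_iso e₂
  let V : (pullback f₂ f₁).Opens := (pullback.snd f₂ f₁) ⁻¹ᵁ U₁ ⊓ (pullback.fst f₂ f₁) ⁻¹ᵁ U₂
  have hxV : x ∈ V := ⟨hxU₁, hxU₂⟩
  obtain ⟨W, hW, hxW, hWV⟩ := exists_isAffineOpen_mem_and_subset hxV
  have hr₁ : Set.range (hW.fromSpec ≫ pullback.snd f₂ f₁) ⊆ Set.range U₁.ι := by
    rw [Scheme.Opens.range_ι]
    rintro _ ⟨y, rfl⟩
    have : hW.fromSpec y ∈ (W : Set ↥(pullback f₂ f₁)) := by
      rw [← hW.range_fromSpec]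
      exact ⟨y, rfl⟩
    exact (hWV this).1
  have hr₂ : Set.range (hW.fromSpec ≫ pullback.fst f₂ f₁) ⊆ Set.range U₂.ι := by
    rw [Scheme.Opens.range_ι]
    rintro _ ⟨y, rfl⟩
    have : hW.fromSpec y ∈ (W : Set ↥(pullback f₂ f₁)) := by
      rw [← hW.range_fromSpec]
      exact ⟨y, rfl⟩
    exact (hWV this).2
  let l₁ := IsOpenImmersion.lift U₁.ι (hW.fromSpec ≫ pullback.snd f₂ f₁) hr₁
  let l₂ := IsOpenImmersion.lift U₂.ι (hW.fromSpec ≫ pullback.fst f₂ f₁) hr₂
  have hl₁ : l₁ ≫ U₁.ι = hW.fromSpec ≫ pullback.snd f₂ f₁ := IsOpenImmersion.lift_fac _ _ _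
  have hl₂ : l₂ ≫ U₂.ι = hW.fromSpec ≫ pullback.fst f₂ f₁ := IsOpenImmersion.lift_fac _ _ _
  refine ⟨Γ(pullback f₂ f₁, W), hW.fromSpec, inferInstance, ?_, M, iM, N, iN, hPM, hPN, ?_, ?_⟩
  · rw [hW.range_fromSpec]
    exact hxW
  · refine triv_of_factor G (U₁.ι ≫ f₁) M e₁' l₁ _ ?_
    rw [← Category.assoc, hl₁, Category.assoc]
  · refine triv_of_factor H (U₂.ι ≫ f₂) N e₂' l₂ _ ?_
    rw [← Category.assoc, hl₂, Category.assoc, pullback.condition]

end cover

section main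

variable (P : MorphismProperty Scheme.{u}) [IsZariskiLocalAtTarget P] [P.IsStableUnderBaseChange]
  [P.DescendsAlong (@Surjective ⊓ @Flat ⊓ @QuasiCompact)]
  (Qp : ∀ (M N : Type) [AddCommGroup M] [AddCommGroup N], (N →+ M) → Prop)
variable {S : Scheme.{u}} {G H : Over S} [GrpObj G] [GrpObj H] (u : G ⟶ H) [IsMonHom u]

/-- an fpqc covering is submersive -/
lemma isOpen_of_isCov {S' : Scheme.{u}} (p : S' ⟶ S) (hp : IsCov p) (A : Set S)
    (hA : IsOpen (p ⁻¹' A)) : IsOpen A := by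
  obtain ⟨hs, hf, hcov⟩ := hp
  apply MTFix4.isOpen_of_isOpen_preimage_pullback_fst (𝟙 S) p hcov A
  have : (pullback.fst (𝟙 S) p) ⁻¹' A = (pullback.snd (𝟙 S) p) ⁻¹' (p ⁻¹' A) := by
    ext y
    simp only [Set.mem_preimage]
    have h : (pullback.fst (𝟙 S) p ≫ 𝟙 S) y = (pullback.snd (𝟙 S) p ≫ p) y := by
      rw [pullback.condition]
    rw [Category.comp_id] at h
    rw [h]
    rfl
  rw [this]
  exact hA.preimage (pullback.snd (𝟙 S) p).continuous

theorem main (hchart : MTHom4.ChartHyp P Qp) (hG : LocTriv G (fun _ _ => True))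
    (hH : LocTriv H (fun N _ => AddGroup.FG N)) :
    ∃ U : S.Opens, IsClosed (U : Set S) ∧
      (∀ s : S, s ∈ U ↔ P ((Over.pullback (S.fromSpecResidueField s)).map u).left) ∧
      P ((Over.pullback U.ι).map u).left := by
  obtain ⟨S'', p, hp, hcharts⟩ := exists_common G H _ _ hG hH
  have hcc : ∀ x : S'', ∃ (R : CommRingCat.{u}) (j : Spec R ⟶ S''), IsOpenImmersion j ∧
      x ∈ Set.range j ∧ MTHom4.ChartConclusion P u (j ≫ p) := by
    intro x
    obtain ⟨R, j, hj, hx, M, iM, N, iN, -, hN, ⟨eG, heG⟩, ⟨eH, heH⟩⟩ := hcharts x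
    exact ⟨R, j, hj, hx, MTHom4.chart_of_DS P Qp u hchart R (j ≫ p) M N hN eG eH⟩
  choose R j hj hx hcc' using hcc
  choose A hAclopen hAiff hAloc using hcc'
  let Uset : Set S := {s | P ((Over.pullback (S.fromSpecResidueField s)).map u).left}
  have hpre : ∀ x (t : Spec (R x)), t ∈ A x ↔ p (j x t) ∈ Uset := fun x t => hAiff x t
  have hopen : IsOpen (p ⁻¹' Uset) := by
    rw [isOpen_iff_forall_mem_open]
    intro x hxU
    obtain ⟨t, ht⟩ := hx x
    refine ⟨j x '' A x, ?_, (j x).isOpenEmbedding.isOpenMap _ (hAclopen x).isOpen, ⟨t, ?_, ht⟩⟩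
    · rintro _ ⟨t', ht', rfl⟩
      exact (hpre x t').mp ht'
    · rw [hpre, ht]
      exact hxU
  have hclosed : IsOpen (p ⁻¹' Usetᶜ) := by
    rw [isOpen_iff_forall_mem_open]
    intro x hxU
    obtain ⟨t, ht⟩ := hx x
    refine ⟨j x '' (A x)ᶜ, ?_, (j x).isOpenEmbedding.isOpenMap _ (hAclopen x).compl.isOpen,
      ⟨t, ?_, ht⟩⟩
    · rintro _ ⟨t', ht', rfl⟩
      exact fun h => ht' ((hpre x t').mpr h)
    · intro h
      apply hxU
      show p x ∈ Uset
      rw [← ht]
      exact (hpre x t).mp h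
  have hUo : IsOpen Uset := isOpen_of_isCov p hp _ hopen
  have hUc : IsClosed Uset := isOpen_compl_iff.mp (isOpen_of_isCov p hp _ hclosed)
  refine ⟨⟨Uset, hUo⟩, hUc, fun s => Iff.rfl, ?_⟩
  set U : S.Opens := ⟨Uset, hUo⟩ with hU
  apply MTHom4.of_isCov P ((Over.pullback U.ι).map u) (pullback.snd p U.ι) (hp.baseChange U.ι)
  rw [← MTHom4.map_comp_iff P u (pullback.snd p U.ι) U.ι]
  apply of_local P u (pullback.snd p U.ι ≫ U.ι)
  have key : ∀ (x : S'') (y : ↥(pullback p U.ι)), (pullback.fst p U.ι) y = x →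
      ∃ (W : Scheme.{u}) (w : W ⟶ pullback p U.ι), IsOpenImmersion w ∧ y ∈ Set.range w ∧
        P ((Over.pullback (w ≫ pullback.snd p U.ι ≫ U.ι)).map u).left := by
    intro x y hxy
    obtain ⟨t, ht⟩ := hx x
    have hpy : p x ∈ Uset := by
      have h : (pullback.fst p U.ι ≫ p) y = (pullback.snd p U.ι ≫ U.ι) y := by
        rw [pullback.condition]
      have h' : p ((pullback.fst p U.ι) y) = U.ι ((pullback.snd p U.ι) y) := h
      rw [← hxy, h']
      exact ((pullback.snd p U.ι) y).2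
    have htA : t ∈ A x := by
      rw [hpre, ht]
      exact hpy
    obtain ⟨r, htr, hrA, hPr⟩ := hAloc x t htA
    have hrange : Set.range (Spec.map (CommRingCat.ofHom
        (algebraMap (R x) (Localization.Away r))) ≫ j x) ⊆ Set.range (pullback.fst p U.ι) := by
      rw [IsOpenImmersion.range_pullbackFst]
      rintro _ ⟨t', rfl⟩
      show p ((Spec.map (CommRingCat.ofHom
        (algebraMap (R x) (Localization.Away r))) ≫ j x) t') ∈ U.ι.opensRange
      rw [Scheme.Opens.opensRange_ι]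
      show p (j x (Spec.map (CommRingCat.ofHom
        (algebraMap (R x) (Localization.Away r))) t')) ∈ Uset
      rw [← hpre]
      apply hrA
      show PrimeSpectrum.comap (algebraMap (R x) (Localization.Away r)) t' ∈
        (PrimeSpectrum.basicOpen r : Set (PrimeSpectrum (R x)))
      rw [← PrimeSpectrum.localization_away_comap_range (Localization.Away r) r]
      exact ⟨t', rfl⟩
    let w := IsOpenImmersion.lift (pullback.fst p U.ι) (Spec.map (CommRingCat.ofHom
        (algebraMap (R x) (Localization.Away r))) ≫ j x) hrange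
    have hw : w ≫ pullback.fst p U.ι = Spec.map (CommRingCat.ofHom
        (algebraMap (R x) (Localization.Away r))) ≫ j x := IsOpenImmersion.lift_fac _ _ _
    have hwo : IsOpenImmersion (w ≫ pullback.fst p U.ι) := by
      rw [hw]
      infer_instance
    refine ⟨_, w, IsOpenImmersion.of_comp w (pullback.fst p U.ι), ?_, ?_⟩
    · have htr' : t ∈ Set.range (PrimeSpectrum.comap
          (algebraMap (R x) (Localization.Away r))) := by
        rw [PrimeSpectrum.localization_away_comap_range (Localization.Away r) r]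
        exact htr
      obtain ⟨t', ht'⟩ := htr'
      refine ⟨t', (pullback.fst p U.ι).isOpenEmbedding.injective ?_⟩
      have h1 : (w ≫ pullback.fst p U.ι) t' = (Spec.map (CommRingCat.ofHom
        (algebraMap (R x) (Localization.Away r))) ≫ j x) t' := by rw [hw]
      have h2 : (pullback.fst p U.ι) (w t') = j x (PrimeSpectrum.comap
          (algebraMap (R x) (Localization.Away r)) t') := h1
      rw [h2, ht', ht, hxy]
    · have heq : w ≫ pullback.snd p U.ι ≫ U.ι = Spec.map (CommRingCat.ofHom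
        (algebraMap (R x) (Localization.Away r))) ≫ j x ≫ p := by
        rw [← pullback.condition, ← Category.assoc, hw, Category.assoc]
      rw [heq]
      exact hPr
  intro y
  exact key _ y rfl

end main

end Groth.Agent.Lib.Helper14.MTHom5
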