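import Mathlib
import Groth.Prelude.Def_Red2
import Groth.Agent.Lib.Helper14.MTHom5
import Groth.Agent.Lib.Helper14.MTDescent
import Groth.Agent.Lib.Helper3.FpqcDescInst

set_option autoImplicit false

namespace Groth.Agent.Lib.Helper14.MTGlueB

open CategoryTheory MonoidalCategory CartesianMonoidalCategory MonObj GrpObj AlgebraicGeometry
open CategoryTheory.Limits
open Groth.Agent.Lib.Helper4.FpqcCov

universe u

section affine

instance isAffineHom_isZariskiLocalAtTarget : IsZariskiLocalAtTarget @IsAffineHom.{u} :=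
  @HasAffineProperty.instIsZariskiLocalAtTarget _ _ instHasAffinePropertyIsAffineHomIsAffine

variable {S : Scheme.{u}}

lemma isAffineHom_of_iso {X Y : Over S} (e : X ≅ Y) (h : IsAffineHom Y.hom) :
    IsAffineHom X.hom := by
  haveI : IsIso e.hom.left := inferInstanceAs (IsIso ((Over.forget S).map e.hom))
  rw [← Over.w e.hom]
  infer_instance

lemma isAffineHom_DS (M : Type) [AddCommGroup M] : IsAffineHom (Red.DS S M).hom := by
  show IsAffineHom (pullback.snd (Red.diag (ULift.{u} ℤ) M).hom _)
  haveI : IsAffineHom (Red.diag (ULift.{u} ℤ) M).hom := by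
    show IsAffineHom (Spec.map _)
    infer_instance
  exact MorphismProperty.of_isPullback (P := (@IsAffineHom : MorphismProperty Scheme.{u}))
    (IsPullback.of_hasPullback _ _) this

/-- being affine is Zariski-local on the target, pointwise version -/
lemma isAffineHom_of_local {T Y : Scheme.{u}} (h : T ⟶ Y)
    (hloc : ∀ y : Y, ∃ (W : Scheme.{u}) (w : W ⟶ Y), IsOpenImmersion w ∧ y ∈ Set.range w ∧
      IsAffineHom (pullback.snd h w)) : IsAffineHom h := by
  choose W w hw hy hP using hloc
  exact IsZariskiLocalAtTarget.of_openCover (P := (@IsAffineHom : MorphismProperty Scheme.{u}))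
    (Scheme.Cover.mkOfCovers Y W w (fun y => ⟨y, hy y⟩) hw) hP

open scoped Obj in
/-- a group which is locally diagonalizable for the fpqc topology is affine over the base -/
theorem isAffineHom_of_locTriv (G : Over S) [GrpObj G]
    (PM : ∀ (M : Type) [AddCommGroup M], Prop) (hG : MTHom5.LocTriv G PM) :
    IsAffineHom G.hom := by
  obtain ⟨S', f, hfl, hsj, hcov, hloc⟩ := hG
  refine descends_of_isCov (@IsAffineHom : MorphismProperty Scheme.{u}) ⟨hsj, hfl, hcov⟩ G.hom ?_
  apply isAffineHom_of_local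
  intro y
  obtain ⟨U, hyU, M, iM, -, ⟨e₀⟩⟩ := hloc y
  obtain ⟨e, he⟩ := MTDescent.exists_iso_of_grp_iso e₀
  refine ⟨U, U.ι, inferInstance, by rw [Scheme.Opens.range_ι]; exact hyU, ?_⟩
  obtain ⟨c, hc⟩ := MTDescent.exists_bc_comp_iso U.ι f (U.ι ≫ f) rfl G
  exact isAffineHom_of_iso (c ≪≫ e) (isAffineHom_DS M)

/-- a group which is Zariski-locally a split torus is affine over the base -/
theorem isAffineHom_of_locSplit (E : Over S) [GrpObj E]
    (h : ∀ s : S, ∃ U : S.Opens, s ∈ U ∧ ∃ r : ℕ,
      Red.IsSplitTorusWith (Fin r → ℤ) (Red.bc U.ι E)) : IsAffineHom E.hom := by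
  apply isAffineHom_of_local
  intro s
  obtain ⟨U, hsU, r, ⟨e₀⟩⟩ := h s
  obtain ⟨e, he⟩ := MTDescent.exists_iso_of_grp_iso e₀
  exact ⟨U, U.ι, inferInstance, by rw [Scheme.Opens.range_ι]; exact hsU,
    isAffineHom_of_iso e (isAffineHom_DS _)⟩

lemma isAffineHom_tensor (E₁ E₂ : Over S) (h₁ : IsAffineHom E₁.hom) (h₂ : IsAffineHom E₂.hom) :
    IsAffineHom (E₁ ⊗ E₂).hom := by
  rw [Over.tensorObj_hom]
  haveI : IsAffineHom (pullback.fst E₁.hom E₂.hom) :=
    MorphismProperty.of_isPullback (P := (@IsAffineHom : MorphismProperty Scheme.{u}))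
      (IsPullback.of_hasPullback _ _).flip h₂
  infer_instance

lemma quasiCompact_left {D G : Over S} (m : D ⟶ G) (hD : IsAffineHom D.hom)
    (hG : IsAffineHom G.hom) : QuasiCompact m.left := by
  haveI : QuasiCompact (m.left ≫ G.hom) := by
    rw [Over.w]
    infer_instance
  exact QuasiCompact.of_comp m.left G.hom

end affine

end Groth.Agent.Lib.Helper14.MTGlueB
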