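import Mathlib
import Groth.Prelude.Def_Red2
import Groth.Prelude.Def_SGA3x
import Groth.Agent.Lib.Helper14.MTGlueB

/-! Groups of multiplicative type and of finite type are locally of finite type over the base. -/

set_option autoImplicit false

namespace Groth.Agent.Lib.Helper14.MTLft

open CategoryTheory MonoidalCategory CartesianMonoidalCategory MonObj GrpObj AlgebraicGeometry
open CategoryTheory.Limits
open Groth.Agent.Lib.Helper4.FpqcCov

universe u

variable {S : Scheme.{u}}

lemma lft_of_iso {X Y : Over S} (e : X ≅ Y) (h : LocallyOfFiniteType Y.hom) :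
    LocallyOfFiniteType X.hom := by
  haveI : IsIso e.hom.left := inferInstanceAs (IsIso ((Over.forget S).map e.hom))
  rw [← Over.w e.hom]
  infer_instance

lemma lft_DS (M : Type) [AddCommGroup M] (hM : AddGroup.FG M) :
    LocallyOfFiniteType (Red.DS S M).hom := by
  show LocallyOfFiniteType (pullback.snd (Red.diag (ULift.{u} ℤ) M).hom _)
  haveI : LocallyOfFiniteType (Red.diag (ULift.{u} ℤ) M).hom := by
    show LocallyOfFiniteType (Spec.map _)
    rw [HasRingHomProperty.Spec_iff (P := @LocallyOfFiniteType)]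
    haveI : AddMonoid.FG M := AddGroup.fg_iff_addMonoid_fg.1 hM
    haveI : Monoid.FG (Multiplicative M) := inferInstance
    have : Algebra.FiniteType (ULift.{u} ℤ) (MonoidAlgebra (ULift.{u} ℤ) (Multiplicative M)) :=
      inferInstance
    exact (RingHom.finiteType_algebraMap (A := ULift.{u} ℤ)
      (B := MonoidAlgebra (ULift.{u} ℤ) (Multiplicative M))).2 this
  exact MorphismProperty.of_isPullback (P := (@LocallyOfFiniteType : MorphismProperty Scheme.{u}))
    (IsPullback.of_hasPullback _ _) this

set_option backward.isDefEq.respectTransparency.types false in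
lemma lft_of_local {T Y : Scheme.{u}} (h : T ⟶ Y)
    (hloc : ∀ y : Y, ∃ (W : Scheme.{u}) (w : W ⟶ Y), IsOpenImmersion w ∧ y ∈ Set.range w ∧
      LocallyOfFiniteType (pullback.snd h w)) : LocallyOfFiniteType h := by
  choose W w hw hy hP using hloc
  exact IsZariskiLocalAtTarget.of_openCover
    (P := (@LocallyOfFiniteType : MorphismProperty Scheme.{u}))
    (Scheme.Cover.mkOfCovers Y W w (fun y => ⟨y, hy y⟩) hw) hP

set_option backward.isDefEq.respectTransparency.types false in
open scoped Obj in
theorem lft_of_multTypeFT (H : Over S) [GrpObj H] (hH : SGA3x.IsMultTypeFT H) :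
    LocallyOfFiniteType H.hom := by
  obtain ⟨S', f, hfl, hsj, hcov, hloc⟩ := hH
  refine descends_of_isCov (@LocallyOfFiniteType : MorphismProperty Scheme.{u})
    ⟨hsj, hfl, hcov⟩ H.hom ?_
  apply lft_of_local
  intro y
  obtain ⟨U, hyU, M, iM, hfg, ⟨e₀⟩⟩ := hloc y
  obtain ⟨e, he⟩ := MTDescent.exists_iso_of_grp_iso e₀
  refine ⟨U, U.ι, inferInstance, by rw [Scheme.Opens.range_ι]; exact hyU, ?_⟩
  obtain ⟨c, hc⟩ := MTDescent.exists_bc_comp_iso U.ι f (U.ι ≫ f) rfl H
  exact lft_of_iso (c ≪≫ e) (lft_DS M hfg)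

end Groth.Agent.Lib.Helper14.MTLft
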