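import Mathlib.Tactic
import Mathlib.CategoryTheory.Sites.Pullback
import Mathlib.CategoryTheory.Sites.Abelian
import Mathlib.CategoryTheory.Sites.Whiskering
import Mathlib.CategoryTheory.Sites.Adjunction
import Mathlib.Algebra.Category.Grp.LeftExactFunctor
import Mathlib.Algebra.Category.Grp.Adjunctions
import Groth.Prelude.Def_ModSite

/-!
# Exactness of the inverse image on abelian sheaves from exactness on sheaves of sets
-/

set_option autoImplicit false

namespace Groth.Agent.Lib.Helper14.AbPullback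

open CategoryTheory Limits Opposite

universe u

section EL

variable {𝒜 : Type*} [Category 𝒜] [Preadditive 𝒜] [HasBinaryBiproducts 𝒜]
  {C : Type u} [SmallCategory C] {J : GrothendieckTopology C}

/-- the forgetful functor from abelian sheaves to sheaves of sets -/
abbrev U (J : GrothendieckTopology C) : Sheaf J AddCommGrpCat.{u} ⥤ Sheaf J (Type u) :=
  sheafCompose J (forget AddCommGrpCat.{u})

variable (Φ Ψ : 𝒜 ⥤ Sheaf J AddCommGrpCat.{u})

/-- the map on sections induced by a morphism -/
def sec {A A' : 𝒜} (g : A ⟶ A') (c : Cᵒᵖ) : (Φ.obj A).obj.obj c →+ (Φ.obj A').obj.obj c :=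
  ((Φ.map g).hom.app c).hom

omit [Preadditive 𝒜] [HasBinaryBiproducts 𝒜] in
lemma sec_id (A : 𝒜) (c : Cᵒᵖ) (x : (Φ.obj A).obj.obj c) : sec Φ (𝟙 A) c x = x := by
  unfold sec
  rw [CategoryTheory.Functor.map_id]
  rfl

omit [Preadditive 𝒜] [HasBinaryBiproducts 𝒜] in
lemma sec_comp {A A' A'' : 𝒜} (g : A ⟶ A') (h : A' ⟶ A'') (c : Cᵒᵖ) (x : (Φ.obj A).obj.obj c) :
    sec Φ (g ≫ h) c x = sec Φ h c (sec Φ g c x) := by
  unfold sec
  rw [CategoryTheory.Functor.map_comp]
  rfl

omit [HasBinaryBiproducts 𝒜] in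
lemma sec_add [Φ.Additive] {A A' : 𝒜} (g h : A ⟶ A') (c : Cᵒᵖ) (x : (Φ.obj A).obj.obj c) :
    sec Φ (g + h) c x = sec Φ g c x + sec Φ h c x := by
  unfold sec
  rw [Φ.map_add]
  have h1 : (Φ.map g + Φ.map h).hom = (Φ.map g).hom + (Φ.map h).hom :=
    (sheafToPresheaf J AddCommGrpCat.{u}).map_add
  rw [h1, NatTrans.app_add]
  rfl

omit [HasBinaryBiproducts 𝒜] in
lemma sec_zero [Φ.Additive] {A A' : 𝒜} (c : Cᵒᵖ) (x : (Φ.obj A).obj.obj c) :
    sec Φ (0 : A ⟶ A') c x = 0 := by
  unfold sec
  rw [Φ.map_zero]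
  have h1 : (0 : Φ.obj A ⟶ Φ.obj A').hom = 0 :=
    (sheafToPresheaf J AddCommGrpCat.{u}).map_zero _ _
  rw [h1, NatTrans.app_zero]
  rfl

variable {Φ Ψ}

/-- a natural transformation of the underlying sheaves of sets, on sections -/
def τs (τ : Φ ⋙ U J ⟶ Ψ ⋙ U J) (A : 𝒜) (c : Cᵒᵖ) :
    (Φ.obj A).obj.obj c → (Ψ.obj A).obj.obj c :=
  fun x => (τ.app A).hom.app c x

omit [Preadditive 𝒜] [HasBinaryBiproducts 𝒜] in
lemma τ_nat (τ : Φ ⋙ U J ⟶ Ψ ⋙ U J) {A A' : 𝒜} (g : A ⟶ A') (c : Cᵒᵖ)
    (x : (Φ.obj A).obj.obj c) :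
    τs τ A' c (sec Φ g c x) = sec Ψ g c (τs τ A c x) := by
  have h := τ.naturality g
  have h2 := congrArg (fun k => k.hom.app c) h
  exact ConcreteCategory.congr_hom h2 x

theorem EL [Φ.Additive] [Ψ.Additive] (τ : Φ ⋙ U J ⟶ Ψ ⋙ U J) (A : 𝒜) (c : Cᵒᵖ)
    (x y : (Φ.obj A).obj.obj c) :
    τs τ A c (x + y) = τs τ A c x + τs τ A c y := by
  let w : (Φ.obj (A ⊞ A)).obj.obj c := sec Φ biprod.inl c x + sec Φ biprod.inr c y
  let nab : A ⊞ A ⟶ A := biprod.desc (𝟙 A) (𝟙 A)
  have h1 : sec Φ nab c w = x + y := by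
    change sec Φ nab c (sec Φ biprod.inl c x + sec Φ biprod.inr c y) = x + y
    rw [map_add, ← sec_comp, ← sec_comp]
    simp only [nab, biprod.inl_desc, biprod.inr_desc, sec_id]
  have hfst : sec Φ biprod.fst c w = x := by
    change sec Φ biprod.fst c (sec Φ biprod.inl c x + sec Φ biprod.inr c y) = x
    rw [map_add, ← sec_comp, ← sec_comp]
    simp only [biprod.inl_fst, biprod.inr_fst, sec_id, sec_zero, add_zero]
  have hsnd : sec Φ biprod.snd c w = y := by
    change sec Φ biprod.snd c (sec Φ biprod.inl c x + sec Φ biprod.inr c y) = y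
    rw [map_add, ← sec_comp, ← sec_comp]
    simp only [biprod.inl_snd, biprod.inr_snd, sec_id, sec_zero, zero_add]
  let w' : (Ψ.obj (A ⊞ A)).obj.obj c := τs τ (A ⊞ A) c w
  have hw' : w' = sec Ψ biprod.inl c (τs τ A c x) + sec Ψ biprod.inr c (τs τ A c y) := by
    have e : w' = sec Ψ (biprod.fst ≫ biprod.inl + biprod.snd ≫ biprod.inr) c w' := by
      rw [biprod.total, sec_id]
    rw [e, sec_add, sec_comp, sec_comp]
    change sec Ψ biprod.inl c (sec Ψ biprod.fst c (τs τ (A ⊞ A) c w)) +
      sec Ψ biprod.inr c (sec Ψ biprod.snd c (τs τ (A ⊞ A) c w)) = _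
    have e1 : sec Ψ biprod.fst c (τs τ (A ⊞ A) c w) = τs τ A c x := by
      rw [← τ_nat τ biprod.fst c w, hfst]
    have e2 : sec Ψ biprod.snd c (τs τ (A ⊞ A) c w) = τs τ A c y := by
      rw [← τ_nat τ biprod.snd c w, hsnd]
    rw [e1, e2]
  have h2 : sec Ψ nab c w' = τs τ A c x + τs τ A c y := by
    rw [hw', map_add, ← sec_comp, ← sec_comp]
    simp only [nab, biprod.inl_desc, biprod.inr_desc, sec_id]
  rw [← h1, τ_nat, h2]

section Lift

variable [Φ.Additive] [Ψ.Additive] (τ : Φ ⋙ U J ⟶ Ψ ⋙ U J)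

/-- the additive lift of a component -/
def liftHom (A : 𝒜) : Φ.obj A ⟶ Ψ.obj A :=
  ObjectProperty.homMk
    { app := fun c => AddCommGrpCat.ofHom (AddMonoidHom.mk' (τs τ A c) (EL τ A c))
      naturality := by
        intro c c' b
        refine ConcreteCategory.hom_ext _ _ (fun x => ?_)
        exact ConcreteCategory.congr_hom ((τ.app A).hom.naturality b) x }

lemma U_liftHom (A : 𝒜) : (U J).map (liftHom τ A) = τ.app A := by
  apply Sheaf.hom_ext
  ext c x
  rfl

/-- the additive lift of a natural transformation -/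
def liftNat : Φ ⟶ Ψ where
  app := liftHom τ
  naturality := by
    intro A A' g
    apply (U J).map_injective
    rw [CategoryTheory.Functor.map_comp, CategoryTheory.Functor.map_comp, U_liftHom, U_liftHom]
    exact τ.naturality g

lemma U_liftNat_app (A : 𝒜) : (U J).map ((liftNat τ).app A) = τ.app A := U_liftHom τ A

end Lift

end EL

section L

variable {C D : Type u} [SmallCategory C] [SmallCategory D]
  (J : GrothendieckTopology C) (K : GrothendieckTopology D)
  (F : Sheaf K (Type u) ⥤ Sheaf J (Type u)) [PreservesFiniteLimits F]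

instance : PreservesLimitsOfSize.{u, u} (U K) := by
  have : (U K).IsRightAdjoint := inferInstance
  infer_instance

/-- sections of the inverse image of the underlying sheaf of sets, as functors of the abelian
sheaf -/
noncomputable def N₀ : Cᵒᵖ ⥤ (Sheaf K AddCommGrpCat.{u} ⥤ Type u) :=
  (U K ⋙ F ⋙ sheafToPresheaf J (Type u)).flip

instance (c : Cᵒᵖ) : PreservesFiniteLimits ((N₀ J K F).obj c) := by
  change PreservesFiniteLimits
    ((U K ⋙ F ⋙ sheafToPresheaf J (Type u)) ⋙ (evaluation Cᵒᵖ (Type u)).obj c)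
  infer_instance

instance : HasFiniteBiproducts (Sheaf K AddCommGrpCat.{u}) := Abelian.hasFiniteBiproducts

/-- the same, as left exact functors -/
noncomputable def N : Cᵒᵖ ⥤ (Sheaf K AddCommGrpCat.{u} ⥤ₗ Type u) :=
  ObjectProperty.lift _ (N₀ J K F) (fun c => by
    rw [leftExactFunctor_iff]
    infer_instance)

/-- the lifts to abelian groups -/
noncomputable def M : Cᵒᵖ ⥤ (Sheaf K AddCommGrpCat.{u} ⥤ₗ AddCommGrpCat.{u}) :=
  N J K F ⋙ (AddCommGrpCat.leftExactFunctorForgetEquivalence (Sheaf K AddCommGrpCat.{u})).inverse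

/-- the presheaf-valued inverse image on abelian sheaves -/
noncomputable def L₀ : Sheaf K AddCommGrpCat.{u} ⥤ (Cᵒᵖ ⥤ AddCommGrpCat.{u}) :=
  (M J K F ⋙ ObjectProperty.ι _).flip

/-- forgetting the group structure recovers the inverse image of sheaves of sets -/
noncomputable def L₀forget :
    L₀ J K F ⋙ (Functor.whiskeringRight Cᵒᵖ _ _).obj (forget AddCommGrpCat.{u}) ≅
      U K ⋙ F ⋙ sheafToPresheaf J (Type u) :=
  NatIso.ofComponents (fun A => NatIso.ofComponents
    (fun c => by exact Iso.refl ((F.obj ((U K).obj A)).obj.obj c))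
    (by
      intro c c' b
      rfl))
    (by
      intro A A' g
      rfl)

lemma L₀_isSheaf (A : Sheaf K AddCommGrpCat.{u}) : Presheaf.IsSheaf J ((L₀ J K F).obj A) := by
  rw [Presheaf.isSheaf_iff_isSheaf_forget J _ (forget AddCommGrpCat.{u})]
  exact (Presheaf.isSheaf_of_iso_iff ((L₀forget J K F).app A)).2 (F.obj ((U K).obj A)).property

/-- the inverse image on abelian sheaves induced by a left exact functor on sheaves of sets -/
noncomputable def L : Sheaf K AddCommGrpCat.{u} ⥤ Sheaf J AddCommGrpCat.{u} :=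
  ObjectProperty.lift _ (L₀ J K F) (L₀_isSheaf J K F)

/-- it commutes with the forgetful functors -/
noncomputable def γ : L J K F ⋙ U J ≅ U K ⋙ F := Iso.refl _

end L

section Adj

variable {C D : Type u} [SmallCategory C] [SmallCategory D]
  (J : GrothendieckTopology C) (K : GrothendieckTopology D)
  (F : Sheaf K (Type u) ⥤ Sheaf J (Type u)) [PreservesFiniteLimits F]

instance L_preservesFiniteLimits : PreservesFiniteLimits (L J K F) := by
  have h1 : PreservesFiniteLimits (L J K F ⋙ U J) := by
    change PreservesFiniteLimits (U K ⋙ F)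
    infer_instance
  exact preservesFiniteLimits_of_reflects_of_preserves (L J K F) (U J)

instance L_additive : (L J K F).Additive :=
  Functor.additive_of_preserves_binary_products _

end Adj

section Main

variable {C D : Type u} [SmallCategory C] [SmallCategory D]
  (J : GrothendieckTopology C) (K : GrothendieckTopology D) (u : D ⥤ C) [u.IsContinuous K J]

/-- direct image on abelian sheaves -/
noncomputable abbrev GA : Sheaf J AddCommGrpCat.{u} ⥤ Sheaf K AddCommGrpCat.{u} :=
  u.sheafPushforwardContinuous AddCommGrpCat.{u} K J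

/-- direct image on sheaves of sets -/
noncomputable abbrev Gs : Sheaf J (Type u) ⥤ Sheaf K (Type u) :=
  u.sheafPushforwardContinuous (Type u) K J

/-- inverse image on sheaves of sets -/
noncomputable abbrev Fs : Sheaf K (Type u) ⥤ Sheaf J (Type u) :=
  u.sheafPullback (Type u) K J

/-- the adjunction on sheaves of sets -/
noncomputable abbrev adjS : Fs J K u ⊣ Gs J K u :=
  u.sheafAdjunctionContinuous (Type u) K J

lemma GA_U : GA J K u ⋙ U K = U J ⋙ Gs J K u := rfl

instance GA_additive : (GA J K u).Additive :=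
  Functor.additive_of_preserves_binary_products _

variable [PreservesFiniteLimits (Fs J K u)]

/-- the unit on underlying sheaves of sets -/
noncomputable def unitτ :
    𝟭 (Sheaf K AddCommGrpCat.{u}) ⋙ U K ⟶ (L J K (Fs J K u) ⋙ GA J K u) ⋙ U K where
  app A := (adjS J K u).unit.app ((U K).obj A)
  naturality := by
    intro A A' g
    exact (adjS J K u).unit.naturality ((U K).map g)

/-- the counit on underlying sheaves of sets -/
noncomputable def counitτ :
    (GA J K u ⋙ L J K (Fs J K u)) ⋙ U J ⟶ 𝟭 (Sheaf J AddCommGrpCat.{u}) ⋙ U J where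
  app B := (adjS J K u).counit.app ((U J).obj B)
  naturality := by
    intro B B' g
    exact (adjS J K u).counit.naturality ((U J).map g)

/-- the adjunction on abelian sheaves, with left adjoint the lifted inverse image -/
noncomputable def adjA : L J K (Fs J K u) ⊣ GA J K u where
  unit := liftNat (unitτ J K u)
  counit := liftNat (counitτ J K u)
  left_triangle_components A := by
    apply (U J).map_injective
    rw [CategoryTheory.Functor.map_comp, U_liftNat_app, CategoryTheory.Functor.map_id]
    have h1 : (U J).map ((L J K (Fs J K u)).map ((liftNat (unitτ J K u)).app A)) =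
        (Fs J K u).map ((U K).map ((liftNat (unitτ J K u)).app A)) := rfl
    rw [h1, U_liftNat_app]
    exact (adjS J K u).left_triangle_components ((U K).obj A)
  right_triangle_components B := by
    apply (U K).map_injective
    rw [CategoryTheory.Functor.map_comp, U_liftNat_app, CategoryTheory.Functor.map_id]
    have h1 : (U K).map ((GA J K u).map ((liftNat (counitτ J K u)).app B)) =
        (Gs J K u).map ((U J).map ((liftNat (counitτ J K u)).app B)) := rfl
    rw [h1, U_liftNat_app]
    exact (adjS J K u).right_triangle_components ((U J).obj B)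

theorem main : PreservesFiniteLimits (u.sheafPullback AddCommGrpCat.{u} K J) := by
  let e : u.sheafPullback AddCommGrpCat.{u} K J ≅ L J K (Fs J K u) :=
    (u.sheafAdjunctionContinuous AddCommGrpCat.{u} K J).leftAdjointUniq (adjA J K u)
  exact preservesFiniteLimits_of_natIso e.symm

end Main

end Groth.Agent.Lib.Helper14.AbPullback
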