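import Groth.Prelude.Def_Adeq2
import Mathlib.Algebra.Category.ModuleCat.Presheaf.Colimits
import Mathlib.Algebra.Category.ModuleCat.Presheaf.Sheafification
import Mathlib.Algebra.Homology.ShortComplex.ModuleCat
import Mathlib.Algebra.Category.ModuleCat.Sheaf.Limits
import Mathlib.Algebra.Homology.ShortComplex.ExactFunctor

universe u
open CategoryTheory CategoryTheory.Limits AlgebraicGeometry Opposite

namespace Groth.Agent.Lib.Helper14.Adeq2Epi

variable (K : Precoverage Scheme.{u}) [BigSite.OSh K] (S : Scheme.{u})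

/-- the forgetful functor to presheaves of modules -/
noncomputable abbrev Rr : BigSite.Mod K S ⥤ PresheafOfModules.{u + 1} (BigSite.ORing K S).obj :=
  SheafOfModules.forget (BigSite.ORing K S) ⋙
    PresheafOfModules.restrictScalars (𝟙 (BigSite.ORing K S).obj)

/-- sheafification -/
noncomputable abbrev Ls : PresheafOfModules.{u + 1} (BigSite.ORing K S).obj ⥤ BigSite.Mod K S :=
  PresheafOfModules.sheafification (𝟙 (BigSite.ORing K S).obj)

variable {K S} {M N : BigSite.Mod K S} (g : M ⟶ N)

/-- the cokernel in sheaves is the sheafification of the presheaf cokernel -/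
noncomputable def cokerIso : (Ls K S).obj (cokernel ((Rr K S).map g)) ≅ cokernel g :=
  PreservesCokernel.iso (Ls K S) ((Rr K S).map g) ≪≫
    cokernel.mapIso _ _
      (asIso ((PresheafOfModules.sheafificationAdjunction (𝟙 (BigSite.ORing K S).obj)).counit.app M))
      (asIso ((PresheafOfModules.sheafificationAdjunction (𝟙 (BigSite.ORing K S).obj)).counit.app N))
      ((PresheafOfModules.sheafificationAdjunction (𝟙 (BigSite.ORing K S).obj)).counit.naturality g)

lemma π_exact (V : (Over S)ᵒᵖ) :
    Function.Exact (((Rr K S).map g).app V) ((cokernel.π ((Rr K S).map g)).app V) := by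
  have h1 : (ShortComplex.mk ((Rr K S).map g) (cokernel.π ((Rr K S).map g))
      (cokernel.condition _)).Exact :=
    ShortComplex.exact_of_g_is_cokernel _ (cokernelIsCokernel _)
  have h2 := h1.map_of_epi_of_preservesCokernel (PresheafOfModules.evaluation _ V)
    (inferInstanceAs (Epi (cokernel.π ((Rr K S).map g)))) inferInstance
  exact (ShortComplex.ShortExact.moduleCat_exact_iff_function_exact _).1 h2


/-- sections of an epimorphism of sheaves of modules lift locally -/
theorem locally_lifts [Epi g] (U : Over S) (t : N.val.obj (op U)) :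
    ∃ T ∈ (QuotSh.J K S) U, ∀ ⦃V : Over S⦄ (f : V ⟶ U), T.arrows f →
      ∃ s : M.val.obj (op V), g.val.app (op V) s = N.val.map f.op t := by
  obtain ⟨Pc, hPc⟩ : ∃ Pc, Pc = cokernel ((Rr K S).map g) := ⟨_, rfl⟩
  have hz : IsZero ((Ls K S).obj (cokernel ((Rr K S).map g))) :=
    (isZero_cokernel_of_epi g).of_iso (cokerIso g)
  let η : cokernel ((Rr K S).map g) ⟶ ((Ls K S).obj (cokernel ((Rr K S).map g))).val :=
    (PresheafOfModules.sheafificationAdjunction (𝟙 (BigSite.ORing K S).obj)).unit.app _
  have hsub : ∀ (W : (Over S)ᵒᵖ) (y : ((Ls K S).obj (cokernel ((Rr K S).map g))).val.obj W),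
      y = 0 := by
    intro W y
    have h1 : (𝟙 ((Ls K S).obj (cokernel ((Rr K S).map g)))) = 0 := hz.eq_of_src _ _
    have h2 := congrArg (fun φ => φ.val.app W y) h1
    exact h2
  have e : (PresheafOfModules.toPresheaf _).map η =
      CategoryTheory.toSheafify (QuotSh.J K S) (cokernel ((Rr K S).map g)).presheaf := rfl
  have hi : Presheaf.IsLocallyInjective (QuotSh.J K S)
      ((PresheafOfModules.toPresheaf _).map η) := by
    rw [e]
    exact ((QuotSh.J K S).W_toSheafify _).isLocallyInjective
  let x : (cokernel ((Rr K S).map g)).obj (op U) := (cokernel.π ((Rr K S).map g)).app (op U) t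
  have hx : ((PresheafOfModules.toPresheaf _).map η).app (op U) x =
      ((PresheafOfModules.toPresheaf _).map η).app (op U) 0 :=
    (hsub (op U) _).trans (hsub (op U) _).symm
  refine ⟨_, hi.equalizerSieve_mem (X := op U) x 0 hx, ?_⟩
  intro V f hf
  have h1 : (cokernel ((Rr K S).map g)).map f.op x = 0 := by
    refine Eq.trans hf ?_
    exact map_zero ((cokernel ((Rr K S).map g)).map f.op).hom
  have h2 : (cokernel.π ((Rr K S).map g)).app (op V) (N.val.map f.op t) = 0 := by
    refine Eq.trans ?_ h1
    exact PresheafOfModules.naturality_apply (cokernel.π ((Rr K S).map g)) f.op t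
  obtain ⟨s, hs⟩ := (π_exact g (op V) _).1 h2
  exact ⟨s, hs⟩


/-- sections in the kernel of the second map of an exact complex are locally in the image of the first -/
theorem locally_in_image (C : ShortComplex (BigSite.Mod K S)) (hC : C.Exact) (U : Over S)
    (x : C.X₂.val.obj (op U)) (hx : C.g.val.app (op U) x = 0) :
    ∃ T ∈ (QuotSh.J K S) U, ∀ ⦃V : Over S⦄ (f : V ⟶ U), T.arrows f →
      ∃ y : C.X₁.val.obj (op V), C.f.val.app (op V) y = C.X₂.val.map f.op x := by
  have h1 : (ShortComplex.mk (kernel.ι C.g) C.g (kernel.condition C.g)).Exact :=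
    ShortComplex.exact_of_f_is_kernel _ (kernelIsKernel C.g)
  have h2 := h1.map_of_mono_of_preservesKernel (SheafOfModules.evaluation _ (op U))
    (inferInstanceAs (Mono (kernel.ι C.g))) inferInstance
  obtain ⟨x', hx'⟩ := ((ShortComplex.ShortExact.moduleCat_exact_iff_function_exact _).1 h2 x).1 hx
  have hepi : Epi (kernel.lift C.g C.f C.zero) := hC.epi_kernelLift
  obtain ⟨T, hT, hl⟩ := locally_lifts (kernel.lift C.g C.f C.zero) U x'
  refine ⟨T, hT, fun V f hf => ?_⟩
  obtain ⟨y, hy⟩ := hl f hf
  refine ⟨y, ?_⟩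
  have e1 : C.f.val.app (op V) y =
      (kernel.ι C.g).val.app (op V) ((kernel.lift C.g C.f C.zero).val.app (op V) y) := by
    have := congrArg (fun φ => φ.val.app (op V) y) (kernel.lift_ι C.g C.f C.zero)
    exact this.symm
  rw [e1, hy]
  have hx'' : (kernel.ι C.g).val.app (op U) x' = x := hx'
  rw [← hx'']
  exact PresheafOfModules.naturality_apply (kernel.ι C.g).val f.op x'

end Groth.Agent.Lib.Helper14.Adeq2Epi
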