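import Groth.Prelude.Def_Adeq2
import Mathlib.Algebra.Category.ModuleCat.Presheaf.Limits
import Mathlib.Algebra.Category.ModuleCat.Presheaf.Colimits
import Mathlib.Algebra.Category.ModuleCat.Sheaf.Limits

universe u
open CategoryTheory CategoryTheory.Limits AlgebraicGeometry Opposite

namespace Groth.Agent.Lib.Helper14.Adeq2Exact

variable (K : Precoverage Scheme.{u}) [BigSite.OSh K] {S : Scheme.{u}}
  {R : CommRingCat.{u}} (a : Spec R ⟶ S)

/-- evaluation of `toMVFPre` at an algebra -/
noncomputable def evalIso (X : (Adeq.Alg R)ᵒᵖᵒᵖ) :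
    Adeq.toMVFPre K a ⋙ PresheafOfModules.evaluation _ X ≅
      PresheafOfModules.evaluation (BigSite.ORing K S).obj (op ((Adeq.specOver a).obj (op X.unop.unop))) ⋙
        ModuleCat.restrictScalars (Adeq.toSect K a X.unop.unop) :=
  NatIso.ofComponents (fun P => Iso.refl _) (by
    intro P Q ψ
    rfl)

noncomputable instance preservesFiniteLimits_pre : PreservesFiniteLimits (Adeq.toMVFPre K a) :=
  ⟨fun J _ _ => ⟨fun {F} => ⟨fun {c} hc =>
    ⟨PresheafOfModules.evaluationJointlyReflectsLimits _ _ (fun X => by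
      have : PreservesLimit F (Adeq.toMVFPre K a ⋙ PresheafOfModules.evaluation _ X) :=
        preservesLimit_of_natIso F (evalIso K a X).symm
      exact isLimitOfPreserves (Adeq.toMVFPre K a ⋙ PresheafOfModules.evaluation _ X) hc)⟩⟩⟩⟩

noncomputable instance preservesFiniteColimits_pre : PreservesFiniteColimits (Adeq.toMVFPre K a) :=
  ⟨fun J _ _ => ⟨fun {F} => ⟨fun {c} hc =>
    ⟨PresheafOfModules.evaluationJointlyReflectsColimits _ _ (fun X => by
      have : PreservesColimit F (Adeq.toMVFPre K a ⋙ PresheafOfModules.evaluation _ X) :=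
        preservesColimit_of_natIso F (evalIso K a X).symm
      exact isColimitOfPreserves (Adeq.toMVFPre K a ⋙ PresheafOfModules.evaluation _ X) hc)⟩⟩⟩⟩

/-- `toMVFPre` preserves colimits of shape `J` -/
theorem preservesColimitsOfShape_pre (J : Type (u + 1)) [SmallCategory J] :
    PreservesColimitsOfShape J (Adeq.toMVFPre K a) :=
  ⟨fun {F} => ⟨fun {c} hc =>
    ⟨PresheafOfModules.evaluationJointlyReflectsColimits _ _ (fun X => by
      have : PreservesColimit F (Adeq.toMVFPre K a ⋙ PresheafOfModules.evaluation _ X) :=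
        preservesColimit_of_natIso F (evalIso K a X).symm
      exact isColimitOfPreserves (Adeq.toMVFPre K a ⋙ PresheafOfModules.evaluation _ X) hc)⟩⟩⟩

noncomputable instance preservesFiniteLimits : PreservesFiniteLimits (Adeq.toMVF K a) :=
  comp_preservesFiniteLimits _ _

end Groth.Agent.Lib.Helper14.Adeq2Exact
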