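import Groth.Agent.Lib.Helper14.AdeqPush

/-!
# Cokernels of maps from adequate functors to `underline M`
-/

universe u

set_option linter.unusedSectionVars false

open CategoryTheory Limits TensorProduct

namespace Groth.Agent.Lib.Helper14.AdeqCoker

open Groth.Agent.Lib.Helper14.AdeqBC Groth.Agent.Lib.Helper14.AdeqPush
  Groth.Agent.Lib.Helper14.AdeqPres

section LemmaA

open DirectSum

variable {A : Type u} [CommRing A] {F : Adeq.MVF A} {M : ModuleCat.{u + 1} A}
  (ψ : F ⟶ (Adeq.underline A).obj M)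
  {I : Type (u + 1)} (P P' : I → ModuleCat.{u + 1} A) (φ₀ : ∀ i, P i ⟶ P' i)
  (π : ∀ i, kernel ((Adeq.underline A).map (φ₀ i)) ⟶ F)
  (g : ∀ i, P i ⟶ M)

lemma baseChange_comp_apply {X Y Z : Type (u + 1)} [AddCommGroup X] [Module A X] [AddCommGroup Y]
    [Module A Y] [AddCommGroup Z] [Module A Z] (R : Type u) [CommRing R] [Algebra A R]
    (f : X →ₗ[A] Y) (h : Y →ₗ[A] Z) (x : R ⊗[A] X) :
    (h ∘ₗ f).baseChange R x = h.baseChange R (f.baseChange R x) := by
  rw [LinearMap.baseChange_comp]
  rfl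

include π g in
theorem exists_resolution_of_family
    (hg : ∀ i, kernel.ι ((Adeq.underline A).map (φ₀ i)) ≫ (Adeq.underline A).map (g i) = π i ≫ ψ)
    (hπ : ∀ (B : Adeq.Alg A) (ξ : F.obj (Adeq.pt B)),
      ∃ (i : I) (w : (kernel ((Adeq.underline A).map (φ₀ i))).obj (Adeq.pt B)),
        (π i).app (Adeq.pt B) w = ξ) :
    ∃ (N : ModuleCat.{u + 1} A) (j : M ⟶ N), ψ ≫ (Adeq.underline A).map j = 0 ∧
      ∀ (B : Adeq.Alg A) (x : (B : Type u) ⊗[A] M), j.hom.baseChange B x = 0 →
        ∃ ξ : F.obj (Adeq.pt B), ψ.app (Adeq.pt B) ξ = x := by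
  classical
  let Φ : (⨁ i, P i) →ₗ[A] (⨁ i, P' i) := DirectSum.lmap (fun i => (φ₀ i).hom)
  let G : (⨁ i, P i) →ₗ[A] M := DirectSum.toModule A I M (fun i => (g i).hom)
  let N : ModuleCat.{u + 1} A := ModuleCat.of A (PO Φ G)
  let j : M ⟶ N := ModuleCat.ofHom (inrPO Φ G)
  have hgp : ∀ (i : I) (B : Adeq.Alg A)
      (w : (kernel ((Adeq.underline A).map (φ₀ i))).obj (Adeq.pt B)),
      (g i).hom.baseChange B ((kernel.ι ((Adeq.underline A).map (φ₀ i))).app (Adeq.pt B) w) =
        ψ.app (Adeq.pt B) ((π i).app (Adeq.pt B) w) := by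
    intro i B w
    have := ConcreteCategory.congr_hom (congrArg (fun t => t.app (Adeq.pt B)) (hg i)) w
    simp only [PresheafOfModules.comp_app, ConcreteCategory.comp_apply] at this
    exact this
  refine ⟨N, j, ?_, ?_⟩
  · apply PresheafOfModules.hom_ext
    intro X
    apply ModuleCat.hom_ext
    apply LinearMap.ext
    intro ξ
    let B : Adeq.Alg A := X.unop.unop
    change F.obj (Adeq.pt B) at ξ
    obtain ⟨i, w, rfl⟩ := hπ B ξ
    change j.hom.baseChange B (ψ.app (Adeq.pt B) ((π i).app (Adeq.pt B) w)) = 0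
    rw [← hgp i B w]
    refine (baseChange_comp_apply (B : Type u) (g i).hom j.hom _).symm.trans ?_
    have e1 : j.hom ∘ₗ (g i).hom =
        (inlPO Φ G ∘ₗ DirectSum.lof A I (fun i => P' i) i) ∘ₗ (φ₀ i).hom := by
      apply LinearMap.ext
      intro p
      change inrPO Φ G ((g i).hom p) = inlPO Φ G (DirectSum.lof A I (fun i => P' i) i ((φ₀ i).hom p))
      have h1 : G (DirectSum.lof A I (fun i => P i) i p) = (g i).hom p :=
        DirectSum.toModule_lof (M := fun i => (P i : Type (u + 1))) (φ := fun i => (g i).hom) A i p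
      have h2 : Φ (DirectSum.lof A I (fun i => P i) i p) =
          DirectSum.lof A I (fun i => P' i) i ((φ₀ i).hom p) :=
        DirectSum.lmap_lof (fun i => (φ₀ i).hom) i p
      rw [← h1, ← h2]
      exact (LinearMap.congr_fun (po_comm Φ G) _).symm
    rw [e1]
    refine (baseChange_comp_apply (B : Type u) (φ₀ i).hom _ _).trans ?_
    have h0 : (φ₀ i).hom.baseChange B
        ((kernel.ι ((Adeq.underline A).map (φ₀ i))).app (Adeq.pt B) w) = 0 :=
      (ι_exact ((Adeq.underline A).map (φ₀ i)) B).apply_apply_eq_zero w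
    rw [h0, map_zero]
  · intro B x hx
    obtain ⟨z, hz1, hz2⟩ := exists_of_inrPO_eq_zero Φ G (B : Type u) x hx
    obtain ⟨s, hs⟩ := exists_finset_sum (fun i => P i) (B : Type u) z
    have hs' := hs s (Finset.Subset.refl s)
    let zc : ∀ i, (B : Type u) ⊗[A] P i :=
      fun i => (DirectSum.component A I (fun i => P i) i).lTensor B z
    have hzc : ∀ i, (φ₀ i).hom.baseChange B (zc i) = 0 := by
      intro i
      change (φ₀ i).hom.lTensor B ((DirectSum.component A I (fun i => P i) i).lTensor B z) = 0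
      rw [← LinearMap.lTensor_comp_apply]
      have e2 : (φ₀ i).hom ∘ₗ DirectSum.component A I (fun i => P i) i =
          DirectSum.component A I (fun i => P' i) i ∘ₗ Φ := by
        apply LinearMap.ext
        intro p
        rfl
      rw [e2, LinearMap.lTensor_comp_apply, hz1, map_zero]
    have hw : ∀ i, ∃ w : (kernel ((Adeq.underline A).map (φ₀ i))).obj (Adeq.pt B),
        (kernel.ι ((Adeq.underline A).map (φ₀ i))).app (Adeq.pt B) w = zc i :=
      fun i => (ι_exact ((Adeq.underline A).map (φ₀ i)) B (zc i)).1 (hzc i)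
    choose w hw using hw
    refine ⟨∑ i ∈ s, (π i).app (Adeq.pt B) (w i), ?_⟩
    rw [map_sum]
    have h3 : ∀ i ∈ s, ψ.app (Adeq.pt B) ((π i).app (Adeq.pt B) (w i)) =
        G.lTensor B ((DirectSum.lof A I (fun i => P i) i).lTensor B (zc i)) := by
      intro i _
      rw [← hgp i B (w i), hw i, ← LinearMap.lTensor_comp_apply]
      have e3 : G ∘ₗ DirectSum.lof A I (fun i => P i) i = (g i).hom := by
        apply LinearMap.ext
        intro p
        change G (DirectSum.lof A I (fun i => P i) i p) = (g i).hom p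
        exact DirectSum.toModule_lof (M := fun i => (P i : Type (u + 1)))
          (φ := fun i => (g i).hom) A i p
      rw [e3]
      rfl
    rw [Finset.sum_congr rfl h3]
    refine (map_sum (G.lTensor (B : Type u)) _ s).symm.trans ?_
    rw [hs', hz2]

end LemmaA

section Resolution

variable {A : Type u} [CommRing A]

theorem exists_lift' (P P' M : ModuleCat.{u + 1} A)
    [Module.Finite A P] [Module.Free A P] [Module.Finite A P'] [Module.Free A P'] (φ₀ : P ⟶ P')
    (φ : kernel ((Adeq.underline A).map φ₀) ⟶ (Adeq.underline A).obj M) :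
    ∃ g : P ⟶ M, kernel.ι ((Adeq.underline A).map φ₀) ≫ (Adeq.underline A).map g = φ := by
  let e := (Module.Free.chooseBasis A P).reindex
    (Fintype.equivFin (Module.Free.ChooseBasisIndex A P))
  let e' := (Module.Free.chooseBasis A P').reindex
    (Fintype.equivFin (Module.Free.ChooseBasisIndex A P'))
  exact Groth.Agent.Lib.Helper14.AdeqUniv.exists_lift e e' φ₀ M φ

/-- for an adequate `F` and `ψ : F ⟶ underline M` there is a module map `j : M ⟶ N` with
`F → underline M → underline N` exact -/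
theorem exists_resolution {F : Adeq.MVF A} (hF : Adeq.adequate A F) {M : ModuleCat.{u + 1} A}
    (ψ : F ⟶ (Adeq.underline A).obj M) :
    ∃ (N : ModuleCat.{u + 1} A) (j : M ⟶ N), ψ ≫ (Adeq.underline A).map j = 0 ∧
      ∀ (B : Adeq.Alg A) (x : (B : Type u) ⊗[A] M), j.hom.baseChange B x = 0 →
        ∃ ξ : F.obj (Adeq.pt B), ψ.app (Adeq.pt B) ξ = x := by
  obtain ⟨M₁, M₂, α, ⟨e⟩⟩ := hF
  let K := kernel ((Adeq.underline A).map α)
  let I : Type (u + 1) := Σ B : Adeq.Alg A, K.obj (Adeq.pt B)
  have H : ∀ i : I, ∃ (P P' : ModuleCat.{u + 1} A) (φ₀ : P ⟶ P') (_ : Module.Finite A P)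
      (_ : Module.Free A P) (_ : Module.Finite A P') (_ : Module.Free A P')
      (π : kernel ((Adeq.underline A).map φ₀) ⟶ K)
      (w : (kernel ((Adeq.underline A).map φ₀)).obj (Adeq.pt i.1)), π.app (Adeq.pt i.1) w = i.2 :=
    fun i => exists_linAdequate_hit α i.1 i.2
  choose P P' φ₀ h1 h2 h3 h4 π w hw using H
  have H2 : ∀ i : I, ∃ g : P i ⟶ M, kernel.ι ((Adeq.underline A).map (φ₀ i)) ≫
      (Adeq.underline A).map g = (π i ≫ e.inv) ≫ ψ := fun i =>
    @exists_lift' A _ (P i) (P' i) M (h1 i) (h2 i) (h3 i) (h4 i) (φ₀ i) ((π i ≫ e.inv) ≫ ψ)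
  choose g hg using H2
  refine exists_resolution_of_family ψ P P' φ₀ (fun i => π i ≫ e.inv) g hg ?_
  intro B ξ
  let i : I := ⟨B, e.hom.app (Adeq.pt B) ξ⟩
  refine ⟨i, w i, ?_⟩
  change e.inv.app (Adeq.pt B) ((π i).app (Adeq.pt B) (w i)) = ξ
  rw [hw i]
  have e3 : e.hom ≫ e.inv = 𝟙 F := e.hom_inv_id
  have e4 := ConcreteCategory.congr_hom (congrArg (fun t => t.app (Adeq.pt B)) e3) ξ
  simp only [PresheafOfModules.comp_app, ConcreteCategory.comp_apply] at e4
  exact e4

end Resolution

section CokerPt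

open Groth.Agent.Lib.Helper14.AdeqTan

variable {A : Type u} [CommRing A] {X Y : Adeq.MVF A} (ψ : X ⟶ Y)

/-- the right exact sequence `X → Y → coker ψ → 0` -/
noncomputable def cokerSC : ShortComplex (Adeq.MVF A) :=
  ShortComplex.mk ψ (cokernel.π ψ) (cokernel.condition ψ)

lemma cokerSC_exact : (cokerSC ψ).Exact :=
  ShortComplex.exact_of_g_is_cokernel _ (cokernelIsCokernel ψ)

lemma cokerSC_pt_exact (R : Adeq.Alg A) : ((cokerSC ψ).map (ev R)).Exact :=
  (cokerSC_exact ψ).map_of_epi_of_preservesCokernel (ev R)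
    (inferInstanceAs (Epi (cokernel.π ψ))) inferInstance

lemma π_surjective (R : Adeq.Alg A) : Function.Surjective ((cokernel.π ψ).app (Adeq.pt R)) :=
  PresheafOfModules.surjective_of_epi (cokernel.π ψ) (Adeq.pt R)

lemma π_exact (R : Adeq.Alg A) :
    Function.Exact (ψ.app (Adeq.pt R)) ((cokernel.π ψ).app (Adeq.pt R)) :=
  (ShortComplex.ShortExact.moduleCat_exact_iff_function_exact _).1 (cokerSC_pt_exact ψ R)

lemma isIso_of_bijective (h : ∀ R : Adeq.Alg A, Function.Bijective (ψ.app (Adeq.pt R))) : IsIso ψ := by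
  have : Mono ψ := PresheafOfModules.mono_of_injective (fun X => (h X.unop.unop).1)
  have : Epi ψ := PresheafOfModules.epi_of_surjective (fun X => (h X.unop.unop).2)
  exact isIso_of_mono_of_epi ψ

end CokerPt

section Coker

variable {A : Type u} [CommRing A]

/-- the cokernel of a morphism from an adequate functor to a kernel of `underline β` is adequate -/
theorem adequate_cokernel_to_kernel {F : Adeq.MVF A} (hF : Adeq.adequate A F)
    {M M' : ModuleCat.{u + 1} A} (β : M ⟶ M') (φ : F ⟶ kernel ((Adeq.underline A).map β)) :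
    Adeq.adequate A (cokernel φ) := by
  let ψ : F ⟶ (Adeq.underline A).obj M := φ ≫ kernel.ι ((Adeq.underline A).map β)
  obtain ⟨N, j, h1, h2⟩ := exists_resolution hF ψ
  let N' : ModuleCat.{u + 1} A := ModuleCat.of A (PO β.hom j.hom)
  let j'' : N ⟶ N' := ModuleCat.ofHom (inrPO β.hom j.hom)
  let inl' : M' ⟶ N' := ModuleCat.ofHom (inlPO β.hom j.hom)
  have hsq : j ≫ j'' = β ≫ inl' := by
    apply ModuleCat.hom_ext
    exact (po_comm β.hom j.hom).symm
  let t₀ : kernel ((Adeq.underline A).map β) ⟶ (Adeq.underline A).obj N :=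
    kernel.ι ((Adeq.underline A).map β) ≫ (Adeq.underline A).map j
  have ht₀ : t₀ ≫ (Adeq.underline A).map j'' = 0 := by
    change (kernel.ι ((Adeq.underline A).map β) ≫ (Adeq.underline A).map j) ≫
      (Adeq.underline A).map j'' = 0
    rw [Category.assoc, ← Functor.map_comp, hsq, Functor.map_comp, ← Category.assoc,
      kernel.condition, zero_comp]
  let t₁ : kernel ((Adeq.underline A).map β) ⟶ kernel ((Adeq.underline A).map j'') :=
    kernel.lift _ t₀ ht₀
  have ht₁ : t₁ ≫ kernel.ι ((Adeq.underline A).map j'') = t₀ := kernel.lift_ι _ _ _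
  have hφt : φ ≫ t₁ = 0 := by
    rw [← cancel_mono (kernel.ι ((Adeq.underline A).map j'')), Category.assoc, ht₁, zero_comp]
    change φ ≫ kernel.ι ((Adeq.underline A).map β) ≫ (Adeq.underline A).map j = 0
    rw [← Category.assoc]
    exact h1
  let θ : cokernel φ ⟶ kernel ((Adeq.underline A).map j'') := cokernel.desc φ t₁ hφt
  have hθ : cokernel.π φ ≫ θ = t₁ := cokernel.π_desc _ _ _
  -- pointwise formula
  have hpt : ∀ (B : Adeq.Alg A) (y : (kernel ((Adeq.underline A).map β)).obj (Adeq.pt B)),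
      (kernel.ι ((Adeq.underline A).map j'')).app (Adeq.pt B)
        (θ.app (Adeq.pt B) ((cokernel.π φ).app (Adeq.pt B) y)) =
      j.hom.baseChange B ((kernel.ι ((Adeq.underline A).map β)).app (Adeq.pt B) y) := by
    intro B y
    have e1 := ConcreteCategory.congr_hom (congrArg (fun t => t.app (Adeq.pt B)) hθ) y
    have e2 := ConcreteCategory.congr_hom (congrArg (fun t => t.app (Adeq.pt B)) ht₁) y
    simp only [PresheafOfModules.comp_app, ConcreteCategory.comp_apply] at e1 e2
    rw [e1, e2]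
    rfl
  have hiso : IsIso θ := by
    apply isIso_of_bijective
    intro B
    constructor
    · rw [injective_iff_map_eq_zero]
      intro c hc
      obtain ⟨y, rfl⟩ := π_surjective φ B c
      have h3 := hpt B y
      rw [hc, map_zero] at h3
      obtain ⟨ξ, hξ⟩ := h2 B _ h3.symm
      have h4 : φ.app (Adeq.pt B) ξ = y := by
        apply ι_injective ((Adeq.underline A).map β) B
        exact hξ
      rw [← h4]
      exact (π_exact φ B).apply_apply_eq_zero ξ
    · intro k'
      let t : (B : Type u) ⊗[A] N := (kernel.ι ((Adeq.underline A).map j'')).app (Adeq.pt B) k'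
      have ht : (inrPO β.hom j.hom).lTensor B t = 0 :=
        (ι_exact ((Adeq.underline A).map j'') B).apply_apply_eq_zero k'
      obtain ⟨x, hx1, hx2⟩ := exists_of_inrPO_eq_zero β.hom j.hom (B : Type u) t ht
      obtain ⟨y, hy⟩ := (ι_exact ((Adeq.underline A).map β) B x).1 hx1
      refine ⟨(cokernel.π φ).app (Adeq.pt B) y, ?_⟩
      apply ι_injective ((Adeq.underline A).map j'') B
      rw [hpt B y, hy]
      exact hx2
  exact ⟨N, N', j'', ⟨asIso θ⟩⟩

/-- the cokernel of a morphism of adequate functors is adequate -/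
theorem adequate_cokernel {F G : Adeq.MVF A} (φ : F ⟶ G)
    (hF : Adeq.adequate A F) (hG : Adeq.adequate A G) : Adeq.adequate A (cokernel φ) := by
  obtain ⟨M, M', β, ⟨eG⟩⟩ := hG
  have h := adequate_cokernel_to_kernel hF β (φ ≫ eG.hom)
  exact (Adeq.adequate A).prop_of_iso (cokernelCompIsIso φ eG.hom) h

end Coker

end Groth.Agent.Lib.Helper14.AdeqCoker
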