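import Groth.Agent.Lib.Helper14.AdeqFree
import Mathlib.CategoryTheory.Abelian.GrothendieckCategory.EnoughInjectives
import Mathlib.CategoryTheory.Abelian.GrothendieckAxioms.FunctorCategory
import Mathlib.Algebra.Category.Grp.AB
import Mathlib.CategoryTheory.Functor.ReflectsIso.Balanced
import Mathlib.Algebra.Category.ModuleCat.Presheaf.Abelian

/-!
# The category of module-valued functors is Grothendieck abelian
-/

set_option autoImplicit false
universe u
open CategoryTheory Limits

namespace Groth.Agent.Lib.Helper14.AdeqGroth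

open Groth.Agent.Lib.Helper14.AdeqFree

variable (A : Type u) [CommRing A]

instance : HasColimitsOfSize.{u + 1, u + 1} (Adeq.MVF A) := by
  infer_instance

instance : HasFilteredColimitsOfSize.{u + 1, u + 1} (Adeq.MVF A) where
  HasColimitsOfShape J _ _ := by infer_instance

instance : (PresheafOfModules.toPresheaf (Adeq.ringOf A)).ReflectsIsomorphisms := by
  infer_instance

noncomputable instance : ReflectsFiniteLimits (PresheafOfModules.toPresheaf.{u + 1} (Adeq.ringOf A)) where
  reflects _ _ _ := reflectsLimitsOfShape_of_reflectsIsomorphisms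

instance ab5 : AB5OfSize.{u + 1, u + 1} (Adeq.MVF A) where
  ofShape J _ _ :=
    HasExactColimitsOfShape.domain_of_functor J (PresheafOfModules.toPresheaf.{u + 1} (Adeq.ringOf A))

lemma isSeparating :
    ObjectProperty.IsSeparating (ObjectProperty.ofObj (fun R : Adeq.Alg A => L R)) := by
  intro X Y f g h
  apply PresheafOfModules.hom_ext
  intro Z
  apply ModuleCat.hom_ext
  apply LinearMap.ext
  intro (x : X.obj (Adeq.pt Z.unop.unop))
  have h1 := h (L Z.unop.unop) ⟨Z.unop.unop⟩ (desc X x)
  have h2 : (desc X x ≫ f).app (Adeq.pt Z.unop.unop) (gen Z.unop.unop) =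
      (desc X x ≫ g).app (Adeq.pt Z.unop.unop) (gen Z.unop.unop) := by rw [h1]
  have h3 := desc_gen X x
  exact (congrArg (fun z => f.app (Adeq.pt Z.unop.unop) z) h3).symm.trans
    (h2.trans (congrArg (fun z => g.app (Adeq.pt Z.unop.unop) z) h3))

instance : HasSeparator (Adeq.MVF A) :=
  ⟨⟨∐ (fun R : Adeq.Alg A => L R), (isSeparating A).isSeparator_coproduct⟩⟩

instance : IsGrothendieckAbelian.{u + 1} (Adeq.MVF A) where

theorem enoughInjectives : EnoughInjectives (Adeq.MVF A) := inferInstance

end Groth.Agent.Lib.Helper14.AdeqGroth
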