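import Groth.Agent.Lib.Helper14.AdeqBC
import Groth.Agent.Lib.Helper14.AdeqGroth
import Mathlib.LinearAlgebra.TensorProduct.Vanishing
import Mathlib.RingTheory.TensorProduct.DirectLimitFG
import Mathlib.LinearAlgebra.TensorProduct.Finiteness

/-!
# Presentations of elements of kernels of base-changed maps by finite free data
-/

universe u v w

set_option linter.unusedSectionVars false

open CategoryTheory Limits TensorProduct

namespace Groth.Agent.Lib.Helper14.AdeqPres

section Algebra

variable {A : Type u} [CommRing A] {B : Type v} [CommRing B] [Algebra A B]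
  {M : Type w} [AddCommGroup M] [Module A M] {N : Type w} [AddCommGroup N] [Module A N]

/-- an element of `B ⊗ M` is a finite sum of pure tensors, indexed by `Fin n` -/
lemma exists_fin_sum (x : B ⊗[A] M) :
    ∃ (n : ℕ) (b : Fin n → B) (m : Fin n → M), x = ∑ i, b i ⊗ₜ[A] m i := by
  induction x using TensorProduct.induction_on with
  | zero => exact ⟨0, Fin.elim0, Fin.elim0, by simp⟩
  | tmul b m => exact ⟨1, fun _ => b, fun _ => m, by simp⟩
  | add x y hx hy =>
    obtain ⟨n, b, m, rfl⟩ := hx
    obtain ⟨n', b', m', rfl⟩ := hy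
    refine ⟨n + n', Fin.append b b', Fin.append m m', ?_⟩
    rw [Fin.sum_univ_add]
    simp

/-- the equational criterion, with auxiliary generators -/
lemma exists_relations (α : M →ₗ[A] N) (x : B ⊗[A] M) (hx : α.baseChange B x = 0) :
    ∃ (n k : ℕ) (a : Fin n → Fin k → A) (b : Fin n → B) (m : Fin n → M) (y : Fin k → N),
      (∀ i, α (m i) = ∑ j, a i j • y j) ∧ (∀ j, ∑ i, a i j • b i = 0) ∧
        x = ∑ i, b i ⊗ₜ[A] m i := by
  obtain ⟨n, b, m, rfl⟩ := exists_fin_sum x
  have h0 : ∑ i, b i ⊗ₜ[A] α (m i) = 0 := by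
    rw [← hx, map_sum]
    simp
  -- the finitely generated submodule spanned by the `b i`
  let P₀ : Submodule A B := Submodule.span A (Set.range b)
  have hP₀ : P₀.FG := Submodule.fg_span (Set.finite_range b)
  let b₀ : Fin n → P₀ := fun i => ⟨b i, Submodule.subset_span ⟨i, rfl⟩⟩
  let t : P₀ ⊗[A] N := ∑ i, b₀ i ⊗ₜ[A] α (m i)
  have ht : LinearMap.rTensor N P₀.subtype t = 0 := by
    rw [map_sum]
    simpa [b₀] using h0
  obtain ⟨Q, hPQ, hQ, hQt⟩ := TensorProduct.eq_zero_of_fg_of_subtype_eq_zero hP₀ ht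
  obtain ⟨l, c, hc⟩ := Submodule.fg_iff_exists_fin_generating_family.1 hQ
  have hcQ : ∀ j, c j ∈ Q := fun j => hc ▸ Submodule.subset_span ⟨j, rfl⟩
  -- generators of `Q` indexed by `Fin n ⊕ Fin l`
  let g : Fin n ⊕ Fin l → Q :=
    Sum.elim (fun i => Submodule.inclusion hPQ (b₀ i)) (fun j => ⟨c j, hcQ j⟩)
  let nn : Fin n ⊕ Fin l → N := Sum.elim (fun i => α (m i)) (fun _ => 0)
  have hg : Submodule.span A (Set.range g) = ⊤ := by
    rw [eq_top_iff]
    rintro ⟨q, hq⟩ -
    have : q ∈ Submodule.span A (Set.range c) := hc ▸ hq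
    refine Submodule.span_induction (p := fun q hq' => (⟨q, hc ▸ hq'⟩ : Q) ∈ Submodule.span A (Set.range g))
      ?_ ?_ ?_ ?_ this
    · rintro _ ⟨j, rfl⟩
      exact Submodule.subset_span ⟨Sum.inr j, rfl⟩
    · exact Submodule.zero_mem _
    · intro x y hx hy hx' hy'
      exact Submodule.add_mem _ hx' hy'
    · intro r x hx hx'
      exact Submodule.smul_mem _ r hx'
  have hsum : ∑ i, g i ⊗ₜ[A] nn i = 0 := by
    rw [Fintype.sum_sum_type]
    simp only [g, nn, Sum.elim_inl, Sum.elim_inr, TensorProduct.tmul_zero, Finset.sum_const_zero,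
      add_zero]
    rw [← hQt, map_sum]
    simp
  obtain ⟨k, a, y, h₁, h₂⟩ := TensorProduct.vanishesTrivially_of_sum_tmul_eq_zero A hg hsum
  -- reindex by `Fin (n + l)`
  let e : Fin n ⊕ Fin l ≃ Fin (n + l) := finSumFinEquiv
  refine ⟨n + l, k, fun i => a (e.symm i), fun i => ((g (e.symm i) : Q) : B),
    fun i => Sum.elim m (fun _ => 0) (e.symm i), y, ?_, ?_, ?_⟩
  · intro i
    change α (Sum.elim m (fun _ => 0) (e.symm i)) = ∑ j, a (e.symm i) j • y j
    generalize e.symm i = s
    rw [← h₁ s]
    cases s <;> simp [nn]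
  · intro j
    have := congrArg (Q.subtype) (h₂ j)
    rw [map_sum, map_zero] at this
    rw [← this]
    refine (Fintype.sum_equiv e _ _ ?_).symm
    intro i
    simp
  · have h3 : ∑ i : Fin (n + l), ((g (e.symm i) : Q) : B) ⊗ₜ[A] (Sum.elim m (fun _ => 0) (e.symm i)) =
        ∑ s : Fin n ⊕ Fin l, ((g s : Q) : B) ⊗ₜ[A] (Sum.elim m (fun _ => (0 : M)) s) :=
      Fintype.sum_equiv e.symm _ _ (fun _ => rfl)
    refine Eq.trans ?_ h3.symm
    rw [Fintype.sum_sum_type]
    simp [g, b₀]

end Algebra

section Std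

variable {A : Type u} [CommRing A]

/-- the standard finite free module `A^I`, in the universe of values of module-valued functors -/
noncomputable abbrev std (A : Type u) [CommRing A] (I : Type) [Fintype I] : ModuleCat.{u + 1} A :=
  ModuleCat.of A (ULift.{u + 1} (I → A))

instance (I : Type) [Fintype I] : Module.Finite A (std A I) :=
  Module.Finite.equiv (ULift.moduleEquiv (R := A) (M := I → A)).symm

instance (I : Type) [Fintype I] : Module.Free A (std A I) :=
  Module.Free.of_equiv (ULift.moduleEquiv (R := A) (M := I → A)).symm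

variable {I : Type} [Fintype I] [DecidableEq I]

/-- the basis vectors of `std A I` -/
def stdE (i : I) : std A I := ULift.up (Pi.single i 1)

/-- the linear map out of `std A I` with given values on the basis -/
noncomputable def stdDesc {X : ModuleCat.{u + 1} A} (x : I → X) : std A I ⟶ X :=
  ModuleCat.ofHom (((Pi.basisFun A I).constr A x) ∘ₗ
    (ULift.moduleEquiv (R := A) (M := I → A)).toLinearMap)

lemma stdDesc_e {X : ModuleCat.{u + 1} A} (x : I → X) (i : I) : stdDesc x (stdE i) = x i := by
  change ((Pi.basisFun A I).constr A x) (Pi.single i 1) = x i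
  rw [← Pi.basisFun_apply, Module.Basis.constr_basis]

lemma std_hom_ext {X : ModuleCat.{u + 1} A} {f g : std A I ⟶ X}
    (h : ∀ i, f (stdE i) = g (stdE i)) : f = g := by
  apply ModuleCat.hom_ext
  have : f.hom ∘ₗ (ULift.moduleEquiv (R := A) (M := I → A)).symm.toLinearMap =
      g.hom ∘ₗ (ULift.moduleEquiv (R := A) (M := I → A)).symm.toLinearMap := by
    apply (Pi.basisFun A I).ext
    intro i
    rw [Pi.basisFun_apply]
    exact h i
  apply LinearMap.ext
  intro x
  have h2 := LinearMap.congr_fun this x.down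
  exact h2

end Std

section Cover

open Groth.Agent.Lib.Helper14.AdeqBC

variable {A : Type u} [CommRing A] {M N : ModuleCat.{u + 1} A} (α : M ⟶ N)

lemma underline_map_app_apply {M N : ModuleCat.{u + 1} A} (α : M ⟶ N) (B : Adeq.Alg A)
    (x : (B : Type u) ⊗[A] M) :
    ((Adeq.underline A).map α).app (Adeq.pt B) x = α.hom.baseChange B x := rfl

/-- every element of the kernel of `underline α` at `B` is hit from the kernel of `underline φ₀`, `φ₀` a map of
finite free modules -/
theorem exists_std_hit (B : Adeq.Alg A)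
    (ξ : (kernel ((Adeq.underline A).map α)).obj (Adeq.pt B)) :
    ∃ (n k : ℕ) (φ₀ : std A (Fin n) ⟶ std A (Fin k))
      (π : kernel ((Adeq.underline A).map φ₀) ⟶ kernel ((Adeq.underline A).map α))
      (w : (kernel ((Adeq.underline A).map φ₀)).obj (Adeq.pt B)), π.app (Adeq.pt B) w = ξ := by
  let x : (B : Type u) ⊗[A] M := (kernel.ι ((Adeq.underline A).map α)).app (Adeq.pt B) ξ
  have hx : α.hom.baseChange B x = 0 :=
    (ι_exact ((Adeq.underline A).map α) B).apply_apply_eq_zero ξ
  obtain ⟨n, k, a, b, m, y, h1, h2, h3⟩ := exists_relations α.hom x hx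
  let φ₀ : std A (Fin n) ⟶ std A (Fin k) := stdDesc (fun i => ∑ j, a i j • stdE j)
  let β : std A (Fin n) ⟶ M := stdDesc m
  let γ : std A (Fin k) ⟶ N := stdDesc y
  have hcomm : φ₀ ≫ γ = β ≫ α := by
    apply std_hom_ext
    intro i
    change γ (φ₀ (stdE i)) = α (β (stdE i))
    rw [stdDesc_e, stdDesc_e, map_sum, h1 i]
    refine Finset.sum_congr rfl fun j _ => ?_
    rw [map_smul, stdDesc_e]
  have hzero : (kernel.ι ((Adeq.underline A).map φ₀) ≫ (Adeq.underline A).map β) ≫
      (Adeq.underline A).map α = 0 := by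
    rw [Category.assoc, ← Functor.map_comp, ← hcomm, Functor.map_comp, ← Category.assoc,
      kernel.condition, zero_comp]
  let π : kernel ((Adeq.underline A).map φ₀) ⟶ kernel ((Adeq.underline A).map α) :=
    kernel.lift _ (kernel.ι ((Adeq.underline A).map φ₀) ≫ (Adeq.underline A).map β) hzero
  have hπ : π ≫ kernel.ι ((Adeq.underline A).map α) =
      kernel.ι ((Adeq.underline A).map φ₀) ≫ (Adeq.underline A).map β := kernel.lift_ι _ _ _
  let z : (B : Type u) ⊗[A] (std A (Fin n)) := ∑ i, b i ⊗ₜ[A] stdE i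
  have hz : ((Adeq.underline A).map φ₀).app (Adeq.pt B) z = 0 := by
    rw [underline_map_app_apply, map_sum]
    have : ∀ i, φ₀.hom.baseChange B (b i ⊗ₜ[A] stdE i) =
        ∑ j, (a i j • b i) ⊗ₜ[A] (stdE j : std A (Fin k)) := by
      intro i
      rw [LinearMap.baseChange_tmul]
      change b i ⊗ₜ[A] (φ₀ (stdE i)) = _
      rw [stdDesc_e, TensorProduct.tmul_sum]
      refine Finset.sum_congr rfl fun j _ => ?_
      rw [TensorProduct.tmul_smul, TensorProduct.smul_tmul']
    rw [Finset.sum_congr rfl (fun i _ => this i), Finset.sum_comm]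
    refine Finset.sum_eq_zero fun j _ => ?_
    rw [← TensorProduct.sum_tmul, h2 j, TensorProduct.zero_tmul]
    rfl
  obtain ⟨w, hw⟩ := (ι_exact ((Adeq.underline A).map φ₀) B z).1 hz
  refine ⟨n, k, φ₀, π, w, ?_⟩
  apply ι_injective ((Adeq.underline A).map α) B
  have e1 := ConcreteCategory.congr_hom (congrArg (fun t => t.app (Adeq.pt B)) hπ) w
  simp only [PresheafOfModules.comp_app, ConcreteCategory.comp_apply] at e1
  refine e1.trans ?_
  rw [hw, underline_map_app_apply, map_sum]
  change _ = x
  rw [h3]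
  refine Finset.sum_congr rfl fun i _ => ?_
  rw [LinearMap.baseChange_tmul]
  change b i ⊗ₜ[A] (β (stdE i)) = _
  rw [stdDesc_e]

/-- every element of the kernel of `underline α` at `B` is hit from the kernel of `underline φ₀`, `φ₀` a map of
finite free modules -/
theorem exists_linAdequate_hit (B : Adeq.Alg A)
    (ξ : (kernel ((Adeq.underline A).map α)).obj (Adeq.pt B)) :
    ∃ (P P' : ModuleCat.{u + 1} A) (φ₀ : P ⟶ P') (_ : Module.Finite A P) (_ : Module.Free A P)
      (_ : Module.Finite A P') (_ : Module.Free A P')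
      (π : kernel ((Adeq.underline A).map φ₀) ⟶ kernel ((Adeq.underline A).map α))
      (w : (kernel ((Adeq.underline A).map φ₀)).obj (Adeq.pt B)), π.app (Adeq.pt B) w = ξ := by
  obtain ⟨n, k, φ₀, π, w, h⟩ := exists_std_hit α B ξ
  exact ⟨std A (Fin n), std A (Fin k), φ₀, inferInstance, inferInstance, inferInstance,
    inferInstance, π, w, h⟩

end Cover

end Groth.Agent.Lib.Helper14.AdeqPres
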