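import Groth.Agent.Lib.Helper14.AdeqKer

/-!
# Coproducts and colimits of adequate functors
-/

universe u v w

set_option linter.unusedSectionVars false

open CategoryTheory Limits TensorProduct

namespace Groth.Agent.Lib.Helper14.AdeqSum

open Groth.Agent.Lib.Helper14.AdeqBC Groth.Agent.Lib.Helper14.AdeqCoker
  Groth.Agent.Lib.Helper14.AdeqTan Groth.Agent.Lib.Helper14.AdeqKer

section Span

/-- the injections of a colimit cofan of modules jointly span -/
lemma cofan_span {R : Type u} [Ring R] {I : Type v} (K : Discrete I ⥤ ModuleCat.{w} R)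
    (c : Cocone K) (hc : IsColimit c) :
    ⨆ i : I, LinearMap.range
      (show (K.obj ⟨i⟩ : Type w) →ₗ[R] (c.pt : Type w) from (c.ι.app ⟨i⟩).hom) = ⊤ := by
  set S := ⨆ i : I, LinearMap.range
      (show (K.obj ⟨i⟩ : Type w) →ₗ[R] (c.pt : Type w) from (c.ι.app ⟨i⟩).hom) with hS
  have h : ModuleCat.ofHom S.mkQ = (0 : c.pt ⟶ ModuleCat.of R (c.pt ⧸ S)) := by
    apply hc.hom_ext
    rintro ⟨i⟩
    rw [comp_zero]
    ext x
    change S.mkQ ((c.ι.app ⟨i⟩).hom x) = 0
    rw [Submodule.mkQ_apply, Submodule.Quotient.mk_eq_zero]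
    exact Submodule.mem_iSup_of_mem i ⟨x, rfl⟩
  have h2 : S.mkQ = 0 := by
    have := congrArg ModuleCat.Hom.hom h
    exact this
  have h3 : LinearMap.ker S.mkQ = ⊤ := by
    rw [h2]
    exact LinearMap.ker_zero
  rwa [Submodule.ker_mkQ] at h3

variable {A : Type u} [CommRing A]

noncomputable instance (R : Adeq.Alg A) : PreservesColimitsOfSize.{u + 1, u + 1} (ev R) :=
  PresheafOfModules.evaluation_preservesColimitsOfSize.{u + 1} _ _

lemma sigma_span {I : Type (u + 1)} (F : I → Adeq.MVF A) (B : Adeq.Alg A)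
    (y : (∐ F).obj (Adeq.pt B)) :
    ∃ (s : Finset I) (w : ∀ i, (F i).obj (Adeq.pt B)),
      y = ∑ i ∈ s, (Sigma.ι F i).app (Adeq.pt B) (w i) := by
  classical
  have hc := isColimitOfPreserves (ev B) (colimit.isColimit (Discrete.functor F))
  have hs := cofan_span _ _ hc
  have hy := (Submodule.eq_top_iff'.1 hs) y
  refine Submodule.iSup_induction _ (motive := fun y => ∃ (s : Finset I)
      (w : ∀ i, (F i).obj (Adeq.pt B)), y = ∑ i ∈ s, (Sigma.ι F i).app (Adeq.pt B) (w i))
    hy ?_ ?_ ?_
  · rintro i x ⟨x', rfl⟩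
    change (F i).obj (Adeq.pt B) at x'
    refine ⟨{i}, Pi.single i x', ?_⟩
    rw [Finset.sum_singleton, Pi.single_eq_same]
    rfl
  · exact ⟨∅, fun _ => 0, by rw [Finset.sum_empty]⟩
  · rintro x y ⟨s₁, w₁, rfl⟩ ⟨s₂, w₂, rfl⟩
    refine ⟨s₁ ∪ s₂, fun i => (if i ∈ s₁ then w₁ i else 0) + (if i ∈ s₂ then w₂ i else 0), ?_⟩
    simp only [map_add, Finset.sum_add_distrib]
    congr 1
    · rw [← Finset.sum_subset (Finset.subset_union_left (s₂ := s₂))]
      · exact Finset.sum_congr rfl (fun i hi => by rw [if_pos hi])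
      · intro i _ hi
        rw [if_neg hi, map_zero]
    · rw [← Finset.sum_subset (Finset.subset_union_right (s₁ := s₁))]
      · exact Finset.sum_congr rfl (fun i hi => by rw [if_pos hi])
      · intro i _ hi
        rw [if_neg hi, map_zero]

end Span

section Sum

open DirectSum

variable {A : Type u} [CommRing A] {I : Type (u + 1)} [DecidableEq I]
  (M N : I → ModuleCat.{u + 1} A) (α : ∀ i, M i ⟶ N i)

/-- the direct sum module -/
noncomputable abbrev dsum : ModuleCat.{u + 1} A := ModuleCat.of A (⨁ i, M i)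

/-- inclusion of a summand -/
noncomputable def inc (i : I) : M i ⟶ dsum M :=
  ModuleCat.ofHom (DirectSum.lof A I (fun i => M i) i)

/-- projection to a summand -/
noncomputable def prj (i : I) : dsum M ⟶ M i :=
  ModuleCat.ofHom (DirectSum.component A I (fun i => M i) i)

/-- the direct sum of maps -/
noncomputable def dmap : dsum M ⟶ dsum N :=
  ModuleCat.ofHom (DirectSum.lmap (fun i => (α i).hom))

lemma inc_prj_same (i : I) : inc M i ≫ prj M i = 𝟙 _ := by
  apply ModuleCat.hom_ext
  apply LinearMap.ext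
  intro m
  exact DirectSum.component.lof_self (M := fun i => (M i : Type (u + 1))) A i m

lemma inc_prj_ne (i j : I) (h : i ≠ j) : inc M i ≫ prj M j = 0 := by
  apply ModuleCat.hom_ext
  apply LinearMap.ext
  intro m
  refine (DirectSum.component.of (M := fun i => (M i : Type (u + 1))) A j i m).trans ?_
  rw [dif_neg h]
  rfl

lemma inc_dmap (i : I) : inc M i ≫ dmap M N α = α i ≫ inc N i := by
  apply ModuleCat.hom_ext
  apply LinearMap.ext
  intro m
  exact DirectSum.lmap_lof (fun i => (α i).hom) i m

lemma dmap_prj (i : I) : dmap M N α ≫ prj N i = prj M i ≫ α i := by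
  apply ModuleCat.hom_ext
  apply LinearMap.ext
  intro m
  rfl

/-- the map of kernels induced by the inclusion of a summand -/
noncomputable def kinc (i : I) :
    kernel ((Adeq.underline A).map (α i)) ⟶ kernel ((Adeq.underline A).map (dmap M N α)) :=
  kernel.lift _ (kernel.ι _ ≫ (Adeq.underline A).map (inc M i)) (by
    rw [Category.assoc, ← Functor.map_comp, inc_dmap, Functor.map_comp, ← Category.assoc,
      kernel.condition, zero_comp])

/-- the comparison map from the coproduct of the kernels to the kernel of the direct sum -/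
noncomputable def Phi :
    (∐ fun i => kernel ((Adeq.underline A).map (α i))) ⟶
      kernel ((Adeq.underline A).map (dmap M N α)) :=
  Sigma.desc (kinc M N α)

lemma Phi_apply (i : I) (B : Adeq.Alg A)
    (w : (kernel ((Adeq.underline A).map (α i))).obj (Adeq.pt B)) :
    (kernel.ι ((Adeq.underline A).map (dmap M N α))).app (Adeq.pt B)
      ((Phi M N α).app (Adeq.pt B)
        ((Sigma.ι (fun i => kernel ((Adeq.underline A).map (α i))) i).app (Adeq.pt B) w)) =
    ((Adeq.underline A).map (inc M i)).app (Adeq.pt B)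
      ((kernel.ι ((Adeq.underline A).map (α i))).app (Adeq.pt B) w) := by
  have h : Sigma.ι (fun i => kernel ((Adeq.underline A).map (α i))) i ≫ Phi M N α ≫
      kernel.ι ((Adeq.underline A).map (dmap M N α)) =
      kernel.ι ((Adeq.underline A).map (α i)) ≫ (Adeq.underline A).map (inc M i) := by
    unfold Phi kinc
    rw [← Category.assoc, Sigma.ι_desc, kernel.lift_ι]
  exact eq_app_apply h B w

lemma inc_prj_same_apply (i : I) (B : Adeq.Alg A)
    (z : ((Adeq.underline A).obj (M i)).obj (Adeq.pt B)) :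
    ((Adeq.underline A).map (prj M i)).app (Adeq.pt B)
      (((Adeq.underline A).map (inc M i)).app (Adeq.pt B) z) = z := by
  have h : (Adeq.underline A).map (inc M i) ≫ (Adeq.underline A).map (prj M i) = 𝟙 _ := by
    rw [← Functor.map_comp, inc_prj_same, CategoryTheory.Functor.map_id]
  exact eq_app_apply h B z

lemma inc_prj_ne_apply (i j : I) (hij : i ≠ j) (B : Adeq.Alg A)
    (z : ((Adeq.underline A).obj (M i)).obj (Adeq.pt B)) :
    ((Adeq.underline A).map (prj M j)).app (Adeq.pt B)
      (((Adeq.underline A).map (inc M i)).app (Adeq.pt B) z) = 0 := by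
  have h : (Adeq.underline A).map (inc M i) ≫ (Adeq.underline A).map (prj M j) = 0 := by
    rw [← Functor.map_comp, inc_prj_ne M i j hij, Functor.map_zero]
  exact eq_app_apply h B z

lemma Phi_mono : Mono (Phi M N α) := by
  apply PresheafOfModules.mono_of_injective
  intro X
  obtain ⟨⟨B⟩⟩ := X
  change Function.Injective ((Phi M N α).app (Adeq.pt B))
  rw [injective_iff_map_eq_zero]
  intro y hy
  obtain ⟨s, w, rfl⟩ := sigma_span (fun i => kernel ((Adeq.underline A).map (α i))) B y
  apply Finset.sum_eq_zero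
  intro j hj
  have hw : w j = 0 := by
    apply ι_injective ((Adeq.underline A).map (α j)) B
    rw [map_zero]
    have h1 := congrArg (fun t => ((Adeq.underline A).map (prj M j)).app (Adeq.pt B)
      ((kernel.ι ((Adeq.underline A).map (dmap M N α))).app (Adeq.pt B) t)) hy
    simp only [map_sum, map_zero] at h1
    rw [Finset.sum_eq_single j] at h1
    · rw [Phi_apply, inc_prj_same_apply] at h1
      exact h1
    · intro i _ hij
      rw [Phi_apply, inc_prj_ne_apply M i j hij]
    · intro h
      exact absurd hj h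
  rw [hw, map_zero]

lemma Phi_epi : Epi (Phi M N α) := by
  apply PresheafOfModules.epi_of_surjective
  intro X
  obtain ⟨⟨B⟩⟩ := X
  intro k'
  change (kernel ((Adeq.underline A).map (dmap M N α))).obj (Adeq.pt B) at k'
  let x : ((Adeq.underline A).obj (dsum M)).obj (Adeq.pt B) :=
    (kernel.ι ((Adeq.underline A).map (dmap M N α))).app (Adeq.pt B) k'
  have hx : ((Adeq.underline A).map (dmap M N α)).app (Adeq.pt B) x = 0 :=
    (ι_exact ((Adeq.underline A).map (dmap M N α)) B).apply_apply_eq_zero k'
  let xc : ∀ i, ((Adeq.underline A).obj (M i)).obj (Adeq.pt B) :=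
    fun i => ((Adeq.underline A).map (prj M i)).app (Adeq.pt B) x
  have hxc : ∀ i, ((Adeq.underline A).map (α i)).app (Adeq.pt B) (xc i) = 0 := by
    intro i
    have h : (Adeq.underline A).map (prj M i) ≫ (Adeq.underline A).map (α i) =
        (Adeq.underline A).map (dmap M N α) ≫ (Adeq.underline A).map (prj N i) := by
      rw [← Functor.map_comp, ← Functor.map_comp, dmap_prj]
    have h2 := eq_app_apply h B x
    rw [comp_app_apply, comp_app_apply, hx, map_zero] at h2
    exact h2
  have hw : ∀ i, ∃ w : (kernel ((Adeq.underline A).map (α i))).obj (Adeq.pt B),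
      (kernel.ι ((Adeq.underline A).map (α i))).app (Adeq.pt B) w = xc i :=
    fun i => (ι_exact ((Adeq.underline A).map (α i)) B (xc i)).1 (hxc i)
  choose w hw using hw
  obtain ⟨s, hs⟩ := Groth.Agent.Lib.Helper14.AdeqPush.exists_finset_sum (fun i => M i)
    (B : Type u) x
  have hs' : ∑ i ∈ s, ((Adeq.underline A).map (inc M i)).app (Adeq.pt B) (xc i) = x :=
    hs s (Finset.Subset.refl s)
  refine ⟨∑ i ∈ s, (Sigma.ι (fun i => kernel ((Adeq.underline A).map (α i))) i).app
    (Adeq.pt B) (w i), ?_⟩
  apply ι_injective ((Adeq.underline A).map (dmap M N α)) B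
  change (kernel.ι ((Adeq.underline A).map (dmap M N α))).app (Adeq.pt B)
    ((Phi M N α).app (Adeq.pt B) _) = x
  rw [map_sum, map_sum, ← hs']
  apply Finset.sum_congr rfl
  intro i _
  rw [Phi_apply, hw i]

lemma Phi_isIso : IsIso (Phi M N α) := by
  have := Phi_mono M N α
  have := Phi_epi M N α
  exact isIso_of_mono_of_epi _

end Sum

section Colim

variable {A : Type u} [CommRing A]

/-- a coproduct of adequate functors is adequate -/
theorem adequate_coproduct {I : Type (u + 1)} (F : I → Adeq.MVF A)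
    (hF : ∀ i, Adeq.adequate A (F i)) : Adeq.adequate A (∐ F) := by
  classical
  choose M N α e using hF
  have := Phi_isIso M N α
  exact ⟨dsum M, dsum N, dmap M N α,
    ⟨Sigma.mapIso (fun i => (e i).some) ≪≫ asIso (Phi M N α)⟩⟩

/-- a colimit of adequate functors is adequate -/
theorem adequate_colimit {J : Type (u + 1)} [SmallCategory J] (D : J ⥤ Adeq.MVF A)
    (hD : ∀ j, Adeq.adequate A (D.obj j)) : Adeq.adequate A (colimit D) := by
  let s : (∐ fun f : Σ p : J × J, p.1 ⟶ p.2 => D.obj f.1.1) ⟶ ∐ D.obj :=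
    Sigma.desc fun f => D.map f.2 ≫ colimit.ι (Discrete.functor D.obj) ⟨f.1.2⟩
  let t : (∐ fun f : Σ p : J × J, p.1 ⟶ p.2 => D.obj f.1.1) ⟶ ∐ D.obj :=
    Sigma.desc fun f => colimit.ι (Discrete.functor D.obj) ⟨f.1.1⟩
  let e1 : colimit D ≅ coequalizer s t :=
    colimit.isoColimitCocone (colimitCoconeOfCoequalizerAndCoproduct D)
  let e2 : coequalizer s t ≅ cokernel (s - t) :=
    (colimit.isColimit (parallelPair s t)).coconePointUniqueUpToIso
      (Preadditive.isColimitCoforkOfCokernelCofork (cokernelIsCokernel (s - t)))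
  have h1 : Adeq.adequate A (∐ fun f : Σ p : J × J, p.1 ⟶ p.2 => D.obj f.1.1) :=
    adequate_coproduct _ (fun f => hD f.1.1)
  have h2 : Adeq.adequate A (∐ D.obj) := adequate_coproduct _ hD
  have h3 := adequate_cokernel (s - t) h1 h2
  exact (Adeq.adequate A).prop_of_iso (e1 ≪≫ e2).symm h3

end Colim

end Groth.Agent.Lib.Helper14.AdeqSum
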