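import Groth.Agent.Lib.Helper14.AdeqSplit
import Groth.Agent.Lib.Helper14.AdeqSum
import Groth.Agent.Lib.Helper14.AdeqPres
import Groth.Agent.Lib.Helper14.AdeqCoker

universe u
set_option linter.unusedVariables false
set_option linter.unusedSectionVars false
open CategoryTheory Limits TensorProduct

namespace Groth.Agent.Lib.Helper14.AdeqExt

open Groth.Agent.Lib.Helper14.AdeqSplit Groth.Agent.Lib.Helper14.AdeqTan Groth.Agent.Lib.Helper14.AdeqKer
  Groth.Agent.Lib.Helper14.AdeqSum Groth.Agent.Lib.Helper14.AdeqBC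

variable {A : Type u} [CommRing A]

section Basic

lemma adequate_underline (M : ModuleCat.{u + 1} A) :
    Adeq.adequate A ((Adeq.underline A).obj M) := by
  refine ⟨M, M, 0, ⟨?_⟩⟩
  have h : (Adeq.underline A).map (0 : M ⟶ M) = 0 := (Adeq.underline A).map_zero _ _
  exact (kernelZeroIsoSource (X := (Adeq.underline A).obj M) (Y := (Adeq.underline A).obj M)).symm ≪≫
    kernelIsoOfEq h.symm

lemma adequate_of_linAdequate {F : Adeq.MVF A} (h : Adeq.linAdequate A F) :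
    Adeq.adequate A F := by
  obtain ⟨M, N, φ, _, _, _, _, i⟩ := h
  exact ⟨M, N, φ, i⟩

lemma adequate_biprod {F G : Adeq.MVF A} (hF : Adeq.adequate A F)
    (hG : Adeq.adequate A G) : Adeq.adequate A (F ⊞ G) := by
  let D : ULift.{u + 1} WalkingPair → Adeq.MVF A := fun j => WalkingPair.casesOn j.down F G
  have hD : ∀ j, Adeq.adequate A (D j) := by
    rintro ⟨j⟩
    cases j
    · exact hF
    · exact hG
  have h := adequate_coproduct D hD
  let e1 : F ⊞ G ≅ F ⨿ G := biprod.isoCoprod F G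
  let e2 : (∐ D) ≅ ∐ (fun j : WalkingPair => WalkingPair.casesOn j F G : WalkingPair → Adeq.MVF A) :=
    Sigma.whiskerEquiv (Equiv.ulift) (fun j => Iso.refl _)
  exact (Adeq.adequate A).prop_of_iso (e2 ≪≫ e1.symm) h

theorem tan_of_adequate {F : Adeq.MVF A} (h : Adeq.adequate A F) : Tan F := by
  obtain ⟨M, N, φ, ⟨i⟩⟩ := h
  exact Tan.of_iso i (tan_kernel φ)

end Basic

section Biprod

variable {X Y : Adeq.MVF A} (R : Adeq.Alg A)

lemma bp_total (v : (X ⊞ Y).obj (Adeq.pt R)) :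
    v = (biprod.inl : X ⟶ X ⊞ Y).app (Adeq.pt R) ((biprod.fst : X ⊞ Y ⟶ X).app (Adeq.pt R) v) +
      (biprod.inr : Y ⟶ X ⊞ Y).app (Adeq.pt R) ((biprod.snd : X ⊞ Y ⟶ Y).app (Adeq.pt R) v) := by
  have h := eq_app_apply (biprod.total : biprod.fst ≫ biprod.inl + biprod.snd ≫ biprod.inr = 𝟙 (X ⊞ Y)) R v
  exact h.symm

lemma bp_inl_fst (x : X.obj (Adeq.pt R)) :
    (biprod.fst : X ⊞ Y ⟶ X).app (Adeq.pt R) ((biprod.inl : X ⟶ X ⊞ Y).app (Adeq.pt R) x) = x :=
  (comp_app_apply _ _ R x).symm.trans (eq_app_apply (biprod.inl_fst : biprod.inl ≫ biprod.fst = 𝟙 X) R x)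

lemma bp_inl_snd (x : X.obj (Adeq.pt R)) :
    (biprod.snd : X ⊞ Y ⟶ Y).app (Adeq.pt R) ((biprod.inl : X ⟶ X ⊞ Y).app (Adeq.pt R) x) = 0 :=
  (comp_app_apply _ _ R x).symm.trans (eq_app_apply (biprod.inl_snd : (biprod.inl : X ⟶ X ⊞ Y) ≫ biprod.snd = 0) R x)

lemma bp_inr_fst (y : Y.obj (Adeq.pt R)) :
    (biprod.fst : X ⊞ Y ⟶ X).app (Adeq.pt R) ((biprod.inr : Y ⟶ X ⊞ Y).app (Adeq.pt R) y) = 0 :=
  (comp_app_apply _ _ R y).symm.trans (eq_app_apply (biprod.inr_fst : (biprod.inr : Y ⟶ X ⊞ Y) ≫ biprod.fst = 0) R y)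

lemma bp_inr_snd (y : Y.obj (Adeq.pt R)) :
    (biprod.snd : X ⊞ Y ⟶ Y).app (Adeq.pt R) ((biprod.inr : Y ⟶ X ⊞ Y).app (Adeq.pt R) y) = y :=
  (comp_app_apply _ _ R y).symm.trans (eq_app_apply (biprod.inr_snd : biprod.inr ≫ biprod.snd = 𝟙 Y) R y)

lemma bp_desc_inl {Z : Adeq.MVF A} (a : X ⟶ Z) (b : Y ⟶ Z) (x : X.obj (Adeq.pt R)) :
    (biprod.desc a b).app (Adeq.pt R) ((biprod.inl : X ⟶ X ⊞ Y).app (Adeq.pt R) x) = a.app (Adeq.pt R) x :=
  (comp_app_apply _ _ R x).symm.trans (eq_app_apply (biprod.inl_desc a b) R x)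

lemma bp_desc_inr {Z : Adeq.MVF A} (a : X ⟶ Z) (b : Y ⟶ Z) (y : Y.obj (Adeq.pt R)) :
    (biprod.desc a b).app (Adeq.pt R) ((biprod.inr : Y ⟶ X ⊞ Y).app (Adeq.pt R) y) = b.app (Adeq.pt R) y :=
  (comp_app_apply _ _ R y).symm.trans (eq_app_apply (biprod.inr_desc a b) R y)

lemma bp_lift_fst {Z : Adeq.MVF A} (a : Z ⟶ X) (b : Z ⟶ Y) (z : Z.obj (Adeq.pt R)) :
    (biprod.fst : X ⊞ Y ⟶ X).app (Adeq.pt R) ((biprod.lift a b).app (Adeq.pt R) z) = a.app (Adeq.pt R) z :=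
  (comp_app_apply _ _ R z).symm.trans (eq_app_apply (biprod.lift_fst a b) R z)

lemma bp_lift_snd {Z : Adeq.MVF A} (a : Z ⟶ X) (b : Z ⟶ Y) (z : Z.obj (Adeq.pt R)) :
    (biprod.snd : X ⊞ Y ⟶ Y).app (Adeq.pt R) ((biprod.lift a b).app (Adeq.pt R) z) = b.app (Adeq.pt R) z :=
  (comp_app_apply _ _ R z).symm.trans (eq_app_apply (biprod.lift_snd a b) R z)

lemma bp_eq_inl_of_snd (v : (X ⊞ Y).obj (Adeq.pt R))
    (h : (biprod.snd : X ⊞ Y ⟶ Y).app (Adeq.pt R) v = 0) :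
    v = (biprod.inl : X ⟶ X ⊞ Y).app (Adeq.pt R) ((biprod.fst : X ⊞ Y ⟶ X).app (Adeq.pt R) v) := by
  refine (bp_total R v).trans ?_
  rw [h, map_zero, add_zero]

lemma bp_eq_inr_of_fst (v : (X ⊞ Y).obj (Adeq.pt R))
    (h : (biprod.fst : X ⊞ Y ⟶ X).app (Adeq.pt R) v = 0) :
    v = (biprod.inr : Y ⟶ X ⊞ Y).app (Adeq.pt R) ((biprod.snd : X ⊞ Y ⟶ Y).app (Adeq.pt R) v) := by
  refine (bp_total R v).trans ?_
  rw [h, map_zero, zero_add]

end Biprod

section LemmaI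

variable {M : ModuleCat.{u + 1} A} {G' H : Adeq.MVF A} (f' : (Adeq.underline A).obj M ⟶ G') (g' : G' ⟶ H)
  (hf' : ∀ R : Adeq.Alg A, Function.Injective (f'.app (Adeq.pt R)))
  (hg' : ∀ R : Adeq.Alg A, Function.Surjective (g'.app (Adeq.pt R)))
  (hex' : ∀ (R : Adeq.Alg A) (y : G'.obj (Adeq.pt R)), g'.app (Adeq.pt R) y = 0 →
      ∃ x, f'.app (Adeq.pt R) x = y)
  (hH : Adeq.adequate A H)

include hf' hg' hex' hH in
/-- maps from linearly adequate functors lift along an extension by `underline M` -/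
theorem exists_lift_lin {L : Adeq.MVF A} (hL : Adeq.linAdequate A L) (lam : L ⟶ H) :
    ∃ s : L ⟶ G', s ≫ g' = lam := by
  obtain ⟨P, P', φ₀, hP1, hP2, hP1', hP2', ⟨iL⟩⟩ := hL
  let b := (Module.Free.chooseBasis A P).reindex
    (Fintype.equivFin (Module.Free.ChooseBasisIndex A P))
  let b' := (Module.Free.chooseBasis A P').reindex
    (Fintype.equivFin (Module.Free.ChooseBasisIndex A P'))
  have tH : Tan H := tan_of_adequate hH
  have tG : Tan G' := Tan.of_ext' f' g' hf' hg' hex' (tan_underline M) tH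
  obtain ⟨s', hs'⟩ := exists_lift_section b b' φ₀ G' tG H g' (iL.inv ≫ lam) tH.inj hg'
  refine ⟨iL.hom ≫ s', ?_⟩
  rw [Category.assoc, hs', Iso.hom_inv_id_assoc]

end LemmaI

section LemmaIIa

open Groth.Agent.Lib.Helper14.AdeqCoker

variable {U G' H LL : Adeq.MVF A} (f' : U ⟶ G') (g' : G' ⟶ H)
  (hf' : ∀ R : Adeq.Alg A, Function.Injective (f'.app (Adeq.pt R)))
  (hex' : ∀ (R : Adeq.Alg A) (y : G'.obj (Adeq.pt R)), g'.app (Adeq.pt R) y = 0 →
      ∃ x, f'.app (Adeq.pt R) x = y)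
  (hz' : f' ≫ g' = 0)
  (lamT : LL ⟶ H) (sT : LL ⟶ G') (hsT : sT ≫ g' = lamT)
  (hlam : ∀ R : Adeq.Alg A, Function.Surjective (lamT.app (Adeq.pt R)))

include hex' hsT hlam in
lemma desc_surjective (R : Adeq.Alg A) : Function.Surjective ((biprod.desc f' sT).app (Adeq.pt R)) := by
  intro y
  obtain ⟨l, hl⟩ := hlam R (g'.app (Adeq.pt R) y)
  have h0 : g'.app (Adeq.pt R) (y - sT.app (Adeq.pt R) l) = 0 := by
    rw [map_sub, ← comp_app_apply, eq_app_apply hsT R l, hl, sub_self]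
  obtain ⟨m, hm⟩ := hex' R _ h0
  refine ⟨(biprod.inl : U ⟶ U ⊞ LL).app (Adeq.pt R) m + (biprod.inr : LL ⟶ U ⊞ LL).app (Adeq.pt R) l, ?_⟩
  rw [map_add, bp_desc_inl, bp_desc_inr, hm]
  abel

include hz' hsT in
lemma desc_comp : biprod.desc f' sT ≫ g' = biprod.snd ≫ lamT := by
  apply biprod.hom_ext'
  · rw [biprod.inl_desc_assoc, hz', biprod.inl_snd_assoc, zero_comp]
  · rw [biprod.inr_desc_assoc, hsT, biprod.inr_snd_assoc]

include hz' hsT in
lemma theta_cond : (kernel.ι (biprod.desc f' sT) ≫ biprod.snd) ≫ lamT = 0 := by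
  rw [Category.assoc, ← desc_comp f' g' hz' lamT sT hsT, kernel.condition_assoc, zero_comp]

/-- the comparison of kernels -/
noncomputable def theta : kernel (biprod.desc f' sT) ⟶ kernel lamT :=
  kernel.lift lamT (kernel.ι (biprod.desc f' sT) ≫ biprod.snd) (theta_cond f' g' hz' lamT sT hsT)

lemma theta_ι (R : Adeq.Alg A) (z : (kernel (biprod.desc f' sT)).obj (Adeq.pt R)) :
    (kernel.ι lamT).app (Adeq.pt R) ((theta f' g' hz' lamT sT hsT).app (Adeq.pt R) z) =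
      (biprod.snd : U ⊞ LL ⟶ LL).app (Adeq.pt R) ((kernel.ι (biprod.desc f' sT)).app (Adeq.pt R) z) := by
  refine (comp_app_apply _ _ R z).symm.trans ?_
  unfold theta
  rw [eq_app_apply (kernel.lift_ι lamT _ (theta_cond f' g' hz' lamT sT hsT)) R z]
  exact comp_app_apply _ _ R z

include hf' in
lemma theta_injective (R : Adeq.Alg A) :
    Function.Injective ((theta f' g' hz' lamT sT hsT).app (Adeq.pt R)) := by
  rw [injective_iff_map_eq_zero]
  intro z hz
  apply ι_injective (biprod.desc f' sT) R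
  rw [map_zero]
  have e1 : (biprod.snd : U ⊞ LL ⟶ LL).app (Adeq.pt R)
      ((kernel.ι (biprod.desc f' sT)).app (Adeq.pt R) z) = 0 := by
    rw [← theta_ι f' g' hz' lamT sT hsT, hz, map_zero]
  have e2 := bp_eq_inl_of_snd R ((kernel.ι (biprod.desc f' sT)).app (Adeq.pt R) z) e1
  have e3 : (biprod.desc f' sT).app (Adeq.pt R) ((kernel.ι (biprod.desc f' sT)).app (Adeq.pt R) z) = 0 :=
    (ι_exact (biprod.desc f' sT) R).apply_apply_eq_zero z
  have e3' := (congrArg (fun t => (biprod.desc f' sT).app (Adeq.pt R) t) e2).symm.trans e3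
  have e3'' := (bp_desc_inl R f' sT _).symm.trans e3'
  have e4 := hf' R (e3''.trans (map_zero _).symm)
  refine e2.trans ?_
  rw [e4, map_zero]

include hex' in
lemma theta_surjective (R : Adeq.Alg A) :
    Function.Surjective ((theta f' g' hz' lamT sT hsT).app (Adeq.pt R)) := by
  intro k
  have hl : lamT.app (Adeq.pt R) ((kernel.ι lamT).app (Adeq.pt R) k) = 0 :=
    (ι_exact lamT R).apply_apply_eq_zero k
  have h0 : g'.app (Adeq.pt R) (sT.app (Adeq.pt R) ((kernel.ι lamT).app (Adeq.pt R) k)) = 0 := by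
    rw [← comp_app_apply, eq_app_apply hsT R _, hl]
  obtain ⟨m, hm⟩ := hex' R _ h0
  have h3 : (biprod.desc f' sT).app (Adeq.pt R) ((biprod.inl : U ⟶ U ⊞ LL).app (Adeq.pt R) (-m) +
      (biprod.inr : LL ⟶ U ⊞ LL).app (Adeq.pt R) ((kernel.ι lamT).app (Adeq.pt R) k)) = 0 := by
    rw [map_add, bp_desc_inl, bp_desc_inr, map_neg, hm, neg_add_cancel]
  have h4 := (ι_exact (biprod.desc f' sT) R _).1 h3
  obtain ⟨z, hz⟩ := h4
  refine ⟨z, ?_⟩
  apply ι_injective lamT R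
  rw [theta_ι, hz, map_add, bp_inl_snd, bp_inr_snd, zero_add]

include hf' hex' hz' hsT hlam in
/-- the middle term of an extension is adequate when there is a lift of a surjection from an adequate functor -/
theorem adequate_of_lift (hU : Adeq.adequate A U) (hLL : Adeq.adequate A LL) (hH : Adeq.adequate A H) :
    Adeq.adequate A G' := by
  have : Epi (biprod.desc f' sT) :=
    PresheafOfModules.epi_of_surjective (fun X => desc_surjective f' g' hex' lamT sT hsT hlam X.unop.unop)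
  have : IsIso (theta f' g' hz' lamT sT hsT) :=
    isIso_of_bijective _ (fun R => ⟨theta_injective f' g' hf' hz' lamT sT hsT R,
      theta_surjective f' g' hex' hz' lamT sT hsT R⟩)
  have hK : Adeq.adequate A (kernel (biprod.desc f' sT)) :=
    (Adeq.adequate A).prop_of_iso (asIso (theta f' g' hz' lamT sT hsT)).symm (adequate_kernel lamT hLL hH)
  have hB : Adeq.adequate A (U ⊞ LL) := adequate_biprod hU hLL
  have hC := adequate_cokernel (kernel.ι (biprod.desc f' sT)) hK hB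
  exact (Adeq.adequate A).prop_of_iso (asIso (Abelian.factorThruCoimage (biprod.desc f' sT))) hC

end LemmaIIa

section LemmaII

open Groth.Agent.Lib.Helper14.AdeqPres

variable {M : ModuleCat.{u + 1} A} {G' H : Adeq.MVF A} (f' : (Adeq.underline A).obj M ⟶ G') (g' : G' ⟶ H)
  (hf' : ∀ R : Adeq.Alg A, Function.Injective (f'.app (Adeq.pt R)))
  (hg' : ∀ R : Adeq.Alg A, Function.Surjective (g'.app (Adeq.pt R)))
  (hex' : ∀ (R : Adeq.Alg A) (y : G'.obj (Adeq.pt R)), g'.app (Adeq.pt R) y = 0 →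
      ∃ x, f'.app (Adeq.pt R) x = y)
  (hz' : f' ≫ g' = 0)
  (hH : Adeq.adequate A H)

include hf' hg' hex' hz' hH in
/-- an extension of an adequate functor by `underline M` is adequate -/
theorem adequate_of_ext_underline : Adeq.adequate A G' := by
  have hH' := hH
  obtain ⟨M₁, N₁, α, ⟨iH⟩⟩ := hH
  have h1 : ∀ i : (Σ B : Adeq.Alg A, H.obj (Adeq.pt B)), ∃ (L : Adeq.MVF A) (_ : Adeq.linAdequate A L)
      (lam : L ⟶ H) (w : L.obj (Adeq.pt i.1)), lam.app (Adeq.pt i.1) w = i.2 := by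
    rintro ⟨B, ξ⟩
    obtain ⟨P, P', φ₀, i1, i2, i3, i4, π, w, hw⟩ :=
      exists_linAdequate_hit α B (iH.hom.app (Adeq.pt B) ξ)
    refine ⟨kernel ((Adeq.underline A).map φ₀), ⟨P, P', φ₀, i1, i2, i3, i4, ⟨Iso.refl _⟩⟩,
      π ≫ iH.inv, w, ?_⟩
    rw [comp_app_apply, hw]
    exact (comp_app_apply iH.hom iH.inv B ξ).symm.trans (eq_app_apply iH.hom_inv_id B ξ)
  choose L hL lam w hw using h1
  have h2 : ∀ i, ∃ s : L i ⟶ G', s ≫ g' = lam i :=
    fun i => exists_lift_lin f' g' hf' hg' hex' hH' (hL i) (lam i)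
  choose s hs using h2
  have hsT : Sigma.desc s ≫ g' = Sigma.desc lam := by
    apply Sigma.hom_ext
    intro i
    rw [Sigma.ι_desc_assoc, Sigma.ι_desc, hs]
  have hlam : ∀ R : Adeq.Alg A, Function.Surjective ((Sigma.desc lam).app (Adeq.pt R)) := by
    intro R ξ
    refine ⟨(Sigma.ι L ⟨R, ξ⟩).app (Adeq.pt R) (w ⟨R, ξ⟩), ?_⟩
    refine (comp_app_apply _ _ R _).symm.trans ?_
    rw [eq_app_apply (Sigma.ι_desc lam ⟨R, ξ⟩) R _]
    exact hw ⟨R, ξ⟩
  exact adequate_of_lift f' g' hf' hex' hz' (Sigma.desc lam) (Sigma.desc s) hsT hlam (adequate_underline M)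
    (adequate_coproduct L (fun i => adequate_of_linAdequate (hL i))) hH'

end LemmaII

section StepA

open Groth.Agent.Lib.Helper14.AdeqCoker

variable {F G H : Adeq.MVF A} {M N : ModuleCat.{u + 1} A} (f : F ⟶ G) (g : G ⟶ H)
  (ι : F ⟶ (Adeq.underline A).obj M) (φ : M ⟶ N)

/-- the anti-diagonal map defining the pushout -/
noncomputable def dd : F ⟶ (Adeq.underline A).obj M ⊞ G := biprod.lift ι (-f)

lemma dd_fst (R : Adeq.Alg A) (z : F.obj (Adeq.pt R)) :
    (biprod.fst : (Adeq.underline A).obj M ⊞ G ⟶ _).app (Adeq.pt R) ((dd f ι).app (Adeq.pt R) z) =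
      ι.app (Adeq.pt R) z :=
  bp_lift_fst R ι (-f) z

lemma dd_snd (R : Adeq.Alg A) (z : F.obj (Adeq.pt R)) :
    (biprod.snd : (Adeq.underline A).obj M ⊞ G ⟶ _).app (Adeq.pt R) ((dd f ι).app (Adeq.pt R) z) =
      - f.app (Adeq.pt R) z :=
  bp_lift_snd R ι (-f) z

/-- the pushout `(underline M ⊕ G)/F` -/
noncomputable abbrev G1 : Adeq.MVF A := cokernel (dd f ι)

/-- `underline M → G₁` -/
noncomputable def f1 : (Adeq.underline A).obj M ⟶ G1 f ι := biprod.inl ≫ cokernel.π (dd f ι)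

/-- `G → G₁` -/
noncomputable def jG : G ⟶ G1 f ι := biprod.inr ≫ cokernel.π (dd f ι)

variable (hz : f ≫ g = 0) (hιz : ι ≫ (Adeq.underline A).map φ = 0)

include hz in
lemma g1_cond : dd f ι ≫ biprod.snd ≫ g = 0 := by
  unfold dd
  rw [biprod.lift_snd_assoc, Preadditive.neg_comp, hz, neg_zero]

include hιz in
lemma psi_cond : dd f ι ≫ biprod.fst ≫ (Adeq.underline A).map φ = 0 := by
  unfold dd
  rw [biprod.lift_fst_assoc, hιz]

/-- `G₁ → H` -/
noncomputable def g1 : G1 f ι ⟶ H := cokernel.desc (dd f ι) (biprod.snd ≫ g) (g1_cond f g ι hz)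

/-- `G₁ → underline N` -/
noncomputable def psi : G1 f ι ⟶ (Adeq.underline A).obj N :=
  cokernel.desc (dd f ι) (biprod.fst ≫ (Adeq.underline A).map φ) (psi_cond f ι φ hιz)

lemma g1_π (R : Adeq.Alg A) (v : ((Adeq.underline A).obj M ⊞ G).obj (Adeq.pt R)) :
    (g1 f g ι hz).app (Adeq.pt R) ((cokernel.π (dd f ι)).app (Adeq.pt R) v) =
      g.app (Adeq.pt R) ((biprod.snd : (Adeq.underline A).obj M ⊞ G ⟶ _).app (Adeq.pt R) v) := by
  refine (comp_app_apply _ _ R v).symm.trans ?_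
  unfold g1
  rw [eq_app_apply (cokernel.π_desc (dd f ι) _ (g1_cond f g ι hz)) R v]
  exact comp_app_apply _ _ R v

lemma psi_π (R : Adeq.Alg A) (v : ((Adeq.underline A).obj M ⊞ G).obj (Adeq.pt R)) :
    (psi f ι φ hιz).app (Adeq.pt R) ((cokernel.π (dd f ι)).app (Adeq.pt R) v) =
      ((Adeq.underline A).map φ).app (Adeq.pt R)
        ((biprod.fst : (Adeq.underline A).obj M ⊞ G ⟶ _).app (Adeq.pt R) v) := by
  refine (comp_app_apply _ _ R v).symm.trans ?_
  unfold psi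
  rw [eq_app_apply (cokernel.π_desc (dd f ι) _ (psi_cond f ι φ hιz)) R v]
  exact comp_app_apply _ _ R v

lemma f1_apply (R : Adeq.Alg A) (m : ((Adeq.underline A).obj M).obj (Adeq.pt R)) :
    (f1 f ι).app (Adeq.pt R) m = (cokernel.π (dd f ι)).app (Adeq.pt R)
      ((biprod.inl : _ ⟶ (Adeq.underline A).obj M ⊞ G).app (Adeq.pt R) m) :=
  comp_app_apply _ _ R m

lemma jG_apply (R : Adeq.Alg A) (x : G.obj (Adeq.pt R)) :
    (jG f ι).app (Adeq.pt R) x = (cokernel.π (dd f ι)).app (Adeq.pt R)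
      ((biprod.inr : _ ⟶ (Adeq.underline A).obj M ⊞ G).app (Adeq.pt R) x) :=
  comp_app_apply _ _ R x

include hz in
lemma f1_g1 : f1 f ι ≫ g1 f g ι hz = 0 := by
  unfold f1 g1
  rw [Category.assoc, cokernel.π_desc, biprod.inl_snd_assoc, zero_comp]

include hιz in
lemma jG_psi : jG f ι ≫ psi f ι φ hιz = 0 := by
  unfold jG psi
  rw [Category.assoc, cokernel.π_desc, biprod.inr_fst_assoc, zero_comp]

variable (hf : ∀ R : Adeq.Alg A, Function.Injective (f.app (Adeq.pt R)))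
  (hg : ∀ R : Adeq.Alg A, Function.Surjective (g.app (Adeq.pt R)))
  (hex : ∀ (R : Adeq.Alg A) (y : G.obj (Adeq.pt R)), g.app (Adeq.pt R) y = 0 →
      ∃ x, f.app (Adeq.pt R) x = y)
  (hι : ∀ R : Adeq.Alg A, Function.Injective (ι.app (Adeq.pt R)))
  (hιex : ∀ (R : Adeq.Alg A) (m : ((Adeq.underline A).obj M).obj (Adeq.pt R)),
      ((Adeq.underline A).map φ).app (Adeq.pt R) m = 0 → ∃ z, ι.app (Adeq.pt R) z = m)

include hf in
lemma f1_injective (R : Adeq.Alg A) : Function.Injective ((f1 f ι).app (Adeq.pt R)) := by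
  rw [injective_iff_map_eq_zero]
  intro m hm
  rw [f1_apply] at hm
  obtain ⟨z, hz1⟩ := (π_exact (dd f ι) R _).1 hm
  have h1 := dd_snd f ι R z
  rw [hz1, bp_inl_snd] at h1
  have h2 : f.app (Adeq.pt R) z = 0 := by
    rw [← neg_eq_zero]
    exact h1.symm
  have h3 : z = 0 := hf R (h2.trans (map_zero _).symm)
  have h4 := dd_fst f ι R z
  rw [hz1, bp_inl_fst, h3, map_zero] at h4
  exact h4

include hg in
lemma g1_surjective (R : Adeq.Alg A) : Function.Surjective ((g1 f g ι hz).app (Adeq.pt R)) := by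
  intro h
  obtain ⟨x, hx⟩ := hg R h
  refine ⟨(cokernel.π (dd f ι)).app (Adeq.pt R)
      ((biprod.inr : _ ⟶ (Adeq.underline A).obj M ⊞ G).app (Adeq.pt R) x), ?_⟩
  rw [g1_π, bp_inr_snd, hx]

include hex in
lemma f1_g1_exact (R : Adeq.Alg A) (y : (G1 f ι).obj (Adeq.pt R))
    (hy : (g1 f g ι hz).app (Adeq.pt R) y = 0) : ∃ m, (f1 f ι).app (Adeq.pt R) m = y := by
  obtain ⟨v, hv⟩ := π_surjective (dd f ι) R y
  rw [← hv, g1_π] at hy
  obtain ⟨z, hz1⟩ := hex R _ hy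
  have h1 : (biprod.snd : (Adeq.underline A).obj M ⊞ G ⟶ _).app (Adeq.pt R)
      (v + (dd f ι).app (Adeq.pt R) z) = 0 := by
    rw [map_add, dd_snd, hz1, add_neg_cancel]
  have h2 := bp_eq_inl_of_snd R _ h1
  refine ⟨(biprod.fst : (Adeq.underline A).obj M ⊞ G ⟶ _).app (Adeq.pt R)
      (v + (dd f ι).app (Adeq.pt R) z), ?_⟩
  rw [f1_apply, ← h2, map_add, hv, (π_exact (dd f ι) R).apply_apply_eq_zero z, add_zero]

include hι in
lemma theta'_injective (R : Adeq.Alg A) (x : G.obj (Adeq.pt R)) (hx : (jG f ι).app (Adeq.pt R) x = 0) :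
    x = 0 := by
  rw [jG_apply] at hx
  obtain ⟨z, hz1⟩ := (π_exact (dd f ι) R _).1 hx
  have h1 := dd_fst f ι R z
  rw [hz1, bp_inr_fst] at h1
  have h3 : z = 0 := hι R (h1.symm.trans (map_zero _).symm)
  have h4 := dd_snd f ι R z
  rw [hz1, bp_inr_snd, h3, map_zero, neg_zero] at h4
  exact h4

include hιex in
lemma theta'_surjective (R : Adeq.Alg A) (y : (G1 f ι).obj (Adeq.pt R))
    (hy : (psi f ι φ hιz).app (Adeq.pt R) y = 0) : ∃ x, (jG f ι).app (Adeq.pt R) x = y := by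
  obtain ⟨v, hv⟩ := π_surjective (dd f ι) R y
  rw [← hv, psi_π] at hy
  obtain ⟨z, hz1⟩ := hιex R _ hy
  have h1 : (biprod.fst : (Adeq.underline A).obj M ⊞ G ⟶ _).app (Adeq.pt R)
      (v - (dd f ι).app (Adeq.pt R) z) = 0 := by
    rw [map_sub, dd_fst, hz1, sub_self]
  have h2 := bp_eq_inr_of_fst R _ h1
  refine ⟨(biprod.snd : (Adeq.underline A).obj M ⊞ G ⟶ _).app (Adeq.pt R)
      (v - (dd f ι).app (Adeq.pt R) z), ?_⟩
  rw [jG_apply, ← h2, map_sub, hv, (π_exact (dd f ι) R).apply_apply_eq_zero z, sub_zero]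

end StepA

section Final

open Groth.Agent.Lib.Helper14.AdeqCoker

/-- an extension of adequate functors is adequate -/
theorem adequate_of_shortExact (S : ShortComplex (Adeq.MVF A)) (hS : S.ShortExact)
    (h₁ : Adeq.adequate A S.X₁) (h₃ : Adeq.adequate A S.X₃) : Adeq.adequate A S.X₂ := by
  obtain ⟨M, N, φ, ⟨i₁⟩⟩ := h₁
  obtain ⟨ι, hιdef⟩ : ∃ ι : S.X₁ ⟶ (Adeq.underline A).obj M,
      ι = i₁.hom ≫ kernel.ι ((Adeq.underline A).map φ) := ⟨_, rfl⟩
  have hιz : ι ≫ (Adeq.underline A).map φ = 0 := by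
    rw [hιdef, Category.assoc, kernel.condition, comp_zero]
  have hι : ∀ R : Adeq.Alg A, Function.Injective (ι.app (Adeq.pt R)) := by
    intro R x y hxy
    rw [hιdef, comp_app_apply, comp_app_apply] at hxy
    have h1 := ι_injective ((Adeq.underline A).map φ) R hxy
    have hx := (comp_app_apply i₁.hom i₁.inv R x).symm.trans (eq_app_apply i₁.hom_inv_id R x)
    have hy := (comp_app_apply i₁.hom i₁.inv R y).symm.trans (eq_app_apply i₁.hom_inv_id R y)
    exact hx.symm.trans ((congrArg (fun z => i₁.inv.app (Adeq.pt R) z) h1).trans hy)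
  have hιex : ∀ (R : Adeq.Alg A) (m : ((Adeq.underline A).obj M).obj (Adeq.pt R)),
      ((Adeq.underline A).map φ).app (Adeq.pt R) m = 0 → ∃ z, ι.app (Adeq.pt R) z = m := by
    intro R m hm
    obtain ⟨w, hw⟩ := (ι_exact ((Adeq.underline A).map φ) R m).1 hm
    refine ⟨i₁.inv.app (Adeq.pt R) w, ?_⟩
    rw [hιdef, comp_app_apply]
    have h1 := (comp_app_apply i₁.inv i₁.hom R w).symm.trans (eq_app_apply i₁.inv_hom_id R w)
    exact (congrArg (fun z => (kernel.ι ((Adeq.underline A).map φ)).app (Adeq.pt R) z) h1).trans hw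
  have hf := fun R => f_injective S hS R
  have hg := fun R => g_surjective S hS R
  have hex := fun R y hy => fg_exact S hS R y hy
  have hG1 : Adeq.adequate A (G1 S.f ι) :=
    adequate_of_ext_underline (f1 S.f ι) (g1 S.f S.g ι S.zero) (f1_injective S.f ι hf)
      (g1_surjective S.f S.g ι S.zero hg) (f1_g1_exact S.f S.g ι S.zero hex) (f1_g1 S.f S.g ι S.zero) h₃
  have hb : ∀ R : Adeq.Alg A, Function.Bijective
      ((kernel.lift (psi S.f ι φ hιz) (jG S.f ι) (jG_psi S.f ι φ hιz)).app (Adeq.pt R)) := by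
    intro R
    have hθι : ∀ x : S.X₂.obj (Adeq.pt R), (kernel.ι (psi S.f ι φ hιz)).app (Adeq.pt R)
        ((kernel.lift (psi S.f ι φ hιz) (jG S.f ι) (jG_psi S.f ι φ hιz)).app (Adeq.pt R) x) =
        (jG S.f ι).app (Adeq.pt R) x := by
      intro x
      refine (comp_app_apply _ _ R x).symm.trans ?_
      rw [eq_app_apply (kernel.lift_ι (psi S.f ι φ hιz) (jG S.f ι) (jG_psi S.f ι φ hιz)) R x]
    constructor
    · rw [injective_iff_map_eq_zero]
      intro x hx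
      apply theta'_injective S.f ι hι R x
      rw [← hθι, hx, map_zero]
    · intro k
      have hk : (psi S.f ι φ hιz).app (Adeq.pt R) ((kernel.ι (psi S.f ι φ hιz)).app (Adeq.pt R) k) = 0 :=
        (ι_exact (psi S.f ι φ hιz) R).apply_apply_eq_zero k
      obtain ⟨x, hx⟩ := theta'_surjective S.f ι φ hιz hιex R _ hk
      refine ⟨x, ?_⟩
      apply ι_injective (psi S.f ι φ hιz) R
      rw [hθι, hx]
  have : IsIso (kernel.lift (psi S.f ι φ hιz) (jG S.f ι) (jG_psi S.f ι φ hιz)) :=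
    isIso_of_bijective _ hb
  exact (Adeq.adequate A).prop_of_iso
    (asIso (kernel.lift (psi S.f ι φ hιz) (jG S.f ι) (jG_psi S.f ι φ hιz))).symm
    (adequate_kernel (psi S.f ι φ hιz) hG1 (adequate_underline N))

end Final

end Groth.Agent.Lib.Helper14.AdeqExt
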