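import Groth.Prelude.Def_W4stkadequateTF
import Mathlib.Algebra.Category.ModuleCat.Presheaf.Limits
import Mathlib.Algebra.Category.ModuleCat.Presheaf.Colimits
import Mathlib.Algebra.Category.ModuleCat.Presheaf.Abelian
import Mathlib.Algebra.Homology.ShortComplex.ModuleCat
import Mathlib.Algebra.Homology.ShortComplex.ExactFunctor

/-!
# Tangent functors of module-valued functors: rows of the 3×3 diagram
-/

universe u

set_option linter.unusedSectionVars false

open CategoryTheory Limits

namespace Groth.Agent.Lib.Helper14.AdeqTan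

open AdeqTF

variable {A : Type u} [CommRing A]

/-- evaluation of module-valued functors at an algebra -/
noncomputable def ev (R : Adeq.Alg A) :=
  PresheafOfModules.evaluation.{u + 1} (Adeq.ringOf A) (Adeq.pt R)

instance (R : Adeq.Alg A) : (ev R).Additive :=
  PresheafOfModules.instAdditiveModuleCatCarrierObjOppositeRingCatEvaluation _ _

noncomputable instance (R : Adeq.Alg A) : PreservesFiniteLimits (ev R) :=
  PresheafOfModules.evaluation_preservesFiniteLimits _ _

noncomputable instance (R : Adeq.Alg A) : PreservesFiniteColimits (ev R) :=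
  PresheafOfModules.Finite.evaluation_preservesFiniteColimits _ _

section Pointwise

variable (C : ShortComplex (Adeq.MVF A)) (hC : C.ShortExact) (R : Adeq.Alg A)

include hC in
lemma ptShortExact : (C.map (ev R)).ShortExact :=
  hC.map_of_exact _

include hC in
lemma f_injective : Function.Injective (C.f.app (Adeq.pt R)) := by
  have h := (ptShortExact C hC R).mono_f
  exact (ModuleCat.mono_iff_injective _).1 h

include hC in
lemma g_surjective : Function.Surjective (C.g.app (Adeq.pt R)) := by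
  have h := (ptShortExact C hC R).epi_g
  exact (ModuleCat.epi_iff_surjective _).1 h

include hC in
lemma fg_exact (y : C.X₂.obj (Adeq.pt R)) (hy : C.g.app (Adeq.pt R) y = 0) :
    ∃ x : C.X₁.obj (Adeq.pt R), C.f.app (Adeq.pt R) x = y := by
  have h := (ptShortExact C hC R).exact
  exact (ShortComplex.moduleCat_exact_iff _).1 h y hy

lemma fg_zero (x : C.X₁.obj (Adeq.pt R)) : C.g.app (Adeq.pt R) (C.f.app (Adeq.pt R) x) = 0 := by
  have h : C.f.app (Adeq.pt R) ≫ C.g.app (Adeq.pt R) = 0 := by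
    rw [← PresheafOfModules.comp_app, C.zero]
    rfl
  exact ConcreteCategory.congr_hom h x

end Pointwise

section Rows

variable (B : Adeq.Alg A) (N : ModuleCat.{u} B)

lemma mem_tangent {F : Adeq.MVF A} (x : F.obj (Adeq.pt (ext B N))) :
    x ∈ tangent B N F ↔ F.map (Adeq.ptHom (fst B N)) x = 0 := Iff.rfl

/-- the map on tangent modules induced by a morphism of module-valued functors -/
noncomputable def tmap {F G : Adeq.MVF A} (φ : F ⟶ G) : tangent B N F →+ tangent B N G :=
  ((φ.app (Adeq.pt (ext B N))).hom.toAddMonoidHom.comp (tangent B N F).subtype).codRestrict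
    (tangent B N G) (fun x => by
      obtain ⟨x, hx⟩ := x
      have hx0 : F.map (Adeq.ptHom (fst B N)) x = 0 := hx
      change G.map (Adeq.ptHom (fst B N)) (φ.app (Adeq.pt (ext B N)) x) = 0
      exact (PresheafOfModules.naturality_apply φ (Adeq.ptHom (fst B N)) x).symm.trans
        ((congrArg (fun z => φ.app (Adeq.pt B) z) hx0).trans (map_zero _)))

@[simp]
lemma tmap_coe {F G : Adeq.MVF A} (φ : F ⟶ G) (x : tangent B N F) :
    ((tmap B N φ x : tangent B N G) : G.obj (Adeq.pt (ext B N))) =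
      φ.app (Adeq.pt (ext B N)) (x : F.obj (Adeq.pt (ext B N))) := rfl

@[simp]
lemma tangentMap_coe (F : Adeq.MVF A) {N' : ModuleCat.{u} B} (g : N ⟶ N') (x : tangent B N F) :
    ((tangentMap B F g x : tangent B N' F) : F.obj (Adeq.pt (ext B N'))) =
      F.map (Adeq.ptHom (map B g)) (x : F.obj (Adeq.pt (ext B N))) := rfl

lemma tmap_tangentMap {F G : Adeq.MVF A} (φ : F ⟶ G) {N' : ModuleCat.{u} B} (g : N ⟶ N')
    (x : tangent B N F) :
    tmap B N' φ (tangentMap B F g x) = tangentMap B G g (tmap B N φ x) := by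
  apply Subtype.ext
  simp only [tmap_coe, tangentMap_coe]
  exact PresheafOfModules.naturality_apply φ (Adeq.ptHom (map B g)) _

variable (C : ShortComplex (Adeq.MVF A)) (hC : C.ShortExact)

include hC in
lemma row_inj : Function.Injective (tmap B N C.f) := by
  intro x y h
  apply Subtype.ext
  apply f_injective C hC (ext B N)
  have := congrArg Subtype.val h
  simpa using this

lemma row_zero (x : tangent B N C.X₁) : tmap B N C.g (tmap B N C.f x) = 0 := by
  apply Subtype.ext
  simp only [tmap_coe]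
  exact fg_zero C (ext B N) _

include hC in
lemma row_exact (y : tangent B N C.X₂) (hy : tmap B N C.g y = 0) :
    ∃ x : tangent B N C.X₁, tmap B N C.f x = y := by
  have hy' : C.g.app (Adeq.pt (ext B N)) (y : C.X₂.obj (Adeq.pt (ext B N))) = 0 := by
    have := congrArg Subtype.val hy
    simpa using this
  obtain ⟨x, hx⟩ := fg_exact C hC (ext B N) _ hy'
  have hxt : x ∈ tangent B N C.X₁ := by
    rw [mem_tangent]
    apply f_injective C hC B
    have hy2 : C.X₂.map (Adeq.ptHom (fst B N)) (y : C.X₂.obj (Adeq.pt (ext B N))) = 0 := y.2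
    exact ((PresheafOfModules.naturality_apply C.f (Adeq.ptHom (fst B N)) x).trans
      ((congrArg (fun z => C.X₂.map (Adeq.ptHom (fst B N)) z) hx).trans hy2)).trans
        (map_zero _).symm
  exact ⟨⟨x, hxt⟩, Subtype.ext hx⟩

lemma inl_fst : inl B N ≫ fst B N = 𝟙 B := by
  apply CommAlgCat.hom_ext
  refine AlgHom.ext fun x => ?_
  rfl

include hC in
lemma row_surj : Function.Surjective (tmap B N C.g) := by
  intro h
  obtain ⟨g, hg⟩ := g_surjective C hC (ext B N) (h : C.X₃.obj (Adeq.pt (ext B N)))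
  let g0 : C.X₂.obj (Adeq.pt B) := C.X₂.map (Adeq.ptHom (fst B N)) g
  let r : C.X₂.obj (Adeq.pt (ext B N)) := C.X₂.map (Adeq.ptHom (inl B N)) g0
  have hr : C.X₂.map (Adeq.ptHom (fst B N)) r = g0 := by
    have e : Adeq.ptHom (inl B N) ≫ Adeq.ptHom (fst B N) = 𝟙 (Adeq.pt B) := by
      change (inl B N ≫ fst B N).op.op = _
      rw [inl_fst]
      rfl
    refine (PresheafOfModules.map_comp_apply C.X₂ (Adeq.ptHom (inl B N))
      (Adeq.ptHom (fst B N)) g0).symm.trans ?_
    refine (PresheafOfModules.congr_map_apply C.X₂ e g0).trans ?_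
    exact ConcreteCategory.congr_hom (C.X₂.map_id (Adeq.pt B)) g0
  have hmem : g - r ∈ tangent B N C.X₂ := by
    rw [mem_tangent]
    refine (map_sub (ConcreteCategory.hom (C.X₂.map (Adeq.ptHom (fst B N)))) g r).trans ?_
    exact sub_eq_zero.2 hr.symm
  refine ⟨⟨g - r, hmem⟩, Subtype.ext ?_⟩
  simp only [tmap_coe]
  have h0 : C.g.app (Adeq.pt (ext B N)) r = 0 := by
    have h2 : C.X₃.map (Adeq.ptHom (fst B N)) (h : C.X₃.obj (Adeq.pt (ext B N))) = 0 := h.2
    refine (PresheafOfModules.naturality_apply C.g (Adeq.ptHom (inl B N)) g0).trans ?_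
    have h3 : C.g.app (Adeq.pt B) g0 = 0 :=
      (PresheafOfModules.naturality_apply C.g (Adeq.ptHom (fst B N)) g).trans
        ((congrArg (fun z => C.X₃.map (Adeq.ptHom (fst B N)) z) hg).trans h2)
    exact (congrArg (fun z => C.X₃.map (Adeq.ptHom (inl B N)) z) h3).trans (map_zero _)
  refine (map_sub (ConcreteCategory.hom (C.g.app (Adeq.pt (ext B N)))) g r).trans ?_
  rw [h0, sub_zero]
  exact hg

end Rows

section Functoriality

variable (B : Adeq.Alg A)

lemma map_id' (N : ModuleCat.{u} B) : map B (𝟙 N) = 𝟙 (ext B N) := by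
  apply CommAlgCat.hom_ext
  refine AlgHom.ext fun x => ?_
  apply TrivSqZeroExt.ext
  · exact TrivSqZeroExt.fst_map _ x
  · exact TrivSqZeroExt.snd_map _ x

lemma map_comp' {N N' N'' : ModuleCat.{u} B} (g : N ⟶ N') (g' : N' ⟶ N'') :
    map B (g ≫ g') = map B g ≫ map B g' := by
  apply CommAlgCat.hom_ext
  refine AlgHom.ext fun x => ?_
  apply TrivSqZeroExt.ext
  · change TrivSqZeroExt.fst (TrivSqZeroExt.map (g ≫ g').hom x) =
      TrivSqZeroExt.fst (TrivSqZeroExt.map g'.hom (TrivSqZeroExt.map g.hom x))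
    rw [TrivSqZeroExt.fst_map, TrivSqZeroExt.fst_map, TrivSqZeroExt.fst_map]
  · change TrivSqZeroExt.snd (TrivSqZeroExt.map (g ≫ g').hom x) =
      TrivSqZeroExt.snd (TrivSqZeroExt.map g'.hom (TrivSqZeroExt.map g.hom x))
    rw [TrivSqZeroExt.snd_map, TrivSqZeroExt.snd_map, TrivSqZeroExt.snd_map]
    rfl

lemma map_zero' (N N' : ModuleCat.{u} B) : map B (0 : N ⟶ N') = fst B N ≫ inl B N' := by
  apply CommAlgCat.hom_ext
  refine AlgHom.ext fun x => ?_
  apply TrivSqZeroExt.ext
  · change TrivSqZeroExt.fst (TrivSqZeroExt.map (0 : N ⟶ N').hom x) =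
      TrivSqZeroExt.fst (TrivSqZeroExt.inl (TrivSqZeroExt.fst x) : TrivSqZeroExt (B : Type u) N')
    rw [TrivSqZeroExt.fst_map, TrivSqZeroExt.fst_inl]
  · change TrivSqZeroExt.snd (TrivSqZeroExt.map (0 : N ⟶ N').hom x) =
      TrivSqZeroExt.snd (TrivSqZeroExt.inl (TrivSqZeroExt.fst x) : TrivSqZeroExt (B : Type u) N')
    rw [TrivSqZeroExt.snd_map, TrivSqZeroExt.snd_inl]
    rfl

variable (F : Adeq.MVF A)

lemma tangentMap_id (N : ModuleCat.{u} B) (x : tangent B N F) : tangentMap B F (𝟙 N) x = x := by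
  apply Subtype.ext
  simp only [tangentMap_coe]
  have e : Adeq.ptHom (map B (𝟙 N)) = 𝟙 (Adeq.pt (ext B N)) := by
    rw [map_id']; rfl
  refine (PresheafOfModules.congr_map_apply F e _).trans ?_
  exact ConcreteCategory.congr_hom (F.map_id (Adeq.pt (ext B N))) _

lemma tangentMap_comp {N N' N'' : ModuleCat.{u} B} (g : N ⟶ N') (g' : N' ⟶ N'')
    (x : tangent B N F) :
    tangentMap B F (g ≫ g') x = tangentMap B F g' (tangentMap B F g x) := by
  apply Subtype.ext
  simp only [tangentMap_coe]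
  have e : Adeq.ptHom (map B (g ≫ g')) = Adeq.ptHom (map B g) ≫ Adeq.ptHom (map B g') := by
    rw [map_comp']; rfl
  refine (PresheafOfModules.congr_map_apply F e _).trans ?_
  exact PresheafOfModules.map_comp_apply F _ _ _

lemma tangentMap_zero (N N' : ModuleCat.{u} B) (x : tangent B N F) :
    tangentMap B F (0 : N ⟶ N') x = 0 := by
  apply Subtype.ext
  simp only [tangentMap_coe]
  have e : Adeq.ptHom (map B (0 : N ⟶ N')) = Adeq.ptHom (fst B N) ≫ Adeq.ptHom (inl B N') := by
    rw [map_zero']; rfl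
  refine (PresheafOfModules.congr_map_apply F e _).trans ?_
  refine (PresheafOfModules.map_comp_apply F (Adeq.ptHom (fst B N)) (Adeq.ptHom (inl B N'))
    (x : F.obj (Adeq.pt (ext B N)))).trans ?_
  have hx : F.map (Adeq.ptHom (fst B N)) (x : F.obj (Adeq.pt (ext B N))) = 0 := x.2
  let z0 : F.obj (Adeq.pt B) := F.map (Adeq.ptHom (fst B N)) (x : F.obj (Adeq.pt (ext B N)))
  have hz0 : z0 = 0 := hx
  change F.map (Adeq.ptHom (inl B N')) z0 = 0
  rw [hz0]
  exact map_zero _

end Functoriality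

section Columns

variable (C : ShortComplex (Adeq.MVF A)) (hC : C.ShortExact)
  (B : Adeq.Alg A) (S : ShortComplex (ModuleCat.{u} B)) (hS : S.ShortExact)

lemma range_le_ker (F : Adeq.MVF A) :
    (tangentMap B F S.f).range ≤ (tangentMap B F S.g).ker := by
  rintro _ ⟨x, rfl⟩
  rw [AddMonoidHom.mem_ker, ← tangentMap_comp, S.zero, tangentMap_zero]

include hC in
theorem col_right
    (h₁ : Function.Surjective (tangentMap B C.X₁ S.g) ∧
      (tangentMap B C.X₁ S.g).ker = (tangentMap B C.X₁ S.f).range)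
    (h₂ : Function.Surjective (tangentMap B C.X₂ S.g) ∧
      (tangentMap B C.X₂ S.g).ker = (tangentMap B C.X₂ S.f).range) :
    Function.Surjective (tangentMap B C.X₃ S.g) ∧
      (tangentMap B C.X₃ S.g).ker = (tangentMap B C.X₃ S.f).range := by
  constructor
  · intro h2
    obtain ⟨g2, hg2⟩ := row_surj B S.X₃ C hC h2
    obtain ⟨g, hg⟩ := h₂.1 g2
    refine ⟨tmap B S.X₂ C.g g, ?_⟩
    rw [← tmap_tangentMap, hg, hg2]
  · apply le_antisymm
    · intro h hh
      rw [AddMonoidHom.mem_ker] at hh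
      obtain ⟨g, hg⟩ := row_surj B S.X₂ C hC h
      have e1 : tmap B S.X₃ C.g (tangentMap B C.X₂ S.g g) = 0 := by
        rw [tmap_tangentMap, hg, hh]
      obtain ⟨f2, hf2⟩ := row_exact B S.X₃ C hC _ e1
      obtain ⟨f, hf⟩ := h₁.1 f2
      have e2 : tangentMap B C.X₂ S.g (g - tmap B S.X₂ C.f f) = 0 := by
        rw [map_sub, ← tmap_tangentMap, hf, hf2, sub_self]
      have e3 : g - tmap B S.X₂ C.f f ∈ (tangentMap B C.X₂ S.f).range := by
        rw [← h₂.2, AddMonoidHom.mem_ker]
        exact e2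
      obtain ⟨g1, hg1⟩ := e3
      refine ⟨tmap B S.X₁ C.g g1, ?_⟩
      rw [← tmap_tangentMap, hg1, map_sub, hg, row_zero, sub_zero]
    · exact range_le_ker B S C.X₃

include hC in
theorem col_mid
    (h₁ : Function.Surjective (tangentMap B C.X₁ S.g) ∧
      (tangentMap B C.X₁ S.g).ker = (tangentMap B C.X₁ S.f).range)
    (h₃ : Function.Surjective (tangentMap B C.X₃ S.g) ∧
      (tangentMap B C.X₃ S.g).ker = (tangentMap B C.X₃ S.f).range) :
    Function.Surjective (tangentMap B C.X₂ S.g) ∧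
      (tangentMap B C.X₂ S.g).ker = (tangentMap B C.X₂ S.f).range := by
  constructor
  · intro g2
    obtain ⟨h, hh⟩ := h₃.1 (tmap B S.X₃ C.g g2)
    obtain ⟨g, hg⟩ := row_surj B S.X₂ C hC h
    have e1 : tmap B S.X₃ C.g (g2 - tangentMap B C.X₂ S.g g) = 0 := by
      rw [map_sub, tmap_tangentMap, hg, hh, sub_self]
    obtain ⟨f2, hf2⟩ := row_exact B S.X₃ C hC _ e1
    obtain ⟨f, hf⟩ := h₁.1 f2
    refine ⟨g + tmap B S.X₂ C.f f, ?_⟩
    rw [map_add, ← tmap_tangentMap, hf, hf2]
    abel
  · apply le_antisymm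
    · intro g hg
      rw [AddMonoidHom.mem_ker] at hg
      have e1 : tmap B S.X₂ C.g g ∈ (tangentMap B C.X₃ S.f).range := by
        rw [← h₃.2, AddMonoidHom.mem_ker, ← tmap_tangentMap, hg, map_zero]
      obtain ⟨h1, hh1⟩ := e1
      obtain ⟨g1, hg1⟩ := row_surj B S.X₁ C hC h1
      have e2 : tmap B S.X₂ C.g (g - tangentMap B C.X₂ S.f g1) = 0 := by
        rw [map_sub, tmap_tangentMap, hg1, hh1, sub_self]
      obtain ⟨f, hf⟩ := row_exact B S.X₂ C hC _ e2
      have e3 : tangentMap B C.X₂ S.g (g - tangentMap B C.X₂ S.f g1) = 0 := by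
        rw [map_sub, hg, ← tangentMap_comp, S.zero, tangentMap_zero, sub_zero]
      have e4 : tangentMap B C.X₁ S.g f = 0 := by
        apply row_inj B S.X₃ C hC
        rw [tmap_tangentMap, hf, e3, map_zero]
      have e5 : f ∈ (tangentMap B C.X₁ S.f).range := by
        rw [← h₁.2, AddMonoidHom.mem_ker]
        exact e4
      obtain ⟨f1, hf1⟩ := e5
      refine ⟨tmap B S.X₁ C.f f1 + g1, ?_⟩
      rw [map_add, ← tmap_tangentMap, hf1, hf]
      abel
    · exact range_le_ker B S C.X₂

end Columns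

end Groth.Agent.Lib.Helper14.AdeqTan
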