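import Groth.Agent.Lib.Helper14.Adeq2Prod
import Groth.Agent.Lib.Helper14.Adeq2Exact
import Groth.Agent.Lib.Helper14.AdeqExt
import Groth.Agent.Lib.Helper14.AdeqTan

universe u
open CategoryTheory CategoryTheory.Limits AlgebraicGeometry Opposite TensorProduct

namespace Groth.Agent.Lib.Helper14.Adeq2Ext

open Groth.Agent.Lib.Helper14.AdeqTan

variable {S : Scheme.{u}} (P : MorphismProperty Scheme.{u}) [P.IsStableUnderBaseChange]
  [P.IsMultiplicative] [P.RespectsLeft @IsOpenImmersion]
  (hopen : ∀ {X Y : Scheme.{u}} (f : X ⟶ Y), P f → IsOpenMap f)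
  (hflat : ∀ {X Y : Scheme.{u}} (f : X ⟶ Y), P f → Flat f)
  (K : Precoverage Scheme.{u}) [BigSite.OSh K] (hK : K = Scheme.precoverage P)
  (hZar : Scheme.zariskiPrecoverage ≤ K)
  (C : ShortComplex (BigSite.Mod K S)) (hC : C.ShortExact)
  (h₁ : ∀ (R : CommRingCat.{u}) (a : Spec R ⟶ S), Adeq.adequate R ((Adeq.toMVF K a).obj C.X₁))

include hC in
lemma mono_map (R : CommRingCat.{u}) (a : Spec R ⟶ S) : Mono ((Adeq.toMVF K a).map C.f) := by
  have := hC.mono_f
  infer_instance

include hC in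
lemma exact_map (R : CommRingCat.{u}) (a : Spec R ⟶ S) : (C.map (Adeq.toMVF K a)).Exact :=
  hC.exact.map_of_mono_of_preservesKernel (Adeq.toMVF K a) hC.mono_f inferInstance

include hC in
lemma hinj (R : CommRingCat.{u}) (a : Spec R ⟶ S) (B : Adeq.Alg R) :
    Function.Injective (((Adeq.toMVF K a).map C.f).app (Adeq.pt B)) := by
  have h0 := mono_map K C hC R a
  have h : Mono ((ev B).map ((Adeq.toMVF K a).map C.f)) := inferInstance
  exact (ModuleCat.mono_iff_injective _).1 h

include hC in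
lemma hex (R : CommRingCat.{u}) (a : Spec R ⟶ S) (B : Adeq.Alg R)
    (x : ((Adeq.toMVF K a).obj C.X₂).obj (Adeq.pt B))
    (hx : ((Adeq.toMVF K a).map C.g).app (Adeq.pt B) x = 0) :
    ∃ y, ((Adeq.toMVF K a).map C.f).app (Adeq.pt B) y = x := by
  have h1 := (exact_map K C hC R a).map_of_mono_of_preservesKernel (ev B)
    (mono_map K C hC R a) inferInstance
  exact ((ShortComplex.ShortExact.moduleCat_exact_iff_function_exact _).1 h1 x).1 hx


include hopen hflat hK hZar hC h₁ in
theorem surj_app (R : CommRingCat.{u}) (a : Spec R ⟶ S) (B : Adeq.Alg R) :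
    Function.Surjective (((Adeq.toMVF K a).map C.g).app (Adeq.pt B)) := by
  intro t
  have := hC.epi_g
  obtain ⟨s', hs'⟩ := Adeq2Prod.surj_base P hopen hflat K hK hZar C.f C.g C.zero h₁
    (fun R a B => hinj K C hC R a B) (fun R a B x hx => hex K C hC R a B x hx)
    (CommRingCat.of B) (Adeq2Shfy.a' a B) (C.X₃.val.map (Adeq2Shfy.toBase a B).inv.op t)
  refine ⟨C.X₂.val.map (Adeq2Shfy.toBase a B).hom.op s', ?_⟩
  refine (PresheafOfModules.naturality_apply C.g.val (Adeq2Shfy.toBase a B).hom.op s').trans ?_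
  have hs'' : C.g.val.app (op (Adeq2Shfy.Y1 a B)) s' =
      C.X₃.val.map (Adeq2Shfy.toBase a B).inv.op t := hs'
  rw [hs'']
  exact Adeq2Restr.map_iso_cancel' C.X₃.val (Adeq2Shfy.toBase a B) t

include hopen hflat hK hZar hC h₁ in
/-- an extension of modules with adequate values has adequate values -/
theorem adequate_mid (h₃ : ∀ (R : CommRingCat.{u}) (a : Spec R ⟶ S),
    Adeq.adequate R ((Adeq.toMVF K a).obj C.X₃)) (R : CommRingCat.{u}) (a : Spec R ⟶ S) :
    Adeq.adequate R ((Adeq.toMVF K a).obj C.X₂) := by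
  have hepi : Epi ((Adeq.toMVF K a).map C.g) :=
    PresheafOfModules.epi_of_surjective
      (fun X => surj_app P hopen hflat K hK hZar C hC h₁ R a X.unop.unop)
  have hS : (C.map (Adeq.toMVF K a)).ShortExact :=
    { exact := exact_map K C hC R a
      mono_f := mono_map K C hC R a
      epi_g := hepi }
  exact AdeqExt.adequate_of_shortExact (C.map (Adeq.toMVF K a)) hS (h₁ R a) (h₃ R a)

end Groth.Agent.Lib.Helper14.Adeq2Ext
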