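import Groth.Prelude.Def_Adeq2
import Mathlib.AlgebraicGeometry.Cover.QuasiCompact
import Mathlib.AlgebraicGeometry.Sites.Fpqc

universe u
open CategoryTheory CategoryTheory.Limits AlgebraicGeometry Opposite

namespace Groth.Agent.Lib.Helper14.Adeq2Ref

variable (P : MorphismProperty Scheme.{u}) [P.IsStableUnderBaseChange]
  [P.RespectsLeft @IsOpenImmersion]
  (hopen : ∀ {X Y : Scheme.{u}} (f : X ⟶ Y), P f → IsOpenMap f)

include hopen in
/-- refinement of the base change of a covering family by a finite affine covering family -/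
lemma exists_refinement {S : Scheme.{u}} {ι : Type u} (A : ι → CommRingCat.{u})
    (a : ∀ i, Spec (A i) ⟶ S)
    (hcov : Presieve.ofArrows (fun i => Spec (A i)) a ∈ (Scheme.precoverage P).coverings S)
    (R : CommRingCat.{u}) (b : Spec R ⟶ S) :
    ∃ (J : Type (u + 1)) (_ : Finite J) (R' : J → CommRingCat.{u}) (φ : ∀ j, R ⟶ R' j)
      (s : J → ι) (ψ : ∀ j, A (s j) ⟶ R' j),
      (∀ j, Spec.map (ψ j) ≫ a (s j) = Spec.map (φ j) ≫ b) ∧
      Presieve.ofArrows (fun j => Spec (R' j)) (fun j => Spec.map (φ j)) ∈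
        (Scheme.precoverage P).coverings (Spec R) := by
  let 𝒰₀ : S.Cover (Scheme.precoverage P) :=
    { I₀ := ι
      X := fun i => Spec (A i)
      f := a
      mem₀ := hcov }
  let 𝒰 : (Spec R).Cover (Scheme.precoverage P) := 𝒰₀.pullback₁ b
  have hq : QuasiCompactCover 𝒰.toPreZeroHypercover :=
    QuasiCompactCover.of_isOpenMap (fun i => hopen _ (Scheme.Cover.map_prop 𝒰 i))
  obtain ⟨𝒱, f, hfin, hf⟩ := QuasiCompactCover.exists_hom 𝒰
  refine ⟨ULift.{u + 1} 𝒱.I₀, inferInstance, fun j => 𝒱.X j.down,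
    fun j => Spec.preimage (𝒱.f j.down), fun j => f.s₀ j.down,
    fun j => Spec.preimage (f.h₀ j.down ≫ pullback.snd b (a (f.s₀ j.down))), ?_, ?_⟩
  · intro j
    rw [Spec.map_preimage, Spec.map_preimage]
    have h1 : f.h₀ j.down ≫ pullback.fst b (a (f.s₀ j.down)) = 𝒱.f j.down := f.w₀ j.down
    have h2 : pullback.fst b (a (f.s₀ j.down)) ≫ b = pullback.snd b (a (f.s₀ j.down)) ≫ a (f.s₀ j.down) :=
      pullback.condition
    exact ((Category.assoc _ _ _).trans ((congrArg (f.h₀ j.down ≫ ·) h2.symm).trans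
      ((Category.assoc _ _ _).symm.trans (congrArg (· ≫ b) h1))))
  · have h := 𝒱.cover.mem₀
    rw [Scheme.presieve₀_mem_precoverage_iff] at h
    rw [Scheme.ofArrows_mem_precoverage_iff]
    refine ⟨fun x => ?_, fun j => ?_⟩
    · obtain ⟨i, hi⟩ := h.1 x
      refine ⟨⟨i⟩, ?_⟩
      rw [Spec.map_preimage]
      exact hi
    · rw [Spec.map_preimage]
      exact h.2 j.down

end Groth.Agent.Lib.Helper14.Adeq2Ref
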