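import Groth.Agent.Lib.Helper14.AdeqPushFwd

/-!
# Descent of adequacy along a ring map
-/

universe u

set_option linter.unusedSectionVars false

open CategoryTheory Limits TensorProduct

namespace Groth.Agent.Lib.Helper14.AdeqDesc

open Groth.Agent.Lib.Helper14.AdeqBC Groth.Agent.Lib.Helper14.AdeqCoker
  Groth.Agent.Lib.Helper14.AdeqKer

variable (A A' : Type u) [CommRing A] [CommRing A'] [Algebra A A']

/-- `F ↦ (B ↦ F(A' ⊗ B))` -/
noncomputable abbrev T : Adeq.MVF A ⥤ Adeq.MVF A := Adeq.restr A A' ⋙ Adeq.push A A'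

/-- `B ↦ A' ⊗ B` as an `A`-algebra -/
noncomputable abbrev Phi : Adeq.Alg A ⥤ Adeq.Alg A := Adeq.Alg.baseChange A A' ⋙ Adeq.Alg.restr A A'

variable {A A'}

lemma unit_naturality {B C : Adeq.Alg A} (f : B ⟶ C) :
    f ≫ Adeq.Alg.unit A A' C = Adeq.Alg.unit A A' B ≫ (Phi A A').map f := by
  apply CommAlgCat.hom_ext
  apply DFunLike.coe_injective
  funext b
  rfl

/-- the unit `F(B) → F(A' ⊗ B)` as a morphism of module-valued functors -/
noncomputable def eta (F : Adeq.MVF A) : F ⟶ (Adeq.push A A').obj ((Adeq.restr A A').obj F) where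
  app X := F.map (Adeq.ptHom (Adeq.Alg.unit A A' X.unop.unop))
  naturality {X Y} f := by
    apply ModuleCat.hom_ext
    apply LinearMap.ext
    intro x
    have h := congrArg (fun t => Adeq.ptHom t) (unit_naturality (A' := A') f.unop.unop)
    change (ModuleCat.Hom.hom
        (F.map f ≫
          (ModuleCat.restrictScalars (RingCat.Hom.hom ((Adeq.ringOf A).map f))).map
            (F.map (Adeq.ptHom (Adeq.Alg.unit A A' (Opposite.unop (Opposite.unop Y)))))))
      x =
    (ModuleCat.Hom.hom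
        (F.map (Adeq.ptHom (Adeq.Alg.unit A A' (Opposite.unop (Opposite.unop X)))) ≫
          ((T A A').obj F).map f)) x
    have h1 := (PresheafOfModules.map_comp_apply F f
      (Adeq.ptHom (Adeq.Alg.unit A A' Y.unop.unop)) x).symm.trans
      ((PresheafOfModules.congr_map_apply F h x).trans
        (PresheafOfModules.map_comp_apply F (Adeq.ptHom (Adeq.Alg.unit A A' X.unop.unop))
          (Adeq.ptHom ((Phi A A').map f.unop.unop)) x))
    exact h1

/-- the transition maps as additive maps between the plain carriers -/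
noncomputable def mapAb {R : Type u} [CommRing R] (G : Adeq.MVF R) {B C : Adeq.Alg R} (f : B ⟶ C) :
    G.obj (Adeq.pt B) →+ G.obj (Adeq.pt C) :=
  AddMonoidHom.mk' (fun y => (G.map (Adeq.ptHom f) y : G.obj (Adeq.pt C)))
    (fun x y => map_add (G.map (Adeq.ptHom f)).hom x y)

lemma mapAb_apply {R : Type u} [CommRing R] (G : Adeq.MVF R) {B C : Adeq.Alg R} (f : B ⟶ C)
    (y : G.obj (Adeq.pt B)) : mapAb G f y = (G.map (Adeq.ptHom f) y : G.obj (Adeq.pt C)) := rfl

lemma mapAb_comp {R : Type u} [CommRing R] (G : Adeq.MVF R) {B C D : Adeq.Alg R} (f : B ⟶ C)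
    (g : C ⟶ D) (y : G.obj (Adeq.pt B)) : mapAb G (f ≫ g) y = mapAb G g (mapAb G f y) :=
  PresheafOfModules.map_comp_apply G (Adeq.ptHom f) (Adeq.ptHom g) y

section Casts

/-- the identification `G(A' ⊗ B) = (push G)(B)` -/
noncomputable def castP (G : Adeq.MVF A') (B : Adeq.Alg A) :
    G.obj (Adeq.pt ((Adeq.Alg.baseChange A A').obj B)) ≃+
      ((Adeq.push A A').obj G).obj (Adeq.pt B) := AddEquiv.refl _

/-- the identification `F(B') = (restr F)(B')` -/
noncomputable def castR (F : Adeq.MVF A) (B' : Adeq.Alg A') :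
    F.obj (Adeq.pt ((Adeq.Alg.restr A A').obj B')) ≃+
      ((Adeq.restr A A').obj F).obj (Adeq.pt B') := AddEquiv.refl _

lemma castP_mapAb (G : Adeq.MVF A') {B C : Adeq.Alg A} (f : B ⟶ C)
    (y : G.obj (Adeq.pt ((Adeq.Alg.baseChange A A').obj B))) :
    mapAb ((Adeq.push A A').obj G) f (castP G B y) =
      castP G C (mapAb G ((Adeq.Alg.baseChange A A').map f) y) := rfl

lemma castR_mapAb (F : Adeq.MVF A) {B C : Adeq.Alg A'} (f : B ⟶ C)
    (y : F.obj (Adeq.pt ((Adeq.Alg.restr A A').obj B))) :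
    mapAb ((Adeq.restr A A').obj F) f (castR F B y) =
      castR F C (mapAb F ((Adeq.Alg.restr A A').map f) y) := rfl

lemma castP_app {G H : Adeq.MVF A'} (ψ : G ⟶ H) (B : Adeq.Alg A)
    (y : G.obj (Adeq.pt ((Adeq.Alg.baseChange A A').obj B))) :
    ((Adeq.push A A').map ψ).app (Adeq.pt B) (castP G B y) =
      castP H B (ψ.app (Adeq.pt ((Adeq.Alg.baseChange A A').obj B)) y) := rfl

lemma castR_app {G H : Adeq.MVF A} (ψ : G ⟶ H) (B' : Adeq.Alg A')
    (y : G.obj (Adeq.pt ((Adeq.Alg.restr A A').obj B'))) :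
    ((Adeq.restr A A').map ψ).app (Adeq.pt B') (castR G B' y) =
      castR H B' (ψ.app (Adeq.pt ((Adeq.Alg.restr A A').obj B')) y) := rfl

lemma eta_app (G : Adeq.MVF A) (B : Adeq.Alg A) (y : G.obj (Adeq.pt B)) :
    (eta (A' := A') G).app (Adeq.pt B) y =
      castP ((Adeq.restr A A').obj G) B (castR G ((Adeq.Alg.baseChange A A').obj B)
        (mapAb G (Adeq.Alg.unit A A' B) y)) := rfl

end Casts

lemma mvf_hom_ext {X Y : Adeq.MVF A} {f g : X ⟶ Y}
    (h : ∀ (B : Adeq.Alg A) (ξ : X.obj (Adeq.pt B)), f.app (Adeq.pt B) ξ = g.app (Adeq.pt B) ξ) :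
    f = g := by
  apply PresheafOfModules.hom_ext
  intro Z
  obtain ⟨⟨B⟩⟩ := Z
  apply ModuleCat.hom_ext
  apply LinearMap.ext
  intro ξ
  exact h B ξ

attribute [irreducible] castP castR

lemma d0_apply (F : Adeq.MVF A) (B : Adeq.Alg A)
    (y₀ : F.obj (Adeq.pt ((Adeq.Alg.restr A A').obj ((Adeq.Alg.baseChange A A').obj B)))) :
    (eta (A' := A') ((Adeq.push A A').obj ((Adeq.restr A A').obj F))).app (Adeq.pt B)
      (castP ((Adeq.restr A A').obj F) B (castR F ((Adeq.Alg.baseChange A A').obj B) y₀)) =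
    castP _ B (castR _ ((Adeq.Alg.baseChange A A').obj B)
      (castP ((Adeq.restr A A').obj F) _ (castR F _
        (mapAb F ((Adeq.Alg.restr A A').map ((Adeq.Alg.baseChange A A').map
          (Adeq.Alg.unit A A' B))) y₀)))) := by
  rw [eta_app, castP_mapAb, castR_mapAb]

lemma d1_apply (F : Adeq.MVF A) (B : Adeq.Alg A)
    (y₀ : F.obj (Adeq.pt ((Adeq.Alg.restr A A').obj ((Adeq.Alg.baseChange A A').obj B)))) :
    ((Adeq.push A A').map ((Adeq.restr A A').map (eta (A' := A') F))).app (Adeq.pt B)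
      (castP ((Adeq.restr A A').obj F) B (castR F ((Adeq.Alg.baseChange A A').obj B) y₀)) =
    castP _ B (castR _ ((Adeq.Alg.baseChange A A').obj B)
      (castP ((Adeq.restr A A').obj F) _ (castR F _
        (mapAb F (Adeq.Alg.unit A A' ((Adeq.Alg.restr A A').obj
          ((Adeq.Alg.baseChange A A').obj B))) y₀)))) := by
  rw [castP_app, castR_app, eta_app]

lemma eta_naturality {F G : Adeq.MVF A} (ψ : F ⟶ G) :
    ψ ≫ eta (A' := A') G = eta F ≫ (Adeq.push A A').map ((Adeq.restr A A').map ψ) := by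
  apply mvf_hom_ext
  intro B x
  rw [comp_app_apply, comp_app_apply, eta_app, eta_app, castP_app, castR_app]
  congr 2
  exact (PresheafOfModules.naturality_apply ψ (Adeq.ptHom (Adeq.Alg.unit A A' B)) x).symm

open Groth.Agent.Lib.Helper14.AdeqRestr Groth.Agent.Lib.Helper14.AdeqPushFwd in
/-- descent of adequacy -/
theorem adequate_of_descent (F : Adeq.MVF A)
    (h₁ : Adeq.adequate A' ((Adeq.restr A A').obj F))
    (h₂ : ∀ B : Adeq.Alg A, Function.Injective (F.map (Adeq.ptHom (Adeq.Alg.unit A A' B))) ∧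
      ∀ y : F.obj (Adeq.pt ((Adeq.Alg.restr A A').obj ((Adeq.Alg.baseChange A A').obj B))),
        F.map (Adeq.ptHom (Adeq.Alg.unit A A' ((Adeq.Alg.restr A A').obj
          ((Adeq.Alg.baseChange A A').obj B)))) y =
          F.map (Adeq.ptHom ((Adeq.Alg.restr A A').map ((Adeq.Alg.baseChange A A').map
            (Adeq.Alg.unit A A' B)))) y →
        y ∈ Set.range (F.map (Adeq.ptHom (Adeq.Alg.unit A A' B)))) :
    Adeq.adequate A F := by
  have hTF : Adeq.adequate A ((Adeq.push A A').obj ((Adeq.restr A A').obj F)) :=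
    adequate_push _ h₁
  have hTTF : Adeq.adequate A ((Adeq.push A A').obj ((Adeq.restr A A').obj
      ((Adeq.push A A').obj ((Adeq.restr A A').obj F)))) :=
    adequate_push _ (adequate_restr _ hTF)
  obtain ⟨D, hD⟩ : ∃ D : (Adeq.push A A').obj ((Adeq.restr A A').obj F) ⟶
      (Adeq.push A A').obj ((Adeq.restr A A').obj ((Adeq.push A A').obj ((Adeq.restr A A').obj F))),
      D = eta (A' := A') ((Adeq.push A A').obj ((Adeq.restr A A').obj F)) -
        (Adeq.push A A').map ((Adeq.restr A A').map (eta (A' := A') F)) := ⟨_, rfl⟩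
  have hK := adequate_kernel D hTF hTTF
  have hcomp : eta (A' := A') F ≫ D = 0 := by
    rw [hD, Preadditive.comp_sub, sub_eq_zero]
    exact eta_naturality (eta (A' := A') F)
  have hκ : kernel.lift D (eta (A' := A') F) hcomp ≫ kernel.ι D = eta (A' := A') F :=
    kernel.lift_ι _ _ hcomp
  have hiso : IsIso (kernel.lift D (eta (A' := A') F) hcomp) := by
    apply isIso_of_bijective
    intro B
    constructor
    · intro x₁ x₂ h
      have h1 := congrArg (fun z => (kernel.ι D).app (Adeq.pt B) z) h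
      have h2 : (eta (A' := A') F).app (Adeq.pt B) x₁ = (eta (A' := A') F).app (Adeq.pt B) x₂ :=
        (eq_app_apply hκ B x₁).symm.trans (h1.trans (eq_app_apply hκ B x₂))
      rw [eta_app, eta_app] at h2
      have h3 := (castR F _).injective ((castP _ B).injective h2)
      exact (h₂ B).1 h3
    · intro k
      obtain ⟨y, hy⟩ : ∃ y, y = (kernel.ι D).app (Adeq.pt B) k := ⟨_, rfl⟩
      obtain ⟨y₀, hy₀⟩ : ∃ y₀ : F.obj (Adeq.pt ((Adeq.Alg.restr A A').obj
          ((Adeq.Alg.baseChange A A').obj B))),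
          castP ((Adeq.restr A A').obj F) B (castR F ((Adeq.Alg.baseChange A A').obj B) y₀) = y :=
        ⟨(castR F _).symm ((castP _ B).symm y), by
          rw [AddEquiv.apply_symm_apply, AddEquiv.apply_symm_apply]⟩
      have h0 : D.app (Adeq.pt B) y = 0 := by
        rw [hy]
        exact (ι_exact D B).apply_apply_eq_zero k
      rw [hD, ← hy₀] at h0
      have h1 : (eta (A' := A') ((Adeq.push A A').obj ((Adeq.restr A A').obj F))).app (Adeq.pt B)
          (castP ((Adeq.restr A A').obj F) B (castR F ((Adeq.Alg.baseChange A A').obj B) y₀)) =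
          ((Adeq.push A A').map ((Adeq.restr A A').map (eta (A' := A') F))).app (Adeq.pt B)
          (castP ((Adeq.restr A A').obj F) B (castR F ((Adeq.Alg.baseChange A A').obj B) y₀)) :=
        sub_eq_zero.1 h0
      rw [d0_apply, d1_apply] at h1
      have h2 := (castR F _).injective ((castP _ _).injective
        ((castR _ _).injective ((castP _ B).injective h1)))
      obtain ⟨x, hx⟩ := (h₂ B).2 y₀ h2.symm
      refine ⟨x, ?_⟩
      apply ι_injective D B
      refine (eq_app_apply hκ B x).trans ?_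
      rw [eta_app, ← hy, ← hy₀]
      exact congrArg (fun z => castP ((Adeq.restr A A').obj F) B
        (castR F ((Adeq.Alg.baseChange A A').obj B) z)) hx
  exact (Adeq.adequate A).prop_of_iso (asIso (kernel.lift D (eta (A' := A') F) hcomp)).symm hK

end Groth.Agent.Lib.Helper14.AdeqDesc
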