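import Groth.Prelude.Def_Adeq2
import Groth.Agent.Lib.Helper14.AdeqDesc

universe u
open CategoryTheory CategoryTheory.Limits AlgebraicGeometry Opposite

namespace Groth.Agent.Lib.Helper14.Adeq2Restr

open Groth.Agent.Lib.Helper14.AdeqDesc Groth.Agent.Lib.Helper14.AdeqCoker

variable (K : Precoverage Scheme.{u}) [BigSite.OSh K] {S : Scheme.{u}}
  {R R' : CommRingCat.{u}} [Algebra R R'] (a : Spec R ⟶ S) (c : Spec R' ⟶ S)
  (hac : Spec.map (CommRingCat.ofHom (algebraMap R R')) ≫ a = c)
  (P : PresheafOfModules.{u + 1} (BigSite.ORing K S).obj)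

/-- the comparison of the two objects of the big site -/
noncomputable def objIso (B' : Adeq.Alg R') :
    (Adeq.specOver c).obj (op B') ≅ (Adeq.specOver a).obj (op ((Adeq.Alg.restr R R').obj B')) :=
  Over.isoMk (Iso.refl _) (by
    subst hac
    change 𝟙 _ ≫ Spec.map (CommRingCat.ofHom ((algebraMap R' B').comp (algebraMap R R'))) ≫ a =
      Spec.map (CommRingCat.ofHom (algebraMap R' B')) ≫ Spec.map (CommRingCat.ofHom (algebraMap R R')) ≫ a
    rw [Category.id_comp, CommRingCat.ofHom_comp, Spec.map_comp, Category.assoc])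

/-- naturality of the comparison -/
noncomputable def theta : Adeq.specOver c ⟶ (Adeq.Alg.restr R R').op ⋙ Adeq.specOver a where
  app X := (objIso a c hac X.unop).hom
  naturality {X Y} f := by
    apply Over.OverMorphism.ext
    change Spec.map _ ≫ 𝟙 _ = 𝟙 _ ≫ Spec.map _
    rw [Category.comp_id, Category.id_comp]

/-- the comparison on presheaves of abelian groups -/
noncomputable def phi :
    ((Adeq.restr R R').obj ((Adeq.toMVFPre K a).obj P)).presheaf ⟶
      ((Adeq.toMVFPre K c).obj P).presheaf where
  app X := P.presheaf.map ((theta a c hac).app X.unop).op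
  naturality {X Y} f := by
    change P.presheaf.map _ ≫ P.presheaf.map _ = P.presheaf.map _ ≫ P.presheaf.map _
    rw [← P.presheaf.map_comp, ← P.presheaf.map_comp]
    congr 1


lemma toSect_compat (B' : Adeq.Alg R') (r : B') :
    (BigSite.ORing K S).obj.map (objIso a c hac B').hom.op
      (Adeq.toSect K a ((Adeq.Alg.restr R R').obj B') r) = Adeq.toSect K c B' r := by
  apply ULift.ext
  change ((Scheme.Hom.appTop (𝟙 (Spec (CommRingCat.of B')))).hom
    ((Scheme.ΓSpecIso (CommRingCat.of B')).inv.hom r)) = (Scheme.ΓSpecIso (CommRingCat.of B')).inv.hom r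
  rw [Scheme.Hom.id_appTop]
  rfl


/-- the comparison morphism of module-valued functors -/
noncomputable def restrHom :
    (Adeq.restr R R').obj ((Adeq.toMVFPre K a).obj P) ⟶ (Adeq.toMVFPre K c).obj P :=
  PresheafOfModules.homMk (phi K a c hac P) (by
    intro X r m
    obtain ⟨⟨B'⟩⟩ := X
    have h := P.map_smul (objIso a c hac B').hom.op (Adeq.toSect K a ((Adeq.Alg.restr R R').obj B') r) m
    refine h.trans ?_
    congr 1)

lemma restrHom_app (B' : Adeq.Alg R')
    (m : P.obj (op ((Adeq.specOver a).obj (op ((Adeq.Alg.restr R R').obj B'))))) :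
    (restrHom K a c hac P).app (Adeq.pt B') m = P.map (objIso a c hac B').hom.op m := rfl

section General

variable {C : Type*} [Category C] {Rg : Cᵒᵖ ⥤ RingCat} (Q : PresheafOfModules Rg)

lemma map_id_apply' (X : Cᵒᵖ) (m : Q.obj X) : Q.map (𝟙 X) m = m := by
  have h := Q.map_id X
  have h2 := congrArg (fun f => f.hom m) h
  exact h2

lemma map_iso_cancel {U V : C} (e : U ≅ V) (m : Q.obj (op V)) :
    Q.map e.inv.op (Q.map e.hom.op m) = m := by
  refine (PresheafOfModules.map_comp_apply Q e.hom.op e.inv.op m).symm.trans ?_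
  have h : e.hom.op ≫ e.inv.op = 𝟙 (op V) := by rw [← op_comp, Iso.inv_hom_id, op_id]
  exact (PresheafOfModules.congr_map_apply Q h m).trans (map_id_apply' Q _ m)

lemma map_iso_cancel' {U V : C} (e : U ≅ V) (m : Q.obj (op U)) :
    Q.map e.hom.op (Q.map e.inv.op m) = m :=
  map_iso_cancel Q e.symm m

end General

instance : IsIso (restrHom K a c hac P) := by
  apply isIso_of_bijective
  intro B'
  constructor
  · intro m₁ m₂ h
    have h' : P.map (objIso a c hac B').hom.op m₁ = P.map (objIso a c hac B').hom.op m₂ := h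
    have h2 := congrArg (fun z => P.map (objIso a c hac B').inv.op z) h'
    exact (map_iso_cancel P (objIso a c hac B') m₁).symm.trans
      (h2.trans (map_iso_cancel P (objIso a c hac B') m₂))
  · intro m
    exact ⟨P.map (objIso a c hac B').inv.op m, map_iso_cancel' P (objIso a c hac B') m⟩

/-- the comparison isomorphism -/
noncomputable def restrIso :
    (Adeq.restr R R').obj ((Adeq.toMVFPre K a).obj P) ≅ (Adeq.toMVFPre K c).obj P :=
  asIso (restrHom K a c hac P)

end Groth.Agent.Lib.Helper14.Adeq2Restr
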