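import Mathlib.CategoryTheory.Sites.SheafOfTypes
import Mathlib.CategoryTheory.Sites.Sheaf
import Mathlib.CategoryTheory.Sites.IsSheafFor
import Mathlib.Algebra.Category.Grp.Limits
import Mathlib.CategoryTheory.Limits.Shapes.Pullback.IsPullback.Basic
import Mathlib.CategoryTheory.Sites.ConcreteSheafification

universe v u

open CategoryTheory Limits Opposite

namespace Groth.Agent.Lib.Helper14.SheafFam

variable {C : Type u} [Category.{v} C] (J : GrothendieckTopology C)
  (P : Cᵒᵖ ⥤ AddCommGrpCat.{max v u}) (hP : Presheaf.IsSheaf J P)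
  {U : C} {ι : Type*} (X : ι → C) (π : ∀ i, X i ⟶ U) (hcov : Sieve.ofArrows X π ∈ J U)

include hP hcov in
lemma sheafFor : ∀ (x : ∀ i, (P ⋙ forget AddCommGrpCat.{max v u}).obj (op (X i))),
    Presieve.Arrows.Compatible (P ⋙ forget AddCommGrpCat.{max v u}) π x →
      ∃! t, ∀ i, (P ⋙ forget AddCommGrpCat.{max v u}).map (π i).op t = x i := by
  have h1 : Presheaf.IsSheaf J (P ⋙ forget AddCommGrpCat.{max v u}) :=
    (Presheaf.isSheaf_iff_isSheaf_forget J P (forget AddCommGrpCat.{max v u})).1 hP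
  have h2 : Presieve.IsSheaf J (P ⋙ forget AddCommGrpCat.{max v u}) :=
    (isSheaf_iff_isSheaf_of_type J _).1 h1
  have h3 := h2 _ hcov
  have h4 : Presieve.IsSheafFor (P ⋙ forget AddCommGrpCat.{max v u}) (Presieve.ofArrows X π) :=
    (Presieve.isSheafFor_iff_generate _).2 h3
  exact (Presieve.isSheafFor_arrows_iff _ _).1 h4

include hP hcov in
/-- separatedness -/
lemma sep (s : P.obj (op U)) (hs : ∀ i, P.map (π i).op s = 0) : s = 0 := by
  obtain ⟨t, -, ht⟩ := sheafFor J P hP X π hcov (fun i => (0 : P.obj (op (X i))))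
    (fun i j Z gi gj _ => by
      change P.map gi.op 0 = P.map gj.op 0
      rw [map_zero, map_zero])
  have e1 : s = t := ht s (fun i => hs i)
  have e2 : (0 : P.obj (op U)) = t := ht 0 (fun i => by
    change P.map (π i).op 0 = 0
    exact map_zero _)
  exact e1.trans e2.symm

variable (X2 : ι → ι → C) (p1 : ∀ i j, X2 i j ⟶ X i) (p2 : ∀ i j, X2 i j ⟶ X j)
  (hpb : ∀ (i j : ι) (Z : C) (gi : Z ⟶ X i) (gj : Z ⟶ X j), gi ≫ π i = gj ≫ π j →
    ∃ l : Z ⟶ X2 i j, l ≫ p1 i j = gi ∧ l ≫ p2 i j = gj)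

include hP hcov hpb in
/-- gluing -/
lemma glue (y : ∀ i, P.obj (op (X i)))
    (hy : ∀ i j, P.map (p1 i j).op (y i) = P.map (p2 i j).op (y j)) :
    ∃ s : P.obj (op U), ∀ i, P.map (π i).op s = y i := by
  obtain ⟨s, hs, -⟩ := sheafFor J P hP X π hcov y (fun i j Z gi gj hg => by
    change P.map gi.op (y i) = P.map gj.op (y j)
    obtain ⟨l, e1, e2⟩ := hpb i j Z gi gj hg
    have f1 : P.map gi.op (y i) = P.map l.op (P.map (p1 i j).op (y i)) := by
      rw [← e1, op_comp, Functor.map_comp]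
      rfl
    have f2 : P.map gj.op (y j) = P.map l.op (P.map (p2 i j).op (y j)) := by
      rw [← e2, op_comp, Functor.map_comp]
      rfl
    rw [f1, f2, hy i j])
  exact ⟨s, hs⟩

end Groth.Agent.Lib.Helper14.SheafFam
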