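import Groth.Prelude.Def_Adeq2
import Groth.Agent.Lib.Helper14.SheafFam
import Groth.Agent.Lib.Helper14.AdeqDesc
import Mathlib.AlgebraicGeometry.Pullbacks

universe u
open CategoryTheory CategoryTheory.Limits AlgebraicGeometry Opposite TensorProduct

namespace Groth.Agent.Lib.Helper14.Adeq2Sheaf

section Rings

variable {R : Type u} [CommRing R] (A' A'' : Type u) [CommRing A'] [CommRing A'']
  [Algebra R A'] [Algebra R A''] (B : Adeq.Alg R)

/-- `B ↦ A' ⊗ B` as an `R`-algebra -/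
noncomputable abbrev Phi : Adeq.Alg R ⥤ Adeq.Alg R := Adeq.Alg.baseChange R A' ⋙ Adeq.Alg.restr R A'

/-- the underlying ring map of a morphism of algebras -/
abbrev rh {B C : Adeq.Alg R} (f : B ⟶ C) : CommRingCat.of B ⟶ CommRingCat.of C :=
  CommRingCat.ofHom f.hom.toRingHom

lemma isPushout_gen {B C : Adeq.Alg R} (f : B ⟶ C) :
    IsPushout (rh f) (rh (Adeq.Alg.unit R A' B))
      (rh (Adeq.Alg.unit R A' C))
      (rh ((Phi A').map f)) := by
  have s : IsPushout (CommRingCat.ofHom (algebraMap R B)) (CommRingCat.ofHom (algebraMap R A'))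
      (rh (Adeq.Alg.unit R A' B))
      (CommRingCat.ofHom (Algebra.TensorProduct.includeLeftRingHom : A' →+* A' ⊗[R] B)) :=
    (CommRingCat.isPushout_tensorProduct R A' B).flip
  have t : IsPushout (CommRingCat.ofHom (algebraMap R C))
      (CommRingCat.ofHom (algebraMap R A'))
      (rh (Adeq.Alg.unit R A' C))
      (CommRingCat.ofHom (Algebra.TensorProduct.includeLeftRingHom :
        A' →+* A' ⊗[R] C)) :=
    (CommRingCat.isPushout_tensorProduct R A' C).flip
  have e : rh f ≫ rh (Adeq.Alg.unit R A' C) =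
      rh (Adeq.Alg.unit R A' B) ≫ rh ((Phi A').map f) := by
    apply CommRingCat.hom_ext
    apply RingHom.ext
    intro x
    change (1 : A') ⊗ₜ[R] (f.hom x) = Algebra.TensorProduct.map (AlgHom.id A' A') f.hom ((1 : A') ⊗ₜ[R] x)
    rw [Algebra.TensorProduct.map_tmul]
    rfl
  have e1 : CommRingCat.ofHom (algebraMap R C) =
      CommRingCat.ofHom (algebraMap R B) ≫ rh f := by
    apply CommRingCat.hom_ext
    apply RingHom.ext
    intro x
    exact (f.hom.commutes x).symm
  have e2 : CommRingCat.ofHom (Algebra.TensorProduct.includeLeftRingHom :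
        A' →+* A' ⊗[R] C) =
      CommRingCat.ofHom (Algebra.TensorProduct.includeLeftRingHom : A' →+* A' ⊗[R] B) ≫
        rh ((Phi A').map f) := by
    apply CommRingCat.hom_ext
    apply RingHom.ext
    intro x
    change x ⊗ₜ[R] (1 : C) = Algebra.TensorProduct.map (AlgHom.id A' A')
      f.hom (x ⊗ₜ[R] (1 : B))
    rw [Algebra.TensorProduct.map_tmul, map_one]
    rfl
  rw [e1, e2] at t
  exact (IsPushout.paste_horiz_iff s e).1 t

lemma isPushout_mixed :
    IsPushout (rh (Adeq.Alg.unit R A'' B)) (rh (Adeq.Alg.unit R A' B))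
      (rh (Adeq.Alg.unit R A' ((Phi A'').obj B)))
      (rh ((Phi A').map (Adeq.Alg.unit R A'' B))) :=
  isPushout_gen A' (Adeq.Alg.unit R A'' B)

end Rings


section Site

open Groth.Agent.Lib.Helper14.AdeqDesc

variable (K : Precoverage Scheme.{u}) [BigSite.OSh K] {S : Scheme.{u}} {R : CommRingCat.{u}}
  (b : Spec R ⟶ S) {J : Type*} (A' : J → Type u) [∀ j, CommRing (A' j)] [∀ j, Algebra R (A' j)]
  (B : Adeq.Alg R)

lemma hlift (j k : J) (Z : Over S)
    (gj : Z ⟶ (Adeq.specOver b).obj (op ((Phi (A' j)).obj B)))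
    (gk : Z ⟶ (Adeq.specOver b).obj (op ((Phi (A' k)).obj B)))
    (hg : gj ≫ (Adeq.specOver b).map (Adeq.Alg.unit R (A' j) B).op =
      gk ≫ (Adeq.specOver b).map (Adeq.Alg.unit R (A' k) B).op) :
    ∃ l : Z ⟶ (Adeq.specOver b).obj (op ((Phi (A' j)).obj ((Phi (A' k)).obj B))),
      l ≫ (Adeq.specOver b).map ((Phi (A' j)).map (Adeq.Alg.unit R (A' k) B)).op = gj ∧
      l ≫ (Adeq.specOver b).map (Adeq.Alg.unit R (A' j) ((Phi (A' k)).obj B)).op = gk := by
  have hpb := (isPullback_SpecMap_of_isPushout _ _ _ _ (isPushout_mixed (A' j) (A' k) B)).flip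
  have hg' : gj.left ≫ Spec.map (rh (Adeq.Alg.unit R (A' j) B)) =
      gk.left ≫ Spec.map (rh (Adeq.Alg.unit R (A' k) B)) :=
    congrArg CommaMorphism.left hg
  obtain ⟨l₀, hl₀⟩ : ∃ l₀, l₀ = hpb.lift gj.left gk.left hg' := ⟨_, rfl⟩
  have h1 : l₀ ≫ Spec.map (rh ((Phi (A' j)).map (Adeq.Alg.unit R (A' k) B))) = gj.left := by
    rw [hl₀]; exact hpb.lift_fst _ _ _
  have h2 : l₀ ≫ Spec.map (rh (Adeq.Alg.unit R (A' j) ((Phi (A' k)).obj B))) = gk.left := by
    rw [hl₀]; exact hpb.lift_snd _ _ _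
  have hw : l₀ ≫ ((Adeq.specOver b).obj (op ((Phi (A' j)).obj ((Phi (A' k)).obj B)))).hom = Z.hom := by
    have w1 := Over.w ((Adeq.specOver b).map ((Phi (A' j)).map (Adeq.Alg.unit R (A' k) B)).op)
    have w2 := Over.w gj
    refine Eq.trans ?_ w2
    refine Eq.trans ?_ (congrArg (· ≫ ((Adeq.specOver b).obj (op ((Phi (A' j)).obj B))).hom) h1)
    refine Eq.trans ?_ (Category.assoc _ _ _).symm
    exact congrArg (l₀ ≫ ·) w1.symm
  refine ⟨Over.homMk l₀ hw, ?_, ?_⟩
  · apply Over.OverMorphism.ext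
    exact h1
  · apply Over.OverMorphism.ext
    exact h2

variable (M : BigSite.Mod K S)

lemma mapAb_toMVF {B C : Adeq.Alg R} (f : B ⟶ C)
    (y : ((Adeq.toMVF K b).obj M).obj (Adeq.pt B)) :
    mapAb ((Adeq.toMVF K b).obj M) f y = M.val.presheaf.map ((Adeq.specOver b).map f.op).op y := rfl

/-- the sheaf condition for `F_{M,R}` and a covering family of flat algebras -/
theorem sheaf_h2
    (hcov : Presieve.ofArrows (fun j => Spec (CommRingCat.of ((Phi (A' j)).obj B)))
      (fun j => Spec.map (rh (Adeq.Alg.unit R (A' j) B))) ∈ K.coverings (Spec (CommRingCat.of B))) :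
    (∀ x : ((Adeq.toMVF K b).obj M).obj (Adeq.pt B),
        (∀ j, mapAb ((Adeq.toMVF K b).obj M) (Adeq.Alg.unit R (A' j) B) x = 0) → x = 0) ∧
      ∀ y : ∀ j, ((Adeq.toMVF K b).obj M).obj (Adeq.pt ((Adeq.Alg.restr R (A' j)).obj
          ((Adeq.Alg.baseChange R (A' j)).obj B))),
        (∀ j k, mapAb ((Adeq.toMVF K b).obj M) ((Adeq.Alg.restr R (A' j)).map
            ((Adeq.Alg.baseChange R (A' j)).map (Adeq.Alg.unit R (A' k) B))) (y j) =
          mapAb ((Adeq.toMVF K b).obj M) (Adeq.Alg.unit R (A' j) ((Adeq.Alg.restr R (A' k)).obj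
            ((Adeq.Alg.baseChange R (A' k)).obj B))) (y k)) →
        ∃ x, ∀ j, mapAb ((Adeq.toMVF K b).obj M) (Adeq.Alg.unit R (A' j) B) x = y j := by
  have hP : Presheaf.IsSheaf (QuotSh.J K S) M.val.presheaf := M.isSheaf
  have hc : Sieve.ofArrows (fun j => (Adeq.specOver b).obj (op ((Phi (A' j)).obj B)))
      (fun j => (Adeq.specOver b).map (Adeq.Alg.unit R (A' j) B).op) ∈
      (QuotSh.J K S) ((Adeq.specOver b).obj (op B)) := by
    rw [GrothendieckTopology.mem_over_iff, Sieve.overEquiv_ofArrows]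
    exact Precoverage.generate_mem_toGrothendieck hcov
  constructor
  · intro x hx
    exact SheafFam.sep (QuotSh.J K S) M.val.presheaf hP _ _ hc x hx
  · intro y hy
    exact SheafFam.glue (QuotSh.J K S) M.val.presheaf hP _ _ hc
      (fun j k => (Adeq.specOver b).obj (op ((Phi (A' j)).obj ((Phi (A' k)).obj B))))
      (fun j k => (Adeq.specOver b).map ((Phi (A' j)).map (Adeq.Alg.unit R (A' k) B)).op)
      (fun j k => (Adeq.specOver b).map (Adeq.Alg.unit R (A' j) ((Phi (A' k)).obj B)).op)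
      (fun j k Z gj gk hg => hlift b A' B j k Z gj gk hg) y hy

end Site

end Groth.Agent.Lib.Helper14.Adeq2Sheaf
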