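import Groth.Agent.Lib.Helper14.AdeqFam
import Groth.Agent.Lib.Helper14.Adeq2Restr
import Groth.Agent.Lib.Helper14.Adeq2Sheaf
import Groth.Agent.Lib.Helper14.Adeq2Ref

universe u
set_option linter.style.haveILetI false
open CategoryTheory CategoryTheory.Limits AlgebraicGeometry Opposite TensorProduct

namespace Groth.Agent.Lib.Helper14.Adeq2Gate

open Groth.Agent.Lib.Helper14.AdeqDesc Groth.Agent.Lib.Helper14.AdeqRestr
  Groth.Agent.Lib.Helper14.Adeq2Sheaf

section Cov

variable (K : Precoverage Scheme.{u}) [K.IsStableUnderBaseChange] {R : CommRingCat.{u}}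
  {J : Type*} (A' : J → Type u) [∀ j, CommRing (A' j)] [∀ j, Algebra R (A' j)]

/-- base change of a covering family of affine schemes along `Spec B → Spec R` -/
lemma cov_baseChange
    (hcov : Presieve.ofArrows (fun j => Spec (CommRingCat.of (A' j)))
      (fun j => Spec.map (CommRingCat.ofHom (algebraMap R (A' j)))) ∈ K.coverings (Spec R))
    (B : Adeq.Alg R) :
    Presieve.ofArrows (fun j => Spec (CommRingCat.of ((Adeq2Sheaf.Phi (A' j)).obj B)))
      (fun j => Spec.map (rh (Adeq.Alg.unit R (A' j) B))) ∈ K.coverings (Spec (CommRingCat.of B)) := by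
  refine Precoverage.mem_coverings_of_isPullback _ hcov
    (Spec.map (CommRingCat.ofHom (algebraMap R B))) _
    (fun j => Spec.map (CommRingCat.ofHom
      (Algebra.TensorProduct.includeLeftRingHom : A' j →+* A' j ⊗[R] B))) (fun j => ?_)
  exact (isPullback_SpecMap_of_isPushout _ _ _ _
    (CommRingCat.isPushout_tensorProduct R (A' j) B)).flip

end Cov


section Main

open Groth.Agent.Lib.Helper14.AdeqFam Groth.Agent.Lib.Helper14.Adeq2Restr

variable (P : MorphismProperty Scheme.{u}) [P.IsStableUnderBaseChange]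
  [P.RespectsLeft @IsOpenImmersion]
  (hopen : ∀ {X Y : Scheme.{u}} (f : X ⟶ Y), P f → IsOpenMap f)

include hopen in
/-- if `M` is adequate then `F_{M,R}` is adequate for every affine object -/
theorem adequate_toMVF (K : Precoverage Scheme.{u}) [BigSite.OSh K] (hK : K = Scheme.precoverage P)
    (S : Scheme.{u}) (M : BigSite.Mod K S) (hM : Adeq.adequateMod K S M)
    (R : CommRingCat.{u}) (b : Spec R ⟶ S) :
    Adeq.adequate R ((Adeq.toMVF K b).obj M) := by
  subst hK
  obtain ⟨ι, A, a, hcov, hadq⟩ := hM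
  obtain ⟨J, hJ, R', φ, s, ψ, hfac, hcovR⟩ :=
    Adeq2Ref.exists_refinement P hopen A a hcov R b
  letI : Fintype J := Fintype.ofFinite J
  letI : ∀ j, Algebra R (R' j) := fun j => (φ j).hom.toAlgebra
  have hφ : ∀ j, CommRingCat.ofHom (algebraMap R (R' j)) = φ j := fun j => rfl
  have hb0 : HasFiniteBiproducts (Adeq.MVF R) := Abelian.hasFiniteBiproducts
  have hb1 : HasBiproductsOfShape J (Adeq.MVF R) := inferInstance
  have hb2 : HasBiproductsOfShape (J × J) (Adeq.MVF R) := inferInstance
  apply adequate_of_family_descent (A := R) (fun j => (R' j : Type u))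
  · intro j
    letI : Algebra (A (s j)) (R' j) := (ψ j).hom.toAlgebra
    have h1 : Adeq.adequate (R' j) ((Adeq.restr (A (s j)) (R' j)).obj
        ((Adeq.toMVF (Scheme.precoverage P) (a (s j))).obj M)) :=
      adequate_restr _ (hadq (s j))
    have e1 := restrIso (Scheme.precoverage P) (a (s j)) (Spec.map (φ j) ≫ b) (hfac j) M.val
    have e2 := restrIso (Scheme.precoverage P) b (Spec.map (φ j) ≫ b) rfl M.val
    exact (Adeq.adequate (R' j)).prop_of_iso (e1 ≪≫ e2.symm) h1
  · intro B
    apply sheaf_h2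
    apply cov_baseChange
    exact hcovR

end Main

end Groth.Agent.Lib.Helper14.Adeq2Gate
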