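import Groth.Agent.Lib.Helper14.Adeq2Shfy
import Groth.Agent.Lib.Helper14.Adeq2Gate
import Mathlib.AlgebraicGeometry.Sites.Fpqc

universe u
open CategoryTheory CategoryTheory.Limits AlgebraicGeometry Opposite TensorProduct

namespace Groth.Agent.Lib.Helper14.Adeq2Fpqc

open Groth.Agent.Lib.Helper14.Adeq2Shfy

variable {S : Scheme.{u}}

/-- flat morphisms as a morphism property -/
abbrev FlatP : MorphismProperty Scheme.{u} := @Flat

/-- a sieve is good if its pullback to every affine object contains a finite flat covering family of affines -/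
def Good {Y : Over S} (T : Sieve Y) : Prop :=
  ∀ (R : CommRingCat.{u}) (a : Spec R ⟶ S) (h : X0 a ⟶ Y),
    ∃ (J : Type u) (_ : Finite J) (R' : J → CommRingCat.{u}) (φ : ∀ j, R ⟶ R' j),
      Presieve.ofArrows (fun j => Spec (R' j)) (fun j => Spec.map (φ j)) ∈
        (Scheme.precoverage FlatP.{u}).coverings (Spec R) ∧
      ∀ j, Sieve.overEquiv (X0 a) (T.pullback h) (Spec.map (φ j))

lemma good_pullback {Y Y' : Over S} (T : Sieve Y) (hT : Good T) (f : Y' ⟶ Y) : Good (T.pullback f) := by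
  intro R a h
  obtain ⟨J, hJ, R', φ, hcov, hmem⟩ := hT R a (h ≫ f)
  refine ⟨J, hJ, R', φ, hcov, fun j => ?_⟩
  rw [← Sieve.pullback_comp]
  exact hmem j

/-- refinement of a quasi-compact flat covering of an affine scheme -/
lemma exists_refinement_fpqc (R : CommRingCat.{u}) (T : Sieve (Spec R))
    (hT : T ∈ Scheme.fpqcTopology (Spec R)) :
    ∃ (J : Type u) (_ : Finite J) (R' : J → CommRingCat.{u}) (φ : ∀ j, R ⟶ R' j),
      Presieve.ofArrows (fun j => Spec (R' j)) (fun j => Spec.map (φ j)) ∈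
        (Scheme.precoverage FlatP.{u}).coverings (Spec R) ∧
      ∀ j, T (Spec.map (φ j)) := by
  have hT' := (Precoverage.mem_toGrothendieck_iff_of_isStableUnderComposition
    (J := Scheme.fpqcPrecoverage)).1 hT
  obtain ⟨R₀, hR₀, hle⟩ := hT'
  have hR₀' : R₀ ∈ Scheme.propQCPrecoverage @Flat (Spec R) := hR₀
  obtain ⟨𝒰, hq, rfl⟩ := Scheme.mem_propQCPrecoverage_iff_exists_quasiCompactCover.1 hR₀'
  have hRL : MorphismProperty.RespectsLeft (@Flat : MorphismProperty Scheme.{u}) @IsOpenImmersion :=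
    ⟨fun i hi f hf => by
      have : IsOpenImmersion i := hi
      have : Flat f := hf
      exact (inferInstance : Flat (i ≫ f))⟩
  obtain ⟨𝒱, f, hfin, hf⟩ := QuasiCompactCover.exists_hom 𝒰
  obtain ⟨n, ⟨e⟩⟩ := Finite.exists_equiv_fin 𝒱.I₀
  refine ⟨ULift.{u} (Fin n), inferInstance, fun j => 𝒱.X (e.symm j.down),
    fun j => Spec.preimage (𝒱.f (e.symm j.down)), ?_, fun j => ?_⟩
  · refine (Scheme.ofArrows_mem_precoverage_iff (P := FlatP.{u})).2 ⟨fun x => ?_, fun j => ?_⟩
    · refine ⟨⟨e (𝒱.idx x)⟩, ?_⟩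
      rw [Spec.map_preimage]
      have h := 𝒱.covers x
      rw [← e.symm_apply_apply (𝒱.idx x)] at h
      exact h
    · rw [Spec.map_preimage]
      exact 𝒱.map_prop _
  · rw [Spec.map_preimage]
    have h1 : T (𝒰.f (f.s₀ (e.symm j.down))) := hle _ _ (Presieve.ofArrows.mk _)
    have h2 := T.downward_closed h1 (f.h₀ (e.symm j.down))
    rw [f.w₀ (e.symm j.down)] at h2
    exact h2

lemma good_of_fpqc {Y : Over S} (T : Sieve Y)
    (hT : T ∈ (QuotSh.J Scheme.fpqcPrecoverage S) Y) : Good T := by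
  intro R a h
  have h1 : T.pullback h ∈ (QuotSh.J Scheme.fpqcPrecoverage S) (X0 a) :=
    (QuotSh.J Scheme.fpqcPrecoverage S).pullback_stable h hT
  rw [GrothendieckTopology.mem_over_iff] at h1
  exact exists_refinement_fpqc R _ h1

/-- a sieve on a base object containing a standard family is good -/
lemma good_std {R : CommRingCat.{u}} (a : Spec R ⟶ S) (T : Sieve (X0 a))
    {J : Type u} [Finite J] (R' : J → CommRingCat.{u}) (φ : ∀ j, R ⟶ R' j)
    (hcov : Presieve.ofArrows (fun j => Spec (R' j)) (fun j => Spec.map (φ j)) ∈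
      (Scheme.precoverage FlatP.{u}).coverings (Spec R))
    (hmem : ∀ j, Sieve.overEquiv (X0 a) T (Spec.map (φ j))) : Good T := by
  intro Rb b h
  obtain ⟨ψ, hψ⟩ : ∃ ψ : R ⟶ Rb, Spec.map ψ = h.left := ⟨Spec.preimage h.left, Spec.map_preimage _⟩
  letI : Algebra R Rb := ψ.hom.toAlgebra
  letI : ∀ j, Algebra R (R' j) := fun j => (φ j).hom.toAlgebra
  have hcov' := Adeq2Gate.cov_baseChange (Scheme.precoverage FlatP.{u})
    (fun j => (R' j : Type u)) hcov (Adeq.algOf R Rb)
  refine ⟨J, inferInstance,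
    fun j => CommRingCat.of ((Adeq2Sheaf.Phi (R' j : Type u)).obj (Adeq.algOf R Rb)),
    fun j => Adeq2Sheaf.rh (Adeq.Alg.unit R (R' j) (Adeq.algOf R Rb)), hcov', fun j => ?_⟩
  rw [Sieve.overEquiv_pullback]
  change Sieve.overEquiv (X0 a) T
    (Spec.map (Adeq2Sheaf.rh (Adeq.Alg.unit R (R' j) (Adeq.algOf R Rb))) ≫ h.left)
  have e : Spec.map (Adeq2Sheaf.rh (Adeq.Alg.unit R (R' j) (Adeq.algOf R Rb))) ≫ h.left =
      Spec.map (CommRingCat.ofHom (Algebra.TensorProduct.includeLeftRingHom :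
        (R' j : Type u) →+* (R' j : Type u) ⊗[R] Rb)) ≫ Spec.map (φ j) := by
    have ring_eq : ψ ≫ Adeq2Sheaf.rh (Adeq.Alg.unit R (R' j) (Adeq.algOf R Rb)) =
        φ j ≫ CommRingCat.ofHom (Algebra.TensorProduct.includeLeftRingHom :
          (R' j : Type u) →+* (R' j : Type u) ⊗[R] Rb) := by
      apply CommRingCat.hom_ext
      apply RingHom.ext
      intro r
      change (1 : R' j) ⊗ₜ[R] (algebraMap R Rb r) = (algebraMap R (R' j) r) ⊗ₜ[R] (1 : Rb)
      rw [Algebra.algebraMap_eq_smul_one, Algebra.algebraMap_eq_smul_one, TensorProduct.tmul_smul,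
        TensorProduct.smul_tmul']
    refine (congrArg (Spec.map (Adeq2Sheaf.rh (Adeq.Alg.unit R (R' j) (Adeq.algOf R Rb))) ≫ ·)
      hψ.symm).trans ?_
    exact (Spec.map_comp ψ (Adeq2Sheaf.rh (Adeq.Alg.unit R (R' j) (Adeq.algOf R Rb)))).symm.trans
      ((congrArg Spec.map ring_eq).trans (Spec.map_comp (φ j) _))
  exact (congrArg (fun g => (Sieve.overEquiv (X0 a) T).arrows g) e).mpr
    ((Sieve.overEquiv (X0 a) T).downward_closed (hmem j) _)

section Zar

variable (Y : Over S)

/-- members of the affine open cover of an object -/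
noncomputable def Zc (b : Y.left.affineOpenCover.I₀) : Over S :=
  X0 (Y.left.affineOpenCover.f b ≫ Y.hom)

lemma Zc_w (b : Y.left.affineOpenCover.I₀) :
    Y.left.affineOpenCover.f b ≫ Y.hom = (Zc Y b).hom := (X0_hom _).symm

/-- the inclusion of a member of the affine open cover -/
noncomputable def Zι (b : Y.left.affineOpenCover.I₀) : Zc Y b ⟶ Y :=
  Over.homMk (Y.left.affineOpenCover.f b) (Zc_w Y b)

lemma Zcov (K : Precoverage Scheme.{u}) (hZar : Scheme.zariskiPrecoverage ≤ K) :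
    Sieve.ofArrows (Zc Y) (Zι Y) ∈ (QuotSh.J K S) Y := by
  rw [GrothendieckTopology.mem_over_iff, Sieve.overEquiv_ofArrows]
  exact Precoverage.generate_mem_toGrothendieck (hZar _ Y.left.affineOpenCover.openCover.mem₀)

end Zar

section Main

variable (K : Precoverage Scheme.{u}) [BigSite.OSh K] (hZar : Scheme.zariskiPrecoverage ≤ K)
  (M : BigSite.Mod K S)
  (hadq : ∀ (R : CommRingCat.{u}) (a : Spec R ⟶ S), Adeq.adequate R ((Adeq.toMVF K a).obj M))

include hadq in
/-- separation for a sieve on a base object containing a standard family -/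
lemma std_sep {R : CommRingCat.{u}} (a : Spec R ⟶ S) (T : Sieve (X0 a))
    {J : Type u} [Finite J] (R' : J → CommRingCat.{u}) (φ : ∀ j, R ⟶ R' j)
    (hcov : Presieve.ofArrows (fun j => Spec (R' j)) (fun j => Spec.map (φ j)) ∈
      (Scheme.precoverage FlatP.{u}).coverings (Spec R))
    (hmem : ∀ j, Sieve.overEquiv (X0 a) T (Spec.map (φ j)))
    (x : M.val.obj (op (X0 a))) (hx : ∀ ⦃V : Over S⦄ (f : V ⟶ X0 a), T f → M.val.map f.op x = 0) :
    x = 0 := by
  letI : Fintype J := Fintype.ofFinite J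
  classical
  letI : ∀ j, Algebra R (R' j) := fun j => (φ j).hom.toAlgebra
  have hff := ff_of_cov FlatP.{u} (fun f hf => hf) R' φ hcov
  apply AdeqProd.fam_sep (fun j => (R' j : Type u)) ((Adeq.toMVF K a).obj M) (hadq R a) x
  intro j
  exact hx _ (mem_of_overEquiv T ((Adeq.specOver a).map (AdeqProd.sm (fun j => (R' j : Type u)) j).op)
    (hmem j))

include hadq hZar in
/-- separation for good sieves -/
lemma good_sep {Y : Over S} (T : Sieve Y) (hT : Good T) (x : M.val.obj (op Y))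
    (hx : ∀ ⦃V : Over S⦄ (f : V ⟶ Y), T f → M.val.map f.op x = 0) : x = 0 := by
  apply SheafFam.sep (QuotSh.J K S) M.val.presheaf M.isSheaf (Zc Y) (Zι Y) (Zcov Y K hZar) x
  intro b
  obtain ⟨J, hJ, R', φ, hcov, hmem⟩ := hT _ _ (Zι Y b)
  apply std_sep K M hadq _ (T.pullback (Zι Y b)) R' φ hcov hmem
  intro V f hf
  exact (PresheafOfModules.map_comp_apply M.val (Zι Y b).op f.op x).symm.trans (hx _ hf)

include hadq in
/-- the sheaf property for a standard family -/
lemma std_sheaf {R : CommRingCat.{u}} (a : Spec R ⟶ S)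
    {J : Type u} [Fintype J] [DecidableEq J] (B : J → Type u) [∀ j, CommRing (B j)]
    [∀ j, Algebra R (B j)] [hff : Module.FaithfullyFlat R (∀ j, B j)] :
    Presieve.IsSheafFor (M.val.presheaf ⋙ forget AddCommGrpCat)
      (Sieve.ofArrows (fun j => (Adeq.specOver a).obj (op (Adeq.algOf R (B j))))
        (fun j => (Adeq.specOver a).map (AdeqProd.sm B j).op) : Presieve (X0 a)) := by
  rw [Sieve.ofArrows, ← Presieve.isSheafFor_iff_generate, Presieve.isSheafFor_arrows_iff]
  intro x hx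
  have hy : ∀ j k, ((Adeq.toMVF K a).obj M).map (Adeq.ptHom (AdeqProd.iL B j k)) (x j) =
      ((Adeq.toMVF K a).obj M).map (Adeq.ptHom (AdeqProd.iR B j k)) (x k) := by
    intro j k
    refine hx j k _ ((Adeq.specOver a).map (AdeqProd.iL B j k).op)
      ((Adeq.specOver a).map (AdeqProd.iR B j k).op) ?_
    rw [← Functor.map_comp, ← Functor.map_comp, ← op_comp, ← op_comp]
    congr 2
    apply CommAlgCat.hom_ext
    exact Subsingleton.elim (α := R →ₐ[R] B j ⊗[R] B k) _ _
  obtain ⟨t, ht⟩ := AdeqProd.fam_glue B ((Adeq.toMVF K a).obj M) (hadq R a) x hy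
  refine ⟨t, ht, fun t' ht' => ?_⟩
  obtain ⟨t₁, ht₁⟩ : ∃ t₁ : ((Adeq.toMVF K a).obj M).obj (Adeq.pt (Adeq.algOf R R)), t₁ = t' := ⟨t', rfl⟩
  have h0 : t₁ - t = 0 := by
    apply AdeqProd.fam_sep B ((Adeq.toMVF K a).obj M) (hadq R a)
    intro j
    refine (map_sub (((Adeq.toMVF K a).obj M).map (Adeq.ptHom (AdeqProd.sm B j))).hom t₁ t).trans ?_
    rw [sub_eq_zero, ht₁]
    exact (ht' j).trans (ht j).symm
  exact ht₁.symm.trans (sub_eq_zero.1 h0)

include hadq hZar in
/-- the sheaf property for good sieves on base objects -/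
lemma good_sheaf_base {R : CommRingCat.{u}} (a : Spec R ⟶ S) (T : Sieve (X0 a)) (hT : Good T) :
    Presieve.IsSheafFor (M.val.presheaf ⋙ forget AddCommGrpCat) (T : Presieve (X0 a)) := by
  obtain ⟨J, hJ, R', φ, hcov, hmem⟩ := hT R a (𝟙 _)
  rw [Sieve.pullback_id] at hmem
  letI : Fintype J := Fintype.ofFinite J
  classical
  letI : ∀ j, Algebra R (R' j) := fun j => (φ j).hom.toAlgebra
  have hff := ff_of_cov FlatP.{u} (fun f hf => hf) R' φ hcov
  have hg : ∀ j, T ((Adeq.specOver a).map (AdeqProd.sm (fun j => (R' j : Type u)) j).op) :=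
    fun j => mem_of_overEquiv T _ (hmem j)
  obtain ⟨S₀, hS₀⟩ : ∃ S₀ : Sieve (X0 a), S₀ = Sieve.ofArrows
    (fun j => (Adeq.specOver a).obj (op (Adeq.algOf R (R' j))))
    (fun j => (Adeq.specOver a).map (AdeqProd.sm (fun j => (R' j : Type u)) j).op) := ⟨_, rfl⟩
  have hle : (S₀ : Presieve (X0 a)) ≤ T := by
    rw [hS₀]
    intro V f hf
    obtain ⟨W, k, g, ⟨j⟩, rfl⟩ := hf
    exact T.downward_closed (hg j) k
  have hS₀mem : ∀ j, Sieve.overEquiv (X0 a) S₀ (Spec.map (φ j)) := by
    intro j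
    rw [hS₀, Sieve.overEquiv_ofArrows]
    exact Sieve.le_generate _ _ _ (Presieve.ofArrows.mk j)
  refine Presieve.isSheafFor_subsieve_aux _ hle ?_ ?_
  · rw [hS₀]
    exact std_sheaf K M hadq a (fun j => (R' j : Type u))
  · intro Y' f hf
    have hgood : Good (S₀.pullback f) :=
      good_pullback S₀ (good_std a S₀ R' φ hcov hS₀mem) f
    intro x t₁ t₂ h₁ h₂
    obtain ⟨s₁, hs₁⟩ : ∃ s₁ : M.val.obj (op Y'), s₁ = t₁ := ⟨t₁, rfl⟩
    obtain ⟨s₂, hs₂⟩ : ∃ s₂ : M.val.obj (op Y'), s₂ = t₂ := ⟨t₂, rfl⟩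
    have h0 : s₁ - s₂ = 0 := by
      apply good_sep K hZar M hadq _ hgood
      intro V k hk
      refine (map_sub (M.val.map k.op).hom s₁ s₂).trans ?_
      rw [sub_eq_zero, hs₁, hs₂]
      exact (h₁ k hk).trans (h₂ k hk).symm
    exact hs₁.symm.trans ((sub_eq_zero.1 h0).trans hs₂)

lemma fam_congr {C : Type*} [Category C] {P : Cᵒᵖ ⥤ Type*} {X : C} {R : Presieve X}
    (x : Presieve.FamilyOfElements P R) {V : C} {f g : V ⟶ X} (h : f = g) (hf : R f) (hg : R g) :
    x f hf = x g hg := by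
  subst h
  rfl

include hadq hZar in
/-- the sheaf property for good sieves -/
lemma good_sheaf {Y : Over S} (T : Sieve Y) (hT : Good T) :
    Presieve.IsSheafFor (M.val.presheaf ⋙ forget AddCommGrpCat) (T : Presieve Y) := by
  have hG' : Presieve.IsSheaf (QuotSh.J K S) (M.val.presheaf ⋙ forget AddCommGrpCat.{u + 1}) :=
    (isSheaf_iff_isSheaf_of_type _ _).1
      ((Presheaf.isSheaf_iff_isSheaf_forget (QuotSh.J K S) M.val.presheaf
        (forget AddCommGrpCat.{u + 1})).1 M.isSheaf)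
  have hsep : ∀ {V : Over S} (T' : Sieve V), Good T' → ∀ t₁ t₂ : M.val.obj (op V),
      (∀ ⦃W : Over S⦄ (k : W ⟶ V), T' k → M.val.map k.op t₁ = M.val.map k.op t₂) → t₁ = t₂ := by
    intro V T' hT' t₁ t₂ h
    have h0 : t₁ - t₂ = 0 := by
      apply good_sep K hZar M hadq T' hT'
      intro W k hk
      refine (map_sub (M.val.map k.op).hom t₁ t₂).trans ?_
      rw [sub_eq_zero]
      exact h k hk
    exact sub_eq_zero.1 h0
  rw [← Presieve.isSeparatedFor_and_exists_isAmalgamation_iff_isSheafFor]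
  constructor
  · intro x t₁ t₂ h₁ h₂
    exact hsep T hT t₁ t₂ (fun W k hk => (h₁ k hk).trans (h₂ k hk).symm)
  · intro x hx
    have hsc := (Presieve.compatible_iff_sieveCompatible x).1 hx
    have hb : ∀ b, Presieve.IsSheafFor (M.val.presheaf ⋙ forget AddCommGrpCat.{u + 1})
        (T.pullback (Zι Y b) : Presieve (Zc Y b)) :=
      fun b => good_sheaf_base K hZar M hadq _ _ (good_pullback T hT (Zι Y b))
    obtain ⟨z, hz⟩ : ∃ z : ∀ b, (M.val.presheaf ⋙ forget AddCommGrpCat.{u + 1}).obj (op (Zc Y b)),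
        ∀ b, (x.pullback (Zι Y b)).IsAmalgamation (z b) :=
      ⟨fun b => (hb b).amalgamate (x.pullback (Zι Y b)) (hx.pullback (Zι Y b)),
        fun b => (hb b).isAmalgamation _⟩
    have hzc : Presieve.Arrows.Compatible (M.val.presheaf ⋙ forget AddCommGrpCat.{u + 1}) (Zι Y) z := by
      intro b b' Z gb gb' hg
      apply hsep (T.pullback (gb ≫ Zι Y b)) (good_pullback T hT _)
      intro W k hk
      have e1 : M.val.map k.op (M.val.map gb.op (z b)) = x ((k ≫ gb) ≫ Zι Y b)
          (by rw [Category.assoc]; exact hk) :=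
        (PresheafOfModules.map_comp_apply M.val gb.op k.op (z b)).symm.trans
          (hz b (k ≫ gb) (by change T ((k ≫ gb) ≫ Zι Y b); rw [Category.assoc]; exact hk))
      have hk' : T (k ≫ gb' ≫ Zι Y b') := by rw [← hg]; exact hk
      have e2 : M.val.map k.op (M.val.map gb'.op (z b')) = x ((k ≫ gb') ≫ Zι Y b')
          (by rw [Category.assoc]; exact hk') :=
        (PresheafOfModules.map_comp_apply M.val gb'.op k.op (z b')).symm.trans
          (hz b' (k ≫ gb') (by change T ((k ≫ gb') ≫ Zι Y b'); rw [Category.assoc]; exact hk'))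
      refine e1.trans (Eq.trans ?_ e2.symm)
      apply fam_congr
      rw [Category.assoc, Category.assoc, hg]
    have hZs : Presieve.IsSheafFor (M.val.presheaf ⋙ forget AddCommGrpCat.{u + 1})
        (Presieve.ofArrows (Zc Y) (Zι Y)) := by
      rw [Presieve.isSheafFor_iff_generate]
      exact hG' _ (Zcov Y K hZar)
    obtain ⟨t, ht, -⟩ := (Presieve.isSheafFor_arrows_iff _ _).1 hZs z hzc
    refine ⟨t, ?_⟩
    intro V f hf
    have hVs := (hG' _ ((QuotSh.J K S).pullback_stable f (Zcov Y K hZar))).isSeparatedFor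
    apply hVs.ext
    intro W k hk
    obtain ⟨b, m, hm⟩ := (Sieve.mem_ofArrows_iff _ _ _).1 hk
    have hmT : T (m ≫ Zι Y b) := by rw [← hm]; exact T.downward_closed hf k
    have e1 : (M.val.presheaf ⋙ forget AddCommGrpCat.{u + 1}).map k.op
        ((M.val.presheaf ⋙ forget AddCommGrpCat.{u + 1}).map f.op t) =
        x (m ≫ Zι Y b) hmT := by
      have h1 : M.val.map k.op (M.val.map f.op t) = M.val.map (k ≫ f).op t :=
        (PresheafOfModules.map_comp_apply M.val f.op k.op t).symm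
      have h2 : M.val.map (k ≫ f).op t = M.val.map (m ≫ Zι Y b).op t := by rw [hm]
      have h3 : M.val.map (m ≫ Zι Y b).op t = M.val.map m.op (M.val.map (Zι Y b).op t) :=
        PresheafOfModules.map_comp_apply M.val (Zι Y b).op m.op t
      have h4 : M.val.map (Zι Y b).op t = z b := ht b
      refine h1.trans (h2.trans (h3.trans ?_))
      rw [h4]
      exact hz b m hmT
    refine e1.trans ?_
    refine Eq.trans ?_ (hsc f k hf)
    exact fam_congr x hm.symm _ _

include hadq hZar in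
/-- an adequate module is a sheaf for the fpqc topology -/
theorem isSheaf_fpqc :
    Presheaf.IsSheaf (QuotSh.J Scheme.fpqcPrecoverage S) M.val.presheaf := by
  rw [Presheaf.isSheaf_iff_isSheaf_forget (QuotSh.J Scheme.fpqcPrecoverage S) M.val.presheaf
    (forget AddCommGrpCat.{u + 1}), isSheaf_iff_isSheaf_of_type]
  intro Y T hT
  exact good_sheaf K hZar M hadq T (good_of_fpqc T hT)

end Main

end Groth.Agent.Lib.Helper14.Adeq2Fpqc
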