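import Mathlib.LinearAlgebra.TensorProduct.Pi
import Mathlib.RingTheory.Flat.FaithfullyFlat.Algebra
import Mathlib.RingTheory.TensorProduct.Basic

universe u v w
open TensorProduct

namespace Groth.Agent.Lib.Helper14.PiTensor

variable {R : Type u} [CommRing R] {J : Type v} [Fintype J] [DecidableEq J]
  (A : J → Type w) [∀ j, CommRing (A j)] [∀ j, Algebra R (A j)]
  (N : Type*) [AddCommGroup N] [Module R N]

/-- projection to the `j`-th factor, tensored with `N` -/
noncomputable def prj (j : J) : (∀ i, A i) ⊗[R] N →ₗ[R] A j ⊗[R] N :=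
  (LinearMap.proj j : (∀ i, A i) →ₗ[R] A j).rTensor N

@[simp] lemma prj_tmul (j : J) (a : ∀ i, A i) (n : N) :
    prj A N j (a ⊗ₜ[R] n) = a j ⊗ₜ[R] n := rfl

lemma piLeft_apply (z : (∀ i, A i) ⊗[R] N) (j : J) :
    TensorProduct.piLeft R N A z j = prj A N j z := by
  induction z using TensorProduct.induction_on with
  | zero => simp
  | tmul a n => simp [prj_tmul]
  | add x y hx hy => rw [map_add, map_add, Pi.add_apply, hx, hy]

lemma prj_jointly_injective (z : (∀ i, A i) ⊗[R] N) (h : ∀ j, prj A N j z = 0) : z = 0 := by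
  apply (TensorProduct.piLeft R N A).injective
  rw [map_zero]
  funext j
  rw [piLeft_apply, h j]
  rfl

lemma prj_jointly_surjective (y : ∀ j, A j ⊗[R] N) : ∃ z, ∀ j, prj A N j z = y j := by
  refine ⟨(TensorProduct.piLeft R N A).symm y, fun j => ?_⟩
  rw [← piLeft_apply, LinearEquiv.apply_symm_apply]

lemma prj_eq (j : J) :
    prj A N j = (Pi.evalAlgHom R A j).toLinearMap.rTensor N := rfl

/-- projection to the `(j,k)`-th factor of the double product, tensored with `N` -/
noncomputable def prj2 (j k : J) :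
    ((∀ i, A i) ⊗[R] (∀ i, A i)) ⊗[R] N →ₗ[R] (A j ⊗[R] A k) ⊗[R] N :=
  (Algebra.TensorProduct.map (Pi.evalAlgHom R A j) (Pi.evalAlgHom R A k)).toLinearMap.rTensor N

omit [Fintype J] [DecidableEq J] in
@[simp] lemma prj2_tmul (j k : J) (a b : ∀ i, A i) (n : N) :
    prj2 A N j k ((a ⊗ₜ[R] b) ⊗ₜ[R] n) = (a j ⊗ₜ[R] b k) ⊗ₜ[R] n := rfl

omit [Fintype J] [DecidableEq J] in
lemma prj2_comp (j k : J) :
    (prj A (A j ⊗[R] N) k) ∘ₗ (TensorProduct.leftComm R (A j) (∀ i, A i) N).toLinearMap ∘ₗ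
      (prj A ((∀ i, A i) ⊗[R] N) j) ∘ₗ (TensorProduct.assoc R (∀ i, A i) (∀ i, A i) N).toLinearMap =
    (TensorProduct.leftComm R (A j) (A k) N).toLinearMap ∘ₗ
      (TensorProduct.assoc R (A j) (A k) N).toLinearMap ∘ₗ prj2 A N j k := by
  apply TensorProduct.ext_threefold
  intro a b n
  rfl

lemma prj2_jointly_injective (z : ((∀ i, A i) ⊗[R] (∀ i, A i)) ⊗[R] N)
    (h : ∀ j k, prj2 A N j k z = 0) : z = 0 := by
  apply (TensorProduct.assoc R (∀ i, A i) (∀ i, A i) N).injective
  rw [map_zero]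
  apply prj_jointly_injective A ((∀ i, A i) ⊗[R] N)
  intro j
  apply (TensorProduct.leftComm R (A j) (∀ i, A i) N).injective
  rw [map_zero]
  apply prj_jointly_injective A (A j ⊗[R] N)
  intro k
  have e := LinearMap.congr_fun (prj2_comp A N j k) z
  simp only [LinearMap.coe_comp, Function.comp_apply, LinearEquiv.coe_coe] at e
  rw [e, h j k, map_zero, map_zero]

omit [DecidableEq J] in
lemma flat_pi [∀ j, Module.Flat R (A j)] : Module.Flat R (∀ j, A j) := by
  classical
  exact Module.Flat.of_linearEquiv (DFinsupp.linearEquivFunOnFintype (R := R) (M := A)).symm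

omit [DecidableEq J] in
lemma faithfullyFlat_pi [∀ j, Module.Flat R (A j)]
    (hsurj : ∀ p : PrimeSpectrum R, ∃ j, ∃ q : PrimeSpectrum (A j),
      PrimeSpectrum.comap (algebraMap R (A j)) q = p) :
    Module.FaithfullyFlat R (∀ j, A j) := by
  have := flat_pi (R := R) A
  apply Module.FaithfullyFlat.of_comap_surjective
  intro p
  obtain ⟨j, q, hq⟩ := hsurj p
  refine ⟨PrimeSpectrum.comap (Pi.evalRingHom A j) q, ?_⟩
  rw [← hq]
  rfl

end Groth.Agent.Lib.Helper14.PiTensor
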