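import Groth.Agent.Lib.Helper14.AdeqAmitsur
import Groth.Agent.Lib.Helper14.PiTensor

universe u
open CategoryTheory CategoryTheory.Limits TensorProduct

namespace Groth.Agent.Lib.Helper14.AdeqProd

open Groth.Agent.Lib.Helper14.AdeqBC Groth.Agent.Lib.Helper14.AdeqKer
  Groth.Agent.Lib.Helper14.AdeqAmitsur Groth.Agent.Lib.Helper14.PiTensor

variable {A : Type u} [CommRing A]

/-- an adequate functor embeds in a module functor as the kernel of a linear map -/
theorem exists_embedding (F : Adeq.MVF A) (hF : Adeq.adequate A F) :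
    ∃ (P Q : ModuleCat.{u + 1} A) (φ : P ⟶ Q) (ψ : F ⟶ (Adeq.underline A).obj P),
      (∀ C : Adeq.Alg A, Function.Injective (ψ.app (Adeq.pt C))) ∧
      (∀ (C : Adeq.Alg A) (v : ((Adeq.underline A).obj P).obj (Adeq.pt C)),
        ((Adeq.underline A).map φ).app (Adeq.pt C) v = 0 → ∃ x, ψ.app (Adeq.pt C) x = v) ∧
      (∀ (C : Adeq.Alg A) (x : F.obj (Adeq.pt C)),
        ((Adeq.underline A).map φ).app (Adeq.pt C) (ψ.app (Adeq.pt C) x) = 0) := by
  obtain ⟨P, Q, φ, ⟨e⟩⟩ := hF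
  let ψ : F ⟶ (Adeq.underline A).obj P := e.hom ≫ kernel.ι ((Adeq.underline A).map φ)
  have hψφ : ψ ≫ (Adeq.underline A).map φ = 0 := by
    simp only [ψ, Category.assoc, kernel.condition, comp_zero]
  refine ⟨P, Q, φ, ψ, ?_, ?_, ?_⟩
  · intro C x₁ x₂ h
    have h1 : (kernel.ι ((Adeq.underline A).map φ)).app (Adeq.pt C) (e.hom.app (Adeq.pt C) x₁) =
        (kernel.ι ((Adeq.underline A).map φ)).app (Adeq.pt C) (e.hom.app (Adeq.pt C) x₂) := h
    have h2 := ι_injective ((Adeq.underline A).map φ) C h1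
    have h3 := congrArg (fun z => e.inv.app (Adeq.pt C) z) h2
    simp only [] at h3
    rw [← comp_app_apply, ← comp_app_apply, e.hom_inv_id] at h3
    exact h3
  · intro C v hv
    obtain ⟨k, hk⟩ := (ι_exact ((Adeq.underline A).map φ) C v).1 hv
    refine ⟨e.inv.app (Adeq.pt C) k, ?_⟩
    change (kernel.ι ((Adeq.underline A).map φ)).app (Adeq.pt C)
      (e.hom.app (Adeq.pt C) (e.inv.app (Adeq.pt C) k)) = v
    rw [← comp_app_apply e.inv e.hom, e.inv_hom_id]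
    exact hk
  · intro C x
    exact eq_app_apply hψφ C x

lemma nat_apply {F G : Adeq.MVF A} (ψ : F ⟶ G) {C D : Adeq.Alg A} (f : C ⟶ D)
    (x : F.obj (Adeq.pt C)) :
    ψ.app (Adeq.pt D) (F.map (Adeq.ptHom f) x) = G.map (Adeq.ptHom f) (ψ.app (Adeq.pt C) x) :=
  PresheafOfModules.naturality_apply ψ (Adeq.ptHom f) x

section Prod

variable {J : Type u} [Fintype J] [DecidableEq J] (B : J → Type u) [∀ j, CommRing (B j)]
  [∀ j, Algebra A (B j)] (F : Adeq.MVF A) (hF : Adeq.adequate A F)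

/-- projection from the product algebra -/
noncomputable abbrev pr (j : J) : Adeq.algOf A (∀ i, B i) ⟶ Adeq.algOf A (B j) :=
  CommAlgCat.ofHom (Pi.evalAlgHom A B j)

/-- projection from the double product algebra -/
noncomputable abbrev pr2 (j k : J) :
    Adeq.algOf A ((∀ i, B i) ⊗[A] (∀ i, B i)) ⟶ Adeq.algOf A (B j ⊗[A] B k) :=
  CommAlgCat.ofHom (Algebra.TensorProduct.map (Pi.evalAlgHom A B j) (Pi.evalAlgHom A B k))

include hF in
theorem prod_inj (y : F.obj (Adeq.pt (Adeq.algOf A (∀ i, B i))))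
    (h : ∀ j, F.map (Adeq.ptHom (pr B j)) y = 0) : y = 0 := by
  obtain ⟨P, Q, φ, ψ, hinj, hsurj, hz⟩ := exists_embedding F hF
  apply hinj
  rw [map_zero]
  apply prj_jointly_injective B P
  intro j
  have e := nat_apply ψ (pr B j) y
  rw [h j] at e
  exact e.symm.trans (map_zero (ψ.app (Adeq.pt (Adeq.algOf A (B j)))).hom)

include hF in
theorem prod2_inj (y : F.obj (Adeq.pt (Adeq.algOf A ((∀ i, B i) ⊗[A] (∀ i, B i)))))
    (h : ∀ j k, F.map (Adeq.ptHom (pr2 B j k)) y = 0) : y = 0 := by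
  obtain ⟨P, Q, φ, ψ, hinj, hsurj, hz⟩ := exists_embedding F hF
  apply hinj
  rw [map_zero]
  apply prj2_jointly_injective B P
  intro j k
  have e := nat_apply ψ (pr2 B j k) y
  rw [h j k] at e
  exact e.symm.trans (map_zero (ψ.app (Adeq.pt (Adeq.algOf A (B j ⊗[A] B k)))).hom)

include hF in
theorem prod2_ext (y₁ y₂ : F.obj (Adeq.pt (Adeq.algOf A ((∀ i, B i) ⊗[A] (∀ i, B i)))))
    (h : ∀ j k, F.map (Adeq.ptHom (pr2 B j k)) y₁ = F.map (Adeq.ptHom (pr2 B j k)) y₂) : y₁ = y₂ := by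
  rw [← sub_eq_zero]
  apply prod2_inj B F hF
  intro j k
  rw [map_sub, sub_eq_zero]
  exact h j k

include hF in
theorem prod_surj (y : ∀ j, F.obj (Adeq.pt (Adeq.algOf A (B j)))) :
    ∃ x : F.obj (Adeq.pt (Adeq.algOf A (∀ i, B i))), ∀ j, F.map (Adeq.ptHom (pr B j)) x = y j := by
  obtain ⟨P, Q, φ, ψ, hinj, hsurj, hz⟩ := exists_embedding F hF
  obtain ⟨z, hz1⟩ := prj_jointly_surjective B P (fun j => ψ.app (Adeq.pt (Adeq.algOf A (B j))) (y j))
  have hz0 : ((Adeq.underline A).map φ).app (Adeq.pt (Adeq.algOf A (∀ i, B i))) z = 0 := by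
    apply prj_jointly_injective B Q
    intro j
    have e := nat_apply ((Adeq.underline A).map φ) (pr B j) z
    refine e.symm.trans ?_
    have e2 : ((Adeq.underline A).obj P).map (Adeq.ptHom (pr B j)) z =
        ψ.app (Adeq.pt (Adeq.algOf A (B j))) (y j) := hz1 j
    rw [e2]
    exact hz _ _
  obtain ⟨x, hx⟩ := hsurj (Adeq.algOf A (∀ i, B i)) z hz0
  refine ⟨x, fun j => ?_⟩
  apply hinj (Adeq.algOf A (B j))
  refine (nat_apply ψ (pr B j) x).trans ?_
  rw [hx]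
  exact hz1 j

end Prod

lemma map_congr (F : Adeq.MVF A) {C D : Adeq.Alg A} {f g : C ⟶ D} (h : f = g)
    (x : F.obj (Adeq.pt C)) :
    F.map (Adeq.ptHom f) x = F.map (Adeq.ptHom g) x := by
  subst h
  rfl

lemma map_map (F : Adeq.MVF A) {C D E : Adeq.Alg A} (f : C ⟶ D) (g : D ⟶ E)
    (x : F.obj (Adeq.pt C)) :
    F.map (Adeq.ptHom g) (F.map (Adeq.ptHom f) x) = F.map (Adeq.ptHom (f ≫ g)) x :=
  (PresheafOfModules.map_comp_apply F (Adeq.ptHom f) (Adeq.ptHom g) x).symm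

section Fam

variable {J : Type u} [Fintype J] [DecidableEq J] (B : J → Type u) [∀ j, CommRing (B j)]
  [∀ j, Algebra A (B j)] [hff : Module.FaithfullyFlat A (∀ i, B i)]
  (F : Adeq.MVF A) (hF : Adeq.adequate A F)

/-- structure map -/
noncomputable abbrev sm (j : J) : Adeq.algOf A A ⟶ Adeq.algOf A (B j) :=
  CommAlgCat.ofHom (Algebra.ofId A (B j))

/-- left inclusion -/
noncomputable abbrev iL (j k : J) : Adeq.algOf A (B j) ⟶ Adeq.algOf A (B j ⊗[A] B k) :=
  CommAlgCat.ofHom (Algebra.TensorProduct.includeLeft : B j →ₐ[A] B j ⊗[A] B k)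

/-- right inclusion -/
noncomputable abbrev iR (j k : J) : Adeq.algOf A (B k) ⟶ Adeq.algOf A (B j ⊗[A] B k) :=
  CommAlgCat.ofHom (Algebra.TensorProduct.includeRight : B k →ₐ[A] B j ⊗[A] B k)

include hF hff in
theorem fam_sep (x : F.obj (Adeq.pt (Adeq.algOf A A)))
    (hx : ∀ j, F.map (Adeq.ptHom (sm B j)) x = 0) : x = 0 := by
  apply (amitsur_adequate (∀ i, B i) F hF).1
  refine Eq.trans ?_ (map_zero (F.map (Adeq.ptHom (CommAlgCat.ofHom (Algebra.ofId A (∀ i, B i)) :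
    Adeq.algOf A A ⟶ Adeq.algOf A (∀ i, B i)))).hom).symm
  apply prod_inj B F hF
  intro j
  refine (map_map F (CommAlgCat.ofHom (Algebra.ofId A (∀ i, B i)) : Adeq.algOf A A ⟶ Adeq.algOf A (∀ i, B i)) (pr B j) x).trans ?_
  refine Eq.trans ?_ (hx j)
  apply map_congr
  apply CommAlgCat.hom_ext
  apply AlgHom.ext
  intro a
  rfl

include hF hff in
theorem fam_glue (y : ∀ j, F.obj (Adeq.pt (Adeq.algOf A (B j))))
    (hy : ∀ j k, F.map (Adeq.ptHom (iL B j k)) (y j) = F.map (Adeq.ptHom (iR B j k)) (y k)) :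
    ∃ x : F.obj (Adeq.pt (Adeq.algOf A A)), ∀ j, F.map (Adeq.ptHom (sm B j)) x = y j := by
  obtain ⟨y', hy'⟩ := prod_surj B F hF y
  have key : F.map (Adeq.ptHom (CommAlgCat.ofHom
        (Algebra.TensorProduct.includeLeft : (∀ i, B i) →ₐ[A] (∀ i, B i) ⊗[A] (∀ i, B i)) :
          Adeq.algOf A (∀ i, B i) ⟶ Adeq.algOf A ((∀ i, B i) ⊗[A] (∀ i, B i)))) y' =
      F.map (Adeq.ptHom (CommAlgCat.ofHom
        (Algebra.TensorProduct.includeRight : (∀ i, B i) →ₐ[A] (∀ i, B i) ⊗[A] (∀ i, B i)) :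
          Adeq.algOf A (∀ i, B i) ⟶ Adeq.algOf A ((∀ i, B i) ⊗[A] (∀ i, B i)))) y' := by
    apply prod2_ext B F hF
    intro j k
    refine (map_map F (CommAlgCat.ofHom
        (Algebra.TensorProduct.includeLeft : (∀ i, B i) →ₐ[A] (∀ i, B i) ⊗[A] (∀ i, B i)) :
          Adeq.algOf A (∀ i, B i) ⟶ Adeq.algOf A ((∀ i, B i) ⊗[A] (∀ i, B i))) (pr2 B j k) y').trans ?_
    refine Eq.trans ?_ (map_map F (CommAlgCat.ofHom
        (Algebra.TensorProduct.includeRight : (∀ i, B i) →ₐ[A] (∀ i, B i) ⊗[A] (∀ i, B i)) :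
          Adeq.algOf A (∀ i, B i) ⟶ Adeq.algOf A ((∀ i, B i) ⊗[A] (∀ i, B i))) (pr2 B j k) y').symm
    have e1 : (CommAlgCat.ofHom
        (Algebra.TensorProduct.includeLeft : (∀ i, B i) →ₐ[A] (∀ i, B i) ⊗[A] (∀ i, B i)) :
          Adeq.algOf A (∀ i, B i) ⟶ Adeq.algOf A ((∀ i, B i) ⊗[A] (∀ i, B i))) ≫ pr2 B j k =
        pr B j ≫ iL B j k := by
      apply CommAlgCat.hom_ext
      apply AlgHom.ext
      intro a
      rfl
    have e2 : (CommAlgCat.ofHom
        (Algebra.TensorProduct.includeRight : (∀ i, B i) →ₐ[A] (∀ i, B i) ⊗[A] (∀ i, B i)) :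
          Adeq.algOf A (∀ i, B i) ⟶ Adeq.algOf A ((∀ i, B i) ⊗[A] (∀ i, B i))) ≫ pr2 B j k =
        pr B k ≫ iR B j k := by
      apply CommAlgCat.hom_ext
      apply AlgHom.ext
      intro a
      rfl
    refine (map_congr F e1 y').trans ?_
    refine Eq.trans ?_ (map_congr F e2 y').symm
    refine (map_map F (pr B j) (iL B j k) y').symm.trans ?_
    refine Eq.trans ?_ (map_map F (pr B k) (iR B j k) y')
    rw [hy' j, hy' k]
    exact hy j k
  obtain ⟨x, hx⟩ := (amitsur_adequate (∀ i, B i) F hF).2 y' key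
  refine ⟨x, fun j => ?_⟩
  rw [← hy' j, ← hx]
  refine Eq.trans ?_ (map_map F (CommAlgCat.ofHom (Algebra.ofId A (∀ i, B i)) : Adeq.algOf A A ⟶ Adeq.algOf A (∀ i, B i)) (pr B j) x).symm
  apply map_congr
  apply CommAlgCat.hom_ext
  apply AlgHom.ext
  intro a
  rfl

include hF hff in
/-- a locally bijective map out of an adequate functor into a separated functor is surjective on the base -/
theorem glue_abstract (G : Adeq.MVF A) (ψ : F ⟶ G)
    (hinj : ∀ C : Adeq.Alg A, Function.Injective (ψ.app (Adeq.pt C)))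
    (hsep : ∀ x₁ x₂ : G.obj (Adeq.pt (Adeq.algOf A A)),
      (∀ j, G.map (Adeq.ptHom (sm B j)) x₁ = G.map (Adeq.ptHom (sm B j)) x₂) → x₁ = x₂)
    (t : G.obj (Adeq.pt (Adeq.algOf A A))) (s : ∀ j, F.obj (Adeq.pt (Adeq.algOf A (B j))))
    (hs : ∀ j, ψ.app (Adeq.pt (Adeq.algOf A (B j))) (s j) = G.map (Adeq.ptHom (sm B j)) t) :
    ∃ s0, ψ.app (Adeq.pt (Adeq.algOf A A)) s0 = t := by
  have hcompat : ∀ j k, F.map (Adeq.ptHom (iL B j k)) (s j) = F.map (Adeq.ptHom (iR B j k)) (s k) := by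
    intro j k
    apply hinj (Adeq.algOf A (B j ⊗[A] B k))
    refine (nat_apply ψ (iL B j k) (s j)).trans ?_
    refine Eq.trans ?_ (nat_apply ψ (iR B j k) (s k)).symm
    rw [hs j, hs k]
    refine (map_map G (sm B j) (iL B j k) t).trans ?_
    refine Eq.trans ?_ (map_map G (sm B k) (iR B j k) t).symm
    apply map_congr
    apply CommAlgCat.hom_ext
    exact Subsingleton.elim (α := A →ₐ[A] B j ⊗[A] B k) _ _
  obtain ⟨s0, hs0⟩ := fam_glue B F hF s hcompat
  refine ⟨s0, hsep _ _ (fun j => ?_)⟩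
  refine (nat_apply ψ (sm B j) s0).symm.trans ?_
  rw [hs0 j]
  exact hs j

end Fam

end Groth.Agent.Lib.Helper14.AdeqProd
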