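import Groth.Prelude.Def_Adeq2
import Groth.Agent.Lib.Helper14.Adeq2Ref
import Groth.Agent.Lib.Helper14.Adeq2Sheaf
import Groth.Agent.Lib.Helper14.Adeq2Restr
import Groth.Agent.Lib.Helper14.AdeqProd

universe u
open CategoryTheory CategoryTheory.Limits AlgebraicGeometry Opposite TensorProduct

namespace Groth.Agent.Lib.Helper14.Adeq2Shfy

section Ref

variable (P : MorphismProperty Scheme.{u}) [P.IsStableUnderBaseChange]
  [P.RespectsLeft @IsOpenImmersion]
  (hopen : ∀ {X Y : Scheme.{u}} (f : X ⟶ Y), P f → IsOpenMap f)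

include hopen in
/-- refinement of a covering of an affine scheme by a finite affine covering family -/
lemma exists_refinement_of_cover (R : CommRingCat.{u})
    (𝒰 : Scheme.Cover.{u} (Scheme.precoverage P) (Spec R)) :
    ∃ (J : Type u) (_ : Finite J) (R' : J → CommRingCat.{u}) (φ : ∀ j, R ⟶ R' j),
      (∀ j, ∃ (i : 𝒰.I₀) (h : Spec (R' j) ⟶ 𝒰.X i), h ≫ 𝒰.f i = Spec.map (φ j)) ∧
      Presieve.ofArrows (fun j => Spec (R' j)) (fun j => Spec.map (φ j)) ∈
        (Scheme.precoverage P).coverings (Spec R) := by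
  have hq : QuasiCompactCover 𝒰.toPreZeroHypercover :=
    QuasiCompactCover.of_isOpenMap (fun i => hopen _ (Scheme.Cover.map_prop 𝒰 i))
  obtain ⟨𝒱, f, hfin, hf⟩ := QuasiCompactCover.exists_hom.{u} 𝒰
  refine ⟨𝒱.I₀, hfin, fun j => 𝒱.X j, fun j => Spec.preimage (𝒱.f j), ?_, ?_⟩
  · intro j
    refine ⟨f.s₀ j, f.h₀ j, ?_⟩
    rw [Spec.map_preimage]
    exact f.w₀ j
  · have h := 𝒱.cover.mem₀
    rw [Scheme.presieve₀_mem_precoverage_iff] at h
    rw [Scheme.ofArrows_mem_precoverage_iff]
    refine ⟨fun x => ?_, fun j => ?_⟩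
    · obtain ⟨i, hi⟩ := h.1 x
      refine ⟨i, ?_⟩
      rw [Spec.map_preimage]
      exact hi
    · rw [Spec.map_preimage]
      exact h.2 j

end Ref

section Fam

variable (P : MorphismProperty Scheme.{u}) [P.IsStableUnderBaseChange] [P.IsMultiplicative]
  [P.RespectsLeft @IsOpenImmersion]
  (hopen : ∀ {X Y : Scheme.{u}} (f : X ⟶ Y), P f → IsOpenMap f)
  {S : Scheme.{u}} {R : CommRingCat.{u}} (a : Spec R ⟶ S)

/-- the base object `Spec R → S` of the big site -/
noncomputable abbrev X0 : Over S := (Adeq.specOver a).obj (op (Adeq.algOf R R))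

include hopen in
lemma exists_family (T : Sieve (X0 a)) (hT : T ∈ (QuotSh.J (Scheme.precoverage P) S) (X0 a)) :
    ∃ (J : Type u) (_ : Finite J) (R' : J → CommRingCat.{u}) (φ : ∀ j, R ⟶ R' j),
      Presieve.ofArrows (fun j => Spec (R' j)) (fun j => Spec.map (φ j)) ∈
        (Scheme.precoverage P).coverings (Spec R) ∧
      ∀ j, Sieve.overEquiv (X0 a) T (Spec.map (φ j)) := by
  rw [GrothendieckTopology.mem_over_iff] at hT
  obtain ⟨𝒰, h𝒰⟩ := (Scheme.mem_grothendieckTopology_iff (P := P)).1 hT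
  obtain ⟨J, hJ, R', φ, hfac, hcov⟩ := exists_refinement_of_cover P hopen R 𝒰
  refine ⟨J, hJ, R', φ, hcov, fun j => ?_⟩
  obtain ⟨i, h, e⟩ := hfac j
  have h1 : Sieve.overEquiv (X0 a) T (𝒰.f i) := h𝒰 _ _ (Presieve.ofArrows.mk i)
  have h2 := (Sieve.overEquiv (X0 a) T).downward_closed h1 h
  exact (congrArg (fun g : Spec (R' j) ⟶ (X0 a).left => ((Sieve.overEquiv (X0 a)) T).arrows g) e).mp h2

end Fam

section FF

variable (P : MorphismProperty Scheme.{u})
  (hflat : ∀ {X Y : Scheme.{u}} (f : X ⟶ Y), P f → Flat f)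
  {R : CommRingCat.{u}} {J : Type u} [Fintype J] (R' : J → CommRingCat.{u}) (φ : ∀ j, R ⟶ R' j)
  (hcov : Presieve.ofArrows (fun j => Spec (R' j)) (fun j => Spec.map (φ j)) ∈
        (Scheme.precoverage P).coverings (Spec R))

include hflat hcov in
lemma flat_of_cov (j : J) : (φ j).hom.Flat := by
  rw [Scheme.ofArrows_mem_precoverage_iff] at hcov
  exact Flat.SpecMap_iff.1 (hflat _ (hcov.2 j))

include hflat hcov in
lemma ff_of_cov :
    letI : ∀ j, Algebra R (R' j) := fun j => (φ j).hom.toAlgebra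
    Module.FaithfullyFlat R (∀ j, R' j) := by
  letI : ∀ j, Algebra R (R' j) := fun j => (φ j).hom.toAlgebra
  have hfl : ∀ j, Module.Flat R (R' j) := fun j => flat_of_cov P hflat R' φ hcov j
  apply PiTensor.faithfullyFlat_pi
  intro p
  rw [Scheme.ofArrows_mem_precoverage_iff] at hcov
  obtain ⟨j, q, hq⟩ := hcov.1 p
  exact ⟨j, q, hq⟩

end FF

lemma mem_of_overEquiv {S : Scheme.{u}} {Y : Over S} (T : Sieve Y) {Z : Over S} (g : Z ⟶ Y)
    (h : Sieve.overEquiv Y T g.left) : T g := by
  have h1 := (Sieve.overEquiv_symm_iff (Sieve.overEquiv Y T) g).2 h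
  rwa [OrderIso.symm_apply_apply] at h1

section Main

variable (P : MorphismProperty Scheme.{u}) [P.IsStableUnderBaseChange] [P.IsMultiplicative]
  [P.RespectsLeft @IsOpenImmersion]
  (hopen : ∀ {X Y : Scheme.{u}} (f : X ⟶ Y), P f → IsOpenMap f)
  (hflat : ∀ {X Y : Scheme.{u}} (f : X ⟶ Y), P f → Flat f)
  (K : Precoverage Scheme.{u}) [BigSite.OSh K] (hK : K = Scheme.precoverage P)
  {S : Scheme.{u}}
  (Pm : PresheafOfModules.{u + 1} (BigSite.ORing K S).obj) (Q : BigSite.Mod K S)
  (η : Pm ⟶ Q.val)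
  [hinj : Presheaf.IsLocallyInjective (QuotSh.J K S) ((PresheafOfModules.toPresheaf _).map η)]
  [hsurj : Presheaf.IsLocallySurjective (QuotSh.J K S) ((PresheafOfModules.toPresheaf _).map η)]
  (hadq : ∀ (R : CommRingCat.{u}) (a : Spec R ⟶ S), Adeq.adequate R ((Adeq.toMVFPre K a).obj Pm))

include hopen hflat hK hinj hadq in
theorem inj_base (R : CommRingCat.{u}) (a : Spec R ⟶ S) (x : Pm.obj (op (X0 a)))
    (hx : η.app (op (X0 a)) x = 0) : x = 0 := by
  subst hK
  have hT := Presheaf.equalizerSieve_mem (QuotSh.J (Scheme.precoverage P) S)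
    ((PresheafOfModules.toPresheaf _).map η) (X := op (X0 a)) x 0 (hx.trans (map_zero _).symm)
  obtain ⟨J, hJ, R', φ, hcov, hmem⟩ := exists_family P hopen a _ hT
  letI : Fintype J := Fintype.ofFinite J
  classical
  letI : ∀ j, Algebra R (R' j) := fun j => (φ j).hom.toAlgebra
  have hff := ff_of_cov P hflat R' φ hcov
  apply AdeqProd.fam_sep (fun j => (R' j : Type u)) ((Adeq.toMVFPre (Scheme.precoverage P) a).obj Pm)
    (hadq R a) x
  intro j
  have h1 := mem_of_overEquiv _ ((Adeq.specOver a).map (AdeqProd.sm (fun j => (R' j : Type u)) j).op) (hmem j)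
  exact h1.trans (map_zero _)

lemma X0_hom {R : CommRingCat.{u}} (a : Spec R ⟶ S) : (X0 a).hom = a := by
  change Spec.map (CommRingCat.ofHom (RingHom.id R)) ≫ a = a
  rw [CommRingCat.ofHom_id, Spec.map_id, Category.id_comp]

/-- the structure morphism of `Spec C` -/
noncomputable def a' {R : CommRingCat.{u}} (a : Spec R ⟶ S) (C : Adeq.Alg R) :
    Spec (CommRingCat.of C) ⟶ S :=
  Spec.map (CommRingCat.ofHom (algebraMap R C)) ≫ a

/-- the base object attached to `Spec C` -/
noncomputable def Y1 {R : CommRingCat.{u}} (a : Spec R ⟶ S) (C : Adeq.Alg R) : Over S := X0 (a' a C)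

lemma Y1_hom {R : CommRingCat.{u}} (a : Spec R ⟶ S) (C : Adeq.Alg R) :
    (Y1 a C).hom = a' a C := X0_hom _

lemma so_hom {R : CommRingCat.{u}} (a : Spec R ⟶ S) (C : Adeq.Alg R) :
    ((Adeq.specOver a).obj (op C)).hom = a' a C := rfl

lemma tb_w {R : CommRingCat.{u}} (a : Spec R ⟶ S) (C : Adeq.Alg R) :
    (Iso.refl (Spec (CommRingCat.of C))).hom ≫ (Y1 a C).hom = ((Adeq.specOver a).obj (op C)).hom := by
  rw [so_hom, Y1_hom]
  exact Category.id_comp _

/-- comparison of a general affine object with a base object -/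
noncomputable def toBase {R : CommRingCat.{u}} (a : Spec R ⟶ S) (C : Adeq.Alg R) :
    (Adeq.specOver a).obj (op C) ≅ Y1 a C :=
  Over.isoMk (Iso.refl (Spec (CommRingCat.of C))) (tb_w a C)

include hopen hflat hK hinj hadq in
theorem inj_gen (R : CommRingCat.{u}) (a : Spec R ⟶ S) (C : Adeq.Alg R)
    (x : Pm.obj (op ((Adeq.specOver a).obj (op C))))
    (hx : η.app (op ((Adeq.specOver a).obj (op C))) x = 0) : x = 0 := by
  have h1 : Pm.map (toBase a C).inv.op x = 0 := by
    apply inj_base P hopen hflat K hK Pm Q η hadq (CommRingCat.of C) (a' a C)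
    refine (PresheafOfModules.naturality_apply η (toBase a C).inv.op x).trans ?_
    rw [hx]
    exact map_zero (Q.val.map (toBase a C).inv.op).hom
  have h2 := Adeq2Restr.map_iso_cancel' Pm (toBase a C) x
  rw [← h2, h1]
  exact map_zero (Pm.map (toBase a C).hom.op).hom

include hopen hflat hK hinj hadq in
theorem inj_app (R : CommRingCat.{u}) (a : Spec R ⟶ S) (C : Adeq.Alg R) :
    Function.Injective (((Adeq.toMVFPre K a).map η).app (Adeq.pt C)) := by
  refine (injective_iff_map_eq_zero (((Adeq.toMVFPre K a).map η).app (Adeq.pt C)).hom).2 ?_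
  intro x hx
  exact inj_gen P hopen hflat K hK Pm Q η hadq R a C x hx

include hopen hflat hK hinj hsurj hadq in
theorem surj_base (R : CommRingCat.{u}) (a : Spec R ⟶ S)
    (t : ((Adeq.toMVFPre K a).obj Q.val).obj (Adeq.pt (Adeq.algOf R R))) :
    ∃ s, ((Adeq.toMVFPre K a).map η).app (Adeq.pt (Adeq.algOf R R)) s = t := by
  have hinjapp := inj_app P hopen hflat K hK Pm Q η hadq R a
  subst hK
  have hT := Presheaf.imageSieve_mem (QuotSh.J (Scheme.precoverage P) S)
    ((PresheafOfModules.toPresheaf _).map η) (U := op (X0 a)) t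
  obtain ⟨J, hJ, R', φ, hcov, hmem⟩ := exists_family P hopen a _ hT
  letI : Fintype J := Fintype.ofFinite J
  classical
  letI : ∀ j, Algebra R (R' j) := fun j => (φ j).hom.toAlgebra
  have hff := ff_of_cov P hflat R' φ hcov
  have h1 : ∀ j, ∃ s : ((Adeq.toMVFPre (Scheme.precoverage P) a).obj Pm).obj
      (Adeq.pt (Adeq.algOf R (R' j))),
      ((Adeq.toMVFPre (Scheme.precoverage P) a).map η).app (Adeq.pt (Adeq.algOf R (R' j))) s =
        ((Adeq.toMVFPre (Scheme.precoverage P) a).obj Q.val).map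
          (Adeq.ptHom (AdeqProd.sm (fun j => (R' j : Type u)) j)) t := fun j =>
    mem_of_overEquiv _ ((Adeq.specOver a).map (AdeqProd.sm (fun j => (R' j : Type u)) j).op) (hmem j)
  choose s hs using h1
  have hc : Sieve.ofArrows (fun j => (Adeq.specOver a).obj (op (Adeq.algOf R (R' j))))
      (fun j => (Adeq.specOver a).map (AdeqProd.sm (fun j => (R' j : Type u)) j).op) ∈
      (QuotSh.J (Scheme.precoverage P) S) (X0 a) := by
    rw [GrothendieckTopology.mem_over_iff, Sieve.overEquiv_ofArrows]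
    exact Precoverage.generate_mem_toGrothendieck hcov
  refine AdeqProd.glue_abstract (fun j => (R' j : Type u))
    ((Adeq.toMVFPre (Scheme.precoverage P) a).obj Pm) (hadq R a)
    ((Adeq.toMVFPre (Scheme.precoverage P) a).obj Q.val)
    ((Adeq.toMVFPre (Scheme.precoverage P) a).map η) hinjapp ?_ t s hs
  intro x₁ x₂ h
  rw [← sub_eq_zero]
  apply SheafFam.sep (QuotSh.J (Scheme.precoverage P) S) Q.val.presheaf Q.isSheaf _ _ hc
  intro j
  refine (map_sub (Q.val.presheaf.map
    ((Adeq.specOver a).map (AdeqProd.sm (fun j => (R' j : Type u)) j).op).op).hom x₁ x₂).trans ?_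
  rw [sub_eq_zero]
  exact h j

include hopen hflat hK hinj hsurj hadq in
theorem surj_app (R : CommRingCat.{u}) (a : Spec R ⟶ S) (C : Adeq.Alg R) :
    Function.Surjective (((Adeq.toMVFPre K a).map η).app (Adeq.pt C)) := by
  intro t
  have t0 : Q.val.obj (op ((Adeq.specOver a).obj (op C))) := t
  obtain ⟨s', hs'⟩ := surj_base P hopen hflat K hK Pm Q η hadq (CommRingCat.of C) (a' a C)
    (Q.val.map (toBase a C).inv.op t)
  refine ⟨Pm.map (toBase a C).hom.op s', ?_⟩
  refine (PresheafOfModules.naturality_apply η (toBase a C).hom.op s').trans ?_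
  have hs'' : η.app (op (Y1 a C)) s' = Q.val.map (toBase a C).inv.op t := hs'
  rw [hs'']
  exact Adeq2Restr.map_iso_cancel' Q.val (toBase a C) t

include hopen hflat hK hinj hsurj hadq in
theorem isIso_map (R : CommRingCat.{u}) (a : Spec R ⟶ S) :
    IsIso ((Adeq.toMVFPre K a).map η) := by
  apply AdeqCoker.isIso_of_bijective
  intro C
  exact ⟨inj_app P hopen hflat K hK Pm Q η hadq R a C, surj_app P hopen hflat K hK Pm Q η hadq R a C⟩

include hopen hflat hK hinj hsurj hadq in
/-- the target of a locally bijective map out of a presheaf of modules with adequate values is adequate -/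
theorem adequateMod_of_locallyBijective : Adeq.adequateMod K S Q := by
  refine ⟨S.affineOpenCover.I₀, S.affineOpenCover.X, S.affineOpenCover.f, ?_, fun i => ?_⟩
  · subst hK
    have h := S.affineOpenCover.openCover.mem₀
    rw [Scheme.presieve₀_mem_precoverage_iff] at h
    rw [Scheme.ofArrows_mem_precoverage_iff]
    refine ⟨h.1, fun j => ?_⟩
    have h2 := MorphismProperty.RespectsLeft.precomp (P := P) (Q := @IsOpenImmersion)
      (S.affineOpenCover.f j) (h.2 j) (𝟙 S) (P.id_mem S)
    exact (Category.comp_id (S.affineOpenCover.f j)) ▸ h2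
  · have hiso := isIso_map P hopen hflat K hK Pm Q η hadq _ (S.affineOpenCover.f i)
    exact (Adeq.adequate _).prop_of_iso
      (@asIso _ _ _ _ ((Adeq.toMVFPre K (S.affineOpenCover.f i)).map η) hiso) (hadq _ _)

end Main

end Groth.Agent.Lib.Helper14.Adeq2Shfy
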