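import Groth.Agent.Lib.Helper14.AdeqTan
import Mathlib.RingTheory.Flat.Basic
import Mathlib.RingTheory.RingHom.Flat

/-!
# Base change maps of module-valued functors; flat base change for kernels of `underline` maps
-/

universe u

set_option linter.unusedSectionVars false

open CategoryTheory Limits TensorProduct

namespace Groth.Agent.Lib.Helper14.AdeqBC

open Groth.Agent.Lib.Helper14.AdeqTan

variable {A : Type u} [CommRing A] {B B' : Adeq.Alg A} (f : B ⟶ B')

/-- extension of scalars along `f` -/
noncomputable abbrev E : ModuleCat.{u + 1} B ⥤ ModuleCat.{u + 1} B' :=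
  ModuleCat.extendScalars.{u, u, u + 1} f.hom.toRingHom

lemma bc_naturality {F G : Adeq.MVF A} (ψ : F ⟶ G) :
    (E f).map (ψ.app (Adeq.pt B)) ≫ G.bc f = F.bc f ≫ ψ.app (Adeq.pt B') := by
  unfold Adeq.MVF.bc
  rw [← Adjunction.homEquiv_naturality_left_symm, ← Adjunction.homEquiv_naturality_right_symm]
  congr 1
  exact (ψ.naturality (Adeq.ptHom f)).symm

open ChangeOfRings

set_option backward.isDefEq.respectTransparency false in
lemma bc_tmul (F : Adeq.MVF A) (s : B') (x : F.obj (Adeq.pt B)) :
    F.bc f (s ⊗ₜ[B, f.hom.toRingHom] x) = s • F.map (Adeq.ptHom f) x := rfl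

set_option backward.isDefEq.respectTransparency false in
lemma E_map_tmul {X Y : ModuleCat.{u + 1} B} (g : X ⟶ Y) (s : B') (x : X) :
    (E f).map g (s ⊗ₜ[B, f.hom.toRingHom] x) = s ⊗ₜ[B, f.hom.toRingHom] g x := rfl

set_option backward.isDefEq.respectTransparency false in
lemma E_map_injective (hf : f.hom.toRingHom.Flat) {X Y : ModuleCat.{u + 1} B} (g : X ⟶ Y)
    (hg : Function.Injective g) : Function.Injective ((E f).map g) := by
  let _ := f.hom.toRingHom.toAlgebra
  have : Module.Flat B B' := hf
  exact Module.Flat.lTensor_preserves_injective_linearMap (M := B') g.hom hg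

set_option backward.isDefEq.respectTransparency false in
lemma E_map_exact (hf : f.hom.toRingHom.Flat) {X Y Z : ModuleCat.{u + 1} B} (g : X ⟶ Y) (h : Y ⟶ Z)
    (hgh : Function.Exact g h) : Function.Exact ((E f).map g) ((E f).map h) := by
  let _ := f.hom.toRingHom.toAlgebra
  have : Module.Flat B B' := hf
  exact Module.Flat.lTensor_exact (M := B') hgh

section Underline

variable (M : ModuleCat.{u + 1} A)

lemma underline_map_apply {B B' : Adeq.Alg A} (f : B ⟶ B') (b : B) (m : M) :
    ((Adeq.underline A).obj M).map (Adeq.ptHom f) (b ⊗ₜ[A] m : (B : Type u) ⊗[A] M) =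
      (f.hom b ⊗ₜ[A] m : (B' : Type u) ⊗[A] M) := rfl

lemma underline_smul_tmul (B : Adeq.Alg A) (c b : B) (m : M) :
    (c • (b ⊗ₜ[A] m : ((Adeq.underline A).obj M).obj (Adeq.pt B))) =
      ((c * b) ⊗ₜ[A] m : (B : Type u) ⊗[A] M) := rfl

set_option backward.isDefEq.respectTransparency false in
lemma bc_underline_bijective :
    Function.Bijective (((Adeq.underline A).obj M).bc f) := by
  let _ := f.hom.toRingHom.toAlgebra
  have : IsScalarTower A B B' :=
    IsScalarTower.of_algebraMap_eq (fun a => (f.hom.commutes a).symm)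
  let e := TensorProduct.AlgebraTensorModule.cancelBaseChange A B B' B' M
  have he : ∀ z, ((Adeq.underline A).obj M).bc f z = e z := by
    intro z
    induction z using TensorProduct.induction_on with
    | zero => rw [map_zero, map_zero]
    | add x y hx hy => rw [map_add, map_add, hx, hy]
    | tmul s x =>
      change (B' : Type u) at s
      induction x using TensorProduct.induction_on with
      | zero => rw [TensorProduct.tmul_zero, map_zero, map_zero]
      | add x y hx hy => rw [TensorProduct.tmul_add, map_add, map_add, hx, hy]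
      | tmul b m =>
        refine (bc_tmul f ((Adeq.underline A).obj M) s (b ⊗ₜ[A] m : (B : Type u) ⊗[A] M)).trans ?_
        refine (congrArg (fun z => s • z) (underline_map_apply M f b m)).trans ?_
        refine (underline_smul_tmul M B' (s : (B' : Type u)) (f.hom b) m).trans ?_
        refine Eq.trans ?_ (TensorProduct.AlgebraTensorModule.cancelBaseChange_tmul A B B' (s : (B' : Type u)) m b).symm
        rw [mul_comm]
        rfl
  constructor
  · intro z z' h
    apply e.injective
    rw [← he, ← he, h]
  · intro y
    obtain ⟨z, hz⟩ := e.surjective y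
    exact ⟨z, (he z).trans hz⟩

end Underline

section Ker

variable {X Y : Adeq.MVF A} (ψ : X ⟶ Y)

/-- the left exact sequence `0 → ker ψ → X → Y` -/
noncomputable def kerSC : ShortComplex (Adeq.MVF A) :=
  ShortComplex.mk (kernel.ι ψ) ψ (kernel.condition ψ)

lemma kerSC_exact : (kerSC ψ).Exact :=
  ShortComplex.exact_of_f_is_kernel _ (kernelIsKernel ψ)

lemma kerSC_pt_exact (R : Adeq.Alg A) : ((kerSC ψ).map (ev R)).Exact :=
  (kerSC_exact ψ).map_of_mono_of_preservesKernel (ev R)
    (inferInstanceAs (Mono (kernel.ι ψ))) inferInstance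

lemma ι_injective (R : Adeq.Alg A) : Function.Injective ((kernel.ι ψ).app (Adeq.pt R)) := by
  have h : Mono ((ev R).map (kernel.ι ψ)) := inferInstance
  exact (ModuleCat.mono_iff_injective _).1 h

lemma ι_exact (R : Adeq.Alg A) :
    Function.Exact ((kernel.ι ψ).app (Adeq.pt R)) (ψ.app (Adeq.pt R)) :=
  (ShortComplex.ShortExact.moduleCat_exact_iff_function_exact _).1 (kerSC_pt_exact ψ R)

end Ker

section Main

variable {X Y : Adeq.MVF A} (ψ : X ⟶ Y)

include f in
/-- flat base change for a kernel: if `X` has bijective and `Y` injective base change maps along a flat `f`, then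
so has `ker ψ` -/
theorem bc_kernel_bijective (hf : f.hom.toRingHom.Flat)
    (hX : Function.Bijective (X.bc f)) (hY : Function.Injective (Y.bc f)) :
    Function.Bijective ((kernel ψ).bc f) := by
  have n1 := bc_naturality f (kernel.ι ψ)
  have n2 := bc_naturality f ψ
  have hEι : Function.Injective ((E f).map ((kernel.ι ψ).app (Adeq.pt B))) :=
    E_map_injective f hf _ (ι_injective ψ B)
  have hEex := E_map_exact f hf _ _ (ι_exact ψ B)
  constructor
  · intro z z' h
    apply hEι
    apply hX.1
    have e1 := ConcreteCategory.congr_hom n1 z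
    have e2 := ConcreteCategory.congr_hom n1 z'
    simp only [ConcreteCategory.comp_apply] at e1 e2
    rw [e1, e2, h]
  · intro y
    obtain ⟨w, hw⟩ := hX.2 ((kernel.ι ψ).app (Adeq.pt B') y)
    have hw0 : (E f).map (ψ.app (Adeq.pt B)) w = 0 := by
      apply hY
      have e3 := ConcreteCategory.congr_hom n2 w
      simp only [ConcreteCategory.comp_apply] at e3
      rw [e3, hw, map_zero]
      exact (ι_exact ψ B').apply_apply_eq_zero y
    obtain ⟨z, hz⟩ := (hEex w).1 hw0
    refine ⟨z, ι_injective ψ B' ?_⟩
    have e1 := ConcreteCategory.congr_hom n1 z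
    simp only [ConcreteCategory.comp_apply] at e1
    rw [← e1, hz, hw]

end Main

end Groth.Agent.Lib.Helper14.AdeqBC
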