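import Groth.Prelude.Def_Adeq2
import Groth.Agent.S8740
import Groth.Agent.Lib.Helper14.SheafFam
import Groth.Agent.Lib.Helper14.Adeq2Shfy

universe u
open CategoryTheory CategoryTheory.Limits AlgebraicGeometry Opposite TensorProduct

namespace Groth.Agent.Lib.Helper14.Adeq2Par

variable {S : Scheme.{u}} (K : Precoverage Scheme.{u}) [BigSite.OSh K] (M : BigSite.Mod K S)

/-- values at isomorphic objects -/
lemma subsingleton_of_iso {X Y : Over S} (e : X ≅ Y) (h : Subsingleton (M.val.obj (op X))) :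
    Subsingleton (M.val.obj (op Y)) := by
  refine ⟨fun x y => ?_⟩
  have hx := Adeq2Restr.map_iso_cancel' M.val e.symm x
  have hy := Adeq2Restr.map_iso_cancel' M.val e.symm y
  rw [← hx, ← hy]
  congr 1
  exact h.elim _ _

/-- flat base change of a vanishing value of an adequate functor vanishes -/
lemma subsingleton_of_flat {A : Type u} [CommRing A] (F : Adeq.MVF A) (hF : Adeq.adequate A F)
    (B : Type u) [CommRing B] [Algebra A B] [Module.Flat A B]
    (h : Subsingleton (F.obj (Adeq.pt (Adeq.algOf A A)))) :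
    Subsingleton (F.obj (Adeq.pt (Adeq.algOf A B))) := by
  let f : Adeq.algOf A A ⟶ Adeq.algOf A B := CommAlgCat.ofHom (Algebra.ofId A B)
  have hf : f.hom.toRingHom.Flat := by
    change (algebraMap A B).Flat
    exact (RingHom.flat_algebraMap_iff).2 inferInstance
  have hiso := Groth.Agent.S8740.result A F hF f hf
  have hz : IsZero (F.obj (Adeq.pt (Adeq.algOf A A))) := ModuleCat.isZero_of_subsingleton _
  have hadj : (ModuleCat.extendScalars.{u, u, u + 1} f.hom.toRingHom).IsLeftAdjoint :=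
    (ModuleCat.extendRestrictScalarsAdj.{u + 1, u, u} f.hom.toRingHom).isLeftAdjoint
  have hpz : (ModuleCat.extendScalars.{u, u, u + 1} f.hom.toRingHom).PreservesZeroMorphisms :=
    Functor.preservesZeroMorphisms_of_isLeftAdjoint _
  have hz2 : IsZero ((ModuleCat.extendScalars.{u, u, u + 1} f.hom.toRingHom).obj
      (F.obj (Adeq.pt (Adeq.algOf A A)))) :=
    Functor.map_isZero _ hz
  have hz3 : IsZero (F.obj (Adeq.pt (Adeq.algOf A B))) := hz2.of_iso (asIso (F.bc f)).symm
  exact ModuleCat.subsingleton_of_isZero hz3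


section Main

variable (hZar : Scheme.zariskiPrecoverage ≤ K)
  (hadq : ∀ (R : CommRingCat.{u}) (a : Spec R ⟶ S), Adeq.adequate R ((Adeq.toMVF K a).obj M))

include hadq in
/-- vanishing on an affine open propagates to affine flat objects mapping into it -/
lemma subsingleton_affine {U : S.Opens} (hU : IsAffineOpen U)
    (h0 : Subsingleton (M.val.obj (op (Over.mk U.ι))))
    {V : Scheme.{u}} (g : V ⟶ S) [Flat g] {W : V.Opens} (hW : IsAffineOpen W) (hle : W ≤ g ⁻¹ᵁ U) :
    Subsingleton (M.val.obj (op (Over.mk (hW.fromSpec ≫ g)))) := by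
  letI : Algebra Γ(S, U) Γ(V, W) := (g.appLE U W hle).hom.toAlgebra
  have hfl : Module.Flat Γ(S, U) Γ(V, W) :=
    HasRingHomProperty.appLE (P := @Flat) g inferInstance ⟨U, hU⟩ ⟨W, hW⟩ hle
  -- the base value vanishes
  have e0 : Adeq2Shfy.X0 hU.fromSpec ≅ Over.mk U.ι :=
    Over.isoMk hU.isoSpec.symm (by
      rw [Adeq2Shfy.X0_hom]
      rfl)
  have h1 : Subsingleton (((Adeq.toMVF K hU.fromSpec).obj M).obj
      (Adeq.pt (Adeq.algOf Γ(S, U) Γ(S, U)))) :=
    subsingleton_of_iso K M e0.symm h0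
  have h2 := subsingleton_of_flat ((Adeq.toMVF K hU.fromSpec).obj M) (hadq _ _) Γ(V, W) h1
  have hw : (Iso.refl (Spec Γ(V, W))).hom ≫ (Over.mk (hW.fromSpec ≫ g)).hom =
      ((Adeq.specOver hU.fromSpec).obj (op (Adeq.algOf Γ(S, U) Γ(V, W)))).hom := by
    change 𝟙 _ ≫ hW.fromSpec ≫ g = Spec.map (g.appLE U W hle) ≫ hU.fromSpec
    rw [Category.id_comp, IsAffineOpen.SpecMap_appLE_fromSpec]
  have e1 : (Adeq.specOver hU.fromSpec).obj (op (Adeq.algOf Γ(S, U) Γ(V, W))) ≅
      Over.mk (hW.fromSpec ≫ g) := Over.isoMk (Iso.refl _) hw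
  exact subsingleton_of_iso K M e1 h2

include hadq hZar in
/-- vanishing on an affine open cover implies parasitic -/
theorem parasitic_of_affine_cover {ι : Type*} (U : ι → S.Opens) (hU : ∀ i, IsAffineOpen (U i))
    (hcov : (⨆ i, U i) = ⊤) (h0 : ∀ i, Subsingleton (M.val.obj (op (Over.mk (U i).ι)))) :
    Adeq.parasitic K S M := by
  intro V hV
  have : Flat V.hom := hV
  have hex : ∀ v : V.left, ∃ (i : ι) (W : V.left.Opens), IsAffineOpen W ∧ v ∈ W ∧
      W ≤ V.hom ⁻¹ᵁ U i := by
    intro v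
    have hv : V.hom v ∈ (⨆ i, U i) := by rw [hcov]; trivial
    obtain ⟨i, hi⟩ := TopologicalSpace.Opens.mem_iSup.1 hv
    obtain ⟨W, hW, hvW, hWU⟩ := exists_isAffineOpen_mem_and_subset (x := v) (U := V.hom ⁻¹ᵁ U i) hi
    exact ⟨i, W, hW, hvW, hWU⟩
  choose i W hW hvW hWU using hex
  have hcovV : Sieve.ofArrows (fun v => Over.mk ((hW v).fromSpec ≫ V.hom))
      (fun v => (Over.homMk (hW v).fromSpec rfl : Over.mk ((hW v).fromSpec ≫ V.hom) ⟶ V)) ∈
      (QuotSh.J K S) V := by
    rw [GrothendieckTopology.mem_over_iff, Sieve.overEquiv_ofArrows]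
    apply Precoverage.generate_mem_toGrothendieck
    apply hZar
    refine (Scheme.ofArrows_mem_precoverage_iff (P := @IsOpenImmersion)).2
      ⟨fun v => ⟨v, ?_⟩, fun v => ?_⟩
    · change v ∈ Set.range (hW v).fromSpec
      rw [(hW v).range_fromSpec]
      exact hvW v
    · change IsOpenImmersion (hW v).fromSpec
      infer_instance
  have hzero : ∀ x : M.val.obj (op V), x = 0 := by
    intro x
    apply SheafFam.sep (QuotSh.J K S) M.val.presheaf M.isSheaf _ _ hcovV x
    intro v
    exact (subsingleton_affine K M hadq (hU (i v)) (h0 (i v)) V.hom (hW v) (hWU v)).elim _ _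
  exact ⟨fun x y => (hzero x).trans (hzero y).symm⟩

end Main

end Groth.Agent.Lib.Helper14.Adeq2Par
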