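import Groth.Agent.Lib.Helper14.AdeqAmitsur1

universe u
open CategoryTheory CategoryTheory.Limits TensorProduct

namespace Groth.Agent.Lib.Helper14.AdeqAmitsur

open Groth.Agent.Lib.Helper14.AdeqBC Groth.Agent.Lib.Helper14.AdeqKer Groth.Agent.Lib.Helper14.AdeqDesc

variable {A : Type u} [CommRing A] (B : Type u) [CommRing B] [Algebra A B]

lemma cU_cL : cU B ≫ cL B = cU (A := A) B ≫ cR B := by
  apply CommAlgCat.hom_ext
  exact Subsingleton.elim (α := A →ₐ[A] B ⊗[A] B) _ _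

lemma cL_c0 : cL B ≫ c0 B = cR (A := A) B ≫ c2 B := by
  apply CommAlgCat.hom_ext
  apply AlgHom.ext
  intro b
  change AmitsurMod.d0 A B (b ⊗ₜ (1 : B)) = AmitsurMod.d2 A B ((1 : B) ⊗ₜ b)
  simp only [AmitsurMod.d0, AmitsurMod.d2, Algebra.TensorProduct.map_tmul,
    Algebra.TensorProduct.includeRight_apply, Algebra.TensorProduct.includeLeft_apply,
    AlgHom.coe_id, id]

lemma cR_c0 : cR B ≫ c0 B = cR (A := A) B ≫ c1 B := by
  apply CommAlgCat.hom_ext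
  apply AlgHom.ext
  intro b
  change AmitsurMod.d0 A B ((1 : B) ⊗ₜ b) = AmitsurMod.d1 A B ((1 : B) ⊗ₜ b)
  simp only [AmitsurMod.d0, AmitsurMod.d1, Algebra.TensorProduct.map_tmul,
    Algebra.TensorProduct.includeRight_apply, Algebra.TensorProduct.includeLeft_apply,
    AlgHom.coe_id, id, map_one]

lemma cL_c1 : cL B ≫ c1 B = cL (A := A) B ≫ c2 B := by
  apply CommAlgCat.hom_ext
  apply AlgHom.ext
  intro b
  change AmitsurMod.d1 A B (b ⊗ₜ (1 : B)) = AmitsurMod.d2 A B (b ⊗ₜ (1 : B))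
  simp only [AmitsurMod.d1, AmitsurMod.d2, Algebra.TensorProduct.map_tmul,
    Algebra.TensorProduct.includeLeft_apply, AlgHom.coe_id, id]

lemma nat_mapAb {F G : Adeq.MVF A} (ψ : F ⟶ G) {C D : Adeq.Alg A} (f : C ⟶ D)
    (x : F.obj (Adeq.pt C)) :
    ψ.app (Adeq.pt D) (mapAb F f x) = mapAb G f (ψ.app (Adeq.pt C) x) :=
  PresheafOfModules.naturality_apply ψ (Adeq.ptHom f) x

lemma mapAb_congr (F : Adeq.MVF A) {C D : Adeq.Alg A} {f g : C ⟶ D} (h : f = g)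
    (x : F.obj (Adeq.pt C)) : mapAb F f x = mapAb F g x := by
  subst h
  rfl

variable [Module.FaithfullyFlat A B] {F₁ F₂ F₃ : Adeq.MVF A} (f : F₁ ⟶ F₂) (g : F₂ ⟶ F₃)

/-- surjectivity on the base from local surjectivity, by vanishing of the first Čech cohomology of
the adequate kernel -/
theorem lift_of_h1 (hF₁ : Adeq.adequate A F₁)
    (hinj : ∀ C : Adeq.Alg A, Function.Injective (f.app (Adeq.pt C)))
    (hex : ∀ (C : Adeq.Alg A) (x : F₂.obj (Adeq.pt C)), g.app (Adeq.pt C) x = 0 →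
      ∃ y, f.app (Adeq.pt C) y = x)
    (hfg : f ≫ g = 0)
    (hglue : ∀ s'' : F₂.obj (Adeq.pt (Adeq.algOf A B)),
      mapAb F₂ (cL B) s'' = mapAb F₂ (cR B) s'' →
        ∃ s : F₂.obj (Adeq.pt (Adeq.algOf A A)), mapAb F₂ (cU B) s = s'')
    (hsep : ∀ x : F₃.obj (Adeq.pt (Adeq.algOf A A)), mapAb F₃ (cU B) x = 0 → x = 0)
    (t : F₃.obj (Adeq.pt (Adeq.algOf A A))) (s' : F₂.obj (Adeq.pt (Adeq.algOf A B)))
    (hs' : g.app (Adeq.pt (Adeq.algOf A B)) s' = mapAb F₃ (cU B) t) :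
    ∃ s : F₂.obj (Adeq.pt (Adeq.algOf A A)), g.app (Adeq.pt (Adeq.algOf A A)) s = t := by
  have hgf : ∀ (C : Adeq.Alg A) (y : F₁.obj (Adeq.pt C)),
      g.app (Adeq.pt C) (f.app (Adeq.pt C) y) = 0 := fun C y => eq_app_apply hfg C y
  -- the cocycle in `F₂`
  have h1 : g.app (Adeq.pt (Adeq.algOf A (B ⊗[A] B))) (mapAb F₂ (cL B) s' - mapAb F₂ (cR B) s') = 0 := by
    refine (map_sub (g.app (Adeq.pt (Adeq.algOf A (B ⊗[A] B)))).hom _ _).trans ?_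
    rw [sub_eq_zero]
    refine (nat_mapAb g (cL B) s').trans (Eq.trans ?_ (nat_mapAb g (cR B) s').symm)
    rw [hs', ← mapAb_comp, ← mapAb_comp]
    exact mapAb_congr F₃ (cU_cL B) t
  obtain ⟨c₁, hc₁⟩ := hex _ _ h1
  have hcoc : mapAb F₁ (c0 B) c₁ + mapAb F₁ (c2 B) c₁ = mapAb F₁ (c1 B) c₁ := by
    apply hinj
    refine (map_add (f.app (Adeq.pt (Adeq.algOf A ((B ⊗[A] B) ⊗[A] B)))).hom _ _).trans ?_
    refine Eq.trans ?_ (nat_mapAb f (c1 B) c₁).symm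
    refine (congrArg₂ (· + ·) (nat_mapAb f (c0 B) c₁) (nat_mapAb f (c2 B) c₁)).trans ?_
    rw [hc₁, map_sub, map_sub, map_sub, ← mapAb_comp, ← mapAb_comp, ← mapAb_comp, ← mapAb_comp,
      ← mapAb_comp, ← mapAb_comp, mapAb_congr F₂ (cL_c0 B), mapAb_congr F₂ (cR_c0 B),
      mapAb_congr F₂ (cL_c1 B)]
    abel
  obtain ⟨e, he⟩ := h1_adequate B F₁ hF₁ c₁ hcoc
  obtain ⟨s, hs⟩ := hglue (s' - f.app (Adeq.pt (Adeq.algOf A B)) e) (by
    rw [map_sub, map_sub, sub_eq_sub_iff_sub_eq_sub, ← hc₁, ← he]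
    refine (map_sub (f.app (Adeq.pt (Adeq.algOf A (B ⊗[A] B)))).hom _ _).trans ?_
    rw [nat_mapAb f (cL B) e, nat_mapAb f (cR B) e])
  refine ⟨s, ?_⟩
  rw [← sub_eq_zero]
  apply hsep
  rw [map_sub, sub_eq_zero, ← nat_mapAb g (cU B) s, hs]
  refine (map_sub (g.app (Adeq.pt (Adeq.algOf A B))).hom _ _).trans ?_
  rw [hgf, sub_zero]
  exact hs'

end Groth.Agent.Lib.Helper14.AdeqAmitsur
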