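import Groth.Prelude.Def_Adeq2
import Groth.Agent.Lib.Helper14.SheafFam
import Groth.Agent.Lib.Helper14.AdeqProd
import Groth.Agent.Lib.Helper14.Adeq2Shfy
import Groth.Agent.Lib.Helper14.AdeqChase
import Groth.Agent.Lib.Helper14.Adeq2Epi

universe u
open CategoryTheory CategoryTheory.Limits AlgebraicGeometry Opposite TensorProduct

namespace Groth.Agent.Lib.Helper14.Adeq2Prod

variable {S : Scheme.{u}} {R : CommRingCat.{u}} (a : Spec R ⟶ S) {J : Type u} [Fintype J]
  [DecidableEq J] (B : J → Type u) [∀ j, CommRing (B j)] [∀ j, Algebra R (B j)]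

/-- the pieces -/
noncomputable abbrev Yj (j : J) : Over S := (Adeq.specOver a).obj (op (Adeq.algOf R (B j)))

/-- the spectrum of the product -/
noncomputable abbrev Yp : Over S := (Adeq.specOver a).obj (op (Adeq.algOf R (∀ i, B i)))

/-- the inclusions of the pieces -/
noncomputable abbrev πj (j : J) : Yj a B j ⟶ Yp a B := (Adeq.specOver a).map (AdeqProd.pr B j).op

lemma πj_left (j : J) :
    (πj a B j).left = Spec.map (CommRingCat.ofHom (Pi.evalRingHom B j)) := rfl

lemma jointly_surjective (x : Spec (CommRingCat.of (∀ i, B i))) :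
    ∃ j, x ∈ Set.range (Spec.map (CommRingCat.ofHom (Pi.evalRingHom B j))) := by
  obtain ⟨⟨j, p⟩, hp⟩ := (PrimeSpectrum.sigmaToPi_bijective B).surjective x
  exact ⟨j, p, hp⟩

lemma isEmpty_of_ne {j k : J} (hjk : j ≠ k) {Z : Scheme.{u}}
    (gj : Z ⟶ Spec (CommRingCat.of (B j))) (gk : Z ⟶ Spec (CommRingCat.of (B k)))
    (h : gj ≫ Spec.map (CommRingCat.ofHom (Pi.evalRingHom B j)) =
      gk ≫ Spec.map (CommRingCat.ofHom (Pi.evalRingHom B k))) : IsEmpty Z := by
  refine ⟨fun z => ?_⟩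
  have h1 := congrArg (fun φ => φ.base z) h
  have h2 : PrimeSpectrum.sigmaToPi B ⟨j, gj.base z⟩ = PrimeSpectrum.sigmaToPi B ⟨k, gk.base z⟩ := h1
  have h3 := PrimeSpectrum.sigmaToPi_injective B h2
  exact hjk (congrArg Sigma.fst h3)

section Sheaf

variable (K : Precoverage Scheme.{u}) [BigSite.OSh K] (hZar : Scheme.zariskiPrecoverage ≤ K)
  (M : BigSite.Mod K S)

include hZar in
lemma cover_prod : Sieve.ofArrows (Yj a B) (πj a B) ∈ (QuotSh.J K S) (Yp a B) := by
  rw [GrothendieckTopology.mem_over_iff, Sieve.overEquiv_ofArrows]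
  apply Precoverage.generate_mem_toGrothendieck
  apply hZar
  refine (Scheme.ofArrows_mem_precoverage_iff (P := @IsOpenImmersion)).2 ⟨fun x => ?_, fun j => ?_⟩
  · exact jointly_surjective B x
  · change IsOpenImmersion (Spec.map (CommRingCat.ofHom (Pi.evalRingHom B j)))
    infer_instance

include hZar in
lemma subsingleton_of_isEmpty (Z : Over S) [IsEmpty Z.left] (x y : M.val.obj (op Z)) : x = y := by
  have hc : Sieve.ofArrows (fun i : PEmpty.{1} => (i.elim : Over S)) (fun i => i.elim) ∈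
      (QuotSh.J K S) Z := by
    rw [GrothendieckTopology.mem_over_iff, Sieve.overEquiv_ofArrows]
    apply Precoverage.generate_mem_toGrothendieck
    apply hZar
    refine (Scheme.ofArrows_mem_precoverage_iff (P := @IsOpenImmersion)).2
      ⟨fun x => (IsEmpty.false x).elim, fun i => i.elim⟩
  rw [← sub_eq_zero]
  exact SheafFam.sep (QuotSh.J K S) M.val.presheaf M.isSheaf _ _ hc _ (fun i => i.elim)

include hZar in
lemma glue_prod (y : ∀ j, M.val.obj (op (Yj a B j))) :
    ∃ s : M.val.obj (op (Yp a B)), ∀ j, M.val.map (πj a B j).op s = y j := by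
  obtain ⟨s, hs, -⟩ := SheafFam.sheafFor (QuotSh.J K S) M.val.presheaf M.isSheaf _ _
    (cover_prod a B K hZar) y (fun j k Z gj gk hg => by
      change M.val.presheaf.map gj.op (y j) = M.val.presheaf.map gk.op (y k)
      by_cases hjk : j = k
      · subst hjk
        have : gj = gk := by
          apply Over.OverMorphism.ext
          have h1 : gj.left ≫ Spec.map (CommRingCat.ofHom (Pi.evalRingHom B j)) =
              gk.left ≫ Spec.map (CommRingCat.ofHom (Pi.evalRingHom B j)) :=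
            congrArg CommaMorphism.left hg
          have hoi : IsOpenImmersion (Spec.map (CommRingCat.ofHom (Pi.evalRingHom B j))) :=
            inferInstance
          have hm : Mono (Spec.map (CommRingCat.ofHom (Pi.evalRingHom B j))) :=
            IsOpenImmersion.mono _
          exact (@cancel_mono _ _ _ _ _ (Spec.map (CommRingCat.ofHom (Pi.evalRingHom B j))) hm _ _).1 h1
        rw [this]
      · have : IsEmpty Z.left :=
          isEmpty_of_ne B hjk gj.left gk.left (congrArg CommaMorphism.left hg)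
        exact subsingleton_of_isEmpty K hZar M Z _ _)
  exact ⟨s, hs⟩

include hZar in
lemma sep_prod (x : M.val.obj (op (Yp a B))) (hx : ∀ j, M.val.map (πj a B j).op x = 0) : x = 0 :=
  SheafFam.sep (QuotSh.J K S) M.val.presheaf M.isSheaf _ _ (cover_prod a B K hZar) x hx

/-- the structure maps of the pieces -/
noncomputable abbrev σj (j : J) : Yj a B j ⟶ Adeq2Shfy.X0 a :=
  (Adeq.specOver a).map (AdeqProd.sm B j).op

/-- the double overlaps -/
noncomputable abbrev Yjk (j k : J) : Over S :=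
  (Adeq.specOver a).obj (op (Adeq.algOf R (B j ⊗[R] B k)))

lemma hlift2 (j k : J) (Z : Over S) (gj : Z ⟶ Yj a B j) (gk : Z ⟶ Yj a B k)
    (hg : gj ≫ σj a B j = gk ≫ σj a B k) :
    ∃ l : Z ⟶ Yjk a B j k,
      l ≫ (Adeq.specOver a).map (AdeqProd.iL B j k).op = gj ∧
      l ≫ (Adeq.specOver a).map (AdeqProd.iR B j k).op = gk := by
  have hpb := isPullback_SpecMap_of_isPushout _ _ _ _
    (CommRingCat.isPushout_tensorProduct R (B j) (B k))
  have hg' : gj.left ≫ Spec.map (CommRingCat.ofHom (algebraMap R (B j))) =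
      gk.left ≫ Spec.map (CommRingCat.ofHom (algebraMap R (B k))) :=
    congrArg CommaMorphism.left hg
  obtain ⟨l₀, hl₀⟩ : ∃ l₀, l₀ = hpb.lift gj.left gk.left hg' := ⟨_, rfl⟩
  have h1 : l₀ ≫ ((Adeq.specOver a).map (AdeqProd.iL B j k).op).left = gj.left := by
    rw [hl₀]; exact hpb.lift_fst _ _ _
  have h2 : l₀ ≫ ((Adeq.specOver a).map (AdeqProd.iR B j k).op).left = gk.left := by
    rw [hl₀]; exact hpb.lift_snd _ _ _
  have hw : l₀ ≫ (Yjk a B j k).hom = Z.hom := by
    have w1 := Over.w ((Adeq.specOver a).map (AdeqProd.iL B j k).op)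
    have w2 := Over.w gj
    refine Eq.trans ?_ w2
    refine Eq.trans ?_ (congrArg (· ≫ (Yj a B j).hom) h1)
    refine Eq.trans ?_ (Category.assoc _ _ _).symm
    exact congrArg (l₀ ≫ ·) w1.symm
  exact ⟨Over.homMk l₀ hw, Over.OverMorphism.ext h1, Over.OverMorphism.ext h2⟩

open Groth.Agent.Lib.Helper14.AdeqDesc Groth.Agent.Lib.Helper14.AdeqAmitsur

lemma sm_eq (j : J) : AdeqProd.sm B j = cU (A := R) (∀ i, B i) ≫ AdeqProd.pr B j := by
  apply CommAlgCat.hom_ext
  exact Subsingleton.elim (α := R →ₐ[R] B j) _ _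

lemma pr_iL (j k : J) : AdeqProd.pr B j ≫ AdeqProd.iL B j k =
    cL (A := R) (∀ i, B i) ≫ AdeqProd.pr2 B j k := by
  apply CommAlgCat.hom_ext
  apply AlgHom.ext
  intro x
  rfl

lemma pr_iR (j k : J) : AdeqProd.pr B k ≫ AdeqProd.iR B j k =
    cR (A := R) (∀ i, B i) ≫ AdeqProd.pr2 B j k := by
  apply CommAlgCat.hom_ext
  apply AlgHom.ext
  intro x
  rfl

variable (hc : Sieve.ofArrows (Yj a B) (σj a B) ∈ (QuotSh.J K S) (Adeq2Shfy.X0 a))

include hc in
lemma hsep_base (x : ((Adeq.toMVF K a).obj M).obj (Adeq.pt (Adeq.algOf R R)))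
    (hx : mapAb ((Adeq.toMVF K a).obj M) (cU (A := R) (∀ i, B i)) x = 0) : x = 0 := by
  apply SheafFam.sep (QuotSh.J K S) M.val.presheaf M.isSheaf _ _ hc x
  intro j
  change mapAb ((Adeq.toMVF K a).obj M) (AdeqProd.sm B j) x = 0
  rw [mapAb_congr _ (sm_eq B j), mapAb_comp, hx, map_zero]

include hc hZar in
lemma hglue_base (s'' : ((Adeq.toMVF K a).obj M).obj (Adeq.pt (Adeq.algOf R (∀ i, B i))))
    (h : mapAb ((Adeq.toMVF K a).obj M) (cL (A := R) (∀ i, B i)) s'' =
      mapAb ((Adeq.toMVF K a).obj M) (cR (A := R) (∀ i, B i)) s'') :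
    ∃ s : ((Adeq.toMVF K a).obj M).obj (Adeq.pt (Adeq.algOf R R)),
      mapAb ((Adeq.toMVF K a).obj M) (cU (A := R) (∀ i, B i)) s = s'' := by
  obtain ⟨s, hs⟩ : ∃ s : ((Adeq.toMVF K a).obj M).obj (Adeq.pt (Adeq.algOf R R)),
      ∀ j, mapAb ((Adeq.toMVF K a).obj M) (AdeqProd.sm B j) s =
        mapAb ((Adeq.toMVF K a).obj M) (AdeqProd.pr B j) s'' :=
    SheafFam.glue (QuotSh.J K S) M.val.presheaf M.isSheaf _ _ hc
    (Yjk a B) (fun j k => (Adeq.specOver a).map (AdeqProd.iL B j k).op)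
    (fun j k => (Adeq.specOver a).map (AdeqProd.iR B j k).op)
    (fun j k Z gj gk hg => hlift2 a B j k Z gj gk hg)
    (fun j => mapAb ((Adeq.toMVF K a).obj M) (AdeqProd.pr B j) s'') (fun j k => by
      change mapAb ((Adeq.toMVF K a).obj M) (AdeqProd.iL B j k)
          (mapAb ((Adeq.toMVF K a).obj M) (AdeqProd.pr B j) s'') =
        mapAb ((Adeq.toMVF K a).obj M) (AdeqProd.iR B j k)
          (mapAb ((Adeq.toMVF K a).obj M) (AdeqProd.pr B k) s'')
      rw [← mapAb_comp, ← mapAb_comp, mapAb_congr _ (pr_iL B j k), mapAb_congr _ (pr_iR B j k),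
        mapAb_comp, mapAb_comp, h])
  refine ⟨s, ?_⟩
  rw [← sub_eq_zero]
  apply sep_prod a B K hZar M
  intro j
  change mapAb ((Adeq.toMVF K a).obj M) (AdeqProd.pr B j)
    (mapAb ((Adeq.toMVF K a).obj M) (cU (A := R) (∀ i, B i)) s - s'') = 0
  rw [map_sub, sub_eq_zero, ← mapAb_comp, ← mapAb_congr _ (sm_eq B j)]
  exact hs j

end Sheaf


section Main

open Groth.Agent.Lib.Helper14.AdeqDesc Groth.Agent.Lib.Helper14.AdeqAmitsur

variable (P : MorphismProperty Scheme.{u}) [P.IsStableUnderBaseChange] [P.IsMultiplicative]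
  [P.RespectsLeft @IsOpenImmersion]
  (hopen : ∀ {X Y : Scheme.{u}} (f : X ⟶ Y), P f → IsOpenMap f)
  (hflat : ∀ {X Y : Scheme.{u}} (f : X ⟶ Y), P f → Flat f)
  (K : Precoverage Scheme.{u}) [BigSite.OSh K] (hK : K = Scheme.precoverage P)
  (hZar : Scheme.zariskiPrecoverage ≤ K)
  {M₁ M₂ M₃ : BigSite.Mod K S} (f : M₁ ⟶ M₂) (g : M₂ ⟶ M₃) [Epi g] (hfg : f ≫ g = 0)
  (hadq : ∀ (R : CommRingCat.{u}) (a : Spec R ⟶ S), Adeq.adequate R ((Adeq.toMVF K a).obj M₁))
  (hinj : ∀ (R : CommRingCat.{u}) (a : Spec R ⟶ S) (C : Adeq.Alg R),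
    Function.Injective (((Adeq.toMVF K a).map f).app (Adeq.pt C)))
  (hex : ∀ (R : CommRingCat.{u}) (a : Spec R ⟶ S) (C : Adeq.Alg R)
    (x : ((Adeq.toMVF K a).obj M₂).obj (Adeq.pt C)),
    ((Adeq.toMVF K a).map g).app (Adeq.pt C) x = 0 →
      ∃ y, ((Adeq.toMVF K a).map f).app (Adeq.pt C) y = x)

include hopen hflat hK hZar hfg hadq hinj hex in
theorem surj_base (R : CommRingCat.{u}) (a : Spec R ⟶ S)
    (t : ((Adeq.toMVF K a).obj M₃).obj (Adeq.pt (Adeq.algOf R R))) :
    ∃ s, ((Adeq.toMVF K a).map g).app (Adeq.pt (Adeq.algOf R R)) s = t := by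
  subst hK
  obtain ⟨T, hT, hl⟩ := Adeq2Epi.locally_lifts g (Adeq2Shfy.X0 a) t
  obtain ⟨J, hJ, R', φ, hcov, hmem⟩ := Adeq2Shfy.exists_family P hopen a T hT
  letI : Fintype J := Fintype.ofFinite J
  classical
  letI : ∀ j, Algebra R (R' j) := fun j => (φ j).hom.toAlgebra
  have hff := Adeq2Shfy.ff_of_cov P hflat R' φ hcov
  have h1 : ∀ j, ∃ s : M₂.val.obj (op (Yj a (fun j => (R' j : Type u)) j)),
      g.val.app _ s = M₃.val.map (σj a (fun j => (R' j : Type u)) j).op t := fun j =>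
    hl _ (Adeq2Shfy.mem_of_overEquiv T (σj a (fun j => (R' j : Type u)) j) (hmem j))
  choose sj hsj using h1
  obtain ⟨s', hs'⟩ := glue_prod a (fun j => (R' j : Type u)) (Scheme.precoverage P) hZar M₂ sj
  have hc : Sieve.ofArrows (Yj a (fun j => (R' j : Type u))) (σj a (fun j => (R' j : Type u))) ∈
      (QuotSh.J (Scheme.precoverage P) S) (Adeq2Shfy.X0 a) := by
    rw [GrothendieckTopology.mem_over_iff, Sieve.overEquiv_ofArrows]
    exact Precoverage.generate_mem_toGrothendieck hcov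
  have hfg' : (Adeq.toMVF (Scheme.precoverage P) a).map f ≫
      (Adeq.toMVF (Scheme.precoverage P) a).map g = 0 := by
    rw [← Functor.map_comp, hfg]
    apply AdeqDesc.mvf_hom_ext
    intro B x
    rfl
  refine lift_of_h1 (∀ j, R' j) ((Adeq.toMVF (Scheme.precoverage P) a).map f)
    ((Adeq.toMVF (Scheme.precoverage P) a).map g) (hadq R a) (hinj R a) (hex R a) hfg'
    (hglue_base a (fun j => (R' j : Type u)) (Scheme.precoverage P) hZar M₂ hc)
    (hsep_base a (fun j => (R' j : Type u)) (Scheme.precoverage P) M₃ hc) t s' ?_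
  rw [← sub_eq_zero]
  apply sep_prod a (fun j => (R' j : Type u)) (Scheme.precoverage P) hZar M₃
  intro j
  change mapAb ((Adeq.toMVF (Scheme.precoverage P) a).obj M₃) (AdeqProd.pr (fun j => (R' j : Type u)) j)
    (((Adeq.toMVF (Scheme.precoverage P) a).map g).app _ s' -
      mapAb ((Adeq.toMVF (Scheme.precoverage P) a).obj M₃) (cU (A := R) (∀ j, R' j)) t) = 0
  rw [map_sub, sub_eq_zero]
  refine (nat_mapAb ((Adeq.toMVF (Scheme.precoverage P) a).map g)
    (AdeqProd.pr (fun j => (R' j : Type u)) j) s').symm.trans ?_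
  refine Eq.trans ?_ (mapAb_comp _ (cU (A := R) (∀ j, R' j))
    (AdeqProd.pr (fun j => (R' j : Type u)) j) t)
  refine Eq.trans ?_ (mapAb_congr _ (sm_eq (fun j => (R' j : Type u)) j) t)
  have e1 : mapAb ((Adeq.toMVF (Scheme.precoverage P) a).obj M₂)
      (AdeqProd.pr (fun j => (R' j : Type u)) j) s' = sj j := hs' j
  rw [e1]
  exact hsj j

end Main

end Groth.Agent.Lib.Helper14.Adeq2Prod
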