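import Groth.Prelude.Def_Adeq2
import Groth.Agent.Lib.Helper14.Adeq2Restr

universe u
open CategoryTheory CategoryTheory.Limits AlgebraicGeometry Opposite

namespace Groth.Agent.Lib.Helper14.Adeq2Pull

open Groth.Agent.Lib.Helper14.AdeqDesc Groth.Agent.Lib.Helper14.AdeqCoker
  Groth.Agent.Lib.Helper14.Adeq2Restr

variable (K : Precoverage Scheme.{u}) [BigSite.OSh K] {S T : Scheme.{u}} (f : T ⟶ S)
  {R : CommRingCat.{u}} (c : Spec R ⟶ T) (M : BigSite.Mod K S)

/-- the comparison of the two objects of the big site -/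
noncomputable def objIso (B : Adeq.Alg R) :
    (Adeq.specOver (c ≫ f)).obj (op B) ≅ (Over.map f).obj ((Adeq.specOver c).obj (op B)) :=
  Over.isoMk (Iso.refl _) (by
    change 𝟙 _ ≫ (Spec.map (CommRingCat.ofHom (algebraMap R B)) ≫ c) ≫ f =
      Spec.map (CommRingCat.ofHom (algebraMap R B)) ≫ c ≫ f
    rw [Category.id_comp, Category.assoc])

/-- naturality of the comparison -/
noncomputable def theta : Adeq.specOver (c ≫ f) ⟶ Adeq.specOver c ⋙ Over.map f where
  app X := (objIso f c X.unop).hom
  naturality {X Y} g := by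
    apply Over.OverMorphism.ext
    change Spec.map _ ≫ 𝟙 _ = 𝟙 _ ≫ Spec.map _
    rw [Category.comp_id, Category.id_comp]

lemma pres_map {X Y : (Adeq.Alg R)ᵒᵖᵒᵖ} (g : X ⟶ Y) :
    ((Adeq.toMVFPre K c).obj ((BigSite.pullMod K f).obj M).val).presheaf.map g =
      M.val.presheaf.map ((Over.map f).map ((Adeq.specOver c).map g.unop)).op := rfl

lemma pres_map' {X Y : (Adeq.Alg R)ᵒᵖᵒᵖ} (g : X ⟶ Y) :
    ((Adeq.toMVFPre K (c ≫ f)).obj M.val).presheaf.map g =
      M.val.presheaf.map ((Adeq.specOver (c ≫ f)).map g.unop).op := rfl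

/-- the comparison on presheaves of abelian groups -/
noncomputable def phi :
    ((Adeq.toMVFPre K c).obj ((BigSite.pullMod K f).obj M).val).presheaf ⟶
      ((Adeq.toMVFPre K (c ≫ f)).obj M.val).presheaf where
  app X := M.val.presheaf.map ((theta f c).app X.unop).op
  naturality {X Y} g := by
    refine (congrArg (· ≫ M.val.presheaf.map ((theta f c).app Y.unop).op) (pres_map K f c M g)).trans ?_
    refine Eq.trans ?_ (congrArg (M.val.presheaf.map ((theta f c).app X.unop).op ≫ ·)
      (pres_map' K f c M g)).symm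
    refine (M.val.presheaf.map_comp _ _).symm.trans ?_
    refine Eq.trans ?_ (M.val.presheaf.map_comp _ _)
    congr 1

/-- the comparison morphism of module-valued functors -/
noncomputable def pullHom :
    (Adeq.toMVFPre K c).obj ((BigSite.pullMod K f).obj M).val ⟶
      (Adeq.toMVFPre K (c ≫ f)).obj M.val :=
  PresheafOfModules.homMk (phi K f c M) (by
    intro X r m
    obtain ⟨⟨B⟩⟩ := X
    have h := M.val.map_smul (objIso f c B).hom.op
      ((Sheaf.pushforwardOverMapIso (BigSite.ORingAbs K) f).inv.hom.app _ (Adeq.toSect K c B r)) m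
    refine h.trans ?_
    congr 1)

lemma pullHom_app (B : Adeq.Alg R)
    (m : M.val.obj (op ((Over.map f).obj ((Adeq.specOver c).obj (op B))))) :
    (pullHom K f c M).app (Adeq.pt B) m = M.val.map (objIso f c B).hom.op m := rfl

instance : IsIso (pullHom K f c M) := by
  apply isIso_of_bijective
  intro B
  constructor
  · intro m₁ m₂ h
    have h' : M.val.map (objIso f c B).hom.op m₁ = M.val.map (objIso f c B).hom.op m₂ := h
    have h2 := congrArg (fun z => M.val.map (objIso f c B).inv.op z) h'
    exact (map_iso_cancel M.val (objIso f c B) m₁).symm.trans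
      (h2.trans (map_iso_cancel M.val (objIso f c B) m₂))
  · intro m
    exact ⟨M.val.map (objIso f c B).inv.op m, map_iso_cancel' M.val (objIso f c B) m⟩

/-- the comparison isomorphism `F_{f^*M,R} ≅ F_{M,R}` -/
noncomputable def pullIso' :
    (Adeq.toMVFPre K c).obj ((BigSite.pullMod K f).obj M).val ≅
      (Adeq.toMVFPre K (c ≫ f)).obj M.val :=
  asIso (pullHom K f c M)

/-- the comparison isomorphism `F_{f^*M,R} ≅ F_{M,R}` -/
noncomputable def pullIso :
    (Adeq.toMVF K c).obj ((BigSite.pullMod K f).obj M) ≅ (Adeq.toMVF K (c ≫ f)).obj M :=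
  pullIso' K f c M

end Groth.Agent.Lib.Helper14.Adeq2Pull
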