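import Groth.Agent.Lib.Helper14.AdeqFam

universe u

set_option linter.unusedSectionVars false

open CategoryTheory Limits TensorProduct

namespace Groth.Agent.Lib.Helper14.AdeqKerFam

open Groth.Agent.Lib.Helper14.AdeqBC Groth.Agent.Lib.Helper14.AdeqCoker
  Groth.Agent.Lib.Helper14.AdeqKer Groth.Agent.Lib.Helper14.AdeqDesc
  Groth.Agent.Lib.Helper14.AdeqFam

variable {A : Type u} [CommRing A] {J₁ J₂ : Type (u + 1)} [Fintype J₁] [Fintype J₂]
  [HasBiproductsOfShape J₁ (Adeq.MVF A)] [HasBiproductsOfShape J₂ (Adeq.MVF A)]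

/-- a functor which is the equalizer of maps between finite products of adequate functors is adequate -/
theorem adequate_of_equalizer (F : Adeq.MVF A) (G : J₁ → Adeq.MVF A) (H : J₂ → Adeq.MVF A)
    (hG : ∀ k, Adeq.adequate A (G k)) (hH : ∀ n, Adeq.adequate A (H n))
    (η : ∀ k, F ⟶ G k) (s t : J₂ → J₁) (σ : ∀ n, G (s n) ⟶ H n) (τ : ∀ n, G (t n) ⟶ H n)
    (hcomp : ∀ n, η (s n) ≫ σ n = η (t n) ≫ τ n)
    (hinj : ∀ (B : Adeq.Alg A) (x : F.obj (Adeq.pt B)),
      (∀ k, (η k).app (Adeq.pt B) x = 0) → x = 0)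
    (hglue : ∀ (B : Adeq.Alg A) (y : ∀ k, (G k).obj (Adeq.pt B)),
      (∀ n, (σ n).app (Adeq.pt B) (y (s n)) = (τ n).app (Adeq.pt B) (y (t n))) →
        ∃ x, ∀ k, (η k).app (Adeq.pt B) x = y k) :
    Adeq.adequate A F := by
  classical
  have hGG : Adeq.adequate A (⨁ G) := adequate_biproduct _ hG
  have hHH : Adeq.adequate A (⨁ H) := adequate_biproduct _ hH
  let e : F ⟶ ⨁ G := biproduct.lift η
  let dcomp : ∀ n : J₂, (⨁ G) ⟶ H n := fun n =>
    biproduct.π G (s n) ≫ σ n - biproduct.π G (t n) ≫ τ n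
  let d : (⨁ G) ⟶ ⨁ H := biproduct.lift dcomp
  have hK := adequate_kernel d hGG hHH
  have hed : e ≫ d = 0 := by
    apply biproduct.hom_ext
    intro n
    rw [Category.assoc, biproduct.lift_π, zero_comp]
    change e ≫ (biproduct.π G (s n) ≫ σ n - biproduct.π G (t n) ≫ τ n) = 0
    rw [Preadditive.comp_sub, ← Category.assoc, ← Category.assoc, biproduct.lift_π,
      biproduct.lift_π, sub_eq_zero]
    exact hcomp n
  have hκ : kernel.lift d e hed ≫ kernel.ι d = e := kernel.lift_ι _ _ hed
  have he : ∀ (B : Adeq.Alg A) (x : F.obj (Adeq.pt B)) (k : J₁),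
      (biproduct.π G k).app (Adeq.pt B) (e.app (Adeq.pt B) x) = (η k).app (Adeq.pt B) x := by
    intro B x k
    exact fb_lift_π G η k B x
  have hiso : IsIso (kernel.lift d e hed) := by
    apply isIso_of_bijective
    intro B
    constructor
    · intro x₁ x₂ h
      have h1 := congrArg (fun z => (kernel.ι d).app (Adeq.pt B) z) h
      have h2 : e.app (Adeq.pt B) x₁ = e.app (Adeq.pt B) x₂ :=
        (eq_app_apply hκ B x₁).symm.trans (h1.trans (eq_app_apply hκ B x₂))
      have h3 : x₁ - x₂ = 0 := by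
        apply hinj B
        intro k
        have h4 := congrArg (fun z => (biproduct.π G k).app (Adeq.pt B) z) h2
        simp only [] at h4
        rw [he, he] at h4
        rw [map_sub, h4, sub_self]
      exact sub_eq_zero.1 h3
    · intro κ
      obtain ⟨y, hy⟩ : ∃ y, y = (kernel.ι d).app (Adeq.pt B) κ := ⟨_, rfl⟩
      have h0 : d.app (Adeq.pt B) y = 0 := by
        rw [hy]
        exact (ι_exact d B).apply_apply_eq_zero κ
      have hc : ∀ n, (σ n).app (Adeq.pt B) ((biproduct.π G (s n)).app (Adeq.pt B) y) =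
          (τ n).app (Adeq.pt B) ((biproduct.π G (t n)).app (Adeq.pt B) y) := by
        intro n
        have h1 := congrArg (fun z => (biproduct.π H n).app (Adeq.pt B) z) h0
        simp only [] at h1
        rw [fb_lift_π, map_zero] at h1
        exact sub_eq_zero.1 h1
      obtain ⟨x, hx⟩ := hglue B (fun k => (biproduct.π G k).app (Adeq.pt B) y) hc
      refine ⟨x, ?_⟩
      apply ι_injective d B
      refine (eq_app_apply hκ B x).trans ?_
      rw [← hy]
      apply fb_ext
      intro k
      rw [he, hx k]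
  exact (Adeq.adequate A).prop_of_iso (asIso (kernel.lift d e hed)).symm hK

end Groth.Agent.Lib.Helper14.AdeqKerFam
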