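import Groth.Agent.Lib.Helper14.AdeqKer

/-!
# Restriction of adequate functors along a ring map
-/

universe u

set_option linter.unusedSectionVars false

open CategoryTheory Limits TensorProduct

namespace Groth.Agent.Lib.Helper14.AdeqRestr

open Groth.Agent.Lib.Helper14.AdeqBC Groth.Agent.Lib.Helper14.AdeqCoker
  Groth.Agent.Lib.Helper14.AdeqKer

variable (A A' : Type u) [CommRing A] [CommRing A'] [Algebra A A']

instance : (Adeq.restr A A').Additive where
  map_add := by
    intros
    rfl

variable {A A'}

/-- the base change of a module -/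
noncomputable abbrev bcMod (M : ModuleCat.{u + 1} A) : ModuleCat.{u + 1} A' :=
  ModuleCat.of A' (A' ⊗[A] M)

/-- the base change of a linear map -/
noncomputable def bcMap {M N : ModuleCat.{u + 1} A} (α : M ⟶ N) : bcMod (A' := A') M ⟶ bcMod N :=
  ModuleCat.ofHom (α.hom.baseChange A')

section Tau

variable (M : ModuleCat.{u + 1} A) (B' : Adeq.Alg A')

/-- the `A`-algebra structure on an `A'`-algebra -/
@[reducible] noncomputable def algR : Algebra A B' :=
  ((algebraMap A' B').comp (algebraMap A A')).toAlgebra

lemma towerR : @IsScalarTower A A' B' _ _ (algR B').toSMul :=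
  @IsScalarTower.of_algebraMap_eq A A' B' _ _ _ _ _ (algR B') (fun _ => rfl)

/-- `B' ⊗[A] M ≃ B' ⊗[A'] (A' ⊗[A] M)` -/
noncomputable def tauLin :
    letI := algR (A := A) B'
    (B' : Type u) ⊗[A] M ≃ₗ[(B' : Type u)] (B' : Type u) ⊗[A'] (A' ⊗[A] M) :=
  letI := algR (A := A) B'
  letI := towerR (A := A) B'
  (TensorProduct.AlgebraTensorModule.cancelBaseChange A A' B' B' M).symm

lemma tauLin_tmul (b : B') (m : M) :
    letI := algR (A := A) B'
    tauLin M B' (b ⊗ₜ[A] m) = b ⊗ₜ[A'] ((1 : A') ⊗ₜ[A] m) := by
  let _ := algR (A := A) B'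
  let _ := towerR (A := A) B'
  exact TensorProduct.AlgebraTensorModule.cancelBaseChange_symm_tmul A A' B' b m

end Tau

/-- the comparison `restr (underline M) ⟶ underline (A' ⊗ M)` -/
noncomputable def tau (M : ModuleCat.{u + 1} A) :
    (Adeq.restr A A').obj ((Adeq.underline A).obj M) ⟶ (Adeq.underline A').obj (bcMod M) where
  app X := ModuleCat.ofHom (tauLin M X.unop.unop).toLinearMap
  naturality {X Y} f := by
    apply ModuleCat.hom_ext
    apply LinearMap.ext
    intro x
    change (((Adeq.Alg.restr A A').obj X.unop.unop : Adeq.Alg A) : Type u) ⊗[A] M at x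
    induction x using TensorProduct.induction_on with
    | zero => exact (map_zero _).trans (map_zero _).symm
    | add x y hx hy =>
      exact (map_add _ x y).trans ((congrArg₂ (· + ·) hx hy).trans (map_add _ x y).symm)
    | tmul b m =>
      let _ := algR (A := A) X.unop.unop
      let _ := algR (A := A) Y.unop.unop
      change tauLin M Y.unop.unop ((f.unop.unop.hom b) ⊗ₜ[A] m) =
        ((f.unop.unop.hom.toLinearMap.rTensor (A' ⊗[A] M)) (tauLin M X.unop.unop (b ⊗ₜ[A] m)))
      rw [tauLin_tmul, tauLin_tmul, LinearMap.rTensor_tmul]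
      rfl

lemma tau_apply (M : ModuleCat.{u + 1} A) (B' : Adeq.Alg A')
    (x : ((Adeq.restr A A').obj ((Adeq.underline A).obj M)).obj (Adeq.pt B')) :
    (tau M).app (Adeq.pt B') x = tauLin M B' x := rfl

lemma tau_bijective (M : ModuleCat.{u + 1} A) (B' : Adeq.Alg A') :
    Function.Bijective ((tau (A' := A') M).app (Adeq.pt B')) :=
  (tauLin M B').bijective

lemma tau_naturality {M N : ModuleCat.{u + 1} A} (α : M ⟶ N) :
    (Adeq.restr A A').map ((Adeq.underline A).map α) ≫ tau N =
      tau M ≫ (Adeq.underline A').map (bcMap α) := by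
  apply PresheafOfModules.hom_ext
  intro X
  apply ModuleCat.hom_ext
  apply LinearMap.ext
  intro x
  change (((Adeq.Alg.restr A A').obj X.unop.unop : Adeq.Alg A) : Type u) ⊗[A] M at x
  induction x using TensorProduct.induction_on with
  | zero => exact (map_zero _).trans (map_zero _).symm
  | add x y hx hy =>
    exact (map_add _ x y).trans ((congrArg₂ (· + ·) hx hy).trans (map_add _ x y).symm)
  | tmul b m =>
    let _ := algR (A := A) X.unop.unop
    change tauLin N X.unop.unop (b ⊗ₜ[A] (α.hom m)) =
      ((bcMap (A' := A') α).hom.baseChange X.unop.unop) (tauLin M X.unop.unop (b ⊗ₜ[A] m))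
    rw [tauLin_tmul, tauLin_tmul, LinearMap.baseChange_tmul]
    rfl

/-- the restriction of an adequate functor is adequate -/
theorem adequate_restr (F : Adeq.MVF A) (hF : Adeq.adequate A F) :
    Adeq.adequate A' ((Adeq.restr A A').obj F) := by
  obtain ⟨M, N, α, ⟨e⟩⟩ := hF
  let R := Adeq.restr A A'
  let ψ : R.obj (kernel ((Adeq.underline A).map α)) ⟶ (Adeq.underline A').obj (bcMod M) :=
    R.map (kernel.ι ((Adeq.underline A).map α)) ≫ tau M
  have hψ : ψ ≫ (Adeq.underline A').map (bcMap α) = 0 := by
    change (R.map (kernel.ι ((Adeq.underline A).map α)) ≫ tau M) ≫ _ = 0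
    rw [Category.assoc, ← tau_naturality, ← Category.assoc, ← Functor.map_comp, kernel.condition,
      Functor.map_zero, zero_comp]
  let θ : R.obj (kernel ((Adeq.underline A).map α)) ⟶
      kernel ((Adeq.underline A').map (bcMap (A' := A') α)) := kernel.lift _ ψ hψ
  have hθ : θ ≫ kernel.ι _ = ψ := kernel.lift_ι _ _ _
  have hpt : ∀ (B' : Adeq.Alg A') (w : (R.obj (kernel ((Adeq.underline A).map α))).obj (Adeq.pt B')),
      (kernel.ι ((Adeq.underline A').map (bcMap (A' := A') α))).app (Adeq.pt B')
        (θ.app (Adeq.pt B') w) =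
      (tau M).app (Adeq.pt B') ((kernel.ι ((Adeq.underline A).map α)).app
        (Adeq.pt ((Adeq.Alg.restr A A').obj B')) w) := by
    intro B' w
    exact eq_app_apply hθ B' w
  have hiso : IsIso θ := by
    apply isIso_of_bijective
    intro B'
    constructor
    · intro w₁ w₂ h
      have h1 := congrArg ((kernel.ι ((Adeq.underline A').map (bcMap (A' := A') α))).app
        (Adeq.pt B')) h
      have h1' := (hpt B' w₁).symm.trans (h1.trans (hpt B' w₂))
      exact ι_injective ((Adeq.underline A).map α) ((Adeq.Alg.restr A A').obj B')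
        ((tau_bijective M B').1 h1')
    · intro k'
      obtain ⟨x, hx⟩ := (tau_bijective M B').2
        ((kernel.ι ((Adeq.underline A').map (bcMap (A' := A') α))).app (Adeq.pt B') k')
      have hx0 : ((Adeq.underline A).map α).app (Adeq.pt ((Adeq.Alg.restr A A').obj B')) x = 0 := by
        apply (tau_bijective (A' := A') N B').1
        have h2 := eq_app_apply (tau_naturality (A' := A') α) B' x
        refine h2.trans ?_
        refine Eq.trans ?_ (map_zero _).symm
        refine (congrArg (fun z => ((Adeq.underline A').map (bcMap (A' := A') α)).app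
          (Adeq.pt B') z) hx).trans ?_
        exact (ι_exact ((Adeq.underline A').map (bcMap (A' := A') α)) B').apply_apply_eq_zero k'
      obtain ⟨w, hw⟩ := (ι_exact ((Adeq.underline A).map α) ((Adeq.Alg.restr A A').obj B') x).1 hx0
      refine ⟨w, ?_⟩
      apply ι_injective ((Adeq.underline A').map (bcMap (A' := A') α)) B'
      exact (hpt B' w).trans ((congrArg (fun z => (tau (A' := A') M).app (Adeq.pt B') z) hw).trans hx)
  exact ⟨bcMod M, bcMod N, bcMap α, ⟨R.mapIso e ≪≫ asIso θ⟩⟩

end Groth.Agent.Lib.Helper14.AdeqRestr
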