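import Groth.Agent.Lib.Helper14.AdeqYon
import Groth.Agent.Lib.Helper14.AdeqRestr

/-!
# Pushforward of adequate functors along a ring map
-/

universe u

set_option linter.unusedSectionVars false

open CategoryTheory Limits TensorProduct

namespace Groth.Agent.Lib.Helper14.AdeqPushFwd

open Groth.Agent.Lib.Helper14.AdeqBC Groth.Agent.Lib.Helper14.AdeqCoker
  Groth.Agent.Lib.Helper14.AdeqKer Groth.Agent.Lib.Helper14.AdeqYon

variable (A A' : Type u) [CommRing A] [CommRing A'] [Algebra A A']

instance : (Adeq.push A A').Additive where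
  map_add := by
    intros
    rfl

variable {A A'}

/-- restriction of scalars of a module -/
noncomputable abbrev rsMod (M' : ModuleCat.{u + 1} A') : ModuleCat.{u + 1} A :=
  (ModuleCat.restrictScalars (algebraMap A A')).obj M'

/-- restriction of scalars of a linear map -/
noncomputable abbrev rsMap {M' N' : ModuleCat.{u + 1} A'} (α : M' ⟶ N') :
    rsMod (A := A) M' ⟶ rsMod N' :=
  (ModuleCat.restrictScalars (algebraMap A A')).map α

section Sigma

variable (M' : ModuleCat.{u + 1} A')

/-- `m ↦ 1 ⊗ m` -/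
noncomputable def g₀ : rsMod (A := A) M' →ₗ[A]
    ((Adeq.push A A').obj ((Adeq.underline A').obj M')).obj (Adeq.pt (Adeq.algOf A A)) where
  toFun m := ((1 : A' ⊗[A] A) ⊗ₜ[A'] (m : M') : (A' ⊗[A] A) ⊗[A'] M')
  map_add' x y := TensorProduct.tmul_add _ _ _
  map_smul' a m := by
    change (1 : A' ⊗[A] A) ⊗ₜ[A'] ((algebraMap A A' a) • (m : M')) =
      (((1 : A') ⊗ₜ[A] a) * 1) ⊗ₜ[A'] (m : M')
    rw [← TensorProduct.smul_tmul, mul_one]
    congr 1
    rw [Algebra.TensorProduct.one_def, TensorProduct.smul_tmul', smul_eq_mul, mul_one,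
      Algebra.algebraMap_eq_smul_one, TensorProduct.smul_tmul, smul_eq_mul, mul_one]

/-- the comparison `underline (M'|_A) ⟶ push (underline M')` -/
noncomputable def sigma :
    (Adeq.underline A).obj (rsMod (A := A) M') ⟶ (Adeq.push A A').obj ((Adeq.underline A').obj M') :=
  descU _ _ (g₀ M')

lemma sigma_tmul (B : Adeq.Alg A) (b : B) (m : M') :
    (sigma (A := A) M').app (Adeq.pt B) (b ⊗ₜ[A] (m : rsMod (A := A) M') : (B : Type u) ⊗[A] rsMod (A := A) M') =
      ((((1 : A') ⊗ₜ[A] b : A' ⊗[A] (B : Type u))) ⊗ₜ[A'] m : (A' ⊗[A] (B : Type u)) ⊗[A'] M') := by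
  refine (descU_tmul _ _ (g₀ M') B b m).trans ?_
  change ((((1 : A') ⊗ₜ[A] b) * ((Algebra.TensorProduct.map (AlgHom.id A' A')
    (unitHom B).hom) (1 : A' ⊗[A] A))) ⊗ₜ[A'] m : (A' ⊗[A] (B : Type u)) ⊗[A'] M') = _
  rw [map_one, mul_one]

/-- the module `M'` with its `A`-module structure -/
@[reducible] noncomputable def modR : Module A M' := Module.compHom M' (algebraMap A A')

lemma towerR : letI := modR (A := A) M'; IsScalarTower A A' M' := by
  let _ := modR (A := A) M'
  exact IsScalarTower.of_algebraMap_smul (fun _ _ => rfl)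

/-- `B ⊗[A] M' ≃ (A' ⊗[A] B) ⊗[A'] M'` -/
noncomputable def sigmaEquiv (B : Adeq.Alg A) :
    letI := modR (A := A) M'
    (B : Type u) ⊗[A] M' ≃+ (A' ⊗[A] (B : Type u)) ⊗[A'] M' :=
  letI := modR (A := A) M'
  letI := towerR (A := A) M'
  (TensorProduct.comm A B M').toAddEquiv.trans
    ((TensorProduct.AlgebraTensorModule.cancelBaseChange A A' A' M' B).symm.toAddEquiv.trans
      (TensorProduct.comm A' M' (A' ⊗[A] (B : Type u))).toAddEquiv)

lemma sigmaEquiv_tmul (B : Adeq.Alg A) (b : B) (m : M') :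
    letI := modR (A := A) M'
    sigmaEquiv M' B (b ⊗ₜ[A] m) = ((1 : A') ⊗ₜ[A] b) ⊗ₜ[A'] m := by
  let _ := modR (A := A) M'
  let _ := towerR (A := A) M'
  change (TensorProduct.comm A' M' (A' ⊗[A] (B : Type u)))
    ((TensorProduct.AlgebraTensorModule.cancelBaseChange A A' A' M' B).symm
      ((TensorProduct.comm A B M') (b ⊗ₜ[A] m))) = _
  rw [TensorProduct.comm_tmul, TensorProduct.AlgebraTensorModule.cancelBaseChange_symm_tmul,
    TensorProduct.comm_tmul]

lemma sigma_eq (B : Adeq.Alg A) (x : (B : Type u) ⊗[A] rsMod (A := A) M') :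
    (sigma (A := A) M').app (Adeq.pt B) x = sigmaEquiv M' B x := by
  induction x using TensorProduct.induction_on with
  | zero => exact (map_zero _).trans (map_zero _).symm
  | add x y hx hy =>
    exact (map_add _ x y).trans ((congrArg₂ (· + ·) hx hy).trans (map_add _ x y).symm)
  | tmul b m => exact (sigma_tmul M' B b m).trans (sigmaEquiv_tmul M' B b m).symm

lemma sigma_bijective (B : Adeq.Alg A) :
    Function.Bijective ((sigma (A := A) M').app (Adeq.pt B)) := by
  have h : ⇑((sigma (A := A) M').app (Adeq.pt B)) = ⇑(sigmaEquiv (A := A) M' B) :=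
    funext (sigma_eq M' B)
  rw [h]
  exact (sigmaEquiv (A := A) M' B).bijective

end Sigma

lemma sigma_naturality {M' N' : ModuleCat.{u + 1} A'} (α : M' ⟶ N') :
    (Adeq.underline A).map (rsMap (A := A) α) ≫ sigma N' =
      sigma M' ≫ (Adeq.push A A').map ((Adeq.underline A').map α) := by
  apply underline_hom_ext
  intro n
  have h1 : (sigma (A := A) N').app (Adeq.pt (Adeq.algOf A A))
      (((Adeq.underline A).map (rsMap (A := A) α)).app (Adeq.pt (Adeq.algOf A A))
        ((1 : A) ⊗ₜ[A] n : A ⊗[A] rsMod (A := A) M')) =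
      ((((1 : A') ⊗ₜ[A] (1 : A) : A' ⊗[A] A)) ⊗ₜ[A'] (α.hom n) : (A' ⊗[A] A) ⊗[A'] N') :=
    sigma_tmul N' (Adeq.algOf A A) (1 : A) (α.hom n)
  have h2 : ((Adeq.push A A').map ((Adeq.underline A').map α)).app (Adeq.pt (Adeq.algOf A A))
      ((sigma (A := A) M').app (Adeq.pt (Adeq.algOf A A))
        ((1 : A) ⊗ₜ[A] n : A ⊗[A] rsMod (A := A) M')) =
      ((((1 : A') ⊗ₜ[A] (1 : A) : A' ⊗[A] A)) ⊗ₜ[A'] (α.hom n) : (A' ⊗[A] A) ⊗[A'] N') := by
    have h3 := sigma_tmul M' (Adeq.algOf A A) (1 : A) n
    refine (congrArg (fun z => ((Adeq.push A A').map ((Adeq.underline A').map α)).app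
      (Adeq.pt (Adeq.algOf A A)) z) h3).trans ?_
    rfl
  exact h1.trans h2.symm

/-- the pushforward of an adequate functor is adequate -/
theorem adequate_push (F' : Adeq.MVF A') (hF' : Adeq.adequate A' F') :
    Adeq.adequate A ((Adeq.push A A').obj F') := by
  obtain ⟨M', N', α, ⟨e⟩⟩ := hF'
  let P := Adeq.push A A'
  have hσM : IsIso (sigma (A := A) M') := isIso_of_bijective _ (sigma_bijective M')
  have hσN : IsIso (sigma (A := A) N') := isIso_of_bijective _ (sigma_bijective N')
  let ψ : P.obj (kernel ((Adeq.underline A').map α)) ⟶ (Adeq.underline A).obj (rsMod M') :=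
    P.map (kernel.ι ((Adeq.underline A').map α)) ≫ inv (sigma (A := A) M')
  have hψσ : ψ ≫ sigma (A := A) M' = P.map (kernel.ι ((Adeq.underline A').map α)) := by
    change (P.map (kernel.ι ((Adeq.underline A').map α)) ≫ inv (sigma (A := A) M')) ≫ _ = _
    rw [Category.assoc, IsIso.inv_hom_id, Category.comp_id]
  have hψ : ψ ≫ (Adeq.underline A).map (rsMap (A := A) α) = 0 := by
    rw [← cancel_mono (sigma (A := A) N'), Category.assoc, sigma_naturality, ← Category.assoc, hψσ,
      ← Functor.map_comp, kernel.condition, Functor.map_zero, zero_comp]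
  let θ : P.obj (kernel ((Adeq.underline A').map α)) ⟶
      kernel ((Adeq.underline A).map (rsMap (A := A) α)) := kernel.lift _ ψ hψ
  have hθ : θ ≫ kernel.ι _ = ψ := kernel.lift_ι _ _ _
  have hθσ : (θ ≫ kernel.ι _) ≫ sigma (A := A) M' =
      P.map (kernel.ι ((Adeq.underline A').map α)) := by rw [hθ, hψσ]
  have hpt : ∀ (B : Adeq.Alg A) (w : (P.obj (kernel ((Adeq.underline A').map α))).obj (Adeq.pt B)),
      (sigma (A := A) M').app (Adeq.pt B)
        ((kernel.ι ((Adeq.underline A).map (rsMap (A := A) α))).app (Adeq.pt B)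
          (θ.app (Adeq.pt B) w)) =
      (kernel.ι ((Adeq.underline A').map α)).app
        (Adeq.pt ((Adeq.Alg.baseChange A A').obj B)) w := by
    intro B w
    exact eq_app_apply hθσ B w
  have hiso : IsIso θ := by
    apply isIso_of_bijective
    intro B
    constructor
    · intro w₁ w₂ h
      have h1 := congrArg (fun z => (sigma (A := A) M').app (Adeq.pt B)
        ((kernel.ι ((Adeq.underline A).map (rsMap (A := A) α))).app (Adeq.pt B) z)) h
      have h1' := (hpt B w₁).symm.trans (h1.trans (hpt B w₂))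
      exact ι_injective ((Adeq.underline A').map α) ((Adeq.Alg.baseChange A A').obj B) h1'
    · intro k
      let x := (kernel.ι ((Adeq.underline A).map (rsMap (A := A) α))).app (Adeq.pt B) k
      have hx0 : ((Adeq.underline A').map α).app (Adeq.pt ((Adeq.Alg.baseChange A A').obj B))
          ((sigma (A := A) M').app (Adeq.pt B) x) = 0 := by
        have h2 := eq_app_apply (sigma_naturality (A := A) α) B x
        refine h2.symm.trans ?_
        refine Eq.trans ?_ (map_zero ((sigma (A := A) N').app (Adeq.pt B)).hom)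
        refine congrArg (fun z => (sigma (A := A) N').app (Adeq.pt B) z) ?_
        exact (ι_exact ((Adeq.underline A).map (rsMap (A := A) α)) B).apply_apply_eq_zero k
      obtain ⟨w, hw⟩ := (ι_exact ((Adeq.underline A').map α)
        ((Adeq.Alg.baseChange A A').obj B) _).1 hx0
      refine ⟨w, ?_⟩
      apply ι_injective ((Adeq.underline A).map (rsMap (A := A) α)) B
      apply (sigma_bijective (A := A) M' B).1
      exact (hpt B w).trans hw
  exact ⟨rsMod M', rsMod N', rsMap α, ⟨P.mapIso e ≪≫ asIso θ⟩⟩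

end Groth.Agent.Lib.Helper14.AdeqPushFwd
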