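import Groth.Prelude.Def_Adeq2
import Groth.Agent.Lib.Helper14.Adeq2Shfy
import Groth.Agent.Lib.Helper14.AdeqKerFam
import Groth.Agent.Lib.Helper14.AdeqPushFwd
import Groth.Agent.Lib.Helper14.SheafFam

universe u
open CategoryTheory CategoryTheory.Limits AlgebraicGeometry Opposite TensorProduct

namespace Groth.Agent.Lib.Helper14.Adeq2Push

variable {S T : Scheme.{u}} (f : T ⟶ S) {R : CommRingCat.{u}} (a : Spec R ⟶ S)

/-- the structure map `Spec B → S` -/
noncomputable def sB (B : Adeq.Alg R) : Spec (CommRingCat.of B) ⟶ S :=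
  Spec.map (CommRingCat.ofHom (algebraMap R B)) ≫ a

/-- the object `Spec B ×_S T` over `T` -/
noncomputable def XB (B : Adeq.Alg R) : Over T :=
  (Over.pullback f).obj ((Adeq.specOver a).obj (op B))

lemma XB_hom (B : Adeq.Alg R) : (XB f a B).hom = pullback.snd (sB a B) f := rfl

/-- an affine scheme over `T` and over `Spec R`, compatibly -/
structure Pt where
  /-- the ring -/
  A : CommRingCat.{u}
  /-- the structure map to `R` -/
  ρ : R ⟶ A
  /-- the map to `T` -/
  c : Spec A ⟶ T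
  /-- compatibility -/
  w : c ≫ f = Spec.map ρ ≫ a

variable {f a}

/-- the algebra structure of a point -/
noncomputable instance Pt.alg (p : Pt f a) : Algebra R p.A := p.ρ.hom.toAlgebra

/-- `Spec (A ⊗ B)` over `T` -/
noncomputable def YB (p : Pt f a) (B : Adeq.Alg R) : Over T :=
  (Adeq.specOver p.c).obj (op ((Adeq.Alg.baseChange R p.A).obj B))

/-- `A → A ⊗ B` -/
noncomputable def iA (p : Pt f a) (B : Adeq.Alg R) : p.A ⟶ CommRingCat.of (p.A ⊗[R] B) :=
  CommRingCat.ofHom (algebraMap p.A (p.A ⊗[R] B))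

/-- `B → A ⊗ B` -/
noncomputable def iB (p : Pt f a) (B : Adeq.Alg R) : CommRingCat.of B ⟶ CommRingCat.of (p.A ⊗[R] B) :=
  CommRingCat.ofHom (Algebra.TensorProduct.includeRight (R := R) (A := p.A) (B := B)).toRingHom

lemma YB_hom (p : Pt f a) (B : Adeq.Alg R) : (YB p B).hom = Spec.map (iA p B) ≫ p.c := rfl

lemma iAB (p : Pt f a) (B : Adeq.Alg R) :
    p.ρ ≫ iA p B = CommRingCat.ofHom (algebraMap R B) ≫ iB p B := by
  apply CommRingCat.hom_ext
  apply RingHom.ext
  intro r
  change (algebraMap R p.A r) ⊗ₜ[R] (1 : B) = (1 : p.A) ⊗ₜ[R] (algebraMap R B r)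
  rw [Algebra.algebraMap_eq_smul_one (A := B) r, Algebra.algebraMap_eq_smul_one (A := p.A) r,
    TensorProduct.tmul_smul, TensorProduct.smul_tmul']

lemma mleft_w (p : Pt f a) (B : Adeq.Alg R) :
    Spec.map (iB p B) ≫ sB a B = (Spec.map (iA p B) ≫ p.c) ≫ f := by
  rw [Category.assoc, p.w, sB, ← Category.assoc, ← Category.assoc, ← Spec.map_comp, ← Spec.map_comp,
    iAB]

/-- `Spec (A ⊗ B) → Spec B ×_S T` -/
noncomputable def mleft (p : Pt f a) (B : Adeq.Alg R) :
    Spec (CommRingCat.of (p.A ⊗[R] B)) ⟶ pullback (sB a B) f :=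
  pullback.lift (Spec.map (iB p B)) (Spec.map (iA p B) ≫ p.c) (mleft_w p B)

lemma mB_w (p : Pt f a) (B : Adeq.Alg R) : mleft p B ≫ (XB f a B).hom = (YB p B).hom := by
  rw [XB_hom, YB_hom]
  exact pullback.lift_snd _ _ _

/-- `Spec (A ⊗ B) → Spec B ×_S T` over `T` -/
noncomputable def mB (p : Pt f a) (B : Adeq.Alg R) : YB p B ⟶ XB f a B :=
  Over.homMk (mleft p B) (mB_w p B)

section Nat

variable (p : Pt f a) {B C : Adeq.Alg R} (g : B ⟶ C)

/-- functoriality of `XB` -/
noncomputable def XBmap : XB f a C ⟶ XB f a B :=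
  (Over.pullback f).map ((Adeq.specOver a).map g.op)

/-- functoriality of `YB` -/
noncomputable def YBmap : YB p C ⟶ YB p B :=
  (Adeq.specOver p.c).map ((Adeq.Alg.baseChange R p.A).map g).op

/-- `1 ⊗ g` as a ring map -/
noncomputable def tg : CommRingCat.of (p.A ⊗[R] B) ⟶ CommRingCat.of (p.A ⊗[R] C) :=
  CommRingCat.ofHom (Algebra.TensorProduct.map (AlgHom.id p.A p.A) g.hom).toRingHom

lemma YBmap_left : (YBmap p g).left = Spec.map (tg p g) := rfl

/-- the underlying morphism of schemes of `XBmap` -/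
noncomputable def XBl : pullback (sB a C) f ⟶ pullback (sB a B) f :=
  (XBmap (f := f) (a := a) g).left

lemma XBl_fst :
    XBl (f := f) (a := a) g ≫ pullback.fst (sB a B) f =
      pullback.fst (sB a C) f ≫ Spec.map (CommRingCat.ofHom g.hom.toRingHom) :=
  pullback.lift_fst _ _ _

lemma XBl_snd :
    XBl (f := f) (a := a) g ≫ pullback.snd (sB a B) f = pullback.snd (sB a C) f :=
  pullback.lift_snd _ _ _

lemma mleft_fst (B : Adeq.Alg R) : mleft p B ≫ pullback.fst (sB a B) f = Spec.map (iB p B) :=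
  pullback.lift_fst _ _ _

lemma mleft_snd (B : Adeq.Alg R) : mleft p B ≫ pullback.snd (sB a B) f = Spec.map (iA p B) ≫ p.c :=
  pullback.lift_snd _ _ _

lemma iB_tg : iB p B ≫ tg p g = CommRingCat.ofHom g.hom.toRingHom ≫ iB p C := by
  apply CommRingCat.hom_ext
  apply RingHom.ext
  intro b
  change Algebra.TensorProduct.map (AlgHom.id p.A p.A) g.hom ((1 : p.A) ⊗ₜ[R] b) = (1 : p.A) ⊗ₜ[R] g.hom b
  rw [Algebra.TensorProduct.map_tmul]
  rfl

lemma iA_tg : iA p B ≫ tg p g = iA p C := by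
  apply CommRingCat.hom_ext
  apply RingHom.ext
  intro x
  change Algebra.TensorProduct.map (AlgHom.id p.A p.A) g.hom (x ⊗ₜ[R] (1 : B)) = x ⊗ₜ[R] (1 : C)
  rw [Algebra.TensorProduct.map_tmul, map_one]
  rfl

lemma mB_naturality : YBmap p g ≫ mB p B = mB p C ≫ XBmap g := by
  apply Over.OverMorphism.ext
  change Spec.map (tg p g) ≫ mleft p B = mleft p C ≫ XBl (f := f) (a := a) g
  apply pullback.hom_ext
  · rw [Category.assoc, Category.assoc, XBl_fst, mleft_fst, ← Category.assoc, mleft_fst,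
      ← Spec.map_comp, ← Spec.map_comp, iB_tg]
  · rw [Category.assoc, Category.assoc, XBl_snd, mleft_snd, mleft_snd, ← Category.assoc,
      ← Spec.map_comp, iA_tg]

end Nat

/-- morphisms of points -/
structure PtHom (p q : Pt f a) where
  /-- the ring map -/
  θ : p.A ⟶ q.A
  /-- compatibility with the structure maps -/
  hρ : p.ρ ≫ θ = q.ρ
  /-- compatibility with the maps to `T` -/
  hc : Spec.map θ ≫ p.c = q.c

section Trans

variable {p q : Pt f a} (h : PtHom p q)

/-- the algebra map of a morphism of points -/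
noncomputable def PtHom.alg : p.A →ₐ[R] q.A :=
  { h.θ.hom with
    commutes' := fun r => by
      have e := congrArg (fun t => t.hom r) h.hρ
      exact e }

/-- `θ ⊗ 1` -/
noncomputable def tθ (B : Adeq.Alg R) : CommRingCat.of (p.A ⊗[R] B) ⟶ CommRingCat.of (q.A ⊗[R] B) :=
  CommRingCat.ofHom (Algebra.TensorProduct.map h.alg (AlgHom.id R B)).toRingHom

lemma iA_tθ (B : Adeq.Alg R) : iA p B ≫ tθ h B = h.θ ≫ iA q B := by
  apply CommRingCat.hom_ext
  apply RingHom.ext
  intro x
  change Algebra.TensorProduct.map h.alg (AlgHom.id R B) (x ⊗ₜ[R] (1 : B)) = (h.θ.hom x) ⊗ₜ[R] (1 : B)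
  rw [Algebra.TensorProduct.map_tmul]
  rfl

lemma iB_tθ (B : Adeq.Alg R) : iB p B ≫ tθ h B = iB q B := by
  apply CommRingCat.hom_ext
  apply RingHom.ext
  intro b
  change Algebra.TensorProduct.map h.alg (AlgHom.id R B) ((1 : p.A) ⊗ₜ[R] b) = (1 : q.A) ⊗ₜ[R] b
  rw [Algebra.TensorProduct.map_tmul, map_one]
  rfl

lemma nB_w (B : Adeq.Alg R) : Spec.map (tθ h B) ≫ (YB p B).hom = (YB q B).hom := by
  rw [YB_hom, YB_hom, ← Category.assoc, ← Spec.map_comp, iA_tθ, Spec.map_comp, Category.assoc, h.hc]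

/-- `Spec (A_q ⊗ B) → Spec (A_p ⊗ B)` over `T` -/
noncomputable def nB (B : Adeq.Alg R) : YB q B ⟶ YB p B :=
  Over.homMk (Spec.map (tθ h B)) (nB_w h B)

lemma nB_mB (B : Adeq.Alg R) : nB h B ≫ mB p B = mB q B := by
  apply Over.OverMorphism.ext
  change Spec.map (tθ h B) ≫ mleft p B = mleft q B
  apply pullback.hom_ext
  · rw [Category.assoc, mleft_fst, mleft_fst, ← Spec.map_comp, iB_tθ]
  · rw [Category.assoc, mleft_snd, mleft_snd, ← Category.assoc, ← Spec.map_comp, iA_tθ, Spec.map_comp,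
      Category.assoc, h.hc]

lemma tθ_tg {B C : Adeq.Alg R} (g : B ⟶ C) : tθ h B ≫ tg q g = tg p g ≫ tθ h C := by
  apply CommRingCat.hom_ext
  apply RingHom.ext
  intro z
  change Algebra.TensorProduct.map (AlgHom.id q.A q.A) g.hom
      (Algebra.TensorProduct.map h.alg (AlgHom.id R B) z) =
    Algebra.TensorProduct.map h.alg (AlgHom.id R C)
      (Algebra.TensorProduct.map (AlgHom.id p.A p.A) g.hom z)
  induction z using TensorProduct.induction_on with
  | zero => simp
  | tmul x b => simp only [Algebra.TensorProduct.map_tmul]; rfl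
  | add x y hx hy => rw [map_add, map_add, map_add, map_add, hx, hy]

lemma nB_naturality {B C : Adeq.Alg R} (g : B ⟶ C) :
    YBmap q g ≫ nB h B = nB h C ≫ YBmap p g := by
  apply Over.OverMorphism.ext
  change Spec.map (tg q g) ≫ Spec.map (tθ h B) = Spec.map (tθ h C) ≫ Spec.map (tg p g)
  rw [← Spec.map_comp, ← Spec.map_comp, tθ_tg]

end Trans

section Geom

/-- the map from a point to `Spec R ×_S T` -/
noncomputable def wP (p : Pt f a) : Spec p.A ⟶ pullback a f :=
  pullback.lift (Spec.map p.ρ) p.c p.w.symm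

lemma wP_fst (p : Pt f a) : wP p ≫ pullback.fst a f = Spec.map p.ρ := pullback.lift_fst _ _ _

lemma wP_snd (p : Pt f a) : wP p ≫ pullback.snd a f = p.c := pullback.lift_snd _ _ _

variable (f a) in
/-- `Spec B ×_S T → Spec R ×_S T` -/
noncomputable def θB (B : Adeq.Alg R) : pullback (sB a B) f ⟶ pullback a f :=
  pullback.lift (pullback.fst (sB a B) f ≫ Spec.map (CommRingCat.ofHom (algebraMap R B)))
    (pullback.snd (sB a B) f) (by rw [Category.assoc]; exact pullback.condition)

lemma θB_fst (B : Adeq.Alg R) : θB f a B ≫ pullback.fst a f =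
    pullback.fst (sB a B) f ≫ Spec.map (CommRingCat.ofHom (algebraMap R B)) := pullback.lift_fst _ _ _

lemma θB_snd (B : Adeq.Alg R) : θB f a B ≫ pullback.snd a f = pullback.snd (sB a B) f :=
  pullback.lift_snd _ _ _

lemma isPullback_θB (B : Adeq.Alg R) :
    IsPullback (θB f a B) (pullback.fst (sB a B) f) (pullback.fst a f)
      (Spec.map (CommRingCat.ofHom (algebraMap R B))) := by
  have s : IsPullback (θB f a B ≫ pullback.snd a f) (pullback.fst (sB a B) f) f
      (Spec.map (CommRingCat.ofHom (algebraMap R B)) ≫ a) := by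
    rw [θB_snd]
    exact (IsPullback.of_hasPullback (sB a B) f).flip
  exact IsPullback.of_right s (θB_fst B) (IsPullback.of_hasPullback a f).flip

lemma isPullback_tensor (p : Pt f a) (B : Adeq.Alg R) :
    IsPullback (Spec.map (iB p B)) (Spec.map (iA p B))
      (Spec.map (CommRingCat.ofHom (algebraMap R B))) (Spec.map p.ρ) :=
  (isPullback_SpecMap_of_isPushout _ _ _ _ (CommRingCat.isPushout_tensorProduct R p.A B)).flip

lemma mleft_θB (p : Pt f a) (B : Adeq.Alg R) :
    mleft p B ≫ θB f a B = Spec.map (iA p B) ≫ wP p := by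
  apply pullback.hom_ext
  · rw [Category.assoc, θB_fst, ← Category.assoc, mleft_fst, Category.assoc, wP_fst,
      ← Spec.map_comp, ← Spec.map_comp, iAB]
  · rw [Category.assoc, θB_snd, mleft_snd, Category.assoc, wP_snd]

lemma isPullback_mleft (p : Pt f a) (B : Adeq.Alg R) :
    IsPullback (mleft p B) (Spec.map (iA p B)) (θB f a B) (wP p) := by
  have s : IsPullback (mleft p B ≫ pullback.fst (sB a B) f) (Spec.map (iA p B))
      (Spec.map (CommRingCat.ofHom (algebraMap R B))) (wP p ≫ pullback.fst a f) := by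
    rw [mleft_fst, wP_fst]
    exact isPullback_tensor p B
  exact IsPullback.of_right s (mleft_θB p B) (isPullback_θB B).flip

end Geom

section Eta

variable (K : Precoverage Scheme.{u}) [BigSite.OSh K] (M : BigSite.Mod K T)

variable (f a) in
/-- `F_{f_* M, R}` -/
noncomputable abbrev Fpush : Adeq.MVF R := (Adeq.toMVF K a).obj ((BigSite.pushMod K f).obj M)

/-- `B ↦ M(Spec (A ⊗ B))` -/
noncomputable abbrev Gp (p : Pt f a) : Adeq.MVF R :=
  (Adeq.push R p.A).obj ((Adeq.toMVF K p.c).obj M)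

lemma Fpush_map {X Y : (Adeq.Alg R)ᵒᵖᵒᵖ} (g : X ⟶ Y) :
    (Fpush f a K M).presheaf.map g = M.val.presheaf.map (XBmap (f := f) (a := a) g.unop.unop).op := rfl

lemma Gp_map (p : Pt f a) {X Y : (Adeq.Alg R)ᵒᵖᵒᵖ} (g : X ⟶ Y) :
    (Gp K M p).presheaf.map g = M.val.presheaf.map (YBmap p g.unop.unop).op := rfl

/-- the restriction maps `M(Spec B ×_S T) → M(Spec (A ⊗ B))` -/
noncomputable def phi (p : Pt f a) : (Fpush f a K M).presheaf ⟶ (Gp K M p).presheaf where
  app X := M.val.presheaf.map (mB p X.unop.unop).op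
  naturality {X Y} g := by
    refine (congrArg (· ≫ M.val.presheaf.map (mB p Y.unop.unop).op) (Fpush_map K M g)).trans ?_
    refine Eq.trans ?_ (congrArg (M.val.presheaf.map (mB p X.unop.unop).op ≫ ·) (Gp_map K M p g)).symm
    refine (M.val.presheaf.map_comp _ _).symm.trans ?_
    refine Eq.trans ?_ (M.val.presheaf.map_comp _ _)
    rw [← op_comp, ← op_comp, mB_naturality]

/-- the restriction maps as a morphism of module-valued functors -/
noncomputable def etaP (p : Pt f a) : Fpush f a K M ⟶ Gp K M p :=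
  PresheafOfModules.homMk (phi K M p) (by
    intro X r m
    obtain ⟨⟨B⟩⟩ := X
    have h := M.val.map_smul (mB p B).op
      ((Sheaf.toPushforwardOverPullback (BigSite.ORingAbs K) f).hom.app _ (Adeq.toSect K a B r)) m
    refine h.trans ?_
    congr 1
    apply ULift.ext
    change ((Scheme.ΓSpecIso (CommRingCat.of B)).inv ≫ (pullback.fst (sB a B) f).appTop ≫
      (mleft p B).appTop) r = (iB p B ≫ (Scheme.ΓSpecIso (CommRingCat.of (p.A ⊗[R] B))).inv) r
    rw [← Scheme.Hom.comp_appTop, mleft_fst, Scheme.ΓSpecIso_inv_naturality])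

/-- the transition maps on presheaves -/
noncomputable def psi {p q : Pt f a} (h : PtHom p q) : (Gp K M p).presheaf ⟶ (Gp K M q).presheaf where
  app X := M.val.presheaf.map (nB h X.unop.unop).op
  naturality {X Y} g := by
    refine (congrArg (· ≫ M.val.presheaf.map (nB h Y.unop.unop).op) (Gp_map K M p g)).trans ?_
    refine Eq.trans ?_ (congrArg (M.val.presheaf.map (nB h X.unop.unop).op ≫ ·) (Gp_map K M q g)).symm
    refine (M.val.presheaf.map_comp _ _).symm.trans ?_
    refine Eq.trans ?_ (M.val.presheaf.map_comp _ _)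
    rw [← op_comp, ← op_comp, nB_naturality]

/-- the transition maps as morphisms of module-valued functors -/
noncomputable def sigmaP {p q : Pt f a} (h : PtHom p q) : Gp K M p ⟶ Gp K M q :=
  PresheafOfModules.homMk (psi K M h) (by
    intro X r m
    obtain ⟨⟨B⟩⟩ := X
    have e := M.val.map_smul (nB h B).op
      (Adeq.toSect K p.c ((Adeq.Alg.baseChange R p.A).obj B) ((1 : p.A) ⊗ₜ[R] r)) m
    refine e.trans ?_
    congr 1
    apply ULift.ext
    change ((Scheme.ΓSpecIso (CommRingCat.of (p.A ⊗[R] B))).inv ≫ (Spec.map (tθ h B)).appTop)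
      ((1 : p.A) ⊗ₜ[R] r) = (Scheme.ΓSpecIso (CommRingCat.of (q.A ⊗[R] B))).inv ((1 : q.A) ⊗ₜ[R] r)
    rw [← Scheme.ΓSpecIso_inv_naturality]
    change (Scheme.ΓSpecIso (CommRingCat.of (q.A ⊗[R] B))).inv
      (Algebra.TensorProduct.map h.alg (AlgHom.id R B) ((1 : p.A) ⊗ₜ[R] r)) = _
    rw [Algebra.TensorProduct.map_tmul, map_one]
    rfl)

lemma etaP_sigmaP {p q : Pt f a} (h : PtHom p q) : etaP K M p ≫ sigmaP K M h = etaP K M q := by
  apply AdeqDesc.mvf_hom_ext
  intro B x
  refine (PresheafOfModules.map_comp_apply M.val (mB p B).op (nB h B).op x).symm.trans ?_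
  have e : (mB p B).op ≫ (nB h B).op = (mB q B).op := by rw [← op_comp, nB_mB]
  exact PresheafOfModules.congr_map_apply M.val e x

end Eta


section Cover

variable (K : Precoverage Scheme.{u}) (hZar : Scheme.zariskiPrecoverage ≤ K)

include hZar in
lemma cover_XB {I : Type u} (p : I → Pt f a)
    (hcov : Presieve.ofArrows (fun k => Spec (p k).A) (fun k => wP (p k)) ∈
      Scheme.zariskiPrecoverage (pullback a f))
    (B : Adeq.Alg R) :
    Sieve.ofArrows (fun k => YB (p k) B) (fun k => mB (p k) B) ∈ (QuotSh.J K T) (XB f a B) := by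
  rw [GrothendieckTopology.mem_over_iff, Sieve.overEquiv_ofArrows]
  apply Precoverage.generate_mem_toGrothendieck
  apply hZar
  exact Precoverage.mem_coverings_of_isPullback (fun k => wP (p k)) hcov (θB f a B)
    (fun k => mleft (p k) B) (fun k => Spec.map (iA (p k) B)) (fun k => isPullback_mleft (p k) B)

end Cover

section Glue2

universe v' u' w'

variable {C : Type u'} [Category.{v'} C] (J : GrothendieckTopology C)
  (P : Cᵒᵖ ⥤ AddCommGrpCat.{max v' u'}) (hP : Presheaf.IsSheaf J P)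
  {U : C} {ι : Type*} (X : ι → C) (π : ∀ i, X i ⟶ U) (hcov : Sieve.ofArrows X π ∈ J U)
  (ι2 : ι → ι → Type*) (X2 : ∀ i j, ι2 i j → C) (p1 : ∀ i j m, X2 i j m ⟶ X i)
  (p2 : ∀ i j m, X2 i j m ⟶ X j)
  (hpb : ∀ (i j : ι) (Z : C) (gi : Z ⟶ X i) (gj : Z ⟶ X j), gi ≫ π i = gj ≫ π j →
    ∃ (ι' : Type w') (W : ι' → C) (h : ∀ n, W n ⟶ Z), Sieve.ofArrows W h ∈ J Z ∧
      ∀ n, ∃ (m : ι2 i j) (l : W n ⟶ X2 i j m), l ≫ p1 i j m = h n ≫ gi ∧ l ≫ p2 i j m = h n ≫ gj)

include hP hcov hpb in
/-- gluing along a cover whose double overlaps are only covered by the given objects -/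
lemma glue2 (y : ∀ i, P.obj (op (X i)))
    (hy : ∀ i j m, P.map (p1 i j m).op (y i) = P.map (p2 i j m).op (y j)) :
    ∃ s : P.obj (op U), ∀ i, P.map (π i).op s = y i := by
  obtain ⟨s, hs, -⟩ := SheafFam.sheafFor J P hP X π hcov y (fun i j Z gi gj hg => by
    change P.map gi.op (y i) = P.map gj.op (y j)
    obtain ⟨ι', W, h, hW, hl⟩ := hpb i j Z gi gj hg
    rw [← sub_eq_zero]
    apply SheafFam.sep J P hP W h hW
    intro n
    obtain ⟨m, l, e1, e2⟩ := hl n
    rw [map_sub, sub_eq_zero]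
    have f1 : P.map (h n).op (P.map gi.op (y i)) = P.map l.op (P.map (p1 i j m).op (y i)) := by
      have a1 : P.map (h n ≫ gi).op (y i) = P.map (h n).op (P.map gi.op (y i)) := by
        rw [op_comp, Functor.map_comp]; rfl
      have a2 : P.map (l ≫ p1 i j m).op (y i) = P.map l.op (P.map (p1 i j m).op (y i)) := by
        rw [op_comp, Functor.map_comp]; rfl
      rw [← a1, ← a2, e1]
    have f2 : P.map (h n).op (P.map gj.op (y j)) = P.map l.op (P.map (p2 i j m).op (y j)) := by
      have a1 : P.map (h n ≫ gj).op (y j) = P.map (h n).op (P.map gj.op (y j)) := by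
        rw [op_comp, Functor.map_comp]; rfl
      have a2 : P.map (l ≫ p2 i j m).op (y j) = P.map l.op (P.map (p2 i j m).op (y j)) := by
        rw [op_comp, Functor.map_comp]; rfl
      rw [← a1, ← a2, e2]
    rw [f1, f2, hy i j m])
  exact ⟨s, hs⟩

end Glue2

end Groth.Agent.Lib.Helper14.Adeq2Push
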