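import Groth.Agent.Lib.Helper14.Adeq2Push

universe u
open CategoryTheory CategoryTheory.Limits AlgebraicGeometry Opposite TensorProduct

namespace Groth.Agent.Lib.Helper14.Adeq2Push

variable {S T : Scheme.{u}} {f : T ⟶ S} {R : CommRingCat.{u}} {a : Spec R ⟶ S}

section Lft

variable {pk qm : Pt f a} (h1 : PtHom pk qm) (B : Adeq.Alg R) {W : Scheme.{u}}
  (s : W ⟶ Spec qm.A) (gk : W ⟶ Spec (CommRingCat.of (pk.A ⊗[R] B)))
  (e : gk ≫ Spec.map (iA pk B) = s ≫ Spec.map h1.θ)

include e in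
lemma lft_w : (gk ≫ Spec.map (iB pk B)) ≫ Spec.map (CommRingCat.ofHom (algebraMap R B)) =
    s ≫ Spec.map qm.ρ := by
  rw [Category.assoc, ← Spec.map_comp, ← iAB, Spec.map_comp, ← Category.assoc, e, Category.assoc,
    ← Spec.map_comp, h1.hρ]

/-- the lift into `Spec (A_q ⊗ B)` -/
noncomputable def lft : W ⟶ Spec (CommRingCat.of (qm.A ⊗[R] B)) :=
  (isPullback_tensor qm B).lift (gk ≫ Spec.map (iB pk B)) s (lft_w h1 B s gk e)

lemma lft_iB : lft h1 B s gk e ≫ Spec.map (iB qm B) = gk ≫ Spec.map (iB pk B) :=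
  IsPullback.lift_fst _ _ _ _

lemma lft_iA : lft h1 B s gk e ≫ Spec.map (iA qm B) = s :=
  IsPullback.lift_snd _ _ _ _

lemma lft_tθ {p' : Pt f a} (hk : PtHom p' qm) (g' : W ⟶ Spec (CommRingCat.of (p'.A ⊗[R] B)))
    (e' : g' ≫ Spec.map (iA p' B) = s ≫ Spec.map hk.θ)
    (eB : gk ≫ Spec.map (iB pk B) = g' ≫ Spec.map (iB p' B)) :
    lft h1 B s gk e ≫ Spec.map (tθ hk B) = g' := by
  apply (isPullback_tensor p' B).hom_ext
  · rw [Category.assoc, ← Spec.map_comp, iB_tθ, lft_iB, eB]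
  · rw [Category.assoc, ← Spec.map_comp, iA_tθ, Spec.map_comp, ← Category.assoc, lft_iA, e']

end Lft

lemma wP_hom {p q : Pt f a} (h : PtHom p q) : Spec.map h.θ ≫ wP p = wP q := by
  apply pullback.hom_ext
  · rw [Category.assoc, wP_fst, wP_fst, ← Spec.map_comp, h.hρ]
  · rw [Category.assoc, wP_snd, wP_snd, h.hc]

/-- the comparison map into the intersection -/
noncomputable def cM {pk pl qm : Pt f a} (h1 : PtHom pk qm) (h2 : PtHom pl qm) :
    Spec qm.A ⟶ pullback (wP pk) (wP pl) :=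
  pullback.lift (Spec.map h1.θ) (Spec.map h2.θ) ((wP_hom h1).trans (wP_hom h2).symm)

lemma cM_fst {pk pl qm : Pt f a} (h1 : PtHom pk qm) (h2 : PtHom pl qm) :
    cM h1 h2 ≫ pullback.fst (wP pk) (wP pl) = Spec.map h1.θ := pullback.lift_fst _ _ _

lemma cM_snd {pk pl qm : Pt f a} (h1 : PtHom pk qm) (h2 : PtHom pl qm) :
    cM h1 h2 ≫ pullback.snd (wP pk) (wP pl) = Spec.map h2.θ := pullback.lift_snd _ _ _


section LocFac

variable {pk pl : Pt f a} (B : Adeq.Alg R) {Z : Over T}

/-- explicitly typed underlying map -/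
noncomputable def gL (p : Pt f a) (g : Z ⟶ YB p B) :
    Z.left ⟶ Spec (CommRingCat.of (p.A ⊗[R] B)) := g.left

lemma gL_hom (p : Pt f a) (g : Z ⟶ YB p B) : gL B p g ≫ Spec.map (iA p B) ≫ p.c = Z.hom :=
  Over.w g

variable (gk : Z ⟶ YB pk B) (gl : Z ⟶ YB pl B) (hg : gk ≫ mB pk B = gl ≫ mB pl B)

include hg in
lemma gL_mleft : gL B pk gk ≫ mleft pk B = gL B pl gl ≫ mleft pl B :=
  congrArg (fun t => t.left) hg

include hg in
lemma gL_iB : gL B pk gk ≫ Spec.map (iB pk B) = gL B pl gl ≫ Spec.map (iB pl B) := by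
  rw [← mleft_fst, ← mleft_fst, ← Category.assoc, ← Category.assoc, gL_mleft B gk gl hg]

include hg in
lemma uZ_w : (gL B pk gk ≫ Spec.map (iA pk B)) ≫ wP pk =
    (gL B pl gl ≫ Spec.map (iA pl B)) ≫ wP pl := by
  rw [Category.assoc, Category.assoc, ← mleft_θB, ← mleft_θB, ← Category.assoc, ← Category.assoc,
    gL_mleft B gk gl hg]

/-- the map to the intersection -/
noncomputable def uZ : Z.left ⟶ pullback (wP pk) (wP pl) :=
  pullback.lift (gL B pk gk ≫ Spec.map (iA pk B)) (gL B pl gl ≫ Spec.map (iA pl B))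
    (uZ_w B gk gl hg)

lemma uZ_fst : uZ B gk gl hg ≫ pullback.fst (wP pk) (wP pl) = gL B pk gk ≫ Spec.map (iA pk B) :=
  pullback.lift_fst _ _ _

lemma uZ_snd : uZ B gk gl hg ≫ pullback.snd (wP pk) (wP pl) = gL B pl gl ≫ Spec.map (iA pl B) :=
  pullback.lift_snd _ _ _

variable {qm : Pt f a} (h1 : PtHom pk qm) (h2 : PtHom pl qm)

/-- the member of the cover of `Z` -/
noncomputable def WZ : Over T :=
  Over.mk (pullback.fst (uZ B gk gl hg) (cM h1 h2) ≫ Z.hom)

/-- the inclusion of the member of the cover of `Z` -/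
noncomputable def hZ : WZ B gk gl hg h1 h2 ⟶ Z :=
  Over.homMk (pullback.fst (uZ B gk gl hg) (cM h1 h2)) rfl

lemma eK : (pullback.fst (uZ B gk gl hg) (cM h1 h2) ≫ gL B pk gk) ≫ Spec.map (iA pk B) =
    pullback.snd (uZ B gk gl hg) (cM h1 h2) ≫ Spec.map h1.θ := by
  rw [Category.assoc, ← uZ_fst B gk gl hg, ← Category.assoc, pullback.condition, Category.assoc, cM_fst]

lemma eL : (pullback.fst (uZ B gk gl hg) (cM h1 h2) ≫ gL B pl gl) ≫ Spec.map (iA pl B) =
    pullback.snd (uZ B gk gl hg) (cM h1 h2) ≫ Spec.map h2.θ := by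
  rw [Category.assoc, ← uZ_snd B gk gl hg, ← Category.assoc, pullback.condition, Category.assoc, cM_snd]

/-- the underlying map of the local lift -/
noncomputable def lZl : (WZ B gk gl hg h1 h2).left ⟶ Spec (CommRingCat.of (qm.A ⊗[R] B)) :=
  lft h1 B (pullback.snd (uZ B gk gl hg) (cM h1 h2))
    (pullback.fst (uZ B gk gl hg) (cM h1 h2) ≫ gL B pk gk) (eK B gk gl hg h1 h2)

lemma lZl_w : lZl B gk gl hg h1 h2 ≫ (YB qm B).hom = (WZ B gk gl hg h1 h2).hom := by
  rw [YB_hom, ← Category.assoc]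
  refine (congrArg (· ≫ qm.c) (lft_iA h1 B _ _ (eK B gk gl hg h1 h2))).trans ?_
  rw [← h1.hc, ← Category.assoc, ← eK B gk gl hg h1 h2, Category.assoc, Category.assoc, gL_hom]
  rfl

/-- the local lift -/
noncomputable def lZ : WZ B gk gl hg h1 h2 ⟶ YB qm B :=
  Over.homMk (lZl B gk gl hg h1 h2) (lZl_w B gk gl hg h1 h2)

lemma lZ_nB1 : lZ B gk gl hg h1 h2 ≫ nB h1 B = hZ B gk gl hg h1 h2 ≫ gk := by
  apply Over.OverMorphism.ext
  exact lft_tθ h1 B _ _ (eK B gk gl hg h1 h2) h1 _ (eK B gk gl hg h1 h2) rfl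

lemma lZ_nB2 : lZ B gk gl hg h1 h2 ≫ nB h2 B = hZ B gk gl hg h1 h2 ≫ gl := by
  apply Over.OverMorphism.ext
  refine lft_tθ h1 B _ _ (eK B gk gl hg h1 h2) h2 (pullback.fst (uZ B gk gl hg) (cM h1 h2) ≫ gL B pl gl)
    (eL B gk gl hg h1 h2) ?_
  rw [Category.assoc, Category.assoc, gL_iB B gk gl hg]

end LocFac


section LocFac2

variable (K : Precoverage Scheme.{u}) (hZar : Scheme.zariskiPrecoverage ≤ K)
  {pk pl : Pt f a} {I2 : Type u} (q : I2 → Pt f a) (h1 : ∀ m, PtHom pk (q m))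
  (h2 : ∀ m, PtHom pl (q m))
  (cov2 : Presieve.ofArrows (fun m => Spec (q m).A) (fun m => cM (h1 m) (h2 m)) ∈
    Scheme.zariskiPrecoverage (pullback (wP pk) (wP pl)))
  (B : Adeq.Alg R) {Z : Over T} (gk : Z ⟶ YB pk B) (gl : Z ⟶ YB pl B)
  (hg : gk ≫ mB pk B = gl ≫ mB pl B)

include hZar cov2 in
lemma cover_Z : Sieve.ofArrows (fun m => WZ B gk gl hg (h1 m) (h2 m))
    (fun m => hZ B gk gl hg (h1 m) (h2 m)) ∈ (QuotSh.J K T) Z := by
  rw [GrothendieckTopology.mem_over_iff, Sieve.overEquiv_ofArrows]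
  apply Precoverage.generate_mem_toGrothendieck
  apply hZar
  exact Precoverage.mem_coverings_of_isPullback (fun m => cM (h1 m) (h2 m)) cov2 (uZ B gk gl hg)
    (fun m => pullback.fst (uZ B gk gl hg) (cM (h1 m) (h2 m)))
    (fun m => pullback.snd (uZ B gk gl hg) (cM (h1 m) (h2 m)))
    (fun m => IsPullback.of_hasPullback _ _)

include hZar cov2 hg in
lemma locfac : ∃ (ι' : Type u) (W : ι' → Over T) (h : ∀ n, W n ⟶ Z),
    Sieve.ofArrows W h ∈ (QuotSh.J K T) Z ∧
      ∀ n, ∃ (m : I2) (l : W n ⟶ YB (q m) B), l ≫ nB (h1 m) B = h n ≫ gk ∧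
        l ≫ nB (h2 m) B = h n ≫ gl :=
  ⟨I2, _, _, cover_Z K hZar q h1 h2 cov2 B gk gl hg, fun m =>
    ⟨m, lZ B gk gl hg (h1 m) (h2 m), lZ_nB1 B gk gl hg (h1 m) (h2 m),
      lZ_nB2 B gk gl hg (h1 m) (h2 m)⟩⟩

end LocFac2


variable (f a) in
/-- finite affine cover data for `Spec R ×_S T` -/
structure CovData where
  /-- index set -/
  I : Type u
  /-- finiteness -/
  fin : Fintype I
  /-- the affine pieces -/
  p : I → Pt f a
  /-- they cover -/
  cov : Presieve.ofArrows (fun k => Spec (p k).A) (fun k => wP (p k)) ∈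
    Scheme.zariskiPrecoverage (pullback a f)
  /-- index sets for the overlaps -/
  I2 : I → I → Type u
  /-- finiteness -/
  fin2 : ∀ k l, Fintype (I2 k l)
  /-- the affine pieces of the overlaps -/
  q : ∀ k l, I2 k l → Pt f a
  /-- first inclusion -/
  h1 : ∀ k l m, PtHom (p k) (q k l m)
  /-- second inclusion -/
  h2 : ∀ k l m, PtHom (p l) (q k l m)
  /-- they cover the overlaps -/
  cov2 : ∀ k l, Presieve.ofArrows (fun m => Spec (q k l m).A) (fun m => cM (h1 k l m) (h2 k l m)) ∈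
    Scheme.zariskiPrecoverage (pullback (wP (p k)) (wP (p l)))

section Main

variable (K : Precoverage Scheme.{u}) [BigSite.OSh K] (hZar : Scheme.zariskiPrecoverage ≤ K)
  (M : BigSite.Mod K T)
  (hadq : ∀ (A : CommRingCat.{u}) (c : Spec A ⟶ T), Adeq.adequate A ((Adeq.toMVF K c).obj M))

lemma etaP_app (p : Pt f a) (B : Adeq.Alg R) (x : (Fpush f a K M).obj (Adeq.pt B)) :
    (etaP K M p).app (Adeq.pt B) x = M.val.presheaf.map (mB p B).op x := rfl

lemma sigmaP_app {p q : Pt f a} (h : PtHom p q) (B : Adeq.Alg R) (x : (Gp K M p).obj (Adeq.pt B)) :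
    (sigmaP K M h).app (Adeq.pt B) x = M.val.presheaf.map (nB h B).op x := rfl

include hZar hadq in
theorem adequate_Fpush (D : CovData f a) : Adeq.adequate R (Fpush f a K M) := by
  letI := D.fin
  letI := D.fin2
  have hb0 : HasFiniteBiproducts (Adeq.MVF R) := Abelian.hasFiniteBiproducts
  have hb1 : HasBiproductsOfShape (ULift.{u + 1} D.I) (Adeq.MVF R) := inferInstance
  have hb2 : HasBiproductsOfShape (ULift.{u + 1} (Σ k l, D.I2 k l)) (Adeq.MVF R) := inferInstance
  refine AdeqKerFam.adequate_of_equalizer (J₁ := ULift.{u + 1} D.I)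
    (J₂ := ULift.{u + 1} (Σ k l, D.I2 k l)) (Fpush f a K M)
    (fun k => Gp K M (D.p k.down))
    (fun n => Gp K M (D.q n.down.1 n.down.2.1 n.down.2.2))
    (fun k => AdeqPushFwd.adequate_push _ (hadq _ _))
    (fun n => AdeqPushFwd.adequate_push _ (hadq _ _))
    (fun k => etaP K M (D.p k.down))
    (fun n => ⟨n.down.1⟩) (fun n => ⟨n.down.2.1⟩)
    (fun n => sigmaP K M (D.h1 n.down.1 n.down.2.1 n.down.2.2))
    (fun n => sigmaP K M (D.h2 n.down.1 n.down.2.1 n.down.2.2))
    (fun n => (etaP_sigmaP K M _).trans (etaP_sigmaP K M _).symm) ?_ ?_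
  · intro B x hx
    exact SheafFam.sep (QuotSh.J K T) M.val.presheaf M.isSheaf _ _ (cover_XB K hZar D.p D.cov B) x
      (fun k => hx ⟨k⟩)
  · intro B y hy
    obtain ⟨x, hx⟩ := glue2 (QuotSh.J K T) M.val.presheaf M.isSheaf _ _ (cover_XB K hZar D.p D.cov B)
      D.I2 (fun k l m => YB (D.q k l m) B) (fun k l m => nB (D.h1 k l m) B)
      (fun k l m => nB (D.h2 k l m) B)
      (fun k l Z gk gl hg => locfac K hZar (D.q k l) (D.h1 k l) (D.h2 k l) (D.cov2 k l) B gk gl hg)
      (fun k => y ⟨k⟩) (fun k l m => hy ⟨⟨k, l, m⟩⟩)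
    exact ⟨x, fun k => hx k.down⟩

end Main


section Exist

lemma exists_finite_affine_cover (X : Scheme.{u}) [CompactSpace X] :
    ∃ (I : Type u) (_ : Fintype I) (A : I → CommRingCat.{u}) (w : ∀ k, Spec (A k) ⟶ X),
      Presieve.ofArrows (fun k => Spec (A k)) w ∈ Scheme.zariskiPrecoverage X := by
  classical
  obtain ⟨t, ht⟩ := CompactSpace.elim_nhds_subcover
    (fun x : X => Set.range (X.affineOpenCover.f (X.affineOpenCover.idx x)))
    (fun x => (IsOpenImmersion.isOpen_range _).mem_nhds (X.affineOpenCover.covers x))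
  refine ⟨↥t, inferInstance, fun k => X.affineOpenCover.X (X.affineOpenCover.idx k.1),
    fun k => X.affineOpenCover.f (X.affineOpenCover.idx k.1), ?_⟩
  refine (Scheme.ofArrows_mem_precoverage_iff (P := @IsOpenImmersion)).2 ⟨fun x => ?_, fun k => ?_⟩
  · have hx : x ∈ (⊤ : Set X) := trivial
    rw [← ht, Set.mem_iUnion₂] at hx
    obtain ⟨y, hy, hxy⟩ := hx
    exact ⟨⟨y, hy⟩, hxy⟩
  · infer_instance


variable (f a) in
/-- the point of an affine scheme mapping to `Spec R ×_S T` -/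
noncomputable def ptOf {A : CommRingCat.{u}} (w : Spec A ⟶ pullback a f) : Pt f a where
  A := A
  ρ := Spec.preimage (w ≫ pullback.fst a f)
  c := w ≫ pullback.snd a f
  w := by rw [Spec.map_preimage, Category.assoc, Category.assoc, pullback.condition]

lemma wP_ptOf {A : CommRingCat.{u}} (w : Spec A ⟶ pullback a f) : wP (ptOf f a w) = w := by
  apply pullback.hom_ext
  · rw [wP_fst]; exact Spec.map_preimage _
  · rw [wP_snd]; rfl

section Two

variable (pk pl : Pt f a) {A2 : CommRingCat.{u}} (w2 : Spec A2 ⟶ pullback (wP pk) (wP pl))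

/-- the point of an affine scheme mapping to an overlap -/
noncomputable def ptOf2 : Pt f a where
  A := A2
  ρ := pk.ρ ≫ Spec.preimage (w2 ≫ pullback.fst _ _)
  c := (w2 ≫ pullback.fst _ _) ≫ pk.c
  w := by
    rw [Spec.map_comp, Spec.map_preimage, Category.assoc, Category.assoc, pk.w]
    simp only [Category.assoc]

/-- first inclusion -/
noncomputable def hom1 : PtHom pk (ptOf2 pk pl w2) where
  θ := Spec.preimage (w2 ≫ pullback.fst _ _)
  hρ := rfl
  hc := by rw [Spec.map_preimage]; rfl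

/-- second inclusion -/
noncomputable def hom2 : PtHom pl (ptOf2 pk pl w2) where
  θ := Spec.preimage (w2 ≫ pullback.snd _ _)
  hρ := by
    apply Spec.map_injective
    change Spec.map (pl.ρ ≫ Spec.preimage (w2 ≫ pullback.snd _ _)) =
      Spec.map (pk.ρ ≫ Spec.preimage (w2 ≫ pullback.fst _ _))
    rw [Spec.map_comp, Spec.map_comp, Spec.map_preimage, Spec.map_preimage, ← wP_fst, ← wP_fst,
      Category.assoc, Category.assoc, ← Category.assoc (pullback.snd _ _), ← pullback.condition,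
      Category.assoc]
  hc := by
    change Spec.map (Spec.preimage (w2 ≫ pullback.snd _ _)) ≫ pl.c = (w2 ≫ pullback.fst _ _) ≫ pk.c
    rw [Spec.map_preimage, ← wP_snd, ← wP_snd (p := pk), Category.assoc, Category.assoc,
      ← Category.assoc (pullback.snd _ _), ← pullback.condition, Category.assoc]

lemma cM_hom : cM (hom1 pk pl w2) (hom2 pk pl w2) = w2 := by
  apply pullback.hom_ext
  · rw [cM_fst]; exact Spec.map_preimage _
  · rw [cM_snd]; exact Spec.map_preimage _

end Two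

variable (f a) in
theorem exists_covData [QuasiCompact f] [QuasiSeparated f] : Nonempty (CovData f a) := by
  obtain ⟨I, hI, A, w, hw⟩ := exists_finite_affine_cover (pullback a f)
  have hqs : QuasiSeparatedSpace ↥(pullback a f) :=
    quasiSeparatedSpace_of_quasiSeparated (pullback.fst a f)
  have hc : ∀ k l, CompactSpace ↥(pullback (wP (ptOf f a (w k))) (wP (ptOf f a (w l)))) :=
    fun k l => inferInstance
  choose I2 hI2 A2 w2 hw2 using fun k l =>
    exists_finite_affine_cover (pullback (wP (ptOf f a (w k))) (wP (ptOf f a (w l))))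
  have e : (fun k => wP (ptOf f a (w k))) = w := funext (fun k => wP_ptOf _)
  have e2 : ∀ k l, (fun m => cM (hom1 (ptOf f a (w k)) (ptOf f a (w l)) (w2 k l m))
      (hom2 (ptOf f a (w k)) (ptOf f a (w l)) (w2 k l m))) = w2 k l :=
    fun k l => funext (fun m => cM_hom _ _ _)
  exact ⟨{ I := I, fin := hI, p := fun k => ptOf f a (w k),
           cov := by
            change Presieve.ofArrows (fun k => Spec (A k)) (fun k => wP (ptOf f a (w k))) ∈ _
            rw [e]; exact hw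
           I2 := I2, fin2 := hI2, q := fun k l m => ptOf2 _ _ (w2 k l m),
           h1 := fun k l m => hom1 _ _ _, h2 := fun k l m => hom2 _ _ _,
           cov2 := fun k l => by
            change Presieve.ofArrows (fun m => Spec (A2 k l m))
              (fun m => cM (hom1 (ptOf f a (w k)) (ptOf f a (w l)) (w2 k l m))
                (hom2 (ptOf f a (w k)) (ptOf f a (w l)) (w2 k l m))) ∈ _
            rw [e2 k l]; exact hw2 k l }⟩

end Exist


/-- the pushforward of a module with adequate restrictions along a qcqs morphism is adequate -/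
theorem adequateMod_pushMod (g : T ⟶ S) [QuasiCompact g] [QuasiSeparated g]
    (K : Precoverage Scheme.{u}) [BigSite.OSh K] (hZar : Scheme.zariskiPrecoverage ≤ K)
    (M : BigSite.Mod K T)
    (hadq : ∀ (A : CommRingCat.{u}) (c : Spec A ⟶ T), Adeq.adequate A ((Adeq.toMVF K c).obj M)) :
    Adeq.adequateMod K S ((BigSite.pushMod K g).obj M) := by
  refine ⟨S.affineOpenCover.I₀, S.affineOpenCover.X, S.affineOpenCover.f, ?_, fun i => ?_⟩
  · exact hZar _ S.affineOpenCover.openCover.mem₀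
  · obtain ⟨D⟩ := exists_covData g (S.affineOpenCover.f i)
    exact adequate_Fpush K hZar M hadq D

end Groth.Agent.Lib.Helper14.Adeq2Push
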