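import Groth.Agent.Lib.Helper14.AdeqSum
import Groth.Agent.Lib.Helper14.AdeqGroth
import Mathlib.CategoryTheory.Abelian.Subcategory
import Mathlib.CategoryTheory.Abelian.Subobject
import Mathlib.CategoryTheory.Adjunction.AdjointFunctorTheorems
import Mathlib.CategoryTheory.Limits.FullSubcategory

/-!
# The inclusion of adequate functors has a right adjoint
-/

universe w v₁ v₂ u₁ u₂ u

set_option linter.unusedSectionVars false

open CategoryTheory Limits TensorProduct

namespace Groth.Agent.Lib.Helper14.AdeqAdj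

open Groth.Agent.Lib.Helper14.AdeqBC Groth.Agent.Lib.Helper14.AdeqCoker
  Groth.Agent.Lib.Helper14.AdeqTan Groth.Agent.Lib.Helper14.AdeqKer
  Groth.Agent.Lib.Helper14.AdeqSum Groth.Agent.Lib.Helper14.AdeqPres

section General

/-- a fully faithful functor preserving monomorphisms into a well-powered category has a well-powered source -/
theorem wellPowered_of_fullyFaithful {C : Type u₁} [Category.{v₁} C] {D : Type u₂} [Category.{v₂} D]
    (G : C ⥤ D) [G.Full] [G.Faithful] [G.PreservesMonomorphisms]
    [LocallySmall.{w} C] [LocallySmall.{w} D] [WellPowered.{w} D] : WellPowered.{w} C := by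
  apply wellPowered_of_essentiallySmall_monoOver
  intro X
  have hh : ∀ f : MonoOver X,
      Mono ((Over.post G).obj ((MonoOver.forget X).obj f)).hom := fun f => by
    have : Mono f.obj.hom := f.property
    exact (inferInstance : Mono (G.map f.obj.hom))
  have h1 : ((Over.isMono (G.obj X)).lift (MonoOver.forget X ⋙ Over.post G) hh).Full :=
    inferInstance
  have h2 : ((Over.isMono (G.obj X)).lift (MonoOver.forget X ⋙ Over.post G) hh).Faithful :=
    inferInstance
  exact essentiallySmall_of_fully_faithful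
    ((Over.isMono (G.obj X)).lift (MonoOver.forget X ⋙ Over.post G) hh)

lemma preservesMonomorphisms_op {C : Type u₁} [Category.{v₁} C] {D : Type u₂} [Category.{v₂} D]
    (F : C ⥤ D) [F.PreservesEpimorphisms] : F.op.PreservesMonomorphisms where
  preserves {X Y} f hf := by
    have h1 : Epi f.unop := inferInstance
    have h2 : Epi (F.map f.unop) := inferInstance
    exact (inferInstance : Mono (F.map f.unop).op)

end General

variable {A : Type u} [CommRing A]

instance : (Adeq.adequate A).ContainsZero where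
  exists_zero := by
    refine ⟨kernel ((Adeq.underline A).map (𝟙 (ModuleCat.of A PUnit.{u + 2}))), ?_,
      ⟨_, _, 𝟙 (ModuleCat.of A PUnit.{u + 2}), ⟨Iso.refl _⟩⟩⟩
    rw [CategoryTheory.Functor.map_id]
    exact isZero_kernel_of_mono _

instance : (Adeq.adequate A).IsClosedUnderKernels where
  kernels_le := by
    rintro _ ⟨f, k, hk, ⟨hX, hY⟩⟩
    exact (Adeq.adequate A).prop_of_iso (IsLimit.conePointUniqueUpToIso (kernelIsKernel f) hk)
      (adequate_kernel f hX hY)

instance : (Adeq.adequate A).IsClosedUnderCokernels where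
  cokernels_le := by
    rintro _ ⟨f, k, hk, ⟨hX, hY⟩⟩
    exact (Adeq.adequate A).prop_of_iso
      (IsColimit.coconePointUniqueUpToIso (cokernelIsCokernel f) hk)
      (adequate_cokernel f hX hY)

instance (J : Type (u + 1)) [SmallCategory J] :
    (Adeq.adequate A).IsClosedUnderColimitsOfShape J :=
  ObjectProperty.IsClosedUnderColimitsOfShape.mk' (by
    rintro _ ⟨F, hF⟩
    exact adequate_colimit F hF)

instance : HasColimitsOfSize.{u + 1, u + 1} (Adeq.Adequate A) where
  has_colimits_of_shape _ _ := inferInstance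

noncomputable instance : PreservesColimitsOfSize.{u + 1, u + 1} (Adeq.adequate A).ι where
  preservesColimitsOfShape {_} _ := inferInstance

/-- the standard linearly adequate functors -/
noncomputable def stdLin (i : Σ (n k : ℕ), (std A (Fin n) ⟶ std A (Fin k))) : Adeq.Adequate A :=
  ⟨kernel ((Adeq.underline A).map i.2.2), ⟨_, _, i.2.2, ⟨Iso.refl _⟩⟩⟩

lemma mvf_hom_ext {X Y : Adeq.MVF A} {f g : X ⟶ Y}
    (h : ∀ (B : Adeq.Alg A) (ξ : X.obj (Adeq.pt B)), f.app (Adeq.pt B) ξ = g.app (Adeq.pt B) ξ) :
    f = g := by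
  apply PresheafOfModules.hom_ext
  intro Z
  obtain ⟨⟨B⟩⟩ := Z
  apply ModuleCat.hom_ext
  apply LinearMap.ext
  intro ξ
  exact h B ξ

instance : WellPowered.{u + 1} (Adeq.MVF A) := IsGrothendieckAbelian.wellPowered.{u + 1} (Adeq.MVF A)

instance : WellPowered.{u + 1} (Adeq.Adequate A)ᵒᵖ := by
  have h1 : (Adeq.adequate A).ι.PreservesEpimorphisms :=
    (Adeq.adequate A).preservesEpimorphisms_ι_of_isNormalMonoCategory
  have h2 : WellPowered.{u + 1} (Adeq.MVF A)ᵒᵖ := inferInstance
  have h3 : (Adeq.adequate A).ι.op.PreservesMonomorphisms := preservesMonomorphisms_op _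
  exact wellPowered_of_fullyFaithful.{u + 1} (Adeq.adequate A).ι.op

theorem isSeparating_stdLin : (ObjectProperty.ofObj (stdLin (A := A))).IsSeparating := by
  intro X Y f g h
  apply ObjectProperty.hom_ext
  obtain ⟨M, N, α, ⟨e⟩⟩ := X.property
  apply mvf_hom_ext
  intro B ξ
  obtain ⟨n, k, φ₀, π, w, hw⟩ := exists_std_hit α B (e.hom.app (Adeq.pt B) ξ)
  let i : Σ (n k : ℕ), (std A (Fin n) ⟶ std A (Fin k)) := ⟨n, k, φ₀⟩
  have hi : ObjectProperty.ofObj (stdLin (A := A)) (stdLin i) := ⟨i⟩
  let t : (stdLin i).obj ⟶ X.obj := π ≫ e.inv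
  let t' : stdLin i ⟶ X := ObjectProperty.homMk t
  have h1 := h (stdLin i) hi t'
  have h2 : t ≫ f.hom = t ≫ g.hom := congrArg (fun t => t.hom) h1
  have h3 := eq_app_apply h2 B w
  have h4 : t.app (Adeq.pt B) w = ξ := by
    change e.inv.app (Adeq.pt B) (π.app (Adeq.pt B) w) = ξ
    rw [hw]
    exact eq_app_apply e.hom_inv_id B ξ
  have h5 : f.hom.app (Adeq.pt B) (t.app (Adeq.pt B) w) =
      g.hom.app (Adeq.pt B) (t.app (Adeq.pt B) w) := h3
  rw [h4] at h5
  exact h5

/-- the inclusion of the adequate functors into all module-valued functors has a right adjoint -/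
theorem isLeftAdjoint_ι : (Adeq.adequate A).ι.IsLeftAdjoint :=
  isLeftAdjoint_of_preservesColimits_of_isSeparating isSeparating_stdLin _

end Groth.Agent.Lib.Helper14.AdeqAdj
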