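import Groth.Agent.Lib.Helper14.AdeqCoker

/-!
# Kernels of maps of adequate functors
-/

universe u

set_option linter.unusedSectionVars false

open CategoryTheory Limits TensorProduct

namespace Groth.Agent.Lib.Helper14.AdeqKer

open Groth.Agent.Lib.Helper14.AdeqBC Groth.Agent.Lib.Helper14.AdeqCoker

variable {A : Type u} [CommRing A]

lemma comp_app_apply {X Y Z : Adeq.MVF A} (f : X ⟶ Y) (g : Y ⟶ Z) (B : Adeq.Alg A)
    (x : X.obj (Adeq.pt B)) :
    (f ≫ g).app (Adeq.pt B) x = g.app (Adeq.pt B) (f.app (Adeq.pt B) x) := rfl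

lemma eq_app_apply {X Y : Adeq.MVF A} {f g : X ⟶ Y} (h : f = g) (B : Adeq.Alg A)
    (x : X.obj (Adeq.pt B)) : f.app (Adeq.pt B) x = g.app (Adeq.pt B) x := by
  rw [h]

/-- morphisms into `underline (N ⊞ M)` are determined by the two projections -/
lemma underline_biprod_hom_ext {X : Adeq.MVF A} {N M : ModuleCat.{u + 1} A}
    (f g : X ⟶ (Adeq.underline A).obj (N ⊞ M))
    (h1 : f ≫ (Adeq.underline A).map biprod.fst = g ≫ (Adeq.underline A).map biprod.fst)
    (h2 : f ≫ (Adeq.underline A).map biprod.snd = g ≫ (Adeq.underline A).map biprod.snd) :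
    f = g := by
  have key : ∀ t : X ⟶ (Adeq.underline A).obj (N ⊞ M),
      t = (t ≫ (Adeq.underline A).map biprod.fst) ≫ (Adeq.underline A).map biprod.inl +
        (t ≫ (Adeq.underline A).map biprod.snd) ≫ (Adeq.underline A).map biprod.inr := by
    intro t
    rw [Category.assoc, Category.assoc, ← Functor.map_comp, ← Functor.map_comp,
      ← Preadditive.comp_add, ← Functor.map_add, biprod.total, CategoryTheory.Functor.map_id,
      Category.comp_id]
  rw [key f, key g, h1, h2]

lemma delta_fst {X : Adeq.MVF A} {N M : ModuleCat.{u + 1} A}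
    (a : X ⟶ (Adeq.underline A).obj N) (b : X ⟶ (Adeq.underline A).obj M) :
    (a ≫ (Adeq.underline A).map (biprod.inl : N ⟶ N ⊞ M) +
      b ≫ (Adeq.underline A).map (biprod.inr : M ⟶ N ⊞ M)) ≫
      (Adeq.underline A).map biprod.fst = a := by
  rw [Preadditive.add_comp, Category.assoc, Category.assoc, ← Functor.map_comp,
    ← Functor.map_comp, biprod.inl_fst, biprod.inr_fst, CategoryTheory.Functor.map_id,
    Functor.map_zero, Category.comp_id, comp_zero, add_zero]

lemma delta_snd {X : Adeq.MVF A} {N M : ModuleCat.{u + 1} A}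
    (a : X ⟶ (Adeq.underline A).obj N) (b : X ⟶ (Adeq.underline A).obj M) :
    (a ≫ (Adeq.underline A).map (biprod.inl : N ⟶ N ⊞ M) +
      b ≫ (Adeq.underline A).map (biprod.inr : M ⟶ N ⊞ M)) ≫
      (Adeq.underline A).map biprod.snd = b := by
  rw [Preadditive.add_comp, Category.assoc, Category.assoc, ← Functor.map_comp,
    ← Functor.map_comp, biprod.inl_snd, biprod.inr_snd, CategoryTheory.Functor.map_id,
    Functor.map_zero, Category.comp_id, comp_zero, zero_add]

/-- the kernel of a morphism from an adequate functor to `underline M` is adequate -/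
theorem adequate_kernel_to_underline {F : Adeq.MVF A} (hF : Adeq.adequate A F)
    {M : ModuleCat.{u + 1} A} (ψ : F ⟶ (Adeq.underline A).obj M) :
    Adeq.adequate A (kernel ψ) := by
  have hF' := hF
  obtain ⟨M₁, M₂, α, ⟨e⟩⟩ := hF'
  let ι : F ⟶ (Adeq.underline A).obj M₁ := e.hom ≫ kernel.ι ((Adeq.underline A).map α)
  have hιm : Mono ι := mono_comp _ _
  let δ : F ⟶ (Adeq.underline A).obj (M₁ ⊞ M) :=
    ι ≫ (Adeq.underline A).map biprod.inl + ψ ≫ (Adeq.underline A).map biprod.inr
  have hδ1 : δ ≫ (Adeq.underline A).map biprod.fst = ι := delta_fst ι ψ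
  have hδ2 : δ ≫ (Adeq.underline A).map biprod.snd = ψ := delta_snd ι ψ
  obtain ⟨N, j, h1, h2⟩ := exists_resolution hF δ
  let T : M₁ ⊞ M ⟶ N ⊞ M := biprod.lift j biprod.snd
  have hT1 : (Adeq.underline A).map T ≫ (Adeq.underline A).map biprod.fst =
      (Adeq.underline A).map j := by
    rw [← Functor.map_comp, biprod.lift_fst]
  have hT2 : (Adeq.underline A).map T ≫ (Adeq.underline A).map biprod.snd =
      (Adeq.underline A).map biprod.snd := by
    rw [← Functor.map_comp, biprod.lift_snd]
  have hz : (kernel.ι ψ ≫ δ) ≫ (Adeq.underline A).map T = 0 := by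
    apply underline_biprod_hom_ext
    · rw [Category.assoc, Category.assoc, hT1, h1, comp_zero, zero_comp]
    · rw [Category.assoc, Category.assoc, hT2, hδ2, kernel.condition, zero_comp]
  let θ : kernel ψ ⟶ kernel ((Adeq.underline A).map T) := kernel.lift _ (kernel.ι ψ ≫ δ) hz
  have hθ : θ ≫ kernel.ι ((Adeq.underline A).map T) = kernel.ι ψ ≫ δ := kernel.lift_ι _ _ _
  have hmono : Mono θ := by
    have : Mono (θ ≫ kernel.ι ((Adeq.underline A).map T) ≫
        (Adeq.underline A).map biprod.fst) := by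
      rw [← Category.assoc, hθ, Category.assoc, hδ1]
      exact mono_comp _ _
    exact mono_of_mono θ (kernel.ι ((Adeq.underline A).map T) ≫
        (Adeq.underline A).map biprod.fst)
  have hepi : Epi θ := by
    apply PresheafOfModules.epi_of_surjective
    intro X
    obtain ⟨⟨B⟩⟩ := X
    intro k'
    change (kernel ((Adeq.underline A).map T)).obj (Adeq.pt B) at k'
    let x : ((Adeq.underline A).obj (M₁ ⊞ M)).obj (Adeq.pt B) :=
      (kernel.ι ((Adeq.underline A).map T)).app (Adeq.pt B) k'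
    have hx : ((Adeq.underline A).map T).app (Adeq.pt B) x = 0 :=
      (ι_exact ((Adeq.underline A).map T) B).apply_apply_eq_zero k'
    have hx1 : ((Adeq.underline A).map j).app (Adeq.pt B) x = 0 := by
      rw [← eq_app_apply hT1 B x, comp_app_apply, hx, map_zero]
    have hx2 : ((Adeq.underline A).map (biprod.snd : M₁ ⊞ M ⟶ M)).app (Adeq.pt B) x = 0 := by
      rw [← eq_app_apply hT2 B x, comp_app_apply, hx, map_zero]
    obtain ⟨ξ, hξ⟩ := h2 B x hx1
    have hψξ : ψ.app (Adeq.pt B) ξ = 0 := by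
      rw [← eq_app_apply hδ2 B ξ, comp_app_apply, hξ]
      exact hx2
    obtain ⟨c, hc⟩ := (ι_exact ψ B ξ).1 hψξ
    refine ⟨c, ?_⟩
    apply ι_injective ((Adeq.underline A).map T) B
    change (θ ≫ kernel.ι ((Adeq.underline A).map T)).app (Adeq.pt B) c = x
    rw [eq_app_apply hθ B c, comp_app_apply, hc, hξ]
  have hiso : IsIso θ := isIso_of_mono_of_epi θ
  exact ⟨M₁ ⊞ M, N ⊞ M, T, ⟨asIso θ⟩⟩

/-- the kernel of a morphism of adequate functors is adequate -/
theorem adequate_kernel {F G : Adeq.MVF A} (φ : F ⟶ G)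
    (hF : Adeq.adequate A F) (hG : Adeq.adequate A G) : Adeq.adequate A (kernel φ) := by
  obtain ⟨M, M', β, ⟨eG⟩⟩ := hG
  have hm : Mono (eG.hom ≫ kernel.ι ((Adeq.underline A).map β)) := mono_comp _ _
  have h := adequate_kernel_to_underline hF (φ ≫ eG.hom ≫ kernel.ι ((Adeq.underline A).map β))
  exact (Adeq.adequate A).prop_of_iso (kernelCompMono φ _) h

end Groth.Agent.Lib.Helper14.AdeqKer
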