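import Groth.Agent.Lib.Helper14.AmitsurMod
import Groth.Agent.Lib.Helper14.AdeqBC
import Groth.Agent.Lib.Helper14.AdeqKer

universe u
open CategoryTheory CategoryTheory.Limits TensorProduct

namespace Groth.Agent.Lib.Helper14.AdeqAmitsur

open Groth.Agent.Lib.Helper14.AdeqBC Groth.Agent.Lib.Helper14.AdeqKer

variable {A : Type u} [CommRing A] (B : Type u) [CommRing B] [Algebra A B]

lemma underline_map_apply (P : ModuleCat.{u + 1} A) {C D : Adeq.Alg A} (f : C ⟶ D)
    (x : ((Adeq.underline A).obj P).obj (Adeq.pt C)) :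
    ((Adeq.underline A).obj P).map (Adeq.ptHom f) x = f.hom.toLinearMap.rTensor P x := rfl

variable [Module.FaithfullyFlat A B]

/-- the first two steps of the Amitsur complex of an adequate functor are exact -/
theorem amitsur_adequate (F : Adeq.MVF A) (hF : Adeq.adequate A F) :
    Function.Injective (F.map
        (Adeq.ptHom (CommAlgCat.ofHom (Algebra.ofId A B) : Adeq.algOf A A ⟶ Adeq.algOf A B))) ∧
      ∀ y : F.obj (Adeq.pt (Adeq.algOf A B)),
        F.map (Adeq.ptHom (CommAlgCat.ofHom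
            (Algebra.TensorProduct.includeLeft : B →ₐ[A] B ⊗[A] B) :
              Adeq.algOf A B ⟶ Adeq.algOf A (B ⊗[A] B))) y =
          F.map (Adeq.ptHom (CommAlgCat.ofHom
            (Algebra.TensorProduct.includeRight : B →ₐ[A] B ⊗[A] B) :
              Adeq.algOf A B ⟶ Adeq.algOf A (B ⊗[A] B))) y →
        y ∈ Set.range (F.map
          (Adeq.ptHom (CommAlgCat.ofHom (Algebra.ofId A B) : Adeq.algOf A A ⟶ Adeq.algOf A B))) := by
  obtain ⟨P, Q, φ, ⟨e⟩⟩ := hF
  let ψ : F ⟶ (Adeq.underline A).obj P := e.hom ≫ kernel.ι ((Adeq.underline A).map φ)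
  have hψφ : ψ ≫ (Adeq.underline A).map φ = 0 := by
    simp only [ψ, Category.assoc, kernel.condition, comp_zero]
  have hψinj : ∀ C : Adeq.Alg A, Function.Injective (ψ.app (Adeq.pt C)) := by
    intro C x₁ x₂ h
    have h1 : (kernel.ι ((Adeq.underline A).map φ)).app (Adeq.pt C) (e.hom.app (Adeq.pt C) x₁) =
        (kernel.ι ((Adeq.underline A).map φ)).app (Adeq.pt C) (e.hom.app (Adeq.pt C) x₂) := h
    have h2 := ι_injective ((Adeq.underline A).map φ) C h1
    have h3 := congrArg (fun z => e.inv.app (Adeq.pt C) z) h2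
    simp only [] at h3
    rw [← comp_app_apply, ← comp_app_apply, e.hom_inv_id] at h3
    exact h3
  have hψsurj : ∀ (C : Adeq.Alg A) (v : ((Adeq.underline A).obj P).obj (Adeq.pt C)),
      ((Adeq.underline A).map φ).app (Adeq.pt C) v = 0 → ∃ x, ψ.app (Adeq.pt C) x = v := by
    intro C v hv
    obtain ⟨k, hk⟩ := (ι_exact ((Adeq.underline A).map φ) C v).1 hv
    refine ⟨e.inv.app (Adeq.pt C) k, ?_⟩
    change (kernel.ι ((Adeq.underline A).map φ)).app (Adeq.pt C)
      (e.hom.app (Adeq.pt C) (e.inv.app (Adeq.pt C) k)) = v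
    rw [← comp_app_apply e.inv e.hom, e.inv_hom_id]
    exact hk
  let i0 : Adeq.algOf A A ⟶ Adeq.algOf A B := CommAlgCat.ofHom (Algebra.ofId A B)
  let iL : Adeq.algOf A B ⟶ Adeq.algOf A (B ⊗[A] B) :=
    CommAlgCat.ofHom (Algebra.TensorProduct.includeLeft : B →ₐ[A] B ⊗[A] B)
  let iR : Adeq.algOf A B ⟶ Adeq.algOf A (B ⊗[A] B) :=
    CommAlgCat.ofHom (Algebra.TensorProduct.includeRight : B →ₐ[A] B ⊗[A] B)
  have nat : ∀ {C D : Adeq.Alg A} (f : C ⟶ D) (x : F.obj (Adeq.pt C)),
      ψ.app (Adeq.pt D) (F.map (Adeq.ptHom f) x) =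
        f.hom.toLinearMap.rTensor P (ψ.app (Adeq.pt C) x) := by
    intro C D f x
    exact PresheafOfModules.naturality_apply ψ (Adeq.ptHom f) x
  have natφ : ∀ {C D : Adeq.Alg A} (f : C ⟶ D) (v : ((Adeq.underline A).obj P).obj (Adeq.pt C)),
      ((Adeq.underline A).map φ).app (Adeq.pt D) (f.hom.toLinearMap.rTensor P v) =
        f.hom.toLinearMap.rTensor Q (((Adeq.underline A).map φ).app (Adeq.pt C) v) := by
    intro C D f v
    exact PresheafOfModules.naturality_apply ((Adeq.underline A).map φ) (Adeq.ptHom f) v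
  constructor
  · intro x₁ x₂ h
    apply hψinj
    apply AmitsurMod.f₀_injective A B P
    have h1 := congrArg (fun z => ψ.app (Adeq.pt (Adeq.algOf A B)) z) h
    simp only [] at h1
    rw [nat, nat] at h1
    exact h1
  · intro y hy
    have h1 := congrArg (fun z => ψ.app (Adeq.pt (Adeq.algOf A (B ⊗[A] B))) z) hy
    simp only [] at h1
    rw [nat, nat] at h1
    obtain ⟨v, hv⟩ := AmitsurMod.mem_range_of_eq A B P _ h1
    have hv0 : ((Adeq.underline A).map φ).app (Adeq.pt (Adeq.algOf A A)) v = 0 := by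
      apply AmitsurMod.f₀_injective A B Q
      refine Eq.trans ?_ (map_zero (AmitsurMod.f₀ A B Q)).symm
      have h2 := natφ i0 v
      refine h2.symm.trans ?_
      have h3 : i0.hom.toLinearMap.rTensor P v = ψ.app (Adeq.pt (Adeq.algOf A B)) y := hv
      rw [h3]
      exact eq_app_apply hψφ (Adeq.algOf A B) y
    obtain ⟨x, hx⟩ := hψsurj (Adeq.algOf A A) v hv0
    refine ⟨x, ?_⟩
    apply hψinj (Adeq.algOf A B)
    refine (nat i0 x).trans ?_
    rw [hx]
    exact hv

end Groth.Agent.Lib.Helper14.AdeqAmitsur
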