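import Groth.Agent.Lib.Helper14.AmitsurMod1
import Groth.Agent.Lib.Helper14.AdeqAmitsur
import Groth.Agent.Lib.Helper14.AdeqDesc

universe u
open CategoryTheory CategoryTheory.Limits TensorProduct

namespace Groth.Agent.Lib.Helper14.AdeqAmitsur

open Groth.Agent.Lib.Helper14.AdeqBC Groth.Agent.Lib.Helper14.AdeqKer Groth.Agent.Lib.Helper14.AdeqDesc

variable {A : Type u} [CommRing A] (B : Type u) [CommRing B] [Algebra A B]

/-- the coface maps -/
noncomputable def cL : Adeq.algOf A B ⟶ Adeq.algOf A (B ⊗[A] B) :=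
  CommAlgCat.ofHom (Algebra.TensorProduct.includeLeft : B →ₐ[A] B ⊗[A] B)

/-- the coface maps -/
noncomputable def cR : Adeq.algOf A B ⟶ Adeq.algOf A (B ⊗[A] B) :=
  CommAlgCat.ofHom (Algebra.TensorProduct.includeRight : B →ₐ[A] B ⊗[A] B)

/-- the coface maps -/
noncomputable def c0 : Adeq.algOf A (B ⊗[A] B) ⟶ Adeq.algOf A ((B ⊗[A] B) ⊗[A] B) :=
  CommAlgCat.ofHom (AmitsurMod.d0 A B)

/-- the coface maps -/
noncomputable def c1 : Adeq.algOf A (B ⊗[A] B) ⟶ Adeq.algOf A ((B ⊗[A] B) ⊗[A] B) :=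
  CommAlgCat.ofHom (AmitsurMod.d1 A B)

/-- the coface maps -/
noncomputable def c2 : Adeq.algOf A (B ⊗[A] B) ⟶ Adeq.algOf A ((B ⊗[A] B) ⊗[A] B) :=
  CommAlgCat.ofHom (AmitsurMod.d2 A B)

/-- the unit map -/
noncomputable def cU : Adeq.algOf A A ⟶ Adeq.algOf A B := CommAlgCat.ofHom (Algebra.ofId A B)

variable [Module.FaithfullyFlat A B]

/-- vanishing of the first Čech cohomology of an adequate functor for a faithfully flat algebra -/
theorem h1_adequate (F : Adeq.MVF A) (hF : Adeq.adequate A F)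
    (c : F.obj (Adeq.pt (Adeq.algOf A (B ⊗[A] B))))
    (hc : mapAb F (c0 B) c + mapAb F (c2 B) c = mapAb F (c1 B) c) :
    ∃ e : F.obj (Adeq.pt (Adeq.algOf A B)), mapAb F (cL B) e - mapAb F (cR B) e = c := by
  obtain ⟨P, Q, φ, ⟨e⟩⟩ := hF
  let ψ : F ⟶ (Adeq.underline A).obj P := e.hom ≫ kernel.ι ((Adeq.underline A).map φ)
  have hψφ : ψ ≫ (Adeq.underline A).map φ = 0 := by
    simp only [ψ, Category.assoc, kernel.condition, comp_zero]
  have hψinj : ∀ C : Adeq.Alg A, Function.Injective (ψ.app (Adeq.pt C)) := by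
    intro C x₁ x₂ h
    have h1 : (kernel.ι ((Adeq.underline A).map φ)).app (Adeq.pt C) (e.hom.app (Adeq.pt C) x₁) =
        (kernel.ι ((Adeq.underline A).map φ)).app (Adeq.pt C) (e.hom.app (Adeq.pt C) x₂) := h
    have h2 := ι_injective ((Adeq.underline A).map φ) C h1
    have h3 := congrArg (fun z => e.inv.app (Adeq.pt C) z) h2
    simp only [] at h3
    rw [← comp_app_apply, ← comp_app_apply, e.hom_inv_id] at h3
    exact h3
  have hψsurj : ∀ (C : Adeq.Alg A) (v : ((Adeq.underline A).obj P).obj (Adeq.pt C)),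
      ((Adeq.underline A).map φ).app (Adeq.pt C) v = 0 → ∃ x, ψ.app (Adeq.pt C) x = v := by
    intro C v hv
    obtain ⟨k, hk⟩ := (ι_exact ((Adeq.underline A).map φ) C v).1 hv
    refine ⟨e.inv.app (Adeq.pt C) k, ?_⟩
    change (kernel.ι ((Adeq.underline A).map φ)).app (Adeq.pt C)
      (e.hom.app (Adeq.pt C) (e.inv.app (Adeq.pt C) k)) = v
    rw [← comp_app_apply e.inv e.hom, e.inv_hom_id]
    exact hk
  have nat : ∀ {C D : Adeq.Alg A} (f : C ⟶ D) (x : F.obj (Adeq.pt C)),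
      ψ.app (Adeq.pt D) (mapAb F f x) =
        f.hom.toLinearMap.rTensor P (ψ.app (Adeq.pt C) x) := by
    intro C D f x
    exact PresheafOfModules.naturality_apply ψ (Adeq.ptHom f) x
  have natφ : ∀ {C D : Adeq.Alg A} (f : C ⟶ D) (v : ((Adeq.underline A).obj P).obj (Adeq.pt C)),
      ((Adeq.underline A).map φ).app (Adeq.pt D) (f.hom.toLinearMap.rTensor P v) =
        f.hom.toLinearMap.rTensor Q (((Adeq.underline A).map φ).app (Adeq.pt C) v) := by
    intro C D f v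
    exact PresheafOfModules.naturality_apply ((Adeq.underline A).map φ) (Adeq.ptHom f) v
  have hφψ : ∀ (C : Adeq.Alg A) (x : F.obj (Adeq.pt C)),
      ((Adeq.underline A).map φ).app (Adeq.pt C) (ψ.app (Adeq.pt C) x) = 0 :=
    fun C x => eq_app_apply hψφ C x
  -- the image of the cocycle
  obtain ⟨c', hc'⟩ : ∃ c' : (B ⊗[A] B) ⊗[A] P, c' = ψ.app (Adeq.pt (Adeq.algOf A (B ⊗[A] B))) c :=
    ⟨_, rfl⟩
  have hcoc : (AmitsurMod.d0 A B).toLinearMap.rTensor P c' + (AmitsurMod.d2 A B).toLinearMap.rTensor P c' =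
      (AmitsurMod.d1 A B).toLinearMap.rTensor P c' := by
    have h1 := congrArg (fun z => ψ.app (Adeq.pt (Adeq.algOf A ((B ⊗[A] B) ⊗[A] B))) z) hc
    simp only [] at h1
    rw [map_add, nat, nat, nat] at h1
    rw [hc']
    exact h1
  obtain ⟨m, hm⟩ := AmitsurMod.cocycle_exact A B P c' hcoc
  have hg : ∀ x : B ⊗[A] P, AmitsurMod.g₀ A B P x =
      (cL B).hom.toLinearMap.rTensor P x - (cR B).hom.toLinearMap.rTensor P x := by
    intro x
    simp only [AmitsurMod.g₀, LinearMap.rTensor_sub, LinearMap.sub_apply]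
    rfl
  obtain ⟨n, hn⟩ : ∃ n : B ⊗[A] Q,
      n = ((Adeq.underline A).map φ).app (Adeq.pt (Adeq.algOf A B)) m := ⟨_, rfl⟩
  have hz : (Algebra.TensorProduct.includeLeft : B →ₐ[A] B ⊗[A] B).toLinearMap.rTensor Q n =
      (Algebra.TensorProduct.includeRight : B →ₐ[A] B ⊗[A] B).toLinearMap.rTensor Q n := by
    rw [hn]
    refine (natφ (cL B) m).symm.trans (Eq.trans ?_ (natφ (cR B) m))
    rw [← sub_eq_zero]
    refine (map_sub (((Adeq.underline A).map φ).app
      (Adeq.pt (Adeq.algOf A (B ⊗[A] B)))).hom _ _).symm.trans ?_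
    have key : (((Adeq.underline A).map φ).app (Adeq.pt (Adeq.algOf A (B ⊗[A] B)))).hom
        (AmitsurMod.g₀ A B P m) = 0 := by
      rw [hm, hc']
      exact hφψ _ c
    exact (congrArg (((Adeq.underline A).map φ).app (Adeq.pt (Adeq.algOf A (B ⊗[A] B)))).hom
      (hg m)).symm.trans key
  obtain ⟨n₀, hn₀⟩ := AmitsurMod.mem_range_of_eq A B Q n hz
  have hmn : φ.hom.lTensor B m = AmitsurMod.f₀ A B Q n₀ := by
    refine Eq.trans ?_ hn₀.symm
    exact hn.symm
  obtain ⟨m₀, hm₀⟩ := AmitsurMod.mem_range_of_lTensor A B P φ.hom n₀ m hmn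
  have hm'0 : ((Adeq.underline A).map φ).app (Adeq.pt (Adeq.algOf A B))
      (m - AmitsurMod.f₀ A B P m₀) = 0 := by
    refine (map_sub (((Adeq.underline A).map φ).app (Adeq.pt (Adeq.algOf A B))).hom _ _).trans ?_
    rw [sub_eq_zero]
    refine hn.symm.trans ?_
    refine hn₀.symm.trans ?_
    refine Eq.trans ?_ (natφ (cU B) m₀).symm
    have : ((Adeq.underline A).map φ).app (Adeq.pt (Adeq.algOf A A)) m₀ = n₀ := hm₀
    rw [this]
    rfl
  obtain ⟨e0, he0⟩ := hψsurj (Adeq.algOf A B) _ hm'0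
  refine ⟨e0, hψinj _ ?_⟩
  refine (map_sub (ψ.app (Adeq.pt (Adeq.algOf A (B ⊗[A] B)))).hom _ _).trans ?_
  rw [nat, nat, he0]
  have h0 : AmitsurMod.g₀ A B P (AmitsurMod.f₀ A B P m₀) = 0 :=
    LinearMap.congr_fun (AmitsurMod.g₀_comp_f₀ A B P) m₀
  have k1 : AmitsurMod.g₀ A B P (m - AmitsurMod.f₀ A B P m₀) = c' := by
    rw [map_sub, hm, h0, sub_zero]
  exact ((hg _).symm.trans k1).trans hc'

end Groth.Agent.Lib.Helper14.AdeqAmitsur
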