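import Mathlib

/-!
# Algebra lemmas for flat descent of exactness
-/

set_option linter.unusedSectionVars false
universe u v

namespace Groth.Agent.Lib.Helper14.DescAlg

open TensorProduct

section DC

variable {R : Type*} [CommRing R] (B : Type*) [CommRing B] [Algebra R B] [Module.FaithfullyFlat R B]
  {N₀ N₁ : Type*} [AddCommGroup N₀] [AddCommGroup N₁] [Module R N₀] [Module R N₁]

/-- faithfully flat descent of membership in the image of a linear map -/
lemma mem_range_of_tmul (d : N₀ →ₗ[R] N₁) (x : N₁)
    (h : (1 : B) ⊗ₜ[R] x ∈ LinearMap.range (d.lTensor B)) : x ∈ LinearMap.range d := by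
  obtain ⟨z, hz⟩ := h
  have h1 : ((LinearMap.range d).mkQ.lTensor B) ((1 : B) ⊗ₜ[R] x) = 0 := by
    rw [← hz, ← LinearMap.comp_apply, ← LinearMap.lTensor_comp]
    have : (LinearMap.range d).mkQ ∘ₗ d = 0 := LinearMap.range_mkQ_comp d
    rw [this, LinearMap.lTensor_zero, LinearMap.zero_apply]
  rw [LinearMap.lTensor_tmul] at h1
  have h2 : (LinearMap.range d).mkQ x = 0 :=
    Module.FaithfullyFlat.tensorProduct_mk_injective (A := R) (B := B) _
      (h1.trans (by simp))
  exact (Submodule.Quotient.mk_eq_zero _).1 h2

end DC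

section KB

variable {R A B E : Type u} [CommRing R] [CommRing A] [CommRing B] [CommRing E]
  [Algebra R A] [Algebra R B] [Algebra R E] (f : A →ₐ[R] E) (ι : B →ₐ[R] E)
  (hbij : Function.Bijective (Algebra.TensorProduct.productMap ι f))
  (N : Type v) [AddCommGroup N] [Module A N] [Module R N] [IsScalarTower R A N]

include hbij in
/-- if `E` is the tensor product of `A` and `B` over `R`, then `E ⊗[A] N = B ⊗[R] N` -/
lemma exists_kappa :
    letI : Module A E := Module.compHom E f.toRingHom
    ∃ κ : B ⊗[R] N ≃+ E ⊗[A] N, ∀ (b : B) (x : N), κ (b ⊗ₜ[R] x) = ι b ⊗ₜ[A] x := by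
  letI algA : Algebra A E := f.toRingHom.toAlgebra
  letI algB : Algebra B E := ι.toRingHom.toAlgebra
  haveI : IsScalarTower R A E := IsScalarTower.of_algebraMap_eq (fun r => (f.commutes r).symm)
  haveI : IsScalarTower R B E := IsScalarTower.of_algebraMap_eq (fun r => (ι.commutes r).symm)
  let e0 : B ⊗[R] A →ₗ[B] E :=
    { toFun := Algebra.TensorProduct.productMap ι f
      map_add' := map_add _
      map_smul' := fun b t => by
        change Algebra.TensorProduct.productMap ι f (b • t) = ι b * Algebra.TensorProduct.productMap ι f t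
        have : b • t = (b ⊗ₜ[R] (1 : A)) * t := by
          induction t using TensorProduct.induction_on with
          | zero => simp
          | tmul b' a => simp [TensorProduct.smul_tmul']
          | add x y hx hy => rw [smul_add, mul_add, hx, hy]
        rw [this, map_mul]
        simp }
  let e : B ⊗[R] A ≃ₗ[B] E := LinearEquiv.ofBijective e0 hbij
  haveI : Algebra.IsPushout R B A E := by
    refine ⟨IsBaseChange.of_equiv e (fun a => ?_)⟩
    change Algebra.TensorProduct.productMap ι f ((1 : B) ⊗ₜ[R] a) = f a
    simp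
  refine ⟨(Algebra.IsPushout.cancelBaseChange R B A E N).symm.toAddEquiv, fun b x => ?_⟩
  exact Algebra.IsPushout.cancelBaseChange_symm_tmul R B A E N b x

end KB

end Groth.Agent.Lib.Helper14.DescAlg
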