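import Groth.Agent.Lib.Helper14.CechPlain
import Groth.Agent.Lib.Helper14.DescAlg
import Groth.Agent.Lib.Helper14.AdeqBC
import Groth.Agent.Lib.Helper14.AdeqDesc
import Groth.Agent.S8740

/-!
# Exactness of the Čech complex of an adequate functor for a faithfully flat algebra (ring level)
-/

set_option linter.unusedSectionVars false
universe u

namespace Groth.Agent.Lib.Helper14.AdeqCech

open CategoryTheory Limits Opposite Simplicial TensorProduct MonoidalCategory CartesianMonoidalCategory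
open Groth.Agent.Lib.Helper14.CechPlain Groth.Agent.Lib.Helper14.DescAlg
open Groth.Agent.Lib.Helper14.AdeqDesc Groth.Agent.Lib.Helper14.AdeqBC

variable {R : Type u} [CommRing R] (B : Type u) [CommRing B] [Algebra R B] (F : Adeq.MVF R)

/-- the covering algebra as an object of the opposite category -/
abbrev XB : (Adeq.Alg R)ᵒᵖ := op (Adeq.algOf R B)

/-- `A → A ⊗ B` -/
noncomputable abbrev fW (W : (Adeq.Alg R)ᵒᵖ) : W.unop ⟶ (W ⊗ XB B).unop := (fst W (XB B)).unop

/-- `B → A ⊗ B` -/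
noncomputable abbrev iW (W : (Adeq.Alg R)ᵒᵖ) : Adeq.algOf R B ⟶ (W ⊗ XB B).unop := (snd W (XB B)).unop

lemma fW_apply (W : (Adeq.Alg R)ᵒᵖ) (a : W.unop) : (fW B W).hom a = a ⊗ₜ[R] (1 : B) := rfl

lemma iW_apply (W : (Adeq.Alg R)ᵒᵖ) (b : B) : (iW B W).hom b = (1 : W.unop) ⊗ₜ[R] b := rfl

lemma productMap_bijective (W : (Adeq.Alg R)ᵒᵖ) :
    Function.Bijective (Algebra.TensorProduct.productMap (iW B W).hom (fW B W).hom) := by
  have : Algebra.TensorProduct.productMap (iW B W).hom (fW B W).hom =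
      (Algebra.TensorProduct.comm R B W.unop).toAlgHom := by
    apply Algebra.TensorProduct.ext
    · ext b
      simp [iW_apply, fW_apply]
    · ext a
      simp [iW_apply, fW_apply]
  rw [this]
  exact (Algebra.TensorProduct.comm R B W.unop).bijective


/-- the `R`-module structure on a value of `F` -/
noncomputable abbrev modR (A : Adeq.Alg R) : Module R (F.obj (Adeq.pt A)) :=
  Module.compHom _ (algebraMap R A)

attribute [local instance] modR

lemma smulR_def (A : Adeq.Alg R) (r : R) (x : F.obj (Adeq.pt A)) :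
    r • x = (algebraMap R A r) • x := rfl

instance towerR (A : Adeq.Alg R) : IsScalarTower R A (F.obj (Adeq.pt A)) :=
  ⟨fun r a x => by rw [smulR_def, Algebra.smul_def, mul_smul]⟩

/-- transition maps are `R`-linear -/
lemma mapAb_smulR {A A' : Adeq.Alg R} (g : A ⟶ A') (r : R) (x : F.obj (Adeq.pt A)) :
    mapAb F g (r • x) = r • mapAb F g x := by
  rw [smulR_def, smulR_def]
  refine (PresheafOfModules.map_smul F (Adeq.ptHom g) (algebraMap R A r) x).trans ?_
  congr 1
  exact g.hom.commutes r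

/-- semilinearity of the transition maps -/
lemma mapAb_smul {A A' : Adeq.Alg R} (g : A ⟶ A') (a : A) (x : F.obj (Adeq.pt A)) :
    mapAb F g (a • x) = g.hom a • mapAb F g x :=
  PresheafOfModules.map_smul F (Adeq.ptHom g) a x

section Theta

variable (hF : Adeq.adequate R F) [Module.Flat R B]

lemma flat_fW (W : (Adeq.Alg R)ᵒᵖ) : (fW B W).hom.toRingHom.Flat := by
  have h : Module.Flat W.unop (W.unop ⊗[R] B) := inferInstance
  exact (RingHom.flat_algebraMap_iff (R := W.unop) (S := W.unop ⊗[R] B)).2 h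

include hF in
/-- flat base change for an adequate functor, in the form `B ⊗[R] F(A) ≃ F(A ⊗ B)` -/
lemma exists_theta (W : (Adeq.Alg R)ᵒᵖ) :
    ∃ θ : B ⊗[R] (F.obj (Adeq.pt W.unop)) ≃+ F.obj (Adeq.pt (W ⊗ XB B).unop),
      ∀ (b : B) (x : F.obj (Adeq.pt W.unop)),
        θ (b ⊗ₜ[R] x) = (iW B W).hom b • mapAb F (fW B W) x := by
  obtain ⟨κ, hκ⟩ := exists_kappa (fW B W).hom (iW B W).hom (productMap_bijective B W)
    (F.obj (Adeq.pt W.unop))
  have hiso : IsIso (F.bc (fW B W)) := Groth.Agent.S8740.result R F hF (fW B W) (flat_fW B W)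
  have hbij : Function.Bijective (F.bc (fW B W)) := ConcreteCategory.bijective_of_isIso _
  let β : ((E (fW B W)).obj (F.obj (Adeq.pt W.unop))) ≃+
      F.obj (Adeq.pt (W ⊗ XB B).unop) :=
    AddEquiv.ofBijective (F.bc (fW B W)).hom.toAddMonoidHom hbij
  refine ⟨κ.trans β, fun b x => ?_⟩
  change F.bc (fW B W) (κ (b ⊗ₜ[R] x)) = _
  rw [hκ]
  exact bc_tmul (fW B W) F _ x

end Theta


section Nat

/-- naturality of the base change formula -/
lemma theta_natural {W W' : (Adeq.Alg R)ᵒᵖ} (h : W' ⟶ W)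
    (θ : B ⊗[R] (F.obj (Adeq.pt W.unop)) ≃+ F.obj (Adeq.pt (W ⊗ XB B).unop))
    (hθ : ∀ (b : B) (x : F.obj (Adeq.pt W.unop)),
        θ (b ⊗ₜ[R] x) = (iW B W).hom b • mapAb F (fW B W) x)
    (θ' : B ⊗[R] (F.obj (Adeq.pt W'.unop)) ≃+ F.obj (Adeq.pt (W' ⊗ XB B).unop))
    (hθ' : ∀ (b : B) (x : F.obj (Adeq.pt W'.unop)),
        θ' (b ⊗ₜ[R] x) = (iW B W').hom b • mapAb F (fW B W') x)
    (b : B) (x : F.obj (Adeq.pt W.unop)) :
    θ' (b ⊗ₜ[R] mapAb F h.unop x) = mapAb F (h ▷ XB B).unop (θ (b ⊗ₜ[R] x)) := by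
  rw [hθ, hθ', mapAb_smul, ← mapAb_comp, ← mapAb_comp]
  have h1 : h.unop ≫ fW B W' = fW B W ≫ (h ▷ XB B).unop := by
    have := congrArg Quiver.Hom.unop (whiskerRight_fst h (XB B))
    exact this.symm
  have h2 : iW B W ≫ (h ▷ XB B).unop = iW B W' := by
    have := congrArg Quiver.Hom.unop (whiskerRight_snd h (XB B))
    exact this
  rw [h1]
  congr 1
  have := congrArg (fun t => t.hom b) h2
  exact this.symm

end Nat

end Groth.Agent.Lib.Helper14.AdeqCech
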