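import Groth.Agent.Lib.Helper14.AdeqCech

set_option linter.unusedSectionVars false
universe u

namespace Groth.Agent.Lib.Helper14.AdeqCech2

open CategoryTheory Limits Opposite Simplicial TensorProduct MonoidalCategory CartesianMonoidalCategory
open Groth.Agent.Lib.Helper14.CechPlain Groth.Agent.Lib.Helper14.DescAlg
open Groth.Agent.Lib.Helper14.AdeqDesc Groth.Agent.Lib.Helper14.AdeqBC
open Groth.Agent.Lib.Helper14.AdeqCech

section Abstract

/-- abstract faithfully flat descent of exactness, given a contracting homotopy after base change -/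
lemma descent_exact {R : Type*} [CommRing R] (B : Type*) [CommRing B] [Algebra R B]
    [Module.FaithfullyFlat R B]
    {N0 N1 N2 : Type*} [AddCommGroup N0] [AddCommGroup N1] [AddCommGroup N2]
    [Module R N0] [Module R N1] [Module R N2]
    (d0 : N0 →ₗ[R] N1) (d1 : N1 →ₗ[R] N2)
    {T0 T1 T2 : Type*} [AddCommGroup T0] [AddCommGroup T1] [AddCommGroup T2]
    (D0 : T0 →+ T1) (D1 : T1 →+ T2) (s0 : T1 →+ T0) (s1 : T2 →+ T1)
    (hs : ∀ t, s1 (D1 t) + D0 (s0 t) = t)
    (θ0 : B ⊗[R] N0 ≃+ T0) (θ1 : B ⊗[R] N1 ≃+ T1) (θ2 : B ⊗[R] N2 ≃+ T2)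
    (h0 : ∀ z, θ1 (d0.lTensor B z) = D0 (θ0 z)) (h1 : ∀ z, θ2 (d1.lTensor B z) = D1 (θ1 z))
    (x : N1) (hx : d1 x = 0) : x ∈ LinearMap.range d0 := by
  apply mem_range_of_tmul B
  set t := θ1 ((1 : B) ⊗ₜ[R] x) with ht
  have hD : D1 t = 0 := by
    rw [ht, ← h1, LinearMap.lTensor_tmul, hx, TensorProduct.tmul_zero, map_zero]
  have ht2 : D0 (s0 t) = t := by
    have := hs t
    rw [hD, map_zero, zero_add] at this
    exact this
  refine ⟨θ0.symm (s0 t), ?_⟩
  apply θ1.injective
  rw [h0, AddEquiv.apply_symm_apply, ht2]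

end Abstract

section Concrete

variable (R : Type u) [CommRing R] (B : Type u) [CommRing B] [Algebra R B]

attribute [local instance] modR

/-- the `n`-th power of the covering object -/
noncomputable abbrev Wn (n : ℕ) : (Adeq.Alg R)ᵒᵖ := pw (XB (R := R) B) ⦋n⦌

/-- faces -/
noncomputable abbrev hface (n : ℕ) (i : Fin (n + 2)) : Wn R B (n + 1) ⟶ Wn R B n :=
  reidx (XB (R := R) B) (SimplexCategory.δ i)

variable {R} (F : Adeq.MVF R)

/-- the value of `F` on the `n`-th power -/
abbrev Nn (n : ℕ) : Type (u + 1) := F.obj (Adeq.pt (Wn R B n).unop)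

/-- the value of `F` on the `n`-th power times the covering object -/
abbrev Tn (n : ℕ) : Type (u + 1) := F.obj (Adeq.pt (Wn R B n ⊗ XB B).unop)

/-- transition maps as `R`-linear maps -/
noncomputable def mapR {A A' : Adeq.Alg R} (g : A ⟶ A') :
    F.obj (Adeq.pt A) →ₗ[R] F.obj (Adeq.pt A') :=
  { toFun := mapAb F g, map_add' := map_add _, map_smul' := mapAb_smulR F g }

lemma mapR_apply {A A' : Adeq.Alg R} (g : A ⟶ A') (x : F.obj (Adeq.pt A)) :
    mapR F g x = mapAb F g x := rfl

/-- the Čech differential as an `R`-linear map -/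
noncomputable def dR (n : ℕ) : Nn B F n →ₗ[R] Nn B F (n + 1) :=
  ∑ i : Fin (n + 2), (-1 : ℤ) ^ (i : ℕ) • mapR F (hface R B n i).unop

/-- the Čech differential after base change -/
noncomputable def DT (n : ℕ) : Tn B F n →+ Tn B F (n + 1) :=
  ∑ i : Fin (n + 2), (-1 : ℤ) ^ (i : ℕ) • mapAb F (hface R B n i ▷ XB B).unop

lemma dR_apply (n : ℕ) (x : Nn B F n) :
    dR B F n x = ∑ i : Fin (n + 2), (-1 : ℤ) ^ (i : ℕ) • mapAb F (hface R B n i).unop x := by
  simp [dR, LinearMap.sum_apply, mapR_apply]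

lemma DT_apply (n : ℕ) (x : Tn B F n) :
    DT B F n x = ∑ i : Fin (n + 2), (-1 : ℤ) ^ (i : ℕ) • mapAb F (hface R B n i ▷ XB B).unop x := by
  simp [DT]

lemma ab_sum_apply {P Q : AddCommGrpCat.{u + 1}} {ι : Type*} (s : Finset ι) (f : ι → (P ⟶ Q)) (x : P) :
    (∑ i ∈ s, f i).hom x = ∑ i ∈ s, (f i).hom x := by
  have : (∑ i ∈ s, f i).hom = ∑ i ∈ s, (f i).hom := map_sum AddCommGrpCat.homAddEquiv f s
  rw [this, AddMonoidHom.finset_sum_apply]

lemma K_d_apply (n : ℕ) (x : Nn B F n) :
    ((K (Pl (XB B) F.presheaf)).d n (n + 1)).hom x = dR B F n x := by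
  rw [K_d, dR_apply]
  refine (ab_sum_apply _ _ _).trans ?_
  rfl

lemma KT_d_apply (n : ℕ) (x : Tn B F n) :
    ((K (PlT (XB B) F.presheaf)).d n (n + 1)).hom x = DT B F n x := by
  rw [K_d, DT_apply]
  refine (ab_sum_apply _ _ _).trans ?_
  rfl


section Main

variable (hF : Adeq.adequate R F)

/-- the chosen flat base change isomorphisms -/
noncomputable def theta [Module.Flat R B] (n : ℕ) : B ⊗[R] Nn B F n ≃+ Tn B F n :=
  (exists_theta B F hF (Wn R B n)).choose

lemma theta_tmul [Module.Flat R B] (n : ℕ) (b : B) (x : Nn B F n) :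
    theta B F hF n (b ⊗ₜ[R] x) = (iW B (Wn R B n)).hom b • mapAb F (fW B (Wn R B n)) x :=
  (exists_theta B F hF (Wn R B n)).choose_spec b x

lemma theta_compat [Module.Flat R B] (n : ℕ) (z : B ⊗[R] Nn B F n) :
    theta B F hF (n + 1) ((dR B F n).lTensor B z) = DT B F n (theta B F hF n z) := by
  induction z using TensorProduct.induction_on with
  | zero => simp
  | add x y hx hy => simp only [map_add, hx, hy]
  | tmul b x =>
    rw [LinearMap.lTensor_tmul, dR_apply, DT_apply, TensorProduct.tmul_sum, map_sum]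
    refine Finset.sum_congr rfl (fun i _ => ?_)
    rw [TensorProduct.tmul_smul, map_zsmul]
    congr 1
    exact theta_natural B F (hface R B n i) (theta B F hF n) (theta_tmul B F hF n)
      (theta B F hF (n + 1)) (theta_tmul B F hF (n + 1)) b x

/-- the contracting homotopy, typed -/
noncomputable def sT (n : ℕ) : Tn B F (n + 1) →+ Tn B F n := (sK (XB B) F.presheaf n).hom

lemma homotopy_apply (n : ℕ) (t : Tn B F (n + 1)) :
    sT B F (n + 1) (DT B F (n + 1) t) + DT B F n (sT B F n t) = t := by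
  have h := congrArg (fun f => f.hom t) (sK_homotopy (XB B) F.presheaf n)
  rw [← KT_d_apply, ← KT_d_apply]
  exact h

include hF in
/-- every Čech cocycle of positive degree of an adequate functor, for a faithfully flat algebra,
is a coboundary -/
theorem cocycle_coboundary [Module.FaithfullyFlat R B] (n : ℕ) (x : Nn B F (n + 1))
    (hx : ((K (Pl (XB B) F.presheaf)).d (n + 1) (n + 2)).hom x = 0) :
    ∃ y : Nn B F n, ((K (Pl (XB B) F.presheaf)).d n (n + 1)).hom y = x := by
  have h := descent_exact B (dR B F n) (dR B F (n + 1)) (DT B F n) (DT B F (n + 1))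
    (sT B F n) (sT B F (n + 1)) (homotopy_apply B F n)
    (theta B F hF n) (theta B F hF (n + 1)) (theta B F hF (n + 2))
    (theta_compat B F hF n) (theta_compat B F hF (n + 1)) x
    (by rw [← K_d_apply]; exact hx)
  obtain ⟨y, hy⟩ := h
  exact ⟨y, (K_d_apply B F n y).trans hy⟩

end Main

end Concrete

end Groth.Agent.Lib.Helper14.AdeqCech2
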