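import Mathlib

/-!
# Functoriality of the Cech complex under a finite-product-preserving functor

For `G : C ⥤ C'` preserving finite products, a family `U : ι → C` and a presheaf `P'` on `C'`:
`(cechComplexFunctor (G.obj ∘ U)).obj P' ≅ (cechComplexFunctor U).obj (G.op ⋙ P')`.
-/

set_option linter.unusedSectionVars false
universe w v v' v'' u u' u''

namespace Groth.Agent.Lib.Helper14.CechFunct

open CategoryTheory Limits Opposite

variable {C : Type u} [Category.{v} C] {C' : Type u'} [Category.{v'} C']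
  {A : Type u''} [Category.{v''} A] [HasProducts.{w} A]
  [HasFiniteProducts C] [HasFiniteProducts C']
  (G : C ⥤ C') [PreservesFiniteProducts G] {ι : Type w} (U : ι → C) (P' : C'ᵒᵖ ⥤ A)

/-- the two cosimplicial objects -/
noncomputable abbrev Q : CosimplicialObject A :=
  (FormalCoproduct.cosimplicialObjectFunctor (FormalCoproduct.mk ι U).cech).obj (G.op ⋙ P')

noncomputable abbrev Q' : CosimplicialObject A :=
  (FormalCoproduct.cosimplicialObjectFunctor (FormalCoproduct.mk ι (G.obj ∘ U)).cech).obj P'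

noncomputable def compHom (n : SimplexCategory) : (Q' G U P').obj n ⟶ (Q G U P').obj n :=
  Limits.Pi.map (fun (x : ToType n → ι) => P'.map (PreservesProduct.iso G (U ∘ x)).hom.op)

noncomputable def compInv (n : SimplexCategory) : (Q G U P').obj n ⟶ (Q' G U P').obj n :=
  Limits.Pi.map (fun (x : ToType n → ι) => P'.map (PreservesProduct.iso G (U ∘ x)).inv.op)

noncomputable def compIso (n : SimplexCategory) : (Q' G U P').obj n ≅ (Q G U P').obj n :=
  Limits.Pi.mapIso (fun (x : ToType n → ι) => P'.mapIso (PreservesProduct.iso G (U ∘ x)).op)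

lemma compIso_hom (n : SimplexCategory) : (compIso G U P' n).hom = compHom G U P' n := rfl

/-- the reindexing map on products -/
noncomputable abbrev reidx {D : Type*} [Category D] [HasFiniteProducts D] (V : ι → D) {n m : SimplexCategory}
    (θ : n ⟶ m) (x : ToType m → ι) : ∏ᶜ (V ∘ x) ⟶ ∏ᶜ (V ∘ (x ∘ θ)) :=
  Limits.Pi.lift (fun a => Limits.Pi.π (V ∘ x) (θ a))

lemma Q_map_π {n m : SimplexCategory} (θ : n ⟶ m) (x : ToType m → ι) :
    (Q G U P').map θ ≫ Limits.Pi.π (fun (x : ToType m → ι) => P'.obj (op (G.obj (∏ᶜ (U ∘ x))))) x =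
      Limits.Pi.π (fun (x : ToType n → ι) => P'.obj (op (G.obj (∏ᶜ (U ∘ x))))) (x ∘ θ) ≫
        P'.map (G.map (reidx U θ x)).op :=
  Limits.Pi.lift_π _ _

lemma Q'_map_π {n m : SimplexCategory} (θ : n ⟶ m) (x : ToType m → ι) :
    (Q' G U P').map θ ≫ Limits.Pi.π (fun (x : ToType m → ι) => P'.obj (op (∏ᶜ ((G.obj ∘ U) ∘ x)))) x =
      Limits.Pi.π (fun (x : ToType n → ι) => P'.obj (op (∏ᶜ ((G.obj ∘ U) ∘ x)))) (x ∘ θ) ≫
        P'.map (reidx (G.obj ∘ U) θ x).op :=
  Limits.Pi.lift_π _ _

lemma reidx_comm {n m : SimplexCategory} (θ : n ⟶ m) (x : ToType m → ι) :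
    G.map (reidx U θ x) ≫ (PreservesProduct.iso G (U ∘ (x ∘ θ))).hom =
      (PreservesProduct.iso G (U ∘ x)).hom ≫ reidx (G.obj ∘ U) θ x := by
  apply Limits.Pi.hom_ext; intro a
  simp only [reidx, PreservesProduct.iso_hom, Category.assoc]
  erw [piComparison_comp_π, Limits.Pi.lift_π]
  rw [← G.map_comp, Limits.Pi.lift_π]
  erw [piComparison_comp_π]

lemma compHom_π (n : SimplexCategory) (x : ToType n → ι) :
    compHom G U P' n ≫ Limits.Pi.π (fun (x : ToType n → ι) => P'.obj (op (G.obj (∏ᶜ (U ∘ x))))) x =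
      Limits.Pi.π (fun (x : ToType n → ι) => P'.obj (op (∏ᶜ ((G.obj ∘ U) ∘ x)))) x ≫
        P'.map (PreservesProduct.iso G (U ∘ x)).hom.op :=
  Limits.Pi.map_π _ _

lemma compHom_naturality {n m : SimplexCategory} (θ : n ⟶ m) :
    (Q' G U P').map θ ≫ compHom G U P' m = compHom G U P' n ≫ (Q G U P').map θ := by
  refine Limits.Pi.hom_ext (f := fun (x : ToType m → ι) => P'.obj (op (G.obj (∏ᶜ (U ∘ x))))) _ _
    (fun x => ?_)
  refine (Category.assoc _ _ _).trans ?_
  refine (congrArg (fun t => (Q' G U P').map θ ≫ t) (compHom_π G U P' m x)).trans ?_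
  refine (Category.assoc _ _ _).symm.trans ?_
  refine (congrArg (fun t => t ≫ P'.map (PreservesProduct.iso G (U ∘ x)).hom.op)
    (Q'_map_π G U P' θ x)).trans ?_
  refine Eq.trans ?_ (Category.assoc _ _ _).symm
  refine Eq.trans ?_ (congrArg (fun t => compHom G U P' n ≫ t) (Q_map_π G U P' θ x)).symm
  refine Eq.trans ?_ (Category.assoc _ _ _)
  refine Eq.trans ?_ (congrArg (fun t => t ≫ P'.map (G.map (reidx U θ x)).op)
    (compHom_π G U P' n (x ∘ θ))).symm
  refine (Category.assoc _ _ _).trans (Eq.trans ?_ (Category.assoc _ _ _).symm)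
  congr 1
  rw [← P'.map_comp, ← P'.map_comp, ← op_comp, ← op_comp, reidx_comm]

/-- The isomorphism of cosimplicial objects. -/
noncomputable def cosimpIso : Q' G U P' ≅ Q G U P' :=
  NatIso.ofComponents (fun n => compIso G U P' n) (fun θ => compHom_naturality G U P' θ)

/-- The isomorphism of Cech complexes. -/
noncomputable def cechIso [Preadditive A] :
    (cechComplexFunctor (G.obj ∘ U)).obj P' ≅ (cechComplexFunctor U).obj (G.op ⋙ P') :=
  (AlgebraicTopology.alternatingCofaceMapComplex A).mapIso (cosimpIso G U P')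

end Groth.Agent.Lib.Helper14.CechFunct
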