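import Groth.Agent.Lib.Helper14.AdeqCech2
import Groth.Agent.Lib.Helper14.CechFunct
import Groth.Agent.S8755

set_option linter.unusedSectionVars false
universe u

namespace Groth.Agent.Lib.Helper14.AdeqCech3

open CategoryTheory Limits Opposite Simplicial TensorProduct MonoidalCategory CartesianMonoidalCategory
open AlgebraicGeometry
open Groth.Agent.Lib.Helper14.CechPlain
open Groth.Agent.Lib.Helper14.AdeqCech Groth.Agent.Lib.Helper14.AdeqCech2

section PlIso

universe v v' u1 u2

variable {D : Type u1} [Category.{v} D] [HasFiniteProducts D] (X : D)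
  {A : Type u2} [Category.{v'} A] {Q Q' : Dᵒᵖ ⥤ A}

/-- functoriality of the plain model in the presheaf -/
noncomputable def PlMapIso (e : Q ≅ Q') : Pl X Q ≅ Pl X Q' :=
  NatIso.ofComponents (fun n => e.app (op (pw X n))) (fun θ => e.hom.naturality _)

end PlIso

section Bridge

variable {S : Scheme.{u}} {R : CommRingCat.{u}} (a : Spec R ⟶ S)

example (B : Type u) [CommRing B] [Algebra R B] :
    (algSpec R).obj (op (CommAlgCat.of R B)) =
      (Over.mk (Spec.map (CommRingCat.ofHom (algebraMap R B))) : Over (Spec R)) := rfl

/-- `Spec` of an algebra, as an object over `S` -/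
noncomputable def specOverIso : algSpec R ⋙ Over.map a ≅ Adeq.specOver a :=
  NatIso.ofComponents (fun X => Iso.refl _) (by
    intro X Y f
    ext
    simp
    rfl)

end Bridge


section MainThm

variable {S : Scheme.{u}} {R : CommRingCat.{u}} (a : Spec R ⟶ S)
  (M : BigSite.Mod Scheme.fppfPrecoverage S)
  (B : Type u) [CommRing B] [Algebra R B]

/-- the module-valued functor of `M` at `a` -/
noncomputable abbrev FM : Adeq.MVF R := (Adeq.toMVF Scheme.fppfPrecoverage a).obj M

/-- the presheaf of abelian groups on `Over (Spec R)` of the statement -/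
noncomputable abbrev P0 : (Over (Spec R))ᵒᵖ ⥤ AddCommGrpCat.{u + 1} :=
  (Over.map a).op ⋙ ((BigSite.toAbMod Scheme.fppfPrecoverage S).obj M).obj

/-- the presheaf on algebras agrees with the module-valued functor -/
noncomputable def presheafIso : (algSpec R).op ⋙ P0 a M ≅ (FM a M).presheaf :=
  Functor.isoWhiskerRight (NatIso.op (specOverIso a)).symm
    ((BigSite.toAbMod Scheme.fppfPrecoverage S).obj M).obj

/-- the Čech complex of the statement is the alternating coface complex of the plain model -/
noncomputable def complexIso :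
    (cechComplexFunctor (A := AddCommGrpCat.{u + 1})
        (fun _ : PUnit.{u + 2} =>
          (Over.mk (Spec.map (CommRingCat.ofHom (algebraMap R B))) : Over (Spec R)))).obj (P0 a M) ≅
      K (Pl (XB (R := R) B) (FM a M).presheaf) :=
  (Groth.Agent.Lib.Helper14.CechFunct.cechIso (algSpec R) (fun _ : PUnit.{u + 2} => XB (R := R) B)
      (P0 a M)) ≪≫
    cechIsoPl.{u + 1} (XB (R := R) B) ((algSpec R).op ⋙ P0 a M) ≪≫
    (AlgebraicTopology.alternatingCofaceMapComplex _).mapIso (PlMapIso _ (presheafIso a M))

/-- exactness of the Čech complex in positive degrees -/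
theorem cech_exactAt (hF : Adeq.adequate R (FM a M)) [Module.FaithfullyFlat R B] (n : ℕ) :
    ((cechComplexFunctor (A := AddCommGrpCat.{u + 1})
        (fun _ : PUnit.{u + 2} =>
          (Over.mk (Spec.map (CommRingCat.ofHom (algebraMap R B))) : Over (Spec R)))).obj
      (P0 a M)).ExactAt (n + 1) := by
  refine HomologicalComplex.ExactAt.of_iso ?_ (complexIso a M B).symm
  rw [HomologicalComplex.exactAt_iff' _ n (n + 1) (n + 2) (by simp) (by simp),
    ShortComplex.ab_exact_iff]
  intro x hx
  exact cocycle_coboundary B (FM a M) hF n x hx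

end MainThm

end Groth.Agent.Lib.Helper14.AdeqCech3
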