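import Groth.Agent.Lib.Helper14.AdeqDesc
import Groth.Agent.Lib.Helper14.AdeqSum

/-!
# Descent of adequacy along a finite family of ring maps
-/

universe u

set_option linter.unusedSectionVars false

open CategoryTheory Limits TensorProduct

namespace Groth.Agent.Lib.Helper14.AdeqFam

open Groth.Agent.Lib.Helper14.AdeqBC Groth.Agent.Lib.Helper14.AdeqCoker
  Groth.Agent.Lib.Helper14.AdeqKer Groth.Agent.Lib.Helper14.AdeqDesc
  Groth.Agent.Lib.Helper14.AdeqRestr Groth.Agent.Lib.Helper14.AdeqPushFwd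
  Groth.Agent.Lib.Helper14.AdeqSum

section FinBiprod

variable {A : Type u} [CommRing A] {J : Type (u + 1)} [Fintype J] (f : J → Adeq.MVF A) [HasBiproduct f]

/-- evaluation at an element, as an additive map on morphisms -/
noncomputable def evalHom (X Y : Adeq.MVF A) (B : Adeq.Alg A) (ξ : X.obj (Adeq.pt B)) :
    (X ⟶ Y) →+ Y.obj (Adeq.pt B) where
  toFun φ := φ.app (Adeq.pt B) ξ
  map_zero' := rfl
  map_add' _ _ := rfl

lemma fb_total (B : Adeq.Alg A) (v : (⨁ f).obj (Adeq.pt B)) :
    v = ∑ j, (biproduct.ι f j).app (Adeq.pt B) ((biproduct.π f j).app (Adeq.pt B) v) := by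
  classical
  have h := congrArg (evalHom (⨁ f) (⨁ f) B v) (IsBilimit.total (biproduct.isBilimit f))
  rw [map_sum] at h
  exact h.symm

lemma fb_ext (B : Adeq.Alg A) (v w : (⨁ f).obj (Adeq.pt B))
    (h : ∀ j, (biproduct.π f j).app (Adeq.pt B) v = (biproduct.π f j).app (Adeq.pt B) w) : v = w := by
  rw [fb_total f B v, fb_total f B w]
  exact Finset.sum_congr rfl (fun j _ => by rw [h j])

lemma fb_lift_π {Z : Adeq.MVF A} (g : ∀ j, Z ⟶ f j) (j : J) (B : Adeq.Alg A) (z : Z.obj (Adeq.pt B)) :
    (biproduct.π f j).app (Adeq.pt B) ((biproduct.lift g).app (Adeq.pt B) z) =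
      (g j).app (Adeq.pt B) z :=
  (comp_app_apply _ _ B z).symm.trans (eq_app_apply (biproduct.lift_π g j) B z)

theorem adequate_biproduct (hf : ∀ j, Adeq.adequate A (f j)) : Adeq.adequate A (⨁ f) :=
  (Adeq.adequate A).prop_of_iso (biproduct.isoCoproduct f).symm (adequate_coproduct f hf)

end FinBiprod


section Mixed

variable {A : Type u} [CommRing A] (A' A'' : Type u) [CommRing A'] [CommRing A'']
  [Algebra A A'] [Algebra A A'']

lemma d0_mixed (F : Adeq.MVF A) (B : Adeq.Alg A)
    (y₀ : F.obj (Adeq.pt ((Adeq.Alg.restr A A').obj ((Adeq.Alg.baseChange A A').obj B)))) :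
    (eta (A' := A'') ((Adeq.push A A').obj ((Adeq.restr A A').obj F))).app (Adeq.pt B)
      (castP ((Adeq.restr A A').obj F) B (castR F ((Adeq.Alg.baseChange A A').obj B) y₀)) =
    castP (A' := A'') _ B (castR (A' := A'') _ ((Adeq.Alg.baseChange A A'').obj B)
      (castP ((Adeq.restr A A').obj F) _ (castR F _
        (mapAb F ((Adeq.Alg.restr A A').map ((Adeq.Alg.baseChange A A').map
          (Adeq.Alg.unit A A'' B))) y₀)))) := by
  rw [eta_app, castP_mapAb, castR_mapAb]

lemma d1_mixed (F : Adeq.MVF A) (B : Adeq.Alg A)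
    (y₁ : F.obj (Adeq.pt ((Adeq.Alg.restr A A'').obj ((Adeq.Alg.baseChange A A'').obj B)))) :
    ((Adeq.push A A'').map ((Adeq.restr A A'').map (eta (A' := A') F))).app (Adeq.pt B)
      (castP ((Adeq.restr A A'').obj F) B (castR F ((Adeq.Alg.baseChange A A'').obj B) y₁)) =
    castP (A' := A'') _ B (castR (A' := A'') _ ((Adeq.Alg.baseChange A A'').obj B)
      (castP ((Adeq.restr A A').obj F) _ (castR F _
        (mapAb F (Adeq.Alg.unit A A' ((Adeq.Alg.restr A A'').obj
          ((Adeq.Alg.baseChange A A'').obj B))) y₁)))) := by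
  rw [castP_app, castR_app, eta_app]

end Mixed


section Family

variable {A : Type u} [CommRing A] {J : Type (u + 1)} [Fintype J]
  (A' : J → Type u) [∀ j, CommRing (A' j)] [∀ j, Algebra A (A' j)]

/-- `B ↦ F(A'_j ⊗ B)` -/
noncomputable abbrev TF (F : Adeq.MVF A) (j : J) : Adeq.MVF A :=
  (Adeq.push A (A' j)).obj ((Adeq.restr A (A' j)).obj F)

/-- `B ↦ F(A'_j ⊗ (A'_k ⊗ B))` -/
noncomputable abbrev TTF (F : Adeq.MVF A) (p : J × J) : Adeq.MVF A :=
  (Adeq.push A (A' p.2)).obj ((Adeq.restr A (A' p.2)).obj (TF A' F p.1))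

variable [HasBiproductsOfShape J (Adeq.MVF A)] [HasBiproductsOfShape (J × J) (Adeq.MVF A)]

/-- descent of adequacy along a finite family -/
theorem adequate_of_family_descent (F : Adeq.MVF A)
    (h₁ : ∀ j, Adeq.adequate (A' j) ((Adeq.restr A (A' j)).obj F))
    (h₂ : ∀ B : Adeq.Alg A,
      (∀ x : F.obj (Adeq.pt B),
        (∀ j, mapAb F (Adeq.Alg.unit A (A' j) B) x = 0) → x = 0) ∧
      ∀ y : ∀ j, F.obj (Adeq.pt ((Adeq.Alg.restr A (A' j)).obj
          ((Adeq.Alg.baseChange A (A' j)).obj B))),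
        (∀ j k, mapAb F ((Adeq.Alg.restr A (A' j)).map ((Adeq.Alg.baseChange A (A' j)).map
            (Adeq.Alg.unit A (A' k) B))) (y j) =
          mapAb F (Adeq.Alg.unit A (A' j) ((Adeq.Alg.restr A (A' k)).obj
            ((Adeq.Alg.baseChange A (A' k)).obj B))) (y k)) →
        ∃ x, ∀ j, mapAb F (Adeq.Alg.unit A (A' j) B) x = y j) :
    Adeq.adequate A F := by
  classical
  have hG : Adeq.adequate A (⨁ (TF A' F)) :=
    adequate_biproduct _ (fun j => adequate_push _ (h₁ j))
  have hH : Adeq.adequate A (⨁ (TTF A' F)) :=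
    adequate_biproduct _ (fun p => adequate_push _ (adequate_restr _ (adequate_push _ (h₁ p.1))))
  let η : F ⟶ ⨁ (TF A' F) := biproduct.lift (fun j => eta (A' := A' j) F)
  let dcomp : ∀ p : J × J, (⨁ (TF A' F)) ⟶ TTF A' F p := fun p =>
    biproduct.π (TF A' F) p.1 ≫ eta (A' := A' p.2) (TF A' F p.1) -
      biproduct.π (TF A' F) p.2 ≫
        (Adeq.push A (A' p.2)).map ((Adeq.restr A (A' p.2)).map (eta (A' := A' p.1) F))
  let d : (⨁ (TF A' F)) ⟶ ⨁ (TTF A' F) := biproduct.lift dcomp
  have hK := adequate_kernel d hG hH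
  have hcomp : η ≫ d = 0 := by
    apply biproduct.hom_ext
    intro p
    rw [Category.assoc, biproduct.lift_π, zero_comp]
    change η ≫ (biproduct.π (TF A' F) p.1 ≫ eta (A' := A' p.2) (TF A' F p.1) -
      biproduct.π (TF A' F) p.2 ≫
        (Adeq.push A (A' p.2)).map ((Adeq.restr A (A' p.2)).map (eta (A' := A' p.1) F))) = 0
    rw [Preadditive.comp_sub, ← Category.assoc, ← Category.assoc, biproduct.lift_π,
      biproduct.lift_π, sub_eq_zero]
    exact eta_naturality (A' := A' p.2) (eta (A' := A' p.1) F)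
  have hκ : kernel.lift d η hcomp ≫ kernel.ι d = η := kernel.lift_ι _ _ hcomp
  have hη : ∀ (B : Adeq.Alg A) (x : F.obj (Adeq.pt B)) (j : J),
      (biproduct.π (TF A' F) j).app (Adeq.pt B) (η.app (Adeq.pt B) x) =
        castP ((Adeq.restr A (A' j)).obj F) B (castR F ((Adeq.Alg.baseChange A (A' j)).obj B)
          (mapAb F (Adeq.Alg.unit A (A' j) B) x)) := by
    intro B x j
    rw [fb_lift_π, eta_app]
  have hiso : IsIso (kernel.lift d η hcomp) := by
    apply isIso_of_bijective
    intro B
    constructor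
    · intro x₁ x₂ h
      have h1 := congrArg (fun z => (kernel.ι d).app (Adeq.pt B) z) h
      have h2 : η.app (Adeq.pt B) x₁ = η.app (Adeq.pt B) x₂ :=
        (eq_app_apply hκ B x₁).symm.trans (h1.trans (eq_app_apply hκ B x₂))
      have h3 : x₁ - x₂ = 0 := by
        apply (h₂ B).1
        intro j
        have h4 := congrArg (fun z => (biproduct.π (TF A' F) j).app (Adeq.pt B) z) h2
        simp only [] at h4
        rw [hη, hη] at h4
        have h5 := (castR F _).injective ((castP _ B).injective h4)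
        rw [map_sub, h5, sub_self]
      exact sub_eq_zero.1 h3
    · intro k
      obtain ⟨y, hy⟩ : ∃ y, y = (kernel.ι d).app (Adeq.pt B) k := ⟨_, rfl⟩
      let y₀ : ∀ j, F.obj (Adeq.pt ((Adeq.Alg.restr A (A' j)).obj
          ((Adeq.Alg.baseChange A (A' j)).obj B))) := fun j =>
        (castR F _).symm ((castP _ B).symm ((biproduct.π (TF A' F) j).app (Adeq.pt B) y))
      have hy₀ : ∀ j, castP ((Adeq.restr A (A' j)).obj F) B
          (castR F ((Adeq.Alg.baseChange A (A' j)).obj B) (y₀ j)) =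
          (biproduct.π (TF A' F) j).app (Adeq.pt B) y := by
        intro j
        simp only [y₀]
        rw [AddEquiv.apply_symm_apply, AddEquiv.apply_symm_apply]
      have h0 : d.app (Adeq.pt B) y = 0 := by
        rw [hy]
        exact (ι_exact d B).apply_apply_eq_zero k
      have hc : ∀ j k', mapAb F ((Adeq.Alg.restr A (A' j)).map ((Adeq.Alg.baseChange A (A' j)).map
            (Adeq.Alg.unit A (A' k') B))) (y₀ j) =
          mapAb F (Adeq.Alg.unit A (A' j) ((Adeq.Alg.restr A (A' k')).obj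
            ((Adeq.Alg.baseChange A (A' k')).obj B))) (y₀ k') := by
        intro j k'
        have h1 := congrArg (fun z => (biproduct.π (TTF A' F) (j, k')).app (Adeq.pt B) z) h0
        simp only [] at h1
        rw [fb_lift_π, map_zero] at h1
        have h2 : (eta (A' := A' k') (TF A' F j)).app (Adeq.pt B)
            ((biproduct.π (TF A' F) j).app (Adeq.pt B) y) =
            ((Adeq.push A (A' k')).map ((Adeq.restr A (A' k')).map (eta (A' := A' j) F))).app
              (Adeq.pt B) ((biproduct.π (TF A' F) k').app (Adeq.pt B) y) :=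
          sub_eq_zero.1 h1
        rw [← hy₀ j, ← hy₀ k', d0_mixed, d1_mixed] at h2
        exact (castR F _).injective ((castP _ _).injective
          ((castR _ _).injective ((castP _ B).injective h2)))
      obtain ⟨x, hx⟩ := (h₂ B).2 y₀ hc
      refine ⟨x, ?_⟩
      apply ι_injective d B
      refine (eq_app_apply hκ B x).trans ?_
      rw [← hy]
      apply fb_ext
      intro j
      rw [hη, hx j, hy₀]
  exact (Adeq.adequate A).prop_of_iso (asIso (kernel.lift d η hcomp)).symm hK

end Family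

end Groth.Agent.Lib.Helper14.AdeqFam
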