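import Groth.Agent.Lib.Helper14.AdeqPres
import Mathlib.Algebra.Category.Ring.FilteredColimits
import Mathlib.CategoryTheory.Limits.Constructions.Over.Connected
import Mathlib.CategoryTheory.Limits.Types.Filtered

/-!
# Adequate functors commute with filtered colimits
-/

universe u v w

set_option linter.unusedSectionVars false

open CategoryTheory Limits TensorProduct

namespace Groth.Agent.Lib.Helper14.AdeqFilt

open Groth.Agent.Lib.Helper14.AdeqBC Groth.Agent.Lib.Helper14.AdeqPres

section AbCriterion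

variable {J : Type v} [Category.{w} J] [IsFiltered J] {K : J ⥤ Ab.{u}} (t : Cocone K)

/-- recognizing filtered colimits of abelian groups -/
theorem isColimit_ab (hsurj : ∀ x : t.pt, ∃ (i : J) (xi : K.obj i), t.ι.app i xi = x)
    (hinj : ∀ (i : J) (xi : K.obj i), t.ι.app i xi = 0 →
      ∃ (k : J) (f : i ⟶ k), K.map f xi = 0) : Nonempty (IsColimit t) := by
  classical
  -- equal images become equal at a later stage
  have heq : ∀ (i j : J) (xi : K.obj i) (xj : K.obj j), t.ι.app i xi = t.ι.app j xj →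
      ∃ (k : J) (f : i ⟶ k) (g : j ⟶ k), K.map f xi = K.map g xj := by
    intro i j xi xj h
    let k := IsFiltered.max i j
    let f := IsFiltered.leftToMax i j
    let g := IsFiltered.rightToMax i j
    have h1 : t.ι.app k (K.map f xi - K.map g xj) = 0 := by
      rw [map_sub, sub_eq_zero]
      have e1 := ConcreteCategory.congr_hom (t.w f) xi
      have e2 := ConcreteCategory.congr_hom (t.w g) xj
      simp only [ConcreteCategory.comp_apply] at e1 e2
      rw [e1, e2, h]
    obtain ⟨l, p, hp⟩ := hinj k _ h1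
    refine ⟨l, f ≫ p, g ≫ p, ?_⟩
    rw [map_sub, sub_eq_zero] at hp
    rw [Functor.map_comp, Functor.map_comp, ConcreteCategory.comp_apply,
      ConcreteCategory.comp_apply, hp]
  choose ix x hx using hsurj
  -- cocones take equal values on elements with equal images
  have hs : ∀ (s : Cocone K) (i j : J) (xi : K.obj i) (xj : K.obj j),
      t.ι.app i xi = t.ι.app j xj → s.ι.app i xi = s.ι.app j xj := by
    intro s i j xi xj h
    obtain ⟨k, f, g, hk⟩ := heq i j xi xj h
    have e1 := ConcreteCategory.congr_hom (s.w f) xi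
    have e2 := ConcreteCategory.congr_hom (s.w g) xj
    simp only [ConcreteCategory.comp_apply] at e1 e2
    rw [← e1, ← e2, hk]
  refine ⟨{
    desc := fun s => AddCommGrpCat.ofHom (AddMonoidHom.mk' (fun y => s.ι.app (ix y) (x y)) ?_)
    fac := ?_
    uniq := ?_ }⟩
  · intro a b
    -- additivity
    let k := IsFiltered.max (ix a) (ix b)
    let f := IsFiltered.leftToMax (ix a) (ix b)
    let g := IsFiltered.rightToMax (ix a) (ix b)
    have e1 := ConcreteCategory.congr_hom (t.w f) (x a)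
    have e2 := ConcreteCategory.congr_hom (t.w g) (x b)
    simp only [ConcreteCategory.comp_apply] at e1 e2
    have h1 : t.ι.app (ix (a + b)) (x (a + b)) = t.ι.app k (K.map f (x a) + K.map g (x b)) := by
      rw [map_add, e1, e2, hx, hx, hx]
    rw [hs s _ _ _ _ h1, map_add]
    have e3 := ConcreteCategory.congr_hom (s.w f) (x a)
    have e4 := ConcreteCategory.congr_hom (s.w g) (x b)
    simp only [ConcreteCategory.comp_apply] at e3 e4
    rw [e3, e4]
  · intro s j
    ext y
    change s.ι.app (ix (t.ι.app j y)) (x (t.ι.app j y)) = s.ι.app j y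
    exact hs s _ _ _ _ (hx _)
  · intro s m hm
    ext y
    change m y = s.ι.app (ix y) (x y)
    have := ConcreteCategory.congr_hom (hm (ix y)) (x y)
    simp only [ConcreteCategory.comp_apply] at this
    rw [← this, hx]

end AbCriterion

section Criterion

variable {A : Type u} [CommRing A] {B : Type v} [CommRing B] [Algebra A B]
  {N : Type w} [AddCommGroup N] [Module A N]

/-- the equational criterion for a given representation, with auxiliary generators -/
lemma exists_relations_of_sum {n : ℕ} (b : Fin n → B) (nn : Fin n → N)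
    (h0 : ∑ i, b i ⊗ₜ[A] nn i = 0) :
    ∃ (l k : ℕ) (c : Fin l → B) (a : Fin n → Fin k → A) (a' : Fin l → Fin k → A) (y : Fin k → N),
      (∀ i, nn i = ∑ j, a i j • y j) ∧ (∀ i', ∑ j, a' i' j • y j = 0) ∧
        (∀ j, ∑ i, a i j • b i + ∑ i', a' i' j • c i' = 0) := by
  let P₀ : Submodule A B := Submodule.span A (Set.range b)
  have hP₀ : P₀.FG := Submodule.fg_span (Set.finite_range b)
  let b₀ : Fin n → P₀ := fun i => ⟨b i, Submodule.subset_span ⟨i, rfl⟩⟩
  let t : P₀ ⊗[A] N := ∑ i, b₀ i ⊗ₜ[A] nn i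
  have ht : LinearMap.rTensor N P₀.subtype t = 0 := by
    rw [map_sum]
    simpa [b₀] using h0
  obtain ⟨Q, hPQ, hQ, hQt⟩ := TensorProduct.eq_zero_of_fg_of_subtype_eq_zero hP₀ ht
  obtain ⟨l, c, hc⟩ := Submodule.fg_iff_exists_fin_generating_family.1 hQ
  have hcQ : ∀ j, c j ∈ Q := fun j => hc ▸ Submodule.subset_span ⟨j, rfl⟩
  let g : Fin n ⊕ Fin l → Q :=
    Sum.elim (fun i => Submodule.inclusion hPQ (b₀ i)) (fun j => ⟨c j, hcQ j⟩)
  let nn' : Fin n ⊕ Fin l → N := Sum.elim nn (fun _ => 0)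
  have hg : Submodule.span A (Set.range g) = ⊤ := by
    rw [eq_top_iff]
    rintro ⟨q, hq⟩ -
    have : q ∈ Submodule.span A (Set.range c) := hc ▸ hq
    refine Submodule.span_induction
      (p := fun q hq' => (⟨q, hc ▸ hq'⟩ : Q) ∈ Submodule.span A (Set.range g)) ?_ ?_ ?_ ?_ this
    · rintro _ ⟨j, rfl⟩
      exact Submodule.subset_span ⟨Sum.inr j, rfl⟩
    · exact Submodule.zero_mem _
    · intro x y hx hy hx' hy'
      exact Submodule.add_mem _ hx' hy'
    · intro r x hx hx'
      exact Submodule.smul_mem _ r hx'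
  have hsum : ∑ i, g i ⊗ₜ[A] nn' i = 0 := by
    rw [Fintype.sum_sum_type]
    simp only [g, nn', Sum.elim_inl, Sum.elim_inr, TensorProduct.tmul_zero, Finset.sum_const_zero,
      add_zero]
    rw [← hQt, map_sum]
    simp
  obtain ⟨k, a, y, h₁, h₂⟩ := TensorProduct.vanishesTrivially_of_sum_tmul_eq_zero A hg hsum
  refine ⟨l, k, c, fun i => a (Sum.inl i), fun i' => a (Sum.inr i'), y, ?_, ?_, ?_⟩
  · intro i
    exact h₁ (Sum.inl i)
  · intro i'
    exact (h₁ (Sum.inr i')).symm
  · intro j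
    have := congrArg (Q.subtype) (h₂ j)
    rw [map_sum, map_zero, Fintype.sum_sum_type] at this
    rw [← this]
    simp [g, b₀]

end Criterion

section AlgColim

variable {A : Type u} [CommRing A] {J : Type u} [SmallCategory J] [IsFiltered J]
  {D : J ⥤ Adeq.Alg A} {c : Cocone D} (hc : IsColimit c)

/-- the underlying type of an algebra, through `Under` and `CommRingCat` -/
noncomputable def toType : Adeq.Alg A ⥤ Type u :=
  (commAlgCatEquivUnder (CommRingCat.of A)).functor ⋙ Under.forget _ ⋙ forget CommRingCat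

include hc in
lemma isColimit_toType : Nonempty (IsColimit ((toType (A := A)).mapCocone c)) := by
  have : IsConnected J := IsFiltered.isConnected J
  have h1 : PreservesColimitsOfShape J (forget CommRingCat.{u}) :=
    PreservesFilteredColimitsOfSize.preserves_filtered_colimits J
  have h2 : PreservesColimitsOfShape J (toType (A := A)) := by
    unfold toType
    infer_instance
  exact ⟨isColimitOfPreserves _ hc⟩

include hc in
lemma alg_surj (b : c.pt) : ∃ (j : J) (bj : D.obj j), (c.ι.app j).hom bj = b := by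
  obtain ⟨h⟩ := isColimit_toType hc
  obtain ⟨j, y, hy⟩ := Types.jointly_surjective_of_isColimit h b
  exact ⟨j, y, hy⟩

include hc in
lemma alg_inj (j : J) (bj : D.obj j) (hb : (c.ι.app j).hom bj = 0) :
    ∃ (k : J) (f : j ⟶ k), (D.map f).hom bj = 0 := by
  obtain ⟨h⟩ := isColimit_toType hc
  have h1 : ((toType (A := A)).mapCocone c).ι.app j bj =
      ((toType (A := A)).mapCocone c).ι.app j (0 : D.obj j) := by
    change (c.ι.app j).hom bj = (c.ι.app j).hom 0
    rw [hb, map_zero]
  obtain ⟨k, f, g, hk⟩ := (Types.FilteredColimit.isColimit_eq_iff _ h).1 h1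
  refine ⟨k, f, ?_⟩
  have h2 : (D.map f).hom bj = (D.map g).hom 0 := hk
  rw [h2, map_zero]

include hc in
/-- finitely many elements vanishing in the colimit vanish at a common later stage -/
lemma alg_inj_fin (S : J) : ∀ (k : ℕ) (r : Fin k → D.obj S), (∀ i, (c.ι.app S).hom (r i) = 0) →
    ∃ (T : J) (g : S ⟶ T), ∀ i, (D.map g).hom (r i) = 0 := by
  intro k
  induction k with
  | zero => exact fun r _ => ⟨S, 𝟙 S, fun i => i.elim0⟩
  | succ k ih =>
    intro r hr
    obtain ⟨T, g, hg⟩ := ih (fun i => r i.castSucc) (fun i => hr _)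
    have h1 : (c.ι.app T).hom ((D.map g).hom (r (Fin.last k))) = 0 := by
      have := congrArg (fun t => t.hom (r (Fin.last k))) (c.w g)
      exact this.trans (hr _)
    obtain ⟨T', h, hh⟩ := alg_inj hc T _ h1
    refine ⟨T', g ≫ h, ?_⟩
    intro i
    have e : ∀ z : D.obj S, (D.map (g ≫ h)).hom z = (D.map h).hom ((D.map g).hom z) := by
      intro z
      rw [Functor.map_comp]
      rfl
    rw [e]
    refine Fin.lastCases ?_ (fun i => ?_) i
    · exact hh
    · rw [hg i, map_zero]

include hc in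
/-- finitely many elements of the colimit come from a common stage beyond a given one -/
lemma alg_surj_fin (j : J) : ∀ (l : ℕ) (cc : Fin l → c.pt),
    ∃ (S : J) (_ : j ⟶ S) (c' : Fin l → D.obj S), ∀ i, (c.ι.app S).hom (c' i) = cc i := by
  intro l
  induction l with
  | zero => exact fun cc => ⟨j, 𝟙 j, Fin.elim0, fun i => i.elim0⟩
  | succ l ih =>
    intro cc
    obtain ⟨S, p, c', hc'⟩ := ih (fun i => cc i.castSucc)
    obtain ⟨j₀, c₀, hc₀⟩ := alg_surj hc (cc (Fin.last l))
    let T := IsFiltered.max S j₀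
    let f : S ⟶ T := IsFiltered.leftToMax S j₀
    let g : j₀ ⟶ T := IsFiltered.rightToMax S j₀
    refine ⟨T, p ≫ f, Fin.snoc (fun i => (D.map f).hom (c' i)) ((D.map g).hom c₀), ?_⟩
    intro i
    refine Fin.lastCases ?_ (fun i => ?_) i
    · rw [Fin.snoc_last]
      have := congrArg (fun t => t.hom c₀) (c.w g)
      exact this.trans hc₀
    · rw [Fin.snoc_castSucc]
      have := congrArg (fun t => t.hom (c' i)) (c.w f)
      exact this.trans (hc' i)

variable (M : Type (u + 1)) [AddCommGroup M] [Module A M]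

/-- `B ⊗ M → C ⊗ M` -/
noncomputable abbrev rT {B C : Adeq.Alg A} (f : B ⟶ C) :
    (B : Type u) ⊗[A] M →ₗ[A] (C : Type u) ⊗[A] M := f.hom.toLinearMap.rTensor M

lemma rT_comp {B C E : Adeq.Alg A} (f : B ⟶ C) (g : C ⟶ E) (x : (B : Type u) ⊗[A] M) :
    rT M (f ≫ g) x = rT M g (rT M f x) := by
  change ((g.hom.comp f.hom).toLinearMap.rTensor M) x = _
  rw [AlgHom.comp_toLinearMap, LinearMap.rTensor_comp]
  rfl

include hc in
lemma tensor_surj (x : (c.pt : Type u) ⊗[A] M) :
    ∃ (j : J) (xj : (D.obj j : Type u) ⊗[A] M), rT M (c.ι.app j) xj = x := by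
  induction x using TensorProduct.induction_on with
  | zero => exact ⟨IsFiltered.nonempty.some, 0, map_zero _⟩
  | tmul b m =>
    obtain ⟨j, bj, hbj⟩ := alg_surj hc b
    refine ⟨j, bj ⊗ₜ[A] m, ?_⟩
    change ((c.ι.app j).hom.toLinearMap bj) ⊗ₜ[A] m = _
    rw [AlgHom.toLinearMap_apply, hbj]
  | add x y hx hy =>
    obtain ⟨i, xi, rfl⟩ := hx
    obtain ⟨j, yj, rfl⟩ := hy
    let k := IsFiltered.max i j
    let f : i ⟶ k := IsFiltered.leftToMax i j
    let g : j ⟶ k := IsFiltered.rightToMax i j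
    refine ⟨k, rT M (D.map f) xi + rT M (D.map g) yj, ?_⟩
    rw [map_add, ← rT_comp, ← rT_comp, c.w, c.w]

include hc in
lemma tensor_inj (j : J) (x : (D.obj j : Type u) ⊗[A] M) (hx : rT M (c.ι.app j) x = 0) :
    ∃ (k : J) (f : j ⟶ k), rT M (D.map f) x = 0 := by
  obtain ⟨n, b', m, rfl⟩ := exists_fin_sum x
  have h0 : ∑ i, ((c.ι.app j).hom (b' i)) ⊗ₜ[A] m i = (0 : (c.pt : Type u) ⊗[A] M) := by
    rw [← hx, map_sum]
    rfl
  obtain ⟨l, k, cc, a, a', y, h1, h2, h3⟩ :=
    exists_relations_of_sum (fun i => (c.ι.app j).hom (b' i)) m h0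
  obtain ⟨S, p, c', hc'⟩ := alg_surj_fin hc j l cc
  let r : Fin k → D.obj S := fun jj =>
    ∑ i, a i jj • (D.map p).hom (b' i) + ∑ i', a' i' jj • c' i'
  have hr : ∀ jj, (c.ι.app S).hom (r jj) = 0 := by
    intro jj
    rw [← h3 jj]
    change (c.ι.app S).hom (∑ i, a i jj • (D.map p).hom (b' i) + ∑ i', a' i' jj • c' i') = _
    rw [map_add, map_sum, map_sum]
    congr 1
    · refine Finset.sum_congr rfl fun i _ => ?_
      rw [map_smul]
      congr 1
      exact congrArg (fun t => t.hom (b' i)) (c.w p)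
    · refine Finset.sum_congr rfl fun i' _ => ?_
      rw [map_smul, hc']
  obtain ⟨T, g, hg⟩ := alg_inj_fin hc S k r hr
  refine ⟨T, p ≫ g, ?_⟩
  have e1 : rT M (D.map (p ≫ g)) (∑ i, b' i ⊗ₜ[A] m i) =
      ∑ i, ((D.map g).hom ((D.map p).hom (b' i))) ⊗ₜ[A] m i := by
    rw [map_sum]
    refine Finset.sum_congr rfl fun i _ => ?_
    rw [Functor.map_comp]
    rfl
  rw [e1]
  have e2 : ∑ i, ((D.map g).hom ((D.map p).hom (b' i))) ⊗ₜ[A] m i =
      ∑ jj, ((D.map g).hom (r jj)) ⊗ₜ[A] y jj := by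
    have e3 : ∀ jj, ((D.map g).hom (r jj)) ⊗ₜ[A] y jj =
        ∑ i, ((D.map g).hom ((D.map p).hom (b' i))) ⊗ₜ[A] (a i jj • y jj) +
          ∑ i', ((D.map g).hom (c' i')) ⊗ₜ[A] (a' i' jj • y jj) := by
      intro jj
      change ((D.map g).hom (∑ i, a i jj • (D.map p).hom (b' i) + ∑ i', a' i' jj • c' i'))
        ⊗ₜ[A] y jj = _
      rw [map_add, map_sum, map_sum, TensorProduct.add_tmul, TensorProduct.sum_tmul,
        TensorProduct.sum_tmul]
      congr 1
      · refine Finset.sum_congr rfl fun i _ => ?_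
        rw [map_smul, TensorProduct.smul_tmul]
      · refine Finset.sum_congr rfl fun i' _ => ?_
        rw [map_smul, TensorProduct.smul_tmul]
    have e4 : ∑ jj : Fin k, ∑ i' : Fin l, ((D.map g).hom (c' i')) ⊗ₜ[A] (a' i' jj • y jj) =
        (0 : (D.obj T : Type u) ⊗[A] M) := by
      rw [Finset.sum_comm]
      refine Finset.sum_eq_zero fun i' _ => ?_
      rw [← TensorProduct.tmul_sum, h2 i', TensorProduct.tmul_zero]
    rw [Finset.sum_congr rfl (fun jj _ => e3 jj), Finset.sum_add_distrib, e4, add_zero,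
      Finset.sum_comm]
    refine Finset.sum_congr rfl fun i _ => ?_
    rw [← TensorProduct.tmul_sum, ← h1 i]
  rw [e2]
  refine Finset.sum_eq_zero fun jj _ => ?_
  rw [hg jj, TensorProduct.zero_tmul]

end AlgColim

section Main

variable {A : Type u} [CommRing A]

lemma app_naturality {X Y : Adeq.MVF A} (ψ : X ⟶ Y) {B C : Adeq.Alg A} (f : B ⟶ C)
    (x : X.obj (Adeq.pt B)) :
    ψ.app (Adeq.pt C) (X.map (Adeq.ptHom f) x) = Y.map (Adeq.ptHom f) (ψ.app (Adeq.pt B) x) :=
  PresheafOfModules.naturality_apply ψ (Adeq.ptHom f) x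

/-- an adequate functor commutes with filtered colimits of algebras -/
theorem isColimit_toAb (F : Adeq.MVF A) (hF : Adeq.adequate A F) {J : Type u} [SmallCategory J]
    [IsFiltered J] (D : J ⥤ Adeq.Alg A) (c : Cocone D) (hc : IsColimit c) :
    Nonempty (IsColimit (F.toAb.mapCocone c)) := by
  obtain ⟨M, N, α, ⟨e⟩⟩ := hF
  let θ : F ⟶ (Adeq.underline A).obj M := e.hom ≫ kernel.ι ((Adeq.underline A).map α)
  have hθinj : ∀ B : Adeq.Alg A, Function.Injective (θ.app (Adeq.pt B)) := by
    intro B ξ₁ ξ₂ h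
    have h1 : e.hom.app (Adeq.pt B) ξ₁ = e.hom.app (Adeq.pt B) ξ₂ :=
      ι_injective ((Adeq.underline A).map α) B h
    have h2 := congrArg (fun z => e.inv.app (Adeq.pt B) z) h1
    have e3 : ∀ ξ : F.obj (Adeq.pt B), e.inv.app (Adeq.pt B) (e.hom.app (Adeq.pt B) ξ) = ξ := by
      intro ξ
      have := ConcreteCategory.congr_hom (congrArg (fun t => t.app (Adeq.pt B)) e.hom_inv_id) ξ
      simp only [PresheafOfModules.comp_app, ConcreteCategory.comp_apply] at this
      exact this
    exact (e3 ξ₁).symm.trans (h2.trans (e3 ξ₂))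
  have hθex : ∀ (B : Adeq.Alg A) (x : (B : Type u) ⊗[A] M), α.hom.baseChange B x = 0 →
      ∃ ξ : F.obj (Adeq.pt B), θ.app (Adeq.pt B) ξ = x := by
    intro B x hx
    obtain ⟨w, hw⟩ := (ι_exact ((Adeq.underline A).map α) B x).1 hx
    refine ⟨e.inv.app (Adeq.pt B) w, ?_⟩
    have := ConcreteCategory.congr_hom (congrArg (fun t => t.app (Adeq.pt B)) e.inv_hom_id) w
    simp only [PresheafOfModules.comp_app, ConcreteCategory.comp_apply] at this
    change (kernel.ι ((Adeq.underline A).map α)).app (Adeq.pt B)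
      (e.hom.app (Adeq.pt B) (e.inv.app (Adeq.pt B) w)) = x
    rw [this]
    exact hw
  have hθnat : ∀ {B C : Adeq.Alg A} (f : B ⟶ C) (ξ : F.obj (Adeq.pt B)),
      θ.app (Adeq.pt C) (F.map (Adeq.ptHom f) ξ) = rT M f (θ.app (Adeq.pt B) ξ) :=
    fun f ξ => app_naturality θ f ξ
  have hαnat : ∀ {B C : Adeq.Alg A} (f : B ⟶ C) (x : (B : Type u) ⊗[A] M),
      α.hom.baseChange C (rT M f x) = rT N f (α.hom.baseChange B x) :=
    fun f x => app_naturality ((Adeq.underline A).map α) f x
  have hθα : ∀ (B : Adeq.Alg A) (ξ : F.obj (Adeq.pt B)),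
      α.hom.baseChange B (θ.app (Adeq.pt B) ξ) = 0 := by
    intro B ξ
    exact (ι_exact ((Adeq.underline A).map α) B).apply_apply_eq_zero (e.hom.app (Adeq.pt B) ξ)
  apply isColimit_ab
  · intro ξ
    change F.obj (Adeq.pt c.pt) at ξ
    obtain ⟨j, xj, hxj⟩ := tensor_surj hc M (θ.app (Adeq.pt c.pt) ξ)
    have h1 : rT N (c.ι.app j) (α.hom.baseChange (D.obj j) xj) = 0 :=
      (hαnat (c.ι.app j) xj).symm.trans
        ((congrArg (fun z => α.hom.baseChange c.pt z) hxj).trans (hθα c.pt ξ))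
    obtain ⟨k, f, hk⟩ := tensor_inj hc N j _ h1
    have hk' : α.hom.baseChange (D.obj k) (rT M (D.map f) xj) = 0 := (hαnat (D.map f) xj).trans hk
    obtain ⟨ξk, hξk⟩ := hθex (D.obj k) _ hk'
    refine ⟨k, ξk, ?_⟩
    apply hθinj c.pt
    change θ.app (Adeq.pt c.pt) (F.map (Adeq.ptHom (c.ι.app k)) ξk) = _
    refine (hθnat (c.ι.app k) ξk).trans ?_
    refine (congrArg (fun z => rT M (c.ι.app k) z) hξk).trans ?_
    refine (rT_comp M (D.map f) (c.ι.app k) xj).symm.trans ?_
    refine Eq.trans ?_ hxj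
    exact congrArg (fun t => rT M t xj) (c.w f)
  · intro j ξj h
    change F.obj (Adeq.pt (D.obj j)) at ξj
    have h' : F.map (Adeq.ptHom (c.ι.app j)) ξj = 0 := h
    have h1 : rT M (c.ι.app j) (θ.app (Adeq.pt (D.obj j)) ξj) = 0 :=
      (hθnat (c.ι.app j) ξj).symm.trans
        ((congrArg (fun z => θ.app (Adeq.pt c.pt) z) h').trans (map_zero (θ.app (Adeq.pt c.pt)).hom))
    obtain ⟨k, f, hk⟩ := tensor_inj hc M j _ h1
    refine ⟨k, f, ?_⟩
    change F.map (Adeq.ptHom (D.map f)) ξj = 0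
    apply hθinj (D.obj k)
    exact (hθnat (D.map f) ξj).trans (hk.trans (map_zero (θ.app (Adeq.pt (D.obj k))).hom).symm)

end Main

end Groth.Agent.Lib.Helper14.AdeqFilt
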