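import Groth.Agent.Lib.Helper14.AdeqTan

/-!
# Free module-valued functors on representables, and surjectivity of `I(R) → I(R')` for injective `I`
-/

universe u

set_option linter.unusedSectionVars false

open CategoryTheory Limits Opposite

namespace Groth.Agent.Lib.Helper14.AdeqFree

variable {A : Type u} [CommRing A] (R : Adeq.Alg A)

/-- index set of the free module-valued functor on `R`, evaluated at `B` -/
abbrev Idx (B : Adeq.Alg A) : Type (u + 1) := ULift.{u + 1} (R ⟶ B)

/-- post-composition on index sets -/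
def push {B B' : Adeq.Alg A} (f : B ⟶ B') : Idx R B → Idx R B' := fun h => ⟨h.down ≫ f⟩

lemma push_id (B : Adeq.Alg A) (h : Idx R B) : push R (𝟙 B) h = h := by
  simp [push]

lemma push_comp {B B' B'' : Adeq.Alg A} (f : B ⟶ B') (g : B' ⟶ B'') (h : Idx R B) :
    push R (f ≫ g) h = push R g (push R f h) := by
  simp [push]

/-- the transition maps of the free functor -/
noncomputable def Lmap {B B' : Adeq.Alg A} (f : B ⟶ B') :
    (Idx R B →₀ (B : Type u)) →+ (Idx R B' →₀ (B' : Type u)) :=
  (Finsupp.mapDomain.addMonoidHom (push R f)).comp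
    (Finsupp.mapRange.addMonoidHom (f.hom : (B : Type u) →ₐ[A] (B' : Type u)).toRingHom.toAddMonoidHom)

lemma Lmap_single {B B' : Adeq.Alg A} (f : B ⟶ B') (h : Idx R B) (b : B) :
    Lmap R f (Finsupp.single h b) = Finsupp.single (push R f h) (f.hom b) := by
  simp [Lmap]

/-- the underlying abelian presheaf of the free functor -/
noncomputable def Lab : (Adeq.Alg A)ᵒᵖᵒᵖ ⥤ Ab.{u + 1} where
  obj X := AddCommGrpCat.of (Idx R X.unop.unop →₀ (X.unop.unop : Type u))
  map {X Y} f := AddCommGrpCat.ofHom (Lmap R f.unop.unop)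
  map_id X := by
    apply AddCommGrpCat.hom_ext
    apply Finsupp.addHom_ext
    intro h b
    change Lmap R (𝟙 X.unop.unop) (Finsupp.single h b) = Finsupp.single h b
    rw [Lmap_single, push_id]
    rfl
  map_comp {X Y Z} f g := by
    apply AddCommGrpCat.hom_ext
    apply Finsupp.addHom_ext
    intro h b
    change Lmap R (f.unop.unop ≫ g.unop.unop) (Finsupp.single h b) =
      Lmap R g.unop.unop (Lmap R f.unop.unop (Finsupp.single h b))
    rw [Lmap_single, Lmap_single, Lmap_single, push_comp]
    rfl

noncomputable instance LabModule (X : (Adeq.Alg A)ᵒᵖᵒᵖ) :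
    Module ((Adeq.ringOf A).obj X) ((Lab R).obj X) :=
  inferInstanceAs (Module (X.unop.unop : Type u) (Idx R X.unop.unop →₀ (X.unop.unop : Type u)))

lemma Lmap_smul {B B' : Adeq.Alg A} (f : B ⟶ B') (r : (B : Type u)) (m : Idx R B →₀ (B : Type u)) :
    Lmap R f (r • m) = f.hom r • Lmap R f m := by
  induction m using Finsupp.induction_linear with
  | zero => simp
  | add x y hx hy => rw [smul_add, map_add, map_add, smul_add, hx, hy]
  | single h b =>
    rw [Finsupp.smul_single, Lmap_single, Lmap_single, Finsupp.smul_single]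
    simp

lemma Lab_map_smul ⦃X Y : (Adeq.Alg A)ᵒᵖᵒᵖ⦄ (f : X ⟶ Y) (r : (Adeq.ringOf A).obj X)
    (m : (Lab R).obj X) :
    (Lab R).map f (r • m) = (Adeq.ringOf A).map f r • (Lab R).map f m :=
  Lmap_smul R f.unop.unop r m

/-- the free module-valued functor on the algebra `R` -/
noncomputable def L : Adeq.MVF A := PresheafOfModules.ofPresheaf (Lab R) (Lab_map_smul R)

section Desc

variable {R} (F : Adeq.MVF A) (x : F.obj (Adeq.pt R))

/-- the value at `B` of the morphism out of the free functor classified by `x` -/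
noncomputable def descFun (B : Adeq.Alg A) : (Idx R B →₀ (B : Type u)) →+ F.obj (Adeq.pt B) :=
  Finsupp.liftAddHom (fun h : Idx R B =>
    (LinearMap.toSpanSingleton (B : Type u) (F.obj (Adeq.pt B))
      (F.map (Adeq.ptHom h.down) x)).toAddMonoidHom)

lemma descFun_single (B : Adeq.Alg A) (h : Idx R B) (b : B) :
    descFun F x B (Finsupp.single h b) = b • F.map (Adeq.ptHom h.down) x := by
  simp [descFun]
  rfl

lemma descFun_smul (B : Adeq.Alg A) (r : (B : Type u)) (m : Idx R B →₀ (B : Type u)) :
    descFun F x B (r • m) = r • descFun F x B m := by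
  induction m using Finsupp.induction_linear with
  | zero => simp
  | add y z hy hz => rw [smul_add, map_add, map_add, smul_add, hy, hz]
  | single h b =>
    rw [Finsupp.smul_single, descFun_single, descFun_single, smul_eq_mul, mul_smul]
    rfl

lemma descFun_naturality {B B' : Adeq.Alg A} (f : B ⟶ B') (m : Idx R B →₀ (B : Type u)) :
    F.map (Adeq.ptHom f) (descFun F x B m) = descFun F x B' (Lmap R f m) := by
  induction m using Finsupp.induction_linear with
  | zero =>
    rw [(descFun F x B).map_zero, (Lmap R f).map_zero, (descFun F x B').map_zero]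
    exact map_zero _
  | add y z hy hz =>
    rw [(descFun F x B).map_add, (Lmap R f).map_add, (descFun F x B').map_add, ← hy, ← hz]
    exact map_add _ _ _
  | single h b =>
    rw [Lmap_single, descFun_single, descFun_single]
    refine (PresheafOfModules.map_smul F (Adeq.ptHom f) b _).trans ?_
    congr 1
    exact (PresheafOfModules.map_comp_apply F (Adeq.ptHom h.down) (Adeq.ptHom f) x).symm

/-- the morphism out of the free functor classified by `x` -/
noncomputable def desc : L R ⟶ F :=
  PresheafOfModules.homMk (M₁ := L R) (M₂ := F)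
    { app X := AddCommGrpCat.ofHom (descFun F x X.unop.unop)
      naturality {X Y} f := by
        ext m
        exact (descFun_naturality F x f.unop.unop m).symm }
    (by intro X r m; exact descFun_smul F x X.unop.unop r m)

lemma desc_app (B : Adeq.Alg A) (m : Idx R B →₀ (B : Type u)) :
    (desc F x).app (Adeq.pt B) m = descFun F x B m := rfl

/-- the generator of the free functor -/
noncomputable def gen (R : Adeq.Alg A) : (L R).obj (Adeq.pt R) :=
  (Finsupp.single (⟨𝟙 R⟩ : Idx R R) (1 : (R : Type u)) : Idx R R →₀ (R : Type u))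

lemma desc_gen : (desc F x).app (Adeq.pt R) (gen R) = x := by
  refine (descFun_single F x R ⟨𝟙 R⟩ 1).trans ?_
  let y : F.obj (Adeq.pt R) := F.map (Adeq.ptHom (𝟙 R)) x
  have hy : y = x := ConcreteCategory.congr_hom (F.map_id (Adeq.pt R)) x
  change (1 : (R : Type u)) • y = x
  rw [one_smul, hy]

end Desc

section Pre

variable {R} {R' : Adeq.Alg A} (φ : R ⟶ R')

/-- the element of the free functor on `R` at `R'` given by `φ` -/
noncomputable def elt : (L R).obj (Adeq.pt R') :=
  (Finsupp.single (⟨φ⟩ : Idx R R') (1 : (R' : Type u)) : Idx R R' →₀ (R' : Type u))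

/-- precomposition on index sets -/
def pre (B : Adeq.Alg A) : Idx R' B → Idx R B := fun h => ⟨φ ≫ h.down⟩

lemma pre_injective [Epi φ] (B : Adeq.Alg A) : Function.Injective (pre φ B) := by
  intro h h' e
  have e' : φ ≫ h.down = φ ≫ h'.down := congrArg ULift.down e
  exact ULift.ext _ _ ((cancel_epi φ).1 e')

/-- restriction of free functors along a map of algebras -/
noncomputable def Lpre : L R' ⟶ L R := desc (L R) (elt φ)

lemma L_map_apply {B B' : Adeq.Alg A} (f : B ⟶ B') (m : Idx R B →₀ (B : Type u)) :
    (L R).map (Adeq.ptHom f) m = Lmap R f m := rfl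

lemma Lpre_app (B : Adeq.Alg A) (m : Idx R' B →₀ (B : Type u)) :
    (Lpre φ).app (Adeq.pt B) m = Finsupp.mapDomain (pre φ B) m := by
  induction m using Finsupp.induction_linear with
  | zero =>
    rw [Finsupp.mapDomain_zero]
    exact map_zero _
  | add y z hy hz =>
    rw [Finsupp.mapDomain_add, ← hy, ← hz]
    exact map_add _ _ _
  | single h b =>
    rw [Finsupp.mapDomain_single]
    refine (descFun_single (L R) (elt φ) B h b).trans ?_
    have h1 : (L R).map (Adeq.ptHom h.down) (elt φ) =
        (Finsupp.single (pre φ B h) (1 : (B : Type u)) : Idx R B →₀ (B : Type u)) := by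
      refine (L_map_apply h.down _).trans ?_
      refine (Lmap_single R h.down ⟨φ⟩ 1).trans ?_
      rw [map_one]
      rfl
    refine (congrArg (fun z => b • z) h1).trans ?_
    change b • (Finsupp.single (pre φ B h) (1 : (B : Type u)) : Idx R B →₀ (B : Type u)) = _
    rw [Finsupp.smul_single, smul_eq_mul, mul_one]

lemma Lpre_gen : (Lpre φ).app (Adeq.pt R') (gen R') = elt φ := desc_gen (L R) (elt φ)

lemma L_map_gen : (L R).map (Adeq.ptHom φ) (gen R) = elt φ := by
  refine (L_map_apply φ _).trans ?_
  refine (Lmap_single R φ ⟨𝟙 R⟩ 1).trans ?_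
  rw [map_one]
  change Finsupp.single (⟨𝟙 R ≫ φ⟩ : Idx R R') (1 : (R' : Type u)) = _
  rw [Category.id_comp]
  rfl

instance Lpre_mono [Epi φ] : Mono (Lpre φ) := by
  apply (PresheafOfModules.toPresheaf (Adeq.ringOf A)).mono_of_mono_map
  apply (config := { allowSynthFailures := true }) NatTrans.mono_of_mono_app
  intro X
  rw [AddCommGrpCat.mono_iff_injective]
  intro m m' e
  exact Finsupp.mapDomain_injective (pre_injective φ X.unop.unop)
    ((Lpre_app φ X.unop.unop m).symm.trans (e.trans (Lpre_app φ X.unop.unop m')))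

end Pre

section Inj

variable {R} {R' : Adeq.Alg A} (φ : R ⟶ R') [Epi φ] (I : Adeq.MVF A) [Injective I]

/-- For an injective module-valued functor `I` and an epimorphism of algebras `R ⟶ R'`, the map
`I(R) → I(R')` is surjective. -/
theorem map_surjective_of_injective : Function.Surjective (I.map (Adeq.ptHom φ)) := by
  intro (x₂ : I.obj (Adeq.pt R'))
  let ψ : L R ⟶ I := Injective.factorThru (desc I x₂) (Lpre φ)
  have hψ : Lpre φ ≫ ψ = desc I x₂ := Injective.comp_factorThru _ _
  refine ⟨ψ.app (Adeq.pt R) (gen R), ?_⟩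
  refine (PresheafOfModules.naturality_apply ψ (Adeq.ptHom φ) (gen R)).symm.trans ?_
  refine (congrArg (fun z => ψ.app (Adeq.pt R') z) (L_map_gen φ)).trans ?_
  refine (congrArg (fun z => ψ.app (Adeq.pt R') z) (Lpre_gen φ).symm).trans ?_
  have h2 : (Lpre φ ≫ ψ).app (Adeq.pt R') (gen R') = (desc I x₂).app (Adeq.pt R') (gen R') := by
    rw [hψ]
  exact h2.trans (desc_gen I x₂)

end Inj

end Groth.Agent.Lib.Helper14.AdeqFree
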