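import Groth.Agent.Lib.Helper14.AdeqUniv
import Mathlib.LinearAlgebra.TensorProduct.RightExactness
import Mathlib.Algebra.DirectSum.Module

/-!
# Pushouts of modules and kernels after tensoring
-/

universe u v w

set_option linter.unusedSectionVars false

open CategoryTheory Limits TensorProduct

namespace Groth.Agent.Lib.Helper14.AdeqPush

section KL

variable {A : Type u} [CommRing A] {X Y Z : Type w} [AddCommGroup X] [Module A X]
  [AddCommGroup Y] [Module A Y] [AddCommGroup Z] [Module A Z] (f : X →ₗ[A] Y) (g : X →ₗ[A] Z)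

/-- the map `x ↦ (f x, - g x)` -/
def theta : X →ₗ[A] Y × Z := f.prod (-g)

/-- the pushout of `f` and `g` -/
abbrev PO : Type w := (Y × Z) ⧸ LinearMap.range (theta f g)

/-- `Y → PO` -/
def inlPO : Y →ₗ[A] PO f g := (LinearMap.range (theta f g)).mkQ ∘ₗ LinearMap.inl A Y Z

/-- `Z → PO` -/
def inrPO : Z →ₗ[A] PO f g := (LinearMap.range (theta f g)).mkQ ∘ₗ LinearMap.inr A Y Z

lemma po_comm : inlPO f g ∘ₗ f = inrPO f g ∘ₗ g := by
  apply LinearMap.ext
  intro x
  change (LinearMap.range (theta f g)).mkQ (f x, 0) = (LinearMap.range (theta f g)).mkQ (0, g x)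
  rw [← sub_eq_zero, ← map_sub, Submodule.mkQ_apply, Submodule.Quotient.mk_eq_zero]
  refine ⟨x, ?_⟩
  simp [theta]

variable (B : Type v) [AddCommGroup B] [Module A B]

/-- the kernel of `B ⊗ Z → B ⊗ PO` is the image under `B ⊗ g` of the kernel of `B ⊗ f` -/
theorem exists_of_inrPO_eq_zero (t : B ⊗[A] Z) (ht : (inrPO f g).lTensor B t = 0) :
    ∃ x : B ⊗[A] X, f.lTensor B x = 0 ∧ g.lTensor B x = t := by
  have hex : Function.Exact (theta f g) (LinearMap.range (theta f g)).mkQ := by
    rw [LinearMap.exact_iff, Submodule.ker_mkQ]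
  have hex2 := lTensor_exact B hex (Submodule.mkQ_surjective _)
  have h1 : (LinearMap.range (theta f g)).mkQ.lTensor B ((LinearMap.inr A Y Z).lTensor B t) = 0 := by
    rw [← LinearMap.lTensor_comp_apply]
    exact ht
  obtain ⟨x, hx⟩ := (hex2 _).1 h1
  refine ⟨-x, ?_, ?_⟩
  · have h2 := congrArg ((LinearMap.fst A Y Z).lTensor B) hx
    rw [← LinearMap.lTensor_comp_apply, ← LinearMap.lTensor_comp_apply] at h2
    have e1 : (LinearMap.fst A Y Z) ∘ₗ theta f g = f := by
      apply LinearMap.ext; intro x; rfl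
    have e2 : (LinearMap.fst A Y Z) ∘ₗ (LinearMap.inr A Y Z) = 0 := by
      apply LinearMap.ext; intro x; rfl
    rw [e1, e2, LinearMap.lTensor_zero, LinearMap.zero_apply] at h2
    rw [map_neg, h2, neg_zero]
  · have h2 := congrArg ((LinearMap.snd A Y Z).lTensor B) hx
    rw [← LinearMap.lTensor_comp_apply, ← LinearMap.lTensor_comp_apply] at h2
    have e1 : (LinearMap.snd A Y Z) ∘ₗ theta f g = -g := by
      apply LinearMap.ext; intro x; rfl
    have e2 : (LinearMap.snd A Y Z) ∘ₗ (LinearMap.inr A Y Z) = LinearMap.id := by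
      apply LinearMap.ext; intro x; rfl
    rw [e1, e2, LinearMap.lTensor_id, LinearMap.id_apply, LinearMap.lTensor_neg,
      LinearMap.neg_apply] at h2
    rw [map_neg, h2]

end KL

section DS

open DirectSum

variable {A : Type u} [CommRing A] {I : Type w} [DecidableEq I] (P : I → Type w)
  [∀ i, AddCommGroup (P i)] [∀ i, Module A (P i)] (B : Type v) [AddCommGroup B] [Module A B]

/-- an element of `B ⊗ ⨁ P i` is the finite sum of its components -/
lemma exists_finset_sum (z : B ⊗[A] (⨁ i, P i)) :
    ∃ s : Finset I, ∀ s' : Finset I, s ⊆ s' →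
      ∑ i ∈ s', (DirectSum.lof A I P i).lTensor B ((DirectSum.component A I P i).lTensor B z) = z := by
  classical
  induction z using TensorProduct.induction_on with
  | zero => exact ⟨∅, fun s' _ => by simp⟩
  | add x y hx hy =>
    obtain ⟨s₁, h₁⟩ := hx
    obtain ⟨s₂, h₂⟩ := hy
    refine ⟨s₁ ∪ s₂, fun s' hs' => ?_⟩
    simp only [map_add, Finset.sum_add_distrib]
    rw [h₁ s' (Finset.union_subset_left hs'), h₂ s' (Finset.union_subset_right hs')]
  | tmul b p =>
    refine ⟨DFinsupp.support p, fun s' hs' => ?_⟩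
    simp only [LinearMap.lTensor_tmul]
    rw [← TensorProduct.tmul_sum]
    congr 1
    have h1 : ∑ i ∈ s', (DirectSum.lof A I P i) ((DirectSum.component A I P i) p) =
        ∑ i ∈ DFinsupp.support p, (DirectSum.lof A I P i) ((DirectSum.component A I P i) p) := by
      refine (Finset.sum_subset hs' fun i _ hi => ?_).symm
      have : p i = 0 := by simpa using hi
      change (DirectSum.lof A I P i) (p i) = 0
      rw [this, map_zero]
    rw [h1]
    exact DirectSum.sum_support_of p

end DS

end Groth.Agent.Lib.Helper14.AdeqPush
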