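import Groth.Agent.Lib.Helper14.AdeqPres
import Mathlib.Algebra.TrivSqZeroExt.Basic
import Mathlib.LinearAlgebra.TensorProduct.Basis

/-!
# The universal first-order element of a linearly adequate functor
-/

universe u v

set_option linter.unusedSectionVars false

open CategoryTheory Limits TensorProduct

namespace Groth.Agent.Lib.Helper14.AdeqUniv

section TVec

variable {A : Type u} [CommRing A] {P : Type v} [AddCommGroup P] [Module A P] {n : ℕ}
  (e : Module.Basis (Fin n) A P)

/-- the element of `R ⊗ P` with coordinate vector `c` -/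
noncomputable def tvec (R : Type u) [CommRing R] [Algebra A R] (c : Fin n → R) : R ⊗[A] P :=
  ∑ i, c i ⊗ₜ[A] e i

variable (R : Type u) [CommRing R] [Algebra A R]

/-- the coordinates of an element of `R ⊗ P` -/
noncomputable def crd (x : R ⊗[A] P) (i : Fin n) : R := (e.baseChange R).repr x i

lemma tvec_crd (x : R ⊗[A] P) : tvec e R (crd e R x) = x := by
  have h := (e.baseChange R).sum_repr x
  refine Eq.trans ?_ h
  unfold tvec crd
  refine Finset.sum_congr rfl fun i _ => ?_
  rw [Module.Basis.baseChange_apply, TensorProduct.smul_tmul', smul_eq_mul, mul_one]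

lemma crd_tvec (c : Fin n → R) : crd e R (tvec e R c) = c := by
  funext j
  unfold tvec crd
  rw [map_sum, Finsupp.coe_finsetSum, Finset.sum_apply]
  simp only [Module.Basis.baseChange_repr_tmul, Module.Basis.repr_self]
  rw [Finset.sum_eq_single j]
  · simp
  · intro i _ hij
    simp [hij]
  · simp

lemma tvec_injective : Function.Injective (tvec e R) := fun c c' h => by
  rw [← crd_tvec e R c, ← crd_tvec e R c', h]

lemma baseChange_tvec {M : Type v} [AddCommGroup M] [Module A M] (ψ : P →ₗ[A] M) (c : Fin n → R) :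
    ψ.baseChange R (tvec e R c) = ∑ i, c i ⊗ₜ[A] ψ (e i) := by
  unfold tvec
  rw [map_sum]
  simp

lemma rTensor_tvec {R' : Type u} [CommRing R'] [Algebra A R'] (h : R →ₗ[A] R') (c : Fin n → R) :
    h.rTensor P (tvec e R c) = tvec e R' (fun i => h (c i)) := by
  unfold tvec
  rw [map_sum]
  simp

lemma smul_tvec (r : R) (c : Fin n → R) : r • tvec e R c = tvec e R (fun i => r * c i) := by
  unfold tvec
  rw [Finset.smul_sum]
  refine Finset.sum_congr rfl fun i _ => ?_
  rw [TensorProduct.smul_tmul', smul_eq_mul]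

end TVec

section Matrix

variable {A : Type u} [CommRing A] {P P' : Type v} [AddCommGroup P] [Module A P]
  [AddCommGroup P'] [Module A P'] {n k : ℕ}
  (e : Module.Basis (Fin n) A P) (e' : Module.Basis (Fin k) A P') (φ₀ : P →ₗ[A] P')

/-- the matrix of `φ₀` -/
noncomputable def mat (i : Fin n) (j : Fin k) : A := e'.repr (φ₀ (e i)) j

lemma map_basis (i : Fin n) : φ₀ (e i) = ∑ j, mat e e' φ₀ i j • e' j :=
  (e'.sum_repr (φ₀ (e i))).symm

lemma baseChange_tvec_mat (R : Type u) [CommRing R] [Algebra A R] (c : Fin n → R) :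
    φ₀.baseChange R (tvec e R c) = tvec e' R (fun j => ∑ i, mat e e' φ₀ i j • c i) := by
  rw [baseChange_tvec]
  unfold tvec
  have : ∀ i, c i ⊗ₜ[A] φ₀ (e i) = ∑ j, (mat e e' φ₀ i j • c i) ⊗ₜ[A] e' j := by
    intro i
    rw [map_basis e e' φ₀ i, TensorProduct.tmul_sum]
    refine Finset.sum_congr rfl fun j _ => ?_
    rw [TensorProduct.tmul_smul, TensorProduct.smul_tmul']
  rw [Finset.sum_congr rfl (fun i _ => this i), Finset.sum_comm]
  refine Finset.sum_congr rfl fun j _ => ?_
  rw [TensorProduct.sum_tmul]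

lemma rel_of_baseChange_eq_zero (R : Type u) [CommRing R] [Algebra A R] (c : Fin n → R)
    (h : φ₀.baseChange R (tvec e R c) = 0) (j : Fin k) : ∑ i, mat e e' φ₀ i j • c i = 0 := by
  rw [baseChange_tvec_mat e e' φ₀ R c] at h
  have h0 : tvec e' R (fun _ => (0 : R)) = 0 := by
    unfold tvec
    simp
  exact congrFun (tvec_injective e' R (h.trans h0.symm)) j

end Matrix

section Univ

variable {A : Type u} [CommRing A] {n k : ℕ} (a : Fin n → Fin k → A)

/-- the span of the columns of `a` -/
def rowSpan : Submodule A (Fin n → A) :=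
  Submodule.span A (Set.range (fun j : Fin k => fun i => a i j))

/-- the module of first-order coordinates -/
abbrev Q : Type u := (Fin n → A) ⧸ rowSpan a

/-- the coordinate classes -/
def q (i : Fin n) : Q a := Submodule.Quotient.mk (Pi.single i 1)

lemma sum_a_q (j : Fin k) : ∑ i, a i j • q a i = 0 := by
  have : ∑ i, a i j • (Pi.single i (1 : A) : Fin n → A) = fun i => a i j := by
    funext i'
    simp [Finset.sum_apply, Pi.single_apply]
  have h2 : ∑ i, a i j • q a i = (rowSpan a).mkQ (∑ i, a i j • (Pi.single i (1 : A) : Fin n → A)) := by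
    rw [map_sum]
    refine Finset.sum_congr rfl fun i _ => ?_
    rw [map_smul]
    rfl
  rw [h2, this, Submodule.mkQ_apply, Submodule.Quotient.mk_eq_zero]
  exact Submodule.subset_span ⟨j, rfl⟩

/-- the linear form on `Q` attached to a solution of the equations -/
noncomputable def lam {R : Type u} [CommRing R] [Algebra A R] (b : Fin n → R)
    (hb : ∀ j, ∑ i, a i j • b i = 0) : Q a →ₗ[A] R :=
  (rowSpan a).liftQ (Fintype.linearCombination A b) (by
    unfold rowSpan
    rw [Submodule.span_le]
    rintro _ ⟨j, rfl⟩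
    change Fintype.linearCombination A b (fun i => a i j) = 0
    rw [Fintype.linearCombination_apply]
    exact hb j)

lemma lam_q {R : Type u} [CommRing R] [Algebra A R] (b : Fin n → R)
    (hb : ∀ j, ∑ i, a i j • b i = 0) (i : Fin n) : lam a b hb (q a i) = b i := by
  unfold lam q
  rw [Submodule.liftQ_apply, Fintype.linearCombination_apply]
  simp [Pi.single_apply]

lemma lam_mkQ {R : Type u} [CommRing R] [Algebra A R] (b : Fin n → R)
    (hb : ∀ j, ∑ i, a i j • b i = 0) (v : Fin n → A) :
    lam a b hb ((rowSpan a).mkQ v) = ∑ i, v i • b i := by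
  unfold lam
  rw [Submodule.mkQ_apply, Submodule.liftQ_apply, Fintype.linearCombination_apply]

end Univ

section Algs

variable {A : Type u} [CommRing A] {n k : ℕ} (a : Fin n → Fin k → A)

/-- the first-order universal algebra `A[Q]` -/
noncomputable abbrev CQ : Adeq.Alg A := Adeq.algOf A (TrivSqZeroExt A (Q a))

/-- the dual numbers `B[ε]` -/
noncomputable abbrev Eps (B : Adeq.Alg A) : Adeq.Alg A := Adeq.algOf A (TrivSqZeroExt (B : Type u) (B : Type u))

/-- `B → B[ε]` -/
noncomputable def inlE (B : Adeq.Alg A) : B ⟶ Eps B :=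
  CommAlgCat.ofHom (TrivSqZeroExt.inlAlgHom A (B : Type u) (B : Type u))

/-- `ε` -/
noncomputable def eps (B : Adeq.Alg A) : Eps B := (TrivSqZeroExt.inr (1 : (B : Type u)) : TrivSqZeroExt (B : Type u) (B : Type u))

/-- the `A`-linear second projection of `B[ε]` -/
noncomputable def sndE (B : Adeq.Alg A) : (Eps B : Type u) →ₗ[A] (B : Type u) :=
  (TrivSqZeroExt.sndHom (B : Type u) (B : Type u)).restrictScalars A

/-- the `A`-linear second projection of `A[Q]` -/
noncomputable def sndQ : (CQ a : Type u) →ₗ[A] Q a := TrivSqZeroExt.sndHom A (Q a)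

variable {a} in
/-- the map `A[Q] → B[ε]` attached to a solution `b` of the equations: `q_i ↦ ε b_i` -/
noncomputable def hx {B : Adeq.Alg A} (b : Fin n → B) (hb : ∀ j, ∑ i, a i j • b i = 0) :
    CQ a ⟶ Eps B :=
  CommAlgCat.ofHom (TrivSqZeroExt.lift (Algebra.ofId A (TrivSqZeroExt (B : Type u) (B : Type u)))
    (((TrivSqZeroExt.inrHom (B : Type u) (B : Type u)).restrictScalars A) ∘ₗ lam a b hb)
    (fun x y => TrivSqZeroExt.inr_mul_inr _ _ _)
    (fun r x => by
      change TrivSqZeroExt.inr (lam a b hb (r • x)) =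
        algebraMap A (TrivSqZeroExt (B : Type u) (B : Type u)) r * TrivSqZeroExt.inr (lam a b hb x)
      rw [map_smul, TrivSqZeroExt.algebraMap_eq_inl', TrivSqZeroExt.inl_mul_inr, Algebra.smul_def]
      rfl)
    (fun r x => by
      change TrivSqZeroExt.inr (lam a b hb (MulOpposite.op r • x)) =
        TrivSqZeroExt.inr (lam a b hb x) * algebraMap A (TrivSqZeroExt (B : Type u) (B : Type u)) r
      rw [op_smul_eq_smul, map_smul, TrivSqZeroExt.algebraMap_eq_inl', TrivSqZeroExt.inr_mul_inl,
        Algebra.smul_def]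
      change _ = TrivSqZeroExt.inr (lam a b hb x * algebraMap A B r)
      rw [mul_comm]))

variable {a} in
lemma hx_inr {B : Adeq.Alg A} (b : Fin n → B) (hb : ∀ j, ∑ i, a i j • b i = 0) (x : Q a) :
    (hx b hb).hom (TrivSqZeroExt.inr x : TrivSqZeroExt A (Q a)) =
      (TrivSqZeroExt.inr (lam a b hb x) : TrivSqZeroExt (B : Type u) (B : Type u)) := by
  unfold hx
  rw [CommAlgCat.hom_ofHom]
  exact TrivSqZeroExt.lift_apply_inr _ _ _ _ _ x

variable {a} in
lemma snd_hx {B : Adeq.Alg A} (b : Fin n → B) (hb : ∀ j, ∑ i, a i j • b i = 0)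
    (z : TrivSqZeroExt A (Q a)) :
    sndE B ((hx b hb).hom z) = lam a b hb (sndQ a z) := by
  unfold hx
  rw [CommAlgCat.hom_ofHom]
  change TrivSqZeroExt.snd (algebraMap A (TrivSqZeroExt (B : Type u) (B : Type u)) (TrivSqZeroExt.fst z) +
    TrivSqZeroExt.inr (lam a b hb (TrivSqZeroExt.snd z))) = lam a b hb (TrivSqZeroExt.snd z)
  rw [TrivSqZeroExt.snd_add, TrivSqZeroExt.algebraMap_eq_inl', TrivSqZeroExt.snd_inl,
    TrivSqZeroExt.snd_inr, zero_add]

lemma eps_mul_inl (B : Adeq.Alg A) (c : B) :
    (eps B : TrivSqZeroExt (B : Type u) (B : Type u)) * TrivSqZeroExt.inl c = TrivSqZeroExt.inr c := by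
  unfold eps
  rw [TrivSqZeroExt.inr_mul_inl]
  congr 1
  change (1 : (B : Type u)) * c = c
  rw [one_mul]

end Algs

section Coeff

variable {A : Type u} [CommRing A] {n : ℕ} {M : Type v} [AddCommGroup M] [Module A M]

/-- the coefficients in `M` of an element of `A^n ⊗ M` -/
noncomputable def coeff (t : (Fin n → A) ⊗[A] M) (i : Fin n) : M :=
  TensorProduct.lid A M ((LinearMap.proj i : (Fin n → A) →ₗ[A] A).rTensor M t)

lemma rTensor_eq_sum_coeff {R : Type u} [AddCommGroup R] [Module A R] (Λ : (Fin n → A) →ₗ[A] R)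
    (t : (Fin n → A) ⊗[A] M) :
    Λ.rTensor M t = ∑ i, Λ (Pi.single i 1) ⊗ₜ[A] coeff t i := by
  induction t using TensorProduct.induction_on with
  | zero => simp [coeff]
  | add x y hx hy =>
    rw [map_add, hx, hy, ← Finset.sum_add_distrib]
    refine Finset.sum_congr rfl fun i _ => ?_
    unfold coeff
    rw [map_add, map_add, TensorProduct.tmul_add]
  | tmul v m =>
    rw [LinearMap.rTensor_tmul]
    have hv : Λ v = ∑ i, v i • Λ (Pi.single i 1) := by
      conv_lhs => rw [pi_eq_sum_univ' v]
      rw [map_sum]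
      refine Finset.sum_congr rfl fun i _ => ?_
      rw [map_smul]
    rw [hv, TensorProduct.sum_tmul]
    refine Finset.sum_congr rfl fun i _ => ?_
    unfold coeff
    rw [LinearMap.rTensor_tmul, TensorProduct.lid_tmul, TensorProduct.smul_tmul]
    rfl

end Coeff

section Main

open Groth.Agent.Lib.Helper14.AdeqBC

variable {A : Type u} [CommRing A] {P P' : ModuleCat.{u + 1} A} {n k : ℕ}
  (e : Module.Basis (Fin n) A P) (e' : Module.Basis (Fin k) A P') (φ₀ : P ⟶ P')

lemma underline_obj_map_apply (M : ModuleCat.{u + 1} A) {R R' : Adeq.Alg A} (f : R ⟶ R')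
    (x : (R : Type u) ⊗[A] M) :
    ((Adeq.underline A).obj M).map (Adeq.ptHom f) x = f.hom.toLinearMap.rTensor M x := rfl

/-- coordinates of an element of the kernel satisfy the equations -/
lemma rel_of_mem (R : Adeq.Alg A) (w : (kernel ((Adeq.underline A).map φ₀)).obj (Adeq.pt R)) :
    ∀ j, ∑ i, mat e e' φ₀.hom i j •
      crd e R ((kernel.ι ((Adeq.underline A).map φ₀)).app (Adeq.pt R) w) i = 0 := by
  apply rel_of_baseChange_eq_zero e e' φ₀.hom R
  have h0 : φ₀.hom.baseChange R ((kernel.ι ((Adeq.underline A).map φ₀)).app (Adeq.pt R) w) = 0 :=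
    (ι_exact ((Adeq.underline A).map φ₀) R).apply_apply_eq_zero w
  exact (congrArg (fun z => φ₀.hom.baseChange R z) (tvec_crd e R _)).trans h0

/-- solutions of the equations give elements of the kernel -/
lemma exists_of_rel (R : Adeq.Alg A) (c : Fin n → R)
    (hc : ∀ j, ∑ i, mat e e' φ₀.hom i j • c i = 0) :
    ∃ w : (kernel ((Adeq.underline A).map φ₀)).obj (Adeq.pt R),
      (kernel.ι ((Adeq.underline A).map φ₀)).app (Adeq.pt R) w = tvec e R c := by
  apply (ι_exact ((Adeq.underline A).map φ₀) R (tvec e R c)).1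
  refine (baseChange_tvec_mat e e' φ₀.hom R c).trans ?_
  unfold tvec
  refine Finset.sum_eq_zero fun j _ => ?_
  change (∑ i, mat e e' φ₀.hom i j • c i) ⊗ₜ[A] e' j = 0
  rw [hc j, TensorProduct.zero_tmul]

lemma ι_map {R R' : Adeq.Alg A} (f : R ⟶ R')
    (w : (kernel ((Adeq.underline A).map φ₀)).obj (Adeq.pt R)) :
    (kernel.ι ((Adeq.underline A).map φ₀)).app (Adeq.pt R')
        ((kernel ((Adeq.underline A).map φ₀)).map (Adeq.ptHom f) w) =
      f.hom.toLinearMap.rTensor P
        ((kernel.ι ((Adeq.underline A).map φ₀)).app (Adeq.pt R) w) :=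
  PresheafOfModules.naturality_apply (kernel.ι ((Adeq.underline A).map φ₀)) (Adeq.ptHom f) w

lemma sndE_smul_eps (M : ModuleCat.{u + 1} A) (R : Adeq.Alg A) (y : (R : Type u) ⊗[A] M) :
    (sndE R).rTensor M ((eps R : (Eps R : Type u)) •
      ((inlE R).hom.toLinearMap.rTensor M y : (Eps R : Type u) ⊗[A] M)) = y := by
  induction y using TensorProduct.induction_on with
  | zero => simp
  | add x y hx hy => rw [map_add, smul_add, map_add, hx, hy]
  | tmul b m =>
    rw [LinearMap.rTensor_tmul, TensorProduct.smul_tmul', LinearMap.rTensor_tmul]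
    congr 1
    change TrivSqZeroExt.snd ((eps R : TrivSqZeroExt (R : Type u) (R : Type u)) *
      TrivSqZeroExt.inl b) = b
    rw [eps_mul_inl, TrivSqZeroExt.snd_inr]

end Main

section Lift

open Groth.Agent.Lib.Helper14.AdeqBC

variable {A : Type u} [CommRing A] {P P' : ModuleCat.{u + 1} A} {n k : ℕ}
  (e : Module.Basis (Fin n) A P) (e' : Module.Basis (Fin k) A P') (φ₀ : P ⟶ P')

lemma hq (a : Fin n → Fin k → A) (j : Fin k) :
    ∑ i, a i j • (TrivSqZeroExt.inr (q a i) : TrivSqZeroExt A (Q a)) = 0 := by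
  have h := congrArg (TrivSqZeroExt.inrHom A (Q a)) (sum_a_q a j)
  rw [map_sum, map_zero] at h
  refine Eq.trans ?_ h
  refine Finset.sum_congr rfl fun i _ => ?_
  rw [map_smul]
  rfl

include e e' in
/-- every morphism from the kernel of `underline φ₀` (`φ₀` a map of finite free modules) to `underline M` extends to
`underline P` -/
theorem exists_lift (M : ModuleCat.{u + 1} A)
    (φ : kernel ((Adeq.underline A).map φ₀) ⟶ (Adeq.underline A).obj M) :
    ∃ g : P ⟶ M, kernel.ι ((Adeq.underline A).map φ₀) ≫ (Adeq.underline A).map g = φ := by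
  let a := mat e e' φ₀.hom
  obtain ⟨wU, hwU⟩ := exists_of_rel e e' φ₀ (CQ a)
    (fun i => (TrivSqZeroExt.inr (q a i) : TrivSqZeroExt A (Q a))) (hq a)
  let ξ : (CQ a : Type u) ⊗[A] M := φ.app (Adeq.pt (CQ a)) wU
  let η : Q a ⊗[A] M := (sndQ a).rTensor M ξ
  obtain ⟨η', hη'⟩ := LinearMap.rTensor_surjective M (Submodule.mkQ_surjective (rowSpan a)) η
  let g : P ⟶ M := ModuleCat.ofHom (e.constr A (coeff η'))
  refine ⟨g, ?_⟩
  apply PresheafOfModules.hom_ext
  intro X
  apply ModuleCat.hom_ext
  apply LinearMap.ext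
  intro w
  let R : Adeq.Alg A := X.unop.unop
  change (kernel ((Adeq.underline A).map φ₀)).obj (Adeq.pt R) at w
  let x : (R : Type u) ⊗[A] P := (kernel.ι ((Adeq.underline A).map φ₀)).app (Adeq.pt R) w
  let c : Fin n → R := crd e R x
  have hc : ∀ j, ∑ i, a i j • c i = 0 := rel_of_mem e e' φ₀ R w
  have hxc : tvec e R c = x := tvec_crd e R x
  let y : (R : Type u) ⊗[A] M := φ.app (Adeq.pt R) w
  -- the left hand side
  have hL : g.hom.baseChange R x = ∑ i, c i ⊗ₜ[A] coeff η' i := by
    rw [← hxc, baseChange_tvec]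
    refine Finset.sum_congr rfl fun i _ => ?_
    change c i ⊗ₜ[A] (e.constr A (coeff η') (e i)) = _
    rw [Module.Basis.constr_basis]
  -- the key equation
  let h : CQ a ⟶ Eps R := hx c hc
  have key : (kernel ((Adeq.underline A).map φ₀)).map (Adeq.ptHom h) wU =
      (eps R : (Eps R : Type u)) •
        (kernel ((Adeq.underline A).map φ₀)).map (Adeq.ptHom (inlE R)) w := by
    apply ι_injective ((Adeq.underline A).map φ₀) (Eps R)
    have l1 : (kernel.ι ((Adeq.underline A).map φ₀)).app (Adeq.pt (Eps R))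
        ((kernel ((Adeq.underline A).map φ₀)).map (Adeq.ptHom h) wU) =
        tvec e (Eps R) (fun i => (TrivSqZeroExt.inr (c i) : TrivSqZeroExt (R : Type u) (R : Type u))) := by
      refine (ι_map φ₀ h wU).trans ?_
      refine (congrArg (fun z => h.hom.toLinearMap.rTensor P z) hwU).trans ?_
      refine (rTensor_tvec e (CQ a) h.hom.toLinearMap _).trans ?_
      congr 1
      funext i
      refine (hx_inr c hc (q a i)).trans ?_
      rw [lam_q]
    have l2 : (kernel.ι ((Adeq.underline A).map φ₀)).app (Adeq.pt (Eps R))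
        ((eps R : (Eps R : Type u)) •
          (kernel ((Adeq.underline A).map φ₀)).map (Adeq.ptHom (inlE R)) w) =
        tvec e (Eps R) (fun i => (TrivSqZeroExt.inr (c i) : TrivSqZeroExt (R : Type u) (R : Type u))) := by
      refine (map_smul ((kernel.ι ((Adeq.underline A).map φ₀)).app (Adeq.pt (Eps R))).hom
        (eps R : (Eps R : Type u)) _).trans ?_
      refine (congrArg (fun z => (eps R : (Eps R : Type u)) • z) (ι_map φ₀ (inlE R) w)).trans ?_
      change (eps R : (Eps R : Type u)) • ((inlE R).hom.toLinearMap.rTensor P x) = _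
      rw [← hxc, rTensor_tvec, smul_tvec]
      congr 1
      funext i
      exact eps_mul_inl R (c i)
    exact l1.trans l2.symm
  -- apply `φ`
  have E1 : h.hom.toLinearMap.rTensor M ξ =
      (eps R : (Eps R : Type u)) • ((inlE R).hom.toLinearMap.rTensor M y : (Eps R : Type u) ⊗[A] M) := by
    have k1 := congrArg (fun z => φ.app (Adeq.pt (Eps R)) z) key
    refine Eq.trans ?_ (k1.trans ?_)
    · exact (PresheafOfModules.naturality_apply φ (Adeq.ptHom h) wU).symm
    · refine (map_smul (φ.app (Adeq.pt (Eps R))).hom (eps R : (Eps R : Type u)) _).trans ?_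
      exact congrArg (fun z => (eps R : (Eps R : Type u)) • z)
        (PresheafOfModules.naturality_apply φ (Adeq.ptHom (inlE R)) w)
  have E2 := congrArg (fun z => (sndE R).rTensor M z) E1
  -- compute the left side of E2
  have hcomp : (sndE R) ∘ₗ h.hom.toLinearMap = (lam a c hc) ∘ₗ (sndQ a) := by
    apply LinearMap.ext
    intro z
    exact snd_hx c hc z
  have E3 : (sndE R).rTensor M (h.hom.toLinearMap.rTensor M ξ) = ∑ i, c i ⊗ₜ[A] coeff η' i := by
    rw [← LinearMap.rTensor_comp_apply, hcomp, LinearMap.rTensor_comp_apply]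
    change (lam a c hc).rTensor M η = _
    rw [← hη', ← LinearMap.rTensor_comp_apply, rTensor_eq_sum_coeff]
    refine Finset.sum_congr rfl fun i _ => ?_
    congr 1
    exact lam_q a c hc i
  change g.hom.baseChange R x = y
  rw [hL, ← E3, E2]
  exact sndE_smul_eps M R y

end Lift

end Groth.Agent.Lib.Helper14.AdeqUniv
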