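import Groth.Agent.Lib.Helper14.AdeqTan
import Groth.Agent.Lib.Helper14.AdeqUniv
import Groth.Agent.Lib.Helper14.AdeqKer
import Groth.Agent.Lib.Helper14.AdeqAdj

universe u
set_option linter.unusedVariables false
set_option linter.unusedSectionVars false
open CategoryTheory Limits TensorProduct

namespace Groth.Agent.Lib.Helper14.AdeqSplit

open Groth.Agent.Lib.Helper14.AdeqUniv Groth.Agent.Lib.Helper14.AdeqBC

variable {A : Type u} [CommRing A]

section Generic
variable (B : Adeq.Alg A) (N : Type u) [AddCommGroup N] [Module (B : Type u) N] [Module (B : Type u)ᵐᵒᵖ N]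
  [IsCentralScalar (B : Type u) N] [Module A N] [IsScalarTower A (B : Type u) N]
  [IsScalarTower A (B : Type u)ᵐᵒᵖ N]
  {N' : Type u} [AddCommGroup N'] [Module (B : Type u) N'] [Module (B : Type u)ᵐᵒᵖ N']
  [IsCentralScalar (B : Type u) N'] [Module A N'] [IsScalarTower A (B : Type u) N']
  [IsScalarTower A (B : Type u)ᵐᵒᵖ N']

/-- the square-zero extension `B[N]` -/
noncomputable abbrev X : Adeq.Alg A := Adeq.algOf A (TrivSqZeroExt (B : Type u) N)

/-- `B[N] → B` -/
noncomputable def xfst : X B N ⟶ B := CommAlgCat.ofHom (TrivSqZeroExt.fstHom A (B : Type u) N)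

/-- `B → B[N]` -/
noncomputable def xinl : B ⟶ X B N := CommAlgCat.ofHom (TrivSqZeroExt.inlAlgHom A (B : Type u) N)

variable {N} in
/-- `B[N] → B[N']` -/
noncomputable def xmap (g : N →ₗ[(B : Type u)] N') : X B N ⟶ X B N' :=
  CommAlgCat.ofHom ((TrivSqZeroExt.map g).restrictScalars A)

lemma xfst_apply (z : TrivSqZeroExt (B : Type u) N) : (xfst B N).hom z = z.fst := rfl

lemma xinl_apply (b : B) : (xinl B N).hom b = TrivSqZeroExt.inl b := rfl

variable {N} in
lemma xmap_apply (g : N →ₗ[(B : Type u)] N') (z : TrivSqZeroExt (B : Type u) N) :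
    (xmap B g).hom z = TrivSqZeroExt.map g z := rfl

lemma xinl_xfst : xinl B N ≫ xfst B N = 𝟙 B := by
  apply CommAlgCat.hom_ext
  refine AlgHom.ext fun x => ?_
  rfl

variable {N} in
lemma xinl_xmap (g : N →ₗ[(B : Type u)] N') : xinl B N ≫ xmap B g = xinl B N' := by
  apply CommAlgCat.hom_ext
  refine AlgHom.ext fun x => ?_
  change TrivSqZeroExt.map g (TrivSqZeroExt.inl x) = TrivSqZeroExt.inl x
  exact TrivSqZeroExt.map_inl g x

end Generic

section HxR

variable {n k : ℕ} (a : Fin n → Fin k → A)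

variable {a} in
/-- the algebra map `A[Q] → R` attached to a linear map `Q → R` with square-zero image -/
noncomputable def hxR {R : Adeq.Alg A} (l : Q a →ₗ[A] (R : Type u)) (hl : ∀ x y, l x * l y = 0) :
    CQ a ⟶ R :=
  CommAlgCat.ofHom (TrivSqZeroExt.lift (Algebra.ofId A (R : Type u)) l hl
    (fun r x => by
      rw [map_smul, Algebra.smul_def]
      rfl)
    (fun r x => by
      rw [op_smul_eq_smul, map_smul, Algebra.smul_def, mul_comm]
      rfl))

variable {a} in
lemma hxR_inr {R : Adeq.Alg A} (l : Q a →ₗ[A] (R : Type u)) (hl : ∀ x y, l x * l y = 0) (x : Q a) :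
    (hxR l hl).hom (TrivSqZeroExt.inr x : TrivSqZeroExt A (Q a)) = l x := by
  unfold hxR
  rw [CommAlgCat.hom_ofHom]
  exact TrivSqZeroExt.lift_apply_inr _ _ _ _ _ x

variable {a} in
lemma CQ_hom_ext {R : Adeq.Alg A} {f g : CQ a ⟶ R}
    (h : ∀ x : Q a, f.hom (TrivSqZeroExt.inr x : TrivSqZeroExt A (Q a)) = g.hom (TrivSqZeroExt.inr x)) :
    f = g := by
  apply CommAlgCat.hom_ext
  exact TrivSqZeroExt.algHom_ext h

variable {a} in
lemma hxR_comp {R R' : Adeq.Alg A} (l : Q a →ₗ[A] (R : Type u)) (hl : ∀ x y, l x * l y = 0)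
    (f : R ⟶ R') (l' : Q a →ₗ[A] (R' : Type u)) (hl' : ∀ x y, l' x * l' y = 0)
    (h : ∀ x, f.hom (l x) = l' x) : hxR l hl ≫ f = hxR l' hl' := by
  apply CQ_hom_ext
  intro x
  rw [hxR_inr]
  change f.hom ((hxR l hl).hom (TrivSqZeroExt.inr x)) = _
  rw [hxR_inr]
  exact h x

end HxR

section HxN

variable {n k : ℕ} {a : Fin n → Fin k → A}
variable (B : Adeq.Alg A) (N : Type u) [AddCommGroup N] [Module (B : Type u) N] [Module (B : Type u)ᵐᵒᵖ N]
  [IsCentralScalar (B : Type u) N] [Module A N] [IsScalarTower A (B : Type u) N]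
  [IsScalarTower A (B : Type u)ᵐᵒᵖ N]
  {N' : Type u} [AddCommGroup N'] [Module (B : Type u) N'] [Module (B : Type u)ᵐᵒᵖ N']
  [IsCentralScalar (B : Type u) N'] [Module A N'] [IsScalarTower A (B : Type u) N']
  [IsScalarTower A (B : Type u)ᵐᵒᵖ N']

/-- `A[Q] → B[N]` attached to a linear map `Q → N` -/
noncomputable def hxN (l : Q a →ₗ[A] N) : CQ a ⟶ X B N :=
  hxR (R := X B N) (((TrivSqZeroExt.inrHom (B : Type u) N).restrictScalars A) ∘ₗ l)
    (fun x y => TrivSqZeroExt.inr_mul_inr _ _ _)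

lemma hxN_inr (l : Q a →ₗ[A] N) (x : Q a) :
    (hxN B N l).hom (TrivSqZeroExt.inr x : TrivSqZeroExt A (Q a)) =
      (TrivSqZeroExt.inr (l x) : TrivSqZeroExt (B : Type u) N) :=
  hxR_inr _ _ x

lemma hxN_xfst (l : Q a →ₗ[A] N) :
    hxN B N l ≫ xfst B N = hxR (R := B) (0 : Q a →ₗ[A] (B : Type u)) (fun x y => by simp) := by
  apply CQ_hom_ext
  intro x
  rw [hxR_inr]
  change (xfst B N).hom ((hxN B N l).hom (TrivSqZeroExt.inr x)) = _
  rw [hxN_inr]
  rfl

variable {N} in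
lemma hxN_xmap (l : Q a →ₗ[A] N) (g : N →ₗ[(B : Type u)] N') :
    hxN B N l ≫ xmap B g = hxN B N' (g.restrictScalars A ∘ₗ l) := by
  apply CQ_hom_ext
  intro x
  rw [hxN_inr]
  change (xmap B g).hom ((hxN B N l).hom (TrivSqZeroExt.inr x)) = _
  rw [hxN_inr, xmap_apply, TrivSqZeroExt.map_inr]
  rfl

lemma hxN_zero : hxN B N (0 : Q a →ₗ[A] N) =
    hxR (R := X B N) (0 : Q a →ₗ[A] (X B N : Type u)) (fun x y => by simp) := by
  apply CQ_hom_ext
  intro x
  rw [hxR_inr, hxN_inr]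
  rfl

end HxN

section EmapSec

variable {n k : ℕ} {a : Fin n → Fin k → A}

/-- `B[ε] → B'[ε]` -/
noncomputable def Emap {B B' : Adeq.Alg A} (f : B ⟶ B') : Eps B ⟶ Eps B' :=
  CommAlgCat.ofHom (TrivSqZeroExt.lift (S := A) (R := (B : Type u)) (M := (B : Type u))
    ((TrivSqZeroExt.inlAlgHom A (B' : Type u) (B' : Type u)).comp f.hom)
    (((TrivSqZeroExt.inrHom (B' : Type u) (B' : Type u)).restrictScalars A) ∘ₗ f.hom.toLinearMap)
    (fun x y => TrivSqZeroExt.inr_mul_inr _ _ _)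
    (fun r x => by
      change TrivSqZeroExt.inr (f.hom (r • x)) = TrivSqZeroExt.inl (f.hom r) * TrivSqZeroExt.inr (f.hom x)
      rw [TrivSqZeroExt.inl_mul_inr, smul_eq_mul, map_mul]
      rfl)
    (fun r x => by
      change TrivSqZeroExt.inr (f.hom (MulOpposite.op r • x)) =
        TrivSqZeroExt.inr (f.hom x) * TrivSqZeroExt.inl (f.hom r)
      rw [TrivSqZeroExt.inr_mul_inl, op_smul_eq_smul, smul_eq_mul, map_mul]
      congr 1
      change _ = f.hom x * f.hom r
      rw [mul_comm]))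

lemma Emap_inl {B B' : Adeq.Alg A} (f : B ⟶ B') (b : B) :
    (Emap f).hom (TrivSqZeroExt.inl b : TrivSqZeroExt (B : Type u) (B : Type u)) = TrivSqZeroExt.inl (f.hom b) := by
  unfold Emap
  rw [CommAlgCat.hom_ofHom]
  exact TrivSqZeroExt.lift_apply_inl _ _ _ _ _ b

lemma Emap_inr {B B' : Adeq.Alg A} (f : B ⟶ B') (b : B) :
    (Emap f).hom (TrivSqZeroExt.inr b : TrivSqZeroExt (B : Type u) (B : Type u)) = TrivSqZeroExt.inr (f.hom b) := by
  unfold Emap
  rw [CommAlgCat.hom_ofHom]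
  exact TrivSqZeroExt.lift_apply_inr _ _ _ _ _ b

lemma inlE_Emap {B B' : Adeq.Alg A} (f : B ⟶ B') : inlE B ≫ Emap f = f ≫ inlE B' := by
  apply CommAlgCat.hom_ext
  refine AlgHom.ext fun x => ?_
  exact Emap_inl f x

lemma hxN_Emap {B B' : Adeq.Alg A} (f : B ⟶ B') (l : Q a →ₗ[A] (B : Type u)) :
    hxN B (B : Type u) l ≫ Emap f = hxN B' (B' : Type u) (f.hom.toLinearMap ∘ₗ l) := by
  apply CQ_hom_ext
  intro x
  rw [hxN_inr]
  change (Emap f).hom ((hxN B (B : Type u) l).hom (TrivSqZeroExt.inr x)) = _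
  rw [hxN_inr, Emap_inr]
  rfl

end EmapSec

section Fm

variable (F : Adeq.MVF A)

/-- the transition map `F(R) → F(R')` as an additive map with the right codomain -/
noncomputable def fm {R R' : Adeq.Alg A} (f : R ⟶ R') : F.obj (Adeq.pt R) →+ F.obj (Adeq.pt R') :=
  (F.map (Adeq.ptHom f)).hom.toAddMonoidHom

lemma fm_apply {R R' : Adeq.Alg A} (f : R ⟶ R') (x : F.obj (Adeq.pt R)) :
    fm F f x = F.map (Adeq.ptHom f) x := rfl

lemma fm_smul {R R' : Adeq.Alg A} (f : R ⟶ R') (r : R) (x : F.obj (Adeq.pt R)) :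
    fm F f (r • x) = (f.hom r : (R' : Type u)) • fm F f x :=
  PresheafOfModules.map_smul F (Adeq.ptHom f) r x

lemma fm_fm {R R' R'' : Adeq.Alg A} (f : R ⟶ R') (g : R' ⟶ R'') (x : F.obj (Adeq.pt R)) :
    fm F g (fm F f x) = fm F (f ≫ g) x :=
  (PresheafOfModules.map_comp_apply F (Adeq.ptHom f) (Adeq.ptHom g) x).symm

lemma fm_congr {R R' : Adeq.Alg A} {f g : R ⟶ R'} (h : f = g) (x : F.obj (Adeq.pt R)) :
    fm F f x = fm F g x := by
  subst h
  rfl

variable {F} in
lemma fm_nat {G : Adeq.MVF A} (φ : F ⟶ G) {R R' : Adeq.Alg A} (f : R ⟶ R') (x : F.obj (Adeq.pt R)) :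
    φ.app (Adeq.pt R') (fm F f x) = fm G f (φ.app (Adeq.pt R) x) :=
  PresheafOfModules.naturality_apply φ (Adeq.ptHom f) x

end Fm

section Mu

variable (F : Adeq.MVF A) (B : Adeq.Alg A)

/-- multiplication by `ε`: `F(B) → F(B[ε])` -/
noncomputable def mu (x : F.obj (Adeq.pt B)) : F.obj (Adeq.pt (Eps B)) :=
  (eps B : (Eps B : Type u)) • fm F (inlE B) x

lemma mu_zero : mu F B 0 = 0 := by
  unfold mu
  rw [map_zero, smul_zero]

lemma mu_add (x y : F.obj (Adeq.pt B)) : mu F B (x + y) = mu F B x + mu F B y := by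
  unfold mu
  rw [map_add, smul_add]

lemma mu_sub (x y : F.obj (Adeq.pt B)) : mu F B (x - y) = mu F B x - mu F B y := by
  unfold mu
  rw [map_sub, smul_sub]

variable {F} in
lemma mu_nat {G : Adeq.MVF A} (φ : F ⟶ G) (x : F.obj (Adeq.pt B)) :
    φ.app (Adeq.pt (Eps B)) (mu F B x) = mu G B (φ.app (Adeq.pt B) x) := by
  unfold mu
  refine (map_smul (φ.app (Adeq.pt (Eps B))).hom (eps B : (Eps B : Type u)) _).trans ?_
  exact congrArg (fun z => (eps B : (Eps B : Type u)) • z) (fm_nat φ (inlE B) x)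

lemma fst_mu (x : F.obj (Adeq.pt B)) :
    fm F (xfst B (B : Type u)) (mu F B x) = 0 := by
  unfold mu
  rw [fm_smul]
  have h : ((xfst B (B : Type u)).hom (eps B : (Eps B : Type u)) : (B : Type u)) = 0 := rfl
  rw [h, zero_smul]

lemma mu_Emap {B' : Adeq.Alg A} (f : B ⟶ B') (x : F.obj (Adeq.pt B)) :
    fm F (Emap f) (mu F B x) = mu F B' (fm F f x) := by
  unfold mu
  rw [fm_smul]
  have h : ((Emap f).hom (eps B : (Eps B : Type u)) : (Eps B' : Type u)) = eps B' := by
    unfold eps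
    rw [Emap_inr, map_one]
  rw [h, fm_fm, fm_fm, fm_congr F (inlE_Emap f) x]

lemma mu_smul (β : B) (x : F.obj (Adeq.pt B)) :
    mu F B (β • x) =
      fm F (xmap B (β • (LinearMap.id : (B : Type u) →ₗ[(B : Type u)] (B : Type u)))) (mu F B x) := by
  unfold mu
  rw [fm_smul, fm_smul, fm_fm]
  have h1 : inlE B ≫ xmap B (β • (LinearMap.id : (B : Type u) →ₗ[(B : Type u)] (B : Type u))) = inlE B :=
    xinl_xmap B _
  rw [fm_congr F h1 x, smul_smul]
  congr 1
  change (eps B : TrivSqZeroExt (B : Type u) (B : Type u)) * TrivSqZeroExt.inl β = _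
  rw [eps_mul_inl, xmap_apply]
  unfold eps
  rw [TrivSqZeroExt.map_inr]
  congr 1
  change β = β * 1
  rw [mul_one]

end Mu

section TanSec

/-- `B × B` as a module -/
abbrev N2 (B : Adeq.Alg A) : Type u := Prod (B : Type u) (B : Type u)

/-- the first projection `B[ε₁,ε₂] → B[ε]` -/
noncomputable def pr1 (B : Adeq.Alg A) : X B (N2 B) ⟶ Eps B :=
  xmap B (LinearMap.fst (B : Type u) (B : Type u) (B : Type u))

/-- the second projection `B[ε₁,ε₂] → B[ε]` -/
noncomputable def pr2 (B : Adeq.Alg A) : X B (N2 B) ⟶ Eps B :=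
  xmap B (LinearMap.snd (B : Type u) (B : Type u) (B : Type u))

/-- the first-order properties of a module-valued functor used to split extensions -/
structure Tan (F : Adeq.MVF A) : Prop where
  inj : ∀ (B : Adeq.Alg A) (x : F.obj (Adeq.pt B)), mu F B x = 0 → x = 0
  surj : ∀ (B : Adeq.Alg A) (t : F.obj (Adeq.pt (Eps B))), fm F (xfst B (B : Type u)) t = 0 →
    ∃ x, mu F B x = t
  ji : ∀ (B : Adeq.Alg A) (t : F.obj (Adeq.pt (X B (N2 B)))), fm F (pr1 B) t = 0 → fm F (pr2 B) t = 0 → t = 0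

/-- the properties pass to kernels -/
theorem Tan.of_sub {F' F F'' : Adeq.MVF A} (i : F' ⟶ F) (π : F ⟶ F'')
    (hi : ∀ R : Adeq.Alg A, Function.Injective (i.app (Adeq.pt R)))
    (hex : ∀ (R : Adeq.Alg A) (y : F.obj (Adeq.pt R)), π.app (Adeq.pt R) y = 0 →
      ∃ x, i.app (Adeq.pt R) x = y)
    (hz : ∀ (R : Adeq.Alg A) (x : F'.obj (Adeq.pt R)), π.app (Adeq.pt R) (i.app (Adeq.pt R) x) = 0)
    (hF : Tan F) (hF'' : ∀ (B : Adeq.Alg A) (x : F''.obj (Adeq.pt B)), mu F'' B x = 0 → x = 0) :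
    Tan F' where
  inj B x hx := by
    apply hi B
    rw [map_zero]
    apply hF.inj B
    rw [← mu_nat, hx, map_zero]
  surj B t ht := by
    have h1 : fm F (xfst B (B : Type u)) (i.app _ t) = 0 := by
      rw [← fm_nat, ht, map_zero]
    obtain ⟨y, hy⟩ := hF.surj B _ h1
    have h2 : π.app _ y = 0 := by
      apply hF'' B
      rw [← mu_nat, hy]
      exact hz _ t
    obtain ⟨x, hx⟩ := hex B y h2
    refine ⟨x, ?_⟩
    apply hi _
    rw [mu_nat, hx, hy]
  ji B t h1 h2 := by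
    apply hi _
    rw [map_zero]
    apply hF.ji B
    · rw [← fm_nat, h1, map_zero]
    · rw [← fm_nat, h2, map_zero]

/-- the properties pass to extensions (pointwise hypotheses) -/
theorem Tan.of_ext' {F1 F2 F3 : Adeq.MVF A} (f : F1 ⟶ F2) (g : F2 ⟶ F3)
    (hf : ∀ R : Adeq.Alg A, Function.Injective (f.app (Adeq.pt R)))
    (hg : ∀ R : Adeq.Alg A, Function.Surjective (g.app (Adeq.pt R)))
    (hex : ∀ (R : Adeq.Alg A) (y : F2.obj (Adeq.pt R)), g.app (Adeq.pt R) y = 0 →
      ∃ x, f.app (Adeq.pt R) x = y)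
    (h1 : Tan F1) (h3 : Tan F3) : Tan F2 where
  inj B x hx := by
    have e1 : g.app _ x = 0 := by
      apply h3.inj B
      rw [← mu_nat, hx, map_zero]
    obtain ⟨m, hm⟩ := hex B x e1
    have e2 : m = 0 := by
      apply h1.inj B
      apply hf (Eps B)
      rw [mu_nat, hm, hx, map_zero]
    rw [← hm, e2, map_zero]
  surj B t ht := by
    have e1 : fm F3 (xfst B (B : Type u)) (g.app _ t) = 0 := by
      rw [← fm_nat, ht, map_zero]
    obtain ⟨y'', hy''⟩ := h3.surj B _ e1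
    obtain ⟨x, hx⟩ := hg B y''
    have e2 : g.app _ (t - mu F2 B x) = 0 := by
      rw [map_sub, mu_nat, hx, hy'', sub_self]
    obtain ⟨m', hm'⟩ := hex (Eps B) _ e2
    have e3 : fm F1 (xfst B (B : Type u)) m' = 0 := by
      apply hf B
      rw [fm_nat, hm', map_sub, ht, fst_mu, sub_zero, map_zero]
    obtain ⟨m, hm⟩ := h1.surj B m' e3
    refine ⟨x + f.app _ m, ?_⟩
    rw [mu_add, ← mu_nat, hm, hm']
    abel
  ji B t e1 e2 := by
    have e3 : g.app _ t = 0 := by
      apply h3.ji B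
      · rw [← fm_nat, e1, map_zero]
      · rw [← fm_nat, e2, map_zero]
    obtain ⟨m, hm⟩ := hex _ t e3
    have e4 : m = 0 := by
      apply h1.ji B
      · apply hf (Eps B)
        rw [fm_nat, hm, e1, map_zero]
      · apply hf (Eps B)
        rw [fm_nat, hm, e2, map_zero]
    rw [← hm, e4, map_zero]

open Groth.Agent.Lib.Helper14.AdeqTan in
/-- the properties pass to extensions -/
theorem Tan.of_ext (S : ShortComplex (Adeq.MVF A)) (hS : S.ShortExact) (h1 : Tan S.X₁) (h3 : Tan S.X₃) :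
    Tan S.X₂ :=
  Tan.of_ext' S.f S.g (fun R => f_injective S hS R) (fun R => g_surjective S hS R)
    (fun R y hy => fg_exact S hS R y hy) h1 h3

end TanSec

section Underline

variable (M : ModuleCat.{u + 1} A)

lemma decomp_eps (B : Adeq.Alg A) (t : (Eps B : Type u) ⊗[A] M) :
    (eps B : (Eps B : Type u)) • ((inlE B).hom.toLinearMap.rTensor M ((sndE B).rTensor M t)) +
      (inlE B).hom.toLinearMap.rTensor M ((xfst B (B : Type u)).hom.toLinearMap.rTensor M t) = t := by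
  induction t using TensorProduct.induction_on with
  | zero => simp
  | add x y hx hy =>
    rw [map_add, map_add, smul_add, map_add, map_add]
    refine Eq.trans ?_ (congrArg₂ (· + ·) hx hy)
    abel
  | tmul z m =>
    rw [LinearMap.rTensor_tmul, LinearMap.rTensor_tmul, LinearMap.rTensor_tmul, LinearMap.rTensor_tmul,
      TensorProduct.smul_tmul', ← TensorProduct.add_tmul]
    congr 1
    change (eps B : TrivSqZeroExt (B : Type u) (B : Type u)) * TrivSqZeroExt.inl z.snd + TrivSqZeroExt.inl z.fst = z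
    rw [eps_mul_inl, add_comm]
    exact TrivSqZeroExt.inl_fst_add_inr_snd_eq z

lemma decomp_two (B : Adeq.Alg A) (z : TrivSqZeroExt (B : Type u) (N2 B)) :
    (xmap B (LinearMap.inl (B : Type u) (B : Type u) (B : Type u))).hom ((pr1 B).hom z) +
      ((xmap B (LinearMap.inr (B : Type u) (B : Type u) (B : Type u))).hom ((pr2 B).hom z) -
        (xinl B (N2 B)).hom ((xfst B (B : Type u)).hom ((pr2 B).hom z))) = z := by
  unfold pr1 pr2
  rw [xmap_apply, xmap_apply, xmap_apply, xmap_apply, xinl_apply, xfst_apply]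
  apply TrivSqZeroExt.ext
  · simp
  · simp only [TrivSqZeroExt.snd_add, TrivSqZeroExt.snd_sub, TrivSqZeroExt.snd_map, TrivSqZeroExt.snd_inl]
    apply Prod.ext
    · simp
    · simp

lemma decomp_two_tensor (B : Adeq.Alg A) (t : (X B (N2 B) : Type u) ⊗[A] M) :
    (xmap B (LinearMap.inl (B : Type u) (B : Type u) (B : Type u))).hom.toLinearMap.rTensor M
        ((pr1 B).hom.toLinearMap.rTensor M t) +
      ((xmap B (LinearMap.inr (B : Type u) (B : Type u) (B : Type u))).hom.toLinearMap -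
        (xinl B (N2 B)).hom.toLinearMap ∘ₗ (xfst B (B : Type u)).hom.toLinearMap).rTensor M
        ((pr2 B).hom.toLinearMap.rTensor M t) = t := by
  rw [← LinearMap.rTensor_comp_apply, ← LinearMap.rTensor_comp_apply, ← LinearMap.add_apply,
    ← LinearMap.rTensor_add]
  have key : (xmap B (LinearMap.inl (B : Type u) (B : Type u) (B : Type u))).hom.toLinearMap ∘ₗ
        (pr1 B).hom.toLinearMap +
      ((xmap B (LinearMap.inr (B : Type u) (B : Type u) (B : Type u))).hom.toLinearMap -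
        (xinl B (N2 B)).hom.toLinearMap ∘ₗ (xfst B (B : Type u)).hom.toLinearMap) ∘ₗ
        (pr2 B).hom.toLinearMap = LinearMap.id :=
    LinearMap.ext (fun z => decomp_two B z)
  rw [key, LinearMap.rTensor_id, LinearMap.id_apply]

/-- `underline M` has the first-order properties -/
theorem tan_underline : Tan ((Adeq.underline A).obj M) where
  inj B x hx := by
    have h := sndE_smul_eps M B x
    have h2 : (eps B : (Eps B : Type u)) •
        ((inlE B).hom.toLinearMap.rTensor M x : (Eps B : Type u) ⊗[A] M) = 0 := hx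
    rw [h2, map_zero] at h
    exact h.symm
  surj B t ht := by
    change (Eps B : Type u) ⊗[A] M at t
    have ht' : (xfst B (B : Type u)).hom.toLinearMap.rTensor M t = 0 := ht
    refine ⟨(sndE B).rTensor M t, ?_⟩
    have h := decomp_eps M B t
    rw [ht', map_zero, add_zero] at h
    exact h
  ji B t h1 h2 := by
    change (X B (N2 B) : Type u) ⊗[A] M at t
    have h1' : (pr1 B).hom.toLinearMap.rTensor M t = 0 := h1
    have h2' : (pr2 B).hom.toLinearMap.rTensor M t = 0 := h2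
    have h := decomp_two_tensor M B t
    rw [h1', h2', map_zero, map_zero, add_zero] at h
    exact h.symm

end Underline

section Kernel

variable {P P' : ModuleCat.{u + 1} A}

/-- kernels of `underline` maps have the first-order properties -/
theorem tan_kernel (φ : P ⟶ P') : Tan (kernel ((Adeq.underline A).map φ)) :=
  Tan.of_sub (kernel.ι _) ((Adeq.underline A).map φ) (fun R => ι_injective _ R)
    (fun R y hy => (ι_exact _ R y).1 hy) (fun R x => (ι_exact _ R).apply_apply_eq_zero x)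
    (tan_underline P) (tan_underline P').inj

open Groth.Agent.Lib.Helper14.AdeqKer in
theorem Tan.of_iso {F' F : Adeq.MVF A} (e : F' ≅ F) (hF : Tan F) : Tan F' :=
  Tan.of_sub e.hom (0 : F ⟶ F)
    (fun R x y h => by
      have hx := (comp_app_apply e.hom e.inv R x).symm.trans (eq_app_apply e.hom_inv_id R x)
      have hy := (comp_app_apply e.hom e.inv R y).symm.trans (eq_app_apply e.hom_inv_id R y)
      exact hx.symm.trans ((congrArg (fun z => e.inv.app (Adeq.pt R) z) h).trans hy))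
    (fun R y _ => ⟨e.inv.app (Adeq.pt R) y,
      (comp_app_apply e.inv e.hom R y).symm.trans (eq_app_apply e.inv_hom_id R y)⟩)
    (fun R x => rfl) hF hF.inj

end Kernel

section Coord

variable {P P' : ModuleCat.{u + 1} A} {n k : ℕ}
  (e : Module.Basis (Fin n) A P) (e' : Module.Basis (Fin k) A P') (φ₀ : P ⟶ P')

lemma Q_ext {a : Fin n → Fin k → A} {V : Type u} [AddCommGroup V] [Module A V] {l l' : Q a →ₗ[A] V}
    (h : ∀ i, l (q a i) = l' (q a i)) : l = l' := by
  apply Submodule.linearMap_qext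
  apply LinearMap.pi_ext'
  intro i
  apply LinearMap.ext_ring
  exact h i

/-- the inclusion of the kernel, with values in the tensor product -/
noncomputable def iw (R : Adeq.Alg A) :
    (kernel ((Adeq.underline A).map φ₀)).obj (Adeq.pt R) →ₗ[(R : Type u)] ((R : Type u) ⊗[A] P) :=
  ((kernel.ι ((Adeq.underline A).map φ₀)).app (Adeq.pt R)).hom

lemma iw_apply (R : Adeq.Alg A) (w : (kernel ((Adeq.underline A).map φ₀)).obj (Adeq.pt R)) :
    iw φ₀ R w = (kernel.ι ((Adeq.underline A).map φ₀)).app (Adeq.pt R) w := rfl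

lemma iw_injective (R : Adeq.Alg A) : Function.Injective (iw φ₀ R) :=
  ι_injective ((Adeq.underline A).map φ₀) R

lemma iw_map {R R' : Adeq.Alg A} (f : R ⟶ R') (w : (kernel ((Adeq.underline A).map φ₀)).obj (Adeq.pt R)) :
    iw φ₀ R' (fm _ f w) = f.hom.toLinearMap.rTensor P (iw φ₀ R w) :=
  ι_map φ₀ f w

/-- the coordinates of an element of the kernel -/
noncomputable def cw {R : Adeq.Alg A} (w : (kernel ((Adeq.underline A).map φ₀)).obj (Adeq.pt R)) :
    Fin n → R :=
  crd e R (iw φ₀ R w)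

lemma tvec_cw {R : Adeq.Alg A} (w : (kernel ((Adeq.underline A).map φ₀)).obj (Adeq.pt R)) :
    tvec e R (cw e φ₀ w) = iw φ₀ R w :=
  tvec_crd e R _

lemma cw_add {R : Adeq.Alg A} (w w' : (kernel ((Adeq.underline A).map φ₀)).obj (Adeq.pt R)) (i : Fin n) :
    cw e φ₀ (w + w') i = cw e φ₀ w i + cw e φ₀ w' i := by
  unfold cw crd
  rw [map_add, map_add]
  rfl

lemma cw_smul {R : Adeq.Alg A} (β : R) (w : (kernel ((Adeq.underline A).map φ₀)).obj (Adeq.pt R))
    (i : Fin n) : cw e φ₀ (β • w) i = β * cw e φ₀ w i := by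
  unfold cw crd
  rw [map_smul, map_smul]
  rfl

lemma cw_map {R R' : Adeq.Alg A} (f : R ⟶ R') (w : (kernel ((Adeq.underline A).map φ₀)).obj (Adeq.pt R))
    (i : Fin n) : cw e φ₀ (fm _ f w) i = f.hom (cw e φ₀ w i) := by
  unfold cw
  rw [iw_map]
  conv_lhs => rw [← tvec_crd e R (iw φ₀ R w)]
  rw [rTensor_tvec, crd_tvec]
  rfl

lemma cw_rel {R : Adeq.Alg A} (w : (kernel ((Adeq.underline A).map φ₀)).obj (Adeq.pt R)) :
    ∀ j, ∑ i, mat e e' φ₀.hom i j • cw e φ₀ w i = 0 :=
  rel_of_mem e e' φ₀ R w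

/-- the linear form attached to an element of the kernel -/
noncomputable def lamW {R : Adeq.Alg A} (w : (kernel ((Adeq.underline A).map φ₀)).obj (Adeq.pt R)) :
    Q (mat e e' φ₀.hom) →ₗ[A] (R : Type u) :=
  lam (mat e e' φ₀.hom) (cw e φ₀ w) (cw_rel e e' φ₀ w)

lemma lamW_q {R : Adeq.Alg A} (w : (kernel ((Adeq.underline A).map φ₀)).obj (Adeq.pt R)) (i : Fin n) :
    lamW e e' φ₀ w (q _ i) = cw e φ₀ w i :=
  lam_q _ _ _ i

lemma lamW_add {R : Adeq.Alg A} (w w' : (kernel ((Adeq.underline A).map φ₀)).obj (Adeq.pt R)) :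
    lamW e e' φ₀ (w + w') = lamW e e' φ₀ w + lamW e e' φ₀ w' := by
  apply Q_ext
  intro i
  rw [LinearMap.add_apply, lamW_q, lamW_q, lamW_q, cw_add]

lemma lamW_smul {R : Adeq.Alg A} (β : R) (w : (kernel ((Adeq.underline A).map φ₀)).obj (Adeq.pt R))
    (x : Q (mat e e' φ₀.hom)) :
    lamW e e' φ₀ (β • w) x = β * lamW e e' φ₀ w x := by
  have h : lamW e e' φ₀ (β • w) = (LinearMap.mulLeft A β) ∘ₗ lamW e e' φ₀ w := by
    apply Q_ext
    intro i
    rw [LinearMap.comp_apply, lamW_q, lamW_q, cw_smul]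
    rfl
  rw [h]
  rfl

lemma lamW_map {R R' : Adeq.Alg A} (f : R ⟶ R') (w : (kernel ((Adeq.underline A).map φ₀)).obj (Adeq.pt R)) :
    lamW e e' φ₀ (fm _ f w) = f.hom.toLinearMap ∘ₗ lamW e e' φ₀ w := by
  apply Q_ext
  intro i
  rw [LinearMap.comp_apply, lamW_q, lamW_q, cw_map]
  rfl

end Coord

section Section

variable {P P' : ModuleCat.{u + 1} A} {n k : ℕ}
  (e : Module.Basis (Fin n) A P) (e' : Module.Basis (Fin k) A P') (φ₀ : P ⟶ P')
  (G : Adeq.MVF A) (π : G ⟶ kernel ((Adeq.underline A).map φ₀))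

/-- the universal first-order element and a normalised lift -/
lemma exists_eta (hπ : ∀ R : Adeq.Alg A, Function.Surjective (π.app (Adeq.pt R))) :
    ∃ η : G.obj (Adeq.pt (CQ (mat e e' φ₀.hom))),
      iw φ₀ (CQ (mat e e' φ₀.hom)) (π.app (Adeq.pt (CQ (mat e e' φ₀.hom))) η) = tvec e (CQ (mat e e' φ₀.hom))
        (fun i => (TrivSqZeroExt.inr (q (mat e e' φ₀.hom) i) : TrivSqZeroExt A (Q (mat e e' φ₀.hom)))) ∧
      ∀ (R : Adeq.Alg A), fm G (hxR (R := R) (0 : Q (mat e e' φ₀.hom) →ₗ[A] (R : Type u))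
        (fun x y => by simp)) η = 0 := by
  let a := mat e e' φ₀.hom
  obtain ⟨wU, hwU⟩ := exists_of_rel e e' φ₀ (CQ a)
    (fun i => (TrivSqZeroExt.inr (q a i) : TrivSqZeroExt A (Q a))) (hq a)
  obtain ⟨η₀, hη₀⟩ := hπ (CQ a) wU
  let ρ : CQ a ⟶ CQ a := hxR (R := CQ a) (0 : Q a →ₗ[A] (CQ a : Type u)) (fun x y => by simp)
  have hρ : fm _ ρ wU = 0 := by
    apply iw_injective φ₀
    rw [iw_map, map_zero]
    have h1 : iw φ₀ (CQ a) wU = tvec e (CQ a)
        (fun i => (TrivSqZeroExt.inr (q a i) : TrivSqZeroExt A (Q a))) := hwU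
    rw [h1, rTensor_tvec]
    have h2 : (fun i => ρ.hom.toLinearMap (TrivSqZeroExt.inr (q a i) : TrivSqZeroExt A (Q a))) =
        fun i => (0 : (CQ a : Type u)) := by
      funext i
      exact hxR_inr (0 : Q a →ₗ[A] (CQ a : Type u)) (fun x y => by simp) (q a i)
    rw [h2]
    unfold tvec
    simp
  refine ⟨η₀ - fm G ρ η₀, ?_, ?_⟩
  · rw [map_sub, fm_nat, hη₀, hρ, sub_zero]
    exact hwU
  · intro R
    rw [map_sub, fm_fm, sub_eq_zero]
    apply fm_congr
    symm
    apply hxR_comp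
    intro x
    simp

end Section

section TSec

variable {n k : ℕ} {a : Fin n → Fin k → A} (G : Adeq.MVF A) (η : G.obj (Adeq.pt (CQ a)))

/-- the first-order element attached to a linear form -/
noncomputable def T (B : Adeq.Alg A) (N : Type u) [AddCommGroup N] [Module (B : Type u) N]
    [Module (B : Type u)ᵐᵒᵖ N] [IsCentralScalar (B : Type u) N] [Module A N] [IsScalarTower A (B : Type u) N]
    [IsScalarTower A (B : Type u)ᵐᵒᵖ N] (l : Q a →ₗ[A] N) : G.obj (Adeq.pt (X B N)) :=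
  fm G (hxN B N l) η

variable (hη : ∀ (R : Adeq.Alg A), fm G (hxR (R := R) (0 : Q a →ₗ[A] (R : Type u))
        (fun x y => by simp)) η = 0)

variable (B : Adeq.Alg A) (N : Type u) [AddCommGroup N] [Module (B : Type u) N] [Module (B : Type u)ᵐᵒᵖ N]
  [IsCentralScalar (B : Type u) N] [Module A N] [IsScalarTower A (B : Type u) N]
  [IsScalarTower A (B : Type u)ᵐᵒᵖ N]
  {N' : Type u} [AddCommGroup N'] [Module (B : Type u) N'] [Module (B : Type u)ᵐᵒᵖ N']
  [IsCentralScalar (B : Type u) N'] [Module A N'] [IsScalarTower A (B : Type u) N']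
  [IsScalarTower A (B : Type u)ᵐᵒᵖ N']

include hη in
lemma T_zero : T G η B N (0 : Q a →ₗ[A] N) = 0 := by
  unfold T
  rw [fm_congr G (hxN_zero B N)]
  exact hη _

include hη in
lemma T_fst (l : Q a →ₗ[A] N) : fm G (xfst B N) (T G η B N l) = 0 := by
  unfold T
  rw [fm_fm, fm_congr G (hxN_xfst B N l)]
  exact hη _

variable {N} in
lemma T_map (l : Q a →ₗ[A] N) (g : N →ₗ[(B : Type u)] N') :
    fm G (xmap B g) (T G η B N l) = T G η B N' (g.restrictScalars A ∘ₗ l) := by
  unfold T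
  rw [fm_fm, fm_congr G (hxN_xmap B l g)]

lemma T_Emap {B' : Adeq.Alg A} (f : B ⟶ B') (l : Q a →ₗ[A] (B : Type u)) :
    fm G (Emap f) (T G η B (B : Type u) l) = T G η B' (B' : Type u) (f.hom.toLinearMap ∘ₗ l) := by
  unfold T
  rw [fm_fm, fm_congr G (hxN_Emap f l)]

include hη in
lemma T_add (hji : ∀ (t : G.obj (Adeq.pt (X B (N2 B)))), fm G (pr1 B) t = 0 → fm G (pr2 B) t = 0 → t = 0)
    (l₁ l₂ : Q a →ₗ[A] (B : Type u)) :
    T G η B (B : Type u) (l₁ + l₂) = T G η B (B : Type u) l₁ + T G η B (B : Type u) l₂ := by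
  have key : T G η B (N2 B) (l₁.prod l₂) - T G η B (N2 B) (l₁.prod 0) - T G η B (N2 B) ((0 : Q a →ₗ[A] (B : Type u)).prod l₂) = 0 := by
    apply hji
    · unfold pr1
      rw [map_sub, map_sub, T_map, T_map, T_map]
      have e1 : (LinearMap.fst (B : Type u) (B : Type u) (B : Type u)).restrictScalars A ∘ₗ (l₁.prod l₂) = l₁ := rfl
      have e2 : (LinearMap.fst (B : Type u) (B : Type u) (B : Type u)).restrictScalars A ∘ₗ (l₁.prod 0) = l₁ := rfl
      have e3 : (LinearMap.fst (B : Type u) (B : Type u) (B : Type u)).restrictScalars A ∘ₗ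
        ((0 : Q a →ₗ[A] (B : Type u)).prod l₂) = 0 := rfl
      rw [e1, e2, e3, T_zero G η hη, sub_self, sub_zero]
    · unfold pr2
      rw [map_sub, map_sub, T_map, T_map, T_map]
      have e1 : (LinearMap.snd (B : Type u) (B : Type u) (B : Type u)).restrictScalars A ∘ₗ (l₁.prod l₂) = l₂ := rfl
      have e2 : (LinearMap.snd (B : Type u) (B : Type u) (B : Type u)).restrictScalars A ∘ₗ (l₁.prod 0) = 0 := rfl
      have e3 : (LinearMap.snd (B : Type u) (B : Type u) (B : Type u)).restrictScalars A ∘ₗ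
        ((0 : Q a →ₗ[A] (B : Type u)).prod l₂) = l₂ := rfl
      rw [e1, e2, e3, T_zero G η hη, sub_zero, sub_self]
  have key2 := congrArg (fun z => fm G (xmap B (LinearMap.fst (B : Type u) (B : Type u) (B : Type u) +
    LinearMap.snd (B : Type u) (B : Type u) (B : Type u))) z) key
  simp only [map_sub, map_zero] at key2
  rw [T_map, T_map, T_map] at key2
  have e1 : (LinearMap.fst (B : Type u) (B : Type u) (B : Type u) +
    LinearMap.snd (B : Type u) (B : Type u) (B : Type u)).restrictScalars A ∘ₗ (l₁.prod l₂) = l₁ + l₂ := rfl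
  have e2 : (LinearMap.fst (B : Type u) (B : Type u) (B : Type u) +
    LinearMap.snd (B : Type u) (B : Type u) (B : Type u)).restrictScalars A ∘ₗ (l₁.prod 0) = l₁ := by
    apply LinearMap.ext
    intro x
    change l₁ x + 0 = l₁ x
    rw [add_zero]
  have e3 : (LinearMap.fst (B : Type u) (B : Type u) (B : Type u) +
    LinearMap.snd (B : Type u) (B : Type u) (B : Type u)).restrictScalars A ∘ₗ
      ((0 : Q a →ₗ[A] (B : Type u)).prod l₂) = l₂ := by
    apply LinearMap.ext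
    intro x
    change 0 + l₂ x = l₂ x
    rw [zero_add]
  rw [e1, e2, e3] at key2
  rw [sub_sub, sub_eq_zero] at key2
  exact key2

end TSec

section SecSec

variable {P P' : ModuleCat.{u + 1} A} {n k : ℕ}
  (e : Module.Basis (Fin n) A P) (e' : Module.Basis (Fin k) A P') (φ₀ : P ⟶ P')
  (G : Adeq.MVF A) (hG : Tan G) (π : G ⟶ kernel ((Adeq.underline A).map φ₀))
  (η : G.obj (Adeq.pt (CQ (mat e e' φ₀.hom))))
  (hη1 : iw φ₀ (CQ (mat e e' φ₀.hom)) (π.app (Adeq.pt (CQ (mat e e' φ₀.hom))) η) =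
    tvec e (CQ (mat e e' φ₀.hom))
      (fun i => (TrivSqZeroExt.inr (q (mat e e' φ₀.hom) i) : TrivSqZeroExt A (Q (mat e e' φ₀.hom)))))
  (hη : ∀ (R : Adeq.Alg A), fm G (hxR (R := R) (0 : Q (mat e e' φ₀.hom) →ₗ[A] (R : Type u))
        (fun x y => by simp)) η = 0)

include hG hη in
lemma exists_sec {B : Adeq.Alg A} (w : (kernel ((Adeq.underline A).map φ₀)).obj (Adeq.pt B)) :
    ∃ x : G.obj (Adeq.pt B), mu G B x = T G η B (B : Type u) (lamW e e' φ₀ w) :=
  hG.surj B _ (T_fst G η hη B (B : Type u) _)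

/-- the section on elements -/
noncomputable def sec {B : Adeq.Alg A} (w : (kernel ((Adeq.underline A).map φ₀)).obj (Adeq.pt B)) :
    G.obj (Adeq.pt B) :=
  Classical.choose (exists_sec e e' φ₀ G hG η hη w)

lemma mu_sec {B : Adeq.Alg A} (w : (kernel ((Adeq.underline A).map φ₀)).obj (Adeq.pt B)) :
    mu G B (sec e e' φ₀ G hG η hη w) = T G η B (B : Type u) (lamW e e' φ₀ w) :=
  Classical.choose_spec (exists_sec e e' φ₀ G hG η hη w)

lemma Tan.mu_injective {F : Adeq.MVF A} (hF : Tan F) (B : Adeq.Alg A) (x y : F.obj (Adeq.pt B))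
    (h : mu F B x = mu F B y) : x = y := by
  have h2 := hF.inj B (x - y) (by rw [mu_sub, h, sub_self])
  exact sub_eq_zero.1 h2

lemma sec_add {B : Adeq.Alg A} (w w' : (kernel ((Adeq.underline A).map φ₀)).obj (Adeq.pt B)) :
    sec e e' φ₀ G hG η hη (w + w') = sec e e' φ₀ G hG η hη w + sec e e' φ₀ G hG η hη w' := by
  apply hG.mu_injective
  rw [mu_add, mu_sec, mu_sec, mu_sec, lamW_add, T_add G η hη B (hG.ji B)]

lemma sec_smul {B : Adeq.Alg A} (β : B) (w : (kernel ((Adeq.underline A).map φ₀)).obj (Adeq.pt B)) :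
    sec e e' φ₀ G hG η hη (β • w) = β • sec e e' φ₀ G hG η hη w := by
  apply hG.mu_injective
  rw [mu_smul, mu_sec, mu_sec, T_map]
  congr 1
  apply LinearMap.ext
  intro x
  rw [lamW_smul]
  rfl

lemma sec_map {B B' : Adeq.Alg A} (f : B ⟶ B') (w : (kernel ((Adeq.underline A).map φ₀)).obj (Adeq.pt B)) :
    sec e e' φ₀ G hG η hη (fm _ f w) = fm G f (sec e e' φ₀ G hG η hη w) := by
  apply hG.mu_injective
  rw [← mu_Emap, mu_sec, mu_sec, T_Emap, lamW_map]

include hη1 in
lemma π_sec {B : Adeq.Alg A} (w : (kernel ((Adeq.underline A).map φ₀)).obj (Adeq.pt B)) :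
    π.app (Adeq.pt B) (sec e e' φ₀ G hG η hη w) = w := by
  apply (tan_kernel φ₀).mu_injective
  rw [← mu_nat, mu_sec]
  unfold T
  rw [fm_nat]
  apply iw_injective φ₀
  rw [iw_map, hη1, rTensor_tvec]
  unfold mu
  rw [map_smul, iw_map, ← tvec_cw, rTensor_tvec, smul_tvec]
  congr 1
  funext i
  refine (hxN_inr B (B : Type u) _ _).trans ?_
  rw [lamW_q]
  exact (eps_mul_inl B _).symm

/-- the section, linear over each algebra -/
noncomputable def secLin (B : Adeq.Alg A) :
    (kernel ((Adeq.underline A).map φ₀)).obj (Adeq.pt B) →ₗ[(B : Type u)] G.obj (Adeq.pt B) where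
  toFun := sec e e' φ₀ G hG η hη
  map_add' := sec_add e e' φ₀ G hG η hη
  map_smul' := sec_smul e e' φ₀ G hG η hη

/-- the section as a morphism of module-valued functors -/
noncomputable def secHom : kernel ((Adeq.underline A).map φ₀) ⟶ G where
  app X := ModuleCat.ofHom (secLin e e' φ₀ G hG η hη X.unop.unop)
  naturality {X Y} f := by
    apply ModuleCat.hom_ext
    apply LinearMap.ext
    intro w
    exact sec_map e e' φ₀ G hG η hη f.unop.unop w

include hη1 in
lemma secHom_π : secHom e e' φ₀ G hG η hη ≫ π = 𝟙 _ := by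
  apply Groth.Agent.Lib.Helper14.AdeqAdj.mvf_hom_ext
  intro B w
  exact π_sec e e' φ₀ G hG π η hη1 hη w

end SecSec

section Main

variable {P P' : ModuleCat.{u + 1} A} {n k : ℕ}

/-- a surjection onto the kernel of `underline φ₀` (`φ₀` between finite free modules) from a functor with the
first-order properties has a section -/
theorem exists_section (e : Module.Basis (Fin n) A P) (e' : Module.Basis (Fin k) A P') (φ₀ : P ⟶ P')
    (G : Adeq.MVF A) (hG : Tan G) (π : G ⟶ kernel ((Adeq.underline A).map φ₀))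
    (hπ : ∀ R : Adeq.Alg A, Function.Surjective (π.app (Adeq.pt R))) :
    ∃ s : kernel ((Adeq.underline A).map φ₀) ⟶ G, s ≫ π = 𝟙 _ := by
  obtain ⟨η, hη1, hη⟩ := exists_eta e e' φ₀ G π hπ
  exact ⟨secHom e e' φ₀ G hG η hη, secHom_π e e' φ₀ G hG π η hη1 hη⟩

end Main

section LiftSec

variable {P P' : ModuleCat.{u + 1} A} {n k : ℕ}
  (e : Module.Basis (Fin n) A P) (e' : Module.Basis (Fin k) A P') (φ₀ : P ⟶ P')
  (G : Adeq.MVF A) (hG : Tan G) (H : Adeq.MVF A) (g : G ⟶ H)
  (lam' : kernel ((Adeq.underline A).map φ₀) ⟶ H)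

/-- the universal first-order element and a normalised lift of its image -/
lemma exists_eta' (hg : ∀ R : Adeq.Alg A, Function.Surjective (g.app (Adeq.pt R))) :
    ∃ (wU : (kernel ((Adeq.underline A).map φ₀)).obj (Adeq.pt (CQ (mat e e' φ₀.hom))))
      (η : G.obj (Adeq.pt (CQ (mat e e' φ₀.hom)))),
      iw φ₀ (CQ (mat e e' φ₀.hom)) wU = tvec e (CQ (mat e e' φ₀.hom))
        (fun i => (TrivSqZeroExt.inr (q (mat e e' φ₀.hom) i) : TrivSqZeroExt A (Q (mat e e' φ₀.hom)))) ∧
      g.app (Adeq.pt (CQ (mat e e' φ₀.hom))) η = lam'.app (Adeq.pt (CQ (mat e e' φ₀.hom))) wU ∧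
      ∀ (R : Adeq.Alg A), fm G (hxR (R := R) (0 : Q (mat e e' φ₀.hom) →ₗ[A] (R : Type u))
        (fun x y => by simp)) η = 0 := by
  let a := mat e e' φ₀.hom
  obtain ⟨wU, hwU⟩ := exists_of_rel e e' φ₀ (CQ a)
    (fun i => (TrivSqZeroExt.inr (q a i) : TrivSqZeroExt A (Q a))) (hq a)
  obtain ⟨η₀, hη₀⟩ := hg (CQ a) (lam'.app _ wU)
  let ρ : CQ a ⟶ CQ a := hxR (R := CQ a) (0 : Q a →ₗ[A] (CQ a : Type u)) (fun x y => by simp)
  have hρ : fm _ ρ wU = 0 := by
    apply iw_injective φ₀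
    rw [iw_map, map_zero]
    have h1 : iw φ₀ (CQ a) wU = tvec e (CQ a)
        (fun i => (TrivSqZeroExt.inr (q a i) : TrivSqZeroExt A (Q a))) := hwU
    rw [h1, rTensor_tvec]
    have h2 : (fun i => ρ.hom.toLinearMap (TrivSqZeroExt.inr (q a i) : TrivSqZeroExt A (Q a))) =
        fun i => (0 : (CQ a : Type u)) := by
      funext i
      exact hxR_inr (0 : Q a →ₗ[A] (CQ a : Type u)) (fun x y => by simp) (q a i)
    rw [h2]
    unfold tvec
    simp
  refine ⟨wU, η₀ - fm G ρ η₀, hwU, ?_, ?_⟩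
  · rw [map_sub, fm_nat, hη₀, ← fm_nat, hρ, map_zero, sub_zero]
  · intro R
    rw [map_sub, fm_fm, sub_eq_zero]
    apply fm_congr
    symm
    apply hxR_comp
    intro x
    simp

lemma K_key (wU : (kernel ((Adeq.underline A).map φ₀)).obj (Adeq.pt (CQ (mat e e' φ₀.hom))))
    (hwU : iw φ₀ (CQ (mat e e' φ₀.hom)) wU = tvec e (CQ (mat e e' φ₀.hom))
      (fun i => (TrivSqZeroExt.inr (q (mat e e' φ₀.hom) i) : TrivSqZeroExt A (Q (mat e e' φ₀.hom)))))
    {B : Adeq.Alg A} (w : (kernel ((Adeq.underline A).map φ₀)).obj (Adeq.pt B)) :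
    fm _ (hxN B (B : Type u) (lamW e e' φ₀ w)) wU = mu _ B w := by
  apply iw_injective φ₀
  rw [iw_map, hwU, rTensor_tvec]
  unfold mu
  rw [map_smul, iw_map, ← tvec_cw, rTensor_tvec, smul_tvec]
  congr 1
  funext i
  refine (hxN_inr B (B : Type u) _ _).trans ?_
  rw [lamW_q]
  exact (eps_mul_inl B _).symm

variable (hH : ∀ (B : Adeq.Alg A) (x : H.obj (Adeq.pt B)), mu H B x = 0 → x = 0)

include hH in
lemma g_sec (wU : (kernel ((Adeq.underline A).map φ₀)).obj (Adeq.pt (CQ (mat e e' φ₀.hom))))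
    (η : G.obj (Adeq.pt (CQ (mat e e' φ₀.hom))))
    (hwU : iw φ₀ (CQ (mat e e' φ₀.hom)) wU = tvec e (CQ (mat e e' φ₀.hom))
      (fun i => (TrivSqZeroExt.inr (q (mat e e' φ₀.hom) i) : TrivSqZeroExt A (Q (mat e e' φ₀.hom)))))
    (hη1 : g.app (Adeq.pt (CQ (mat e e' φ₀.hom))) η = lam'.app (Adeq.pt (CQ (mat e e' φ₀.hom))) wU)
    (hη : ∀ (R : Adeq.Alg A), fm G (hxR (R := R) (0 : Q (mat e e' φ₀.hom) →ₗ[A] (R : Type u))
        (fun x y => by simp)) η = 0)
    {B : Adeq.Alg A} (w : (kernel ((Adeq.underline A).map φ₀)).obj (Adeq.pt B)) :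
    g.app (Adeq.pt B) (sec e e' φ₀ G hG η hη w) = lam'.app (Adeq.pt B) w := by
  have h : mu H B (g.app (Adeq.pt B) (sec e e' φ₀ G hG η hη w) - lam'.app (Adeq.pt B) w) = 0 := by
    rw [mu_sub, ← mu_nat, ← mu_nat, mu_sec, ← K_key e e' φ₀ wU hwU w]
    unfold T
    rw [fm_nat, fm_nat, hη1, sub_self]
  exact sub_eq_zero.1 (hH B _ h)

include e e' hG hH in
/-- lifting maps from the kernel of `underline φ₀` along a surjection with first-order properties -/
theorem exists_lift_section (hg : ∀ R : Adeq.Alg A, Function.Surjective (g.app (Adeq.pt R))) :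
    ∃ s : kernel ((Adeq.underline A).map φ₀) ⟶ G, s ≫ g = lam' := by
  obtain ⟨wU, η, hwU, hη1, hη⟩ := exists_eta' e e' φ₀ G H g lam' hg
  refine ⟨secHom e e' φ₀ G hG η hη, ?_⟩
  apply Groth.Agent.Lib.Helper14.AdeqAdj.mvf_hom_ext
  intro B w
  exact g_sec e e' φ₀ G hG H g lam' hH wU η hwU hη1 hη w

end LiftSec

end Groth.Agent.Lib.Helper14.AdeqSplit
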