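import Groth.Agent.Lib.Helper14.AdeqKer
import Mathlib.RingTheory.TensorProduct.Basic

/-!
# Morphisms out of `underline N`
-/

universe u

set_option linter.unusedSectionVars false

open CategoryTheory Limits TensorProduct

namespace Groth.Agent.Lib.Helper14.AdeqYon

open Groth.Agent.Lib.Helper14.AdeqBC Groth.Agent.Lib.Helper14.AdeqKer

variable {A : Type u} [CommRing A]

/-- the structure map of an algebra, as a morphism from the initial algebra -/
noncomputable def unitHom (B : Adeq.Alg A) : Adeq.algOf A A ⟶ B :=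
  CommAlgCat.ofHom (Algebra.ofId A B)

lemma unitHom_comp {B C : Adeq.Alg A} (h : B ⟶ C) : unitHom B ≫ h = unitHom C := by
  apply CommAlgCat.hom_ext
  apply AlgHom.ext
  intro a
  exact h.hom.commutes a

section Desc

variable (G : Adeq.MVF A) (N : ModuleCat.{u + 1} A)
  (g : N →ₗ[A] G.obj (Adeq.pt (Adeq.algOf A A)))

/-- the `A`-module structure on a value of a module-valued functor -/
@[reducible] noncomputable def modA (B : Adeq.Alg A) : Module A (G.obj (Adeq.pt B)) :=
  Module.compHom _ (algebraMap A B)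

lemma towerA (B : Adeq.Alg A) :
    letI := modA G B
    IsScalarTower A B (G.obj (Adeq.pt B)) := by
  let _ := modA G B
  exact IsScalarTower.of_algebraMap_smul (fun _ _ => rfl)

/-- `n ↦ G(A → B)(g n)` -/
noncomputable def gB (B : Adeq.Alg A) :
    letI := modA G B
    N →ₗ[A] G.obj (Adeq.pt B) :=
  letI := modA G B
  { toFun := fun n => G.map (Adeq.ptHom (unitHom B)) (g n)
    map_add' := fun x y => by
      rw [map_add]
      exact map_add (G.map (Adeq.ptHom (unitHom B))).hom (g x) (g y)
    map_smul' := fun a n => by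
      rw [map_smul]
      exact PresheafOfModules.map_smul G (Adeq.ptHom (unitHom B)) a (g n) }

/-- `b ⊗ n ↦ b • G(A → B)(g n)` -/
noncomputable def descApp (B : Adeq.Alg A) : (B : Type u) ⊗[A] N →ₗ[(B : Type u)] G.obj (Adeq.pt B) :=
  letI := modA G B
  haveI := towerA G B
  LinearMap.liftBaseChange B (gB G N g B)

lemma descApp_tmul (B : Adeq.Alg A) (b : B) (n : N) :
    descApp G N g B (b ⊗ₜ[A] n) = b • G.map (Adeq.ptHom (unitHom B)) (g n) := rfl

/-- the morphism `underline N ⟶ G` attached to a linear map `N → G(A)` -/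
noncomputable def descU : (Adeq.underline A).obj N ⟶ G where
  app X := ModuleCat.ofHom (descApp G N g X.unop.unop)
  naturality {X Y} f := by
    apply ModuleCat.hom_ext
    apply LinearMap.ext
    intro x
    change (X.unop.unop : Type u) ⊗[A] N at x
    induction x using TensorProduct.induction_on with
    | zero => exact (map_zero _).trans (map_zero _).symm
    | add x y hx hy =>
      exact (map_add _ x y).trans ((congrArg₂ (· + ·) hx hy).trans (map_add _ x y).symm)
    | tmul b n =>
      change descApp G N g Y.unop.unop ((f.unop.unop.hom b) ⊗ₜ[A] n) =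
        G.map f (descApp G N g X.unop.unop (b ⊗ₜ[A] n))
      rw [descApp_tmul, descApp_tmul]
      refine Eq.trans ?_ (PresheafOfModules.map_smul G f b _).symm
      have hf : Adeq.ptHom (unitHom X.unop.unop) ≫ f = Adeq.ptHom (unitHom Y.unop.unop) :=
        congrArg (fun t => Adeq.ptHom t) (unitHom_comp f.unop.unop)
      have h2 : G.map f (G.map (Adeq.ptHom (unitHom X.unop.unop)) (g n)) =
          G.map (Adeq.ptHom (unitHom Y.unop.unop)) (g n) :=
        (PresheafOfModules.map_comp_apply G (Adeq.ptHom (unitHom X.unop.unop)) f (g n)).symm.trans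
          (PresheafOfModules.congr_map_apply G hf (g n))
      exact congrArg (fun z : G.obj Y => (f.unop.unop.hom b : (Y.unop.unop : Type u)) • z) h2.symm

lemma descU_tmul (B : Adeq.Alg A) (b : B) (n : N) :
    (descU G N g).app (Adeq.pt B) (b ⊗ₜ[A] n : (B : Type u) ⊗[A] N) =
      b • G.map (Adeq.ptHom (unitHom B)) (g n) := rfl

end Desc

/-- morphisms out of `underline N` are determined by their values on `1 ⊗ n` over `A` -/
lemma underline_hom_ext {N : ModuleCat.{u + 1} A} {G : Adeq.MVF A}
    {φ ψ : (Adeq.underline A).obj N ⟶ G}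
    (h : ∀ n : N, φ.app (Adeq.pt (Adeq.algOf A A)) ((1 : A) ⊗ₜ[A] n : A ⊗[A] N) =
      ψ.app (Adeq.pt (Adeq.algOf A A)) ((1 : A) ⊗ₜ[A] n : A ⊗[A] N)) : φ = ψ := by
  apply PresheafOfModules.hom_ext
  intro X
  obtain ⟨⟨B⟩⟩ := X
  apply ModuleCat.hom_ext
  apply LinearMap.ext
  intro x
  change (B : Type u) ⊗[A] N at x
  induction x using TensorProduct.induction_on with
  | zero => exact (map_zero _).trans (map_zero _).symm
  | add x y hx hy =>
    exact (map_add _ x y).trans ((congrArg₂ (· + ·) hx hy).trans (map_add _ x y).symm)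
  | tmul b n =>
    have key : ∀ χ : (Adeq.underline A).obj N ⟶ G,
        χ.app (Adeq.pt B) (b ⊗ₜ[A] n : (B : Type u) ⊗[A] N) =
          b • G.map (Adeq.ptHom (unitHom B))
            (χ.app (Adeq.pt (Adeq.algOf A A)) ((1 : A) ⊗ₜ[A] n : A ⊗[A] N)) := by
      intro χ
      have h1 := PresheafOfModules.naturality_apply χ (Adeq.ptHom (unitHom B))
        ((1 : A) ⊗ₜ[A] n : A ⊗[A] N)
      have h2 : ((Adeq.underline A).obj N).map (Adeq.ptHom (unitHom B))
          ((1 : A) ⊗ₜ[A] n : A ⊗[A] N) = ((1 : B) ⊗ₜ[A] n : (B : Type u) ⊗[A] N) := by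
        refine (underline_map_apply N (unitHom B) (1 : A) n).trans ?_
        congr 1
        exact map_one _
      have h3 : (b ⊗ₜ[A] n : (B : Type u) ⊗[A] N) =
          b • ((1 : B) ⊗ₜ[A] n : (B : Type u) ⊗[A] N) := by
        rw [TensorProduct.smul_tmul', smul_eq_mul, mul_one]
      have h4 : χ.app (Adeq.pt B) (b • ((1 : B) ⊗ₜ[A] n : (B : Type u) ⊗[A] N)) =
          b • χ.app (Adeq.pt B) ((1 : B) ⊗ₜ[A] n : (B : Type u) ⊗[A] N) :=
        map_smul (χ.app (Adeq.pt B)).hom b _
      refine (congrArg (fun z => χ.app (Adeq.pt B) z) h3).trans (h4.trans ?_)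
      refine congrArg (fun z : G.obj (Adeq.pt B) => b • z) ?_
      exact (congrArg (fun z => χ.app (Adeq.pt B) z) h2.symm).trans h1
    exact (key φ).trans ((congrArg (fun z => b • G.map (Adeq.ptHom (unitHom B)) z) (h n)).trans
      (key ψ).symm)

end Groth.Agent.Lib.Helper14.AdeqYon
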