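import Groth.Agent.Lib.Helper14.RetrDelta
import Mathlib.CategoryTheory.Adjunction.Unique

universe u

set_option linter.unusedSectionVars false
set_option linter.unusedVariables false

open CategoryTheory Limits Opposite

namespace Groth.Agent.Lib.Helper14.AdjRetr

open Groth.Agent.Lib.Helper14.CechEdgeLib Groth.Agent.Lib.Helper14.RetrDelta

variable {𝒜 : Type*} [Category 𝒜] [Abelian 𝒜] {𝒜' : Type*} [Category 𝒜'] [Abelian 𝒜']
  {ℬ : Type*} [Category ℬ] [Abelian ℬ]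
  {T : DeltaF.CohDeltaFunctor 𝒜 ℬ ℕ} {T' : DeltaF.CohDeltaFunctor 𝒜' ℬ ℕ}
  {Φ : 𝒜 ⥤ 𝒜'} {Pa : 𝒜' ⥤ 𝒜} (adja : Φ ⊣ Pa)
  {Ψ : 𝒜' ⥤ 𝒜} {Pb : 𝒜 ⥤ 𝒜'} (adjb : Ψ ⊣ Pb)
  [Φ.Additive] [PreservesFiniteLimits Φ] [PreservesFiniteColimits Φ]
  [Ψ.Additive] [PreservesFiniteLimits Ψ] [PreservesFiniteColimits Ψ]
  (ρ : Pb ⋙ Pa ≅ 𝟭 𝒜)

/-- the adjunction `Φ ⋙ Ψ ⊣ 𝟭` -/
def adjComp : Φ ⋙ Ψ ⊣ 𝟭 𝒜 := (adja.comp adjb).ofNatIsoRight ρ

/-- `Φ ⋙ Ψ ≅ 𝟭` -/
def kap : Φ ⋙ Ψ ≅ 𝟭 𝒜 := Adjunction.leftAdjointUniq (adjComp adja adjb ρ) Adjunction.id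

lemma unit_kap (G : 𝒜) :
    adja.unit.app G ≫ Pa.map (adjb.unit.app (Φ.obj G)) ≫ ρ.hom.app (Ψ.obj (Φ.obj G)) ≫
      (kap adja adjb ρ).hom.app G = 𝟙 G := by
  have h := Adjunction.unit_leftAdjointUniq_hom_app (adjComp adja adjb ρ) Adjunction.id G
  simpa [kap, adjComp] using h

include adja adjb in
theorem exists_retraction_adj (hT : T.IsUniversal) (hT' : T'.IsUniversal)
    (μa : Pa ⋙ T.F 0 ⟶ T'.F 0) (μb : Pb ⋙ T'.F 0 ⟶ T.F 0)
    (hμ : ∀ M : 𝒜, μa.app (Pb.obj M) ≫ μb.app M = (T.F 0).map (ρ.hom.app M))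
    (q : ℕ) (G : 𝒜) :
    ∃ (i : (T.F q).obj G ⟶ (T'.F q).obj (Φ.obj G)) (r : (T'.F q).obj (Φ.obj G) ⟶ (T.F q).obj G),
      i ≫ r = 𝟙 _ := by
  let t : T.F 0 ⟶ Φ ⋙ T'.F 0 :=
    { app := fun G => (T.F 0).map (adja.unit.app G) ≫ μa.app (Φ.obj G)
      naturality := fun G G' g => by
        have h1 := adja.unit.naturality g
        have h2 := μa.naturality (Φ.map g)
        simp only [Functor.comp_map, Functor.id_map, Functor.comp_obj, Functor.id_obj] at h1 h2 ⊢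
        rw [Category.assoc, ← h2, ← Category.assoc, ← Category.assoc, ← Functor.map_comp,
          ← Functor.map_comp, h1] }
  let t' : T'.F 0 ⟶ Ψ ⋙ T.F 0 :=
    { app := fun G => (T'.F 0).map (adjb.unit.app G) ≫ μb.app (Ψ.obj G)
      naturality := fun G G' g => by
        have h1 := adjb.unit.naturality g
        have h2 := μb.naturality (Ψ.map g)
        simp only [Functor.comp_map, Functor.id_map, Functor.comp_obj, Functor.id_obj] at h1 h2 ⊢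
        rw [Category.assoc, ← h2, ← Category.assoc, ← Category.assoc, ← Functor.map_comp,
          ← Functor.map_comp, h1] }
  refine exists_retraction Φ Ψ (kap adja adjb ρ) hT hT' t t' ?_ q G
  intro G
  show ((T.F 0).map (adja.unit.app G) ≫ μa.app (Φ.obj G)) ≫
    ((T'.F 0).map (adjb.unit.app (Φ.obj G)) ≫ μb.app (Ψ.obj (Φ.obj G))) ≫
      (T.F 0).map ((kap adja adjb ρ).hom.app G) = 𝟙 _
  have h2 := μa.naturality (adjb.unit.app (Φ.obj G))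
  simp only [Functor.comp_map, Functor.comp_obj, Functor.id_obj] at h2
  have h3 := hμ (Ψ.obj (Φ.obj G))
  have h4 := congrArg (T.F 0).map (unit_kap adja adjb ρ G)
  simp only [Functor.map_comp] at h4
  refine Eq.trans ?_ (h4.trans ((T.F 0).map_id G))
  simp only [Category.assoc]
  rw [← reassoc_of% h2, reassoc_of% h3]

end Groth.Agent.Lib.Helper14.AdjRetr
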