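import Mathlib.Tactic
import Mathlib.CategoryTheory.Sites.Sheafification
import Mathlib.CategoryTheory.Sites.LocallyBijective
import Mathlib.CategoryTheory.Sites.Continuous
import Mathlib.CategoryTheory.Sites.Whiskering
import Mathlib.CategoryTheory.Sites.Abelian
import Mathlib.Algebra.Category.Grp.FilteredColimits
import Mathlib.CategoryTheory.Limits.FunctorCategory.Basic
import Mathlib.Algebra.Category.Grp.Colimits
import Mathlib.Algebra.Category.Grp.Limits
import Mathlib.Algebra.Category.Grp.Zero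
import Mathlib.Algebra.Category.ModuleCat.Sheaf.Abelian

/-!
# Pushforward along an almost cocontinuous functor preserves colimits of abelian sheaves
-/

set_option autoImplicit false

namespace Groth.Agent.Lib.Helper14.AlmostCocont

open CategoryTheory Limits Opposite

section Refl
universe v₁ v₂ u₁ u₂ w w'
variable {P : Type u₁} [Category.{v₁} P] {S : Type u₂} [Category.{v₂} S]
  {a : P ⥤ S} {ι : S ⥤ P} (adj : a ⊣ ι) [ι.Full] [ι.Faithful]
  {I : Type w} [Category.{w'} I] [HasColimitsOfShape I P] (F : I ⥤ S) (c : Cocone F)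

variable (ι) in
/-- the canonical comparison from the colimit computed in `P` -/
noncomputable def δ : colimit (F ⋙ ι) ⟶ ι.obj c.pt := colimit.desc (F ⋙ ι) (ι.mapCocone c)

include adj in
lemma isColimit_iff_isIso_map_δ : Nonempty (IsColimit c) ↔ IsIso (a.map (δ ι F c)) := by
  have : PreservesColimitsOfSize.{w', w} a := adj.leftAdjoint_preservesColimits
  let e : (F ⋙ ι) ⋙ a ≅ F := Functor.isoWhiskerLeft F (asIso adj.counit) ≪≫ F.rightUnitor
  let c₂ : Cocone F := (Cocone.precompose e.inv).obj (a.mapCocone (colimit.cocone (F ⋙ ι)))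
  have h₂ : IsColimit c₂ :=
    (IsColimit.precomposeInvEquiv e _).symm (isColimitOfPreserves a (colimit.isColimit _))
  have hθ : h₂.desc c = a.map (δ ι F c) ≫ adj.counit.app c.pt := by
    apply h₂.hom_ext
    intro i
    rw [h₂.fac]
    have h1 : c₂.ι.app i = inv (adj.counit.app (F.obj i)) ≫ a.map (colimit.ι (F ⋙ ι) i) := by
      simp [c₂, e]
    rw [h1, Category.assoc, ← Category.assoc (a.map _), ← a.map_comp]
    have h2 : colimit.ι (F ⋙ ι) i ≫ δ ι F c = ι.map (c.ι.app i) := by
      simp [δ]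
    rw [h2]
    have h3 : a.map (ι.map (c.ι.app i)) ≫ adj.counit.app c.pt =
        adj.counit.app (F.obj i) ≫ c.ι.app i := adj.counit.naturality (c.ι.app i)
    rw [h3, IsIso.inv_hom_id_assoc]
  constructor
  · rintro ⟨hc⟩
    have h1 : IsIso (h₂.desc c) := by
      have : h₂.desc c = (h₂.coconePointUniqueUpToIso hc).hom := rfl
      rw [this]
      infer_instance
    rw [hθ] at h1
    exact IsIso.of_isIso_comp_right _ (adj.counit.app c.pt)
  · intro h
    have h1 : IsIso (h₂.desc c) := by
      rw [hθ]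
      infer_instance
    exact ⟨IsColimit.ofPointIso h₂⟩

end Refl

section Main
universe u
variable {C D : Type u} [SmallCategory C] [SmallCategory D]
  (J : GrothendieckTopology C) (K : GrothendieckTopology D) (u : C ⥤ D)

/-- almost cocontinuity -/
def IsAlmostCocont : Prop :=
  ∀ (U : C) (R : Sieve (u.obj U)), R ∈ K (u.obj U) →
    ∃ R' : Sieve U, R' ∈ J U ∧
      ∀ ⦃V : C⦄ (g : V ⟶ U), R' g → (⊥ : Sieve (u.obj V)) ∈ K (u.obj V) ∨ R (u.map g)

variable {J K u}

lemma locSurj_whisker (hu : IsAlmostCocont J K u) {G H : Dᵒᵖ ⥤ AddCommGrpCat.{u}} (δ : G ⟶ H)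
    [Presheaf.IsLocallySurjective K δ]
    (hH : ∀ V : D, (⊥ : Sieve V) ∈ K V → Subsingleton (ToType (H.obj (op V)))) :
    Presheaf.IsLocallySurjective J (Functor.whiskerLeft u.op δ) := by
  constructor
  intro U s
  obtain ⟨R', hR', h⟩ := hu U _ (Presheaf.imageSieve_mem K δ (U := op (u.obj U)) s)
  refine J.superset_covering ?_ hR'
  intro V g hg
  rcases h g hg with h0 | h1
  · have := hH _ h0
    exact ⟨(0 : G.obj (op (u.obj V))), Subsingleton.elim _ _⟩
  · exact h1

lemma locInj_whisker (hu : IsAlmostCocont J K u) {G H : Dᵒᵖ ⥤ AddCommGrpCat.{u}} (δ : G ⟶ H)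
    [Presheaf.IsLocallyInjective K δ]
    (hG : ∀ V : D, (⊥ : Sieve V) ∈ K V → Subsingleton (ToType (G.obj (op V)))) :
    Presheaf.IsLocallyInjective J (Functor.whiskerLeft u.op δ) := by
  constructor
  intro U x y hxy
  obtain ⟨R', hR', h⟩ := hu U.unop _
    (Presheaf.equalizerSieve_mem K δ (X := op (u.obj U.unop)) x y hxy)
  refine J.superset_covering ?_ hR'
  intro V g hg
  rcases h g hg with h0 | h1
  · have := hG _ h0
    exact Subsingleton.elim _ _
  · exact h1

/-- sections of an abelian sheaf over an object covered by the empty sieve vanish -/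
lemma subsingleton_of_sheaf (Q : Sheaf K AddCommGrpCat.{u}) (V : D) (hV : (⊥ : Sieve V) ∈ K V) :
    Subsingleton (ToType (Q.obj.obj (op V))) := by
  have h1 := (Presheaf.isSheaf_iff_isSheaf_forget K Q.obj (forget AddCommGrpCat.{u})).1 Q.property
  have h2 := ((isSheaf_iff_isSheaf_of_type K _).1 h1).isSeparated _ hV
  constructor
  intro a b
  exact h2.ext (fun W f hf => hf.elim)

/-- a colimit of presheaves vanishing on `V` vanishes on `V` -/
lemma subsingleton_colimit {I : Type u} [SmallCategory I] (T : I ⥤ Dᵒᵖ ⥤ AddCommGrpCat.{u}) (V : D)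
    (hT : ∀ i, Subsingleton (ToType ((T.obj i).obj (op V)))) :
    Subsingleton (ToType ((colimit T).obj (op V))) := by
  have hc := isColimitOfPreserves ((evaluation Dᵒᵖ AddCommGrpCat.{u}).obj (op V)) (colimit.isColimit T)
  have hz : IsZero ((colimit T).obj (op V)) := by
    rw [IsZero.iff_id_eq_zero]
    apply hc.hom_ext
    intro i
    have hi : IsZero ((T.obj i).obj (op V)) := by
      have := hT i
      exact AddCommGrpCat.isZero_of_subsingleton _
    exact hi.eq_of_src _ _
  exact AddCommGrpCat.subsingleton_of_isZero hz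

variable [u.IsContinuous J K]

/-- pushforward of abelian sheaves along an almost cocontinuous functor preserves colimits -/
theorem preservesColimitsOfShape_pushforward (hu : IsAlmostCocont J K u) (I : Type u) [SmallCategory I] :
    PreservesColimitsOfShape I (u.sheafPushforwardContinuous AddCommGrpCat.{u} J K) := by
  constructor
  intro F
  constructor
  intro c hc
  let us := u.sheafPushforwardContinuous AddCommGrpCat.{u} J K
  let Wh := (Functor.whiskeringLeft Cᵒᵖ Dᵒᵖ AddCommGrpCat.{u}).obj u.op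
  -- the comparison downstairs is inverted by sheafification
  have h1 : IsIso ((presheafToSheaf K AddCommGrpCat.{u}).map (δ (sheafToPresheaf K _) F c)) :=
    (isColimit_iff_isIso_map_δ (sheafificationAdjunction K AddCommGrpCat.{u}) F c).1 ⟨hc⟩
  have hW : K.W (δ (sheafToPresheaf K _) F c) := (K.W_iff _).2 h1
  obtain ⟨hi, hs⟩ := (K.W_iff_isLocallyBijective _).1 hW
  have hG : ∀ V : D, (⊥ : Sieve V) ∈ K V →
      Subsingleton (ToType ((colimit (F ⋙ sheafToPresheaf K AddCommGrpCat.{u})).obj (op V))) :=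
    fun V hV => subsingleton_colimit _ V (fun i => subsingleton_of_sheaf (F.obj i) V hV)
  have hH : ∀ V : D, (⊥ : Sieve V) ∈ K V →
      Subsingleton (ToType (((sheafToPresheaf K AddCommGrpCat.{u}).obj c.pt).obj (op V))) :=
    fun V hV => subsingleton_of_sheaf c.pt V hV
  have hi' := locInj_whisker hu (δ (sheafToPresheaf K _) F c) hG
  have hs' := locSurj_whisker hu (δ (sheafToPresheaf K _) F c) hH
  let δW : Wh.obj (colimit (F ⋙ sheafToPresheaf K AddCommGrpCat.{u})) ⟶
      (sheafToPresheaf J AddCommGrpCat.{u}).obj (us.obj c.pt) := Wh.map (δ (sheafToPresheaf K _) F c)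
  have hW' : J.W δW := (J.W_iff_isLocallyBijective _).2 ⟨hi', hs'⟩
  have h2 : IsIso ((presheafToSheaf J AddCommGrpCat.{u}).map δW) := (J.W_iff _).1 hW'
  -- identify with the comparison upstairs
  let γ : colimit ((F ⋙ sheafToPresheaf K AddCommGrpCat.{u}) ⋙ Wh) ≅
      Wh.obj (colimit (F ⋙ sheafToPresheaf K AddCommGrpCat.{u})) :=
    (preservesColimitIso Wh (F ⋙ sheafToPresheaf K AddCommGrpCat.{u})).symm
  have h3 : δ (sheafToPresheaf J _) (F ⋙ us) (us.mapCocone c) = γ.hom ≫ δW := by
    apply colimit.hom_ext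
    intro i
    have e1 : colimit.ι ((F ⋙ sheafToPresheaf K AddCommGrpCat.{u}) ⋙ Wh) i ≫ γ.hom =
        Wh.map (colimit.ι (F ⋙ sheafToPresheaf K AddCommGrpCat.{u}) i) :=
      ι_preservesColimitIso_inv Wh _ i
    have e2 : colimit.ι ((F ⋙ us) ⋙ sheafToPresheaf J AddCommGrpCat.{u}) i ≫
        δ (sheafToPresheaf J _) (F ⋙ us) (us.mapCocone c) =
        (sheafToPresheaf J _).map (us.map (c.ι.app i)) := by
      simp [δ]
    have e3 : colimit.ι (F ⋙ sheafToPresheaf K AddCommGrpCat.{u}) i ≫ δ (sheafToPresheaf K _) F c =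
        (sheafToPresheaf K _).map (c.ι.app i) := by
      simp [δ]
    have e4 : Wh.map (colimit.ι (F ⋙ sheafToPresheaf K AddCommGrpCat.{u}) i) ≫ δW =
        Wh.map ((sheafToPresheaf K _).map (c.ι.app i)) := by
      rw [← e3]
      exact (Wh.map_comp _ _).symm
    rw [e2]
    erw [reassoc_of% e1]
    rw [e4]
    rfl
  have h4 : IsIso ((presheafToSheaf J AddCommGrpCat.{u}).map
      (δ (sheafToPresheaf J _) (F ⋙ us) (us.mapCocone c))) := by
    have h4' : IsIso ((presheafToSheaf J AddCommGrpCat.{u}).map (γ.hom ≫ δW)) := by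
      rw [Functor.map_comp]
      infer_instance
    rw [h3]
    exact h4'
  exact (isColimit_iff_isIso_map_δ (sheafificationAdjunction J AddCommGrpCat.{u})
    (F ⋙ us) (us.mapCocone c)).2 h4

end Main

end Groth.Agent.Lib.Helper14.AlmostCocont
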