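import Mathlib

/-!
# Isometries of an alternating perfect form have determinant one

For a matrix `A = C - Cᵀ` (alternating) with unit determinant over a commutative ring and `G`
with `Gᵀ A G = A`, `det G = 1`.  Proof: `A ⊕ (-A)` is congruent to the standard symplectic
matrix `J` by an explicit block matrix `P`, and `G ⊕ 1` preserves `A ⊕ (-A)`; apply
Mathlib's `SymplecticGroup.det_eq_one`.
-/

namespace Groth.Agent.Lib.Helper14.AltDet

open Matrix

variable {R : Type*} [CommRing R] {l : Type*} [Fintype l] [DecidableEq l]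

theorem det_eq_one_of_alt (A C G : Matrix l l R) (hA : A = C - Cᵀ) (hdet : IsUnit A.det)
    (hG : Gᵀ * A * G = A) : G.det = 1 := by
  have hAt : Aᵀ = -A := by rw [hA]; simp
  set Ai := A⁻¹ with hAi
  have h1 : A * Ai = 1 := Matrix.mul_nonsing_inv A hdet
  have h2 : Ai * A = 1 := Matrix.nonsing_inv_mul A hdet
  have hAit : Aiᵀ = -Ai := by
    have e1 : Aiᵀ * Aᵀ = 1 := by rw [← transpose_mul, h1, transpose_one]
    rw [hAt] at e1
    have e2 : -Aiᵀ * A = 1 := by rw [neg_mul, ← mul_neg]; exact e1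
    have : -Aiᵀ = Ai := by
      calc -Aiᵀ = -Aiᵀ * (A * Ai) := by rw [h1, mul_one]
        _ = (-Aiᵀ * A) * Ai := by rw [mul_assoc]
        _ = Ai := by rw [e2, one_mul]
    exact neg_eq_iff_eq_neg.mp this
  set V := Aiᵀ * Cᵀ * Ai with hV
  have hVV : V - Vᵀ = Ai := by
    have : Vᵀ = Aiᵀ * C * Ai := by
      rw [hV]; simp only [transpose_mul, transpose_transpose, mul_assoc]
    rw [this, hV]
    have : Aiᵀ * Cᵀ * Ai - Aiᵀ * C * Ai = -(Aiᵀ * (C - Cᵀ) * Ai) := by noncomm_ring
    rw [this, ← hA, hAit, neg_mul, neg_mul, neg_neg, h2, one_mul]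
  set P : Matrix (l ⊕ l) (l ⊕ l) R := fromBlocks 1 (V - Ai) 1 V with hP
  set At : Matrix (l ⊕ l) (l ⊕ l) R := fromBlocks A 0 0 (-A) with hAtdef
  set Gt : Matrix (l ⊕ l) (l ⊕ l) R := fromBlocks G 0 0 1 with hGt
  have hJ : Pᵀ * At * P = J l R := by
    rw [hP, hAtdef, fromBlocks_transpose, fromBlocks_multiply, fromBlocks_multiply, J]
    congr 1
    · simp
    · simp only [transpose_one, one_mul, mul_zero, add_zero, zero_add]
      have : A * (V - Ai) + -A * V = -(A * Ai) := by noncomm_ring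
      rw [this, h1]
    · simp only [mul_zero, add_zero, zero_add, mul_one]
      have : (V - Ai)ᵀ * A + Vᵀ * -A = -(Aiᵀ * A) := by
        rw [transpose_sub]; noncomm_ring
      rw [this, hAit, neg_mul, neg_neg, h2]
    · simp only [mul_zero, add_zero, zero_add]
      have e : (V - Ai)ᵀ * A * (V - Ai) + Vᵀ * -A * V
          = -(Vᵀ * (A * Ai)) - (Aiᵀ * A) * V + Aiᵀ * (A * Ai) := by
        rw [transpose_sub]; noncomm_ring
      rw [e, h1, hAit, neg_mul, neg_mul, h2, mul_one, one_mul, mul_one]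
      rw [← hVV]; abel
  have hdetP : IsUnit P.det := by
    rw [hP, det_fromBlocks_one₁₁]
    have : V - 1 * (V - Ai) = Ai := by rw [one_mul]; abel
    rw [this]
    have : A.det * Ai.det = 1 := by rw [← det_mul, h1, det_one]
    exact IsUnit.of_mul_eq_one_right _ this
  have hPi : P * P⁻¹ = 1 := Matrix.mul_nonsing_inv P hdetP
  have hPi' : P⁻¹ * P = 1 := Matrix.nonsing_inv_mul P hdetP
  have hGtA : Gtᵀ * At * Gt = At := by
    rw [hGt, hAtdef, fromBlocks_transpose, fromBlocks_multiply, fromBlocks_multiply]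
    congr 1 <;> simp [hG]
  have hmem : P⁻¹ * Gt * P ∈ symplecticGroup l R := by
    rw [SymplecticGroup.mem_iff']
    calc (P⁻¹ * Gt * P)ᵀ * J l R * (P⁻¹ * Gt * P)
        = Pᵀ * Gtᵀ * ((P * P⁻¹)ᵀ * At * (P * P⁻¹)) * Gt * P := by
          rw [← hJ]; simp only [transpose_mul, mul_assoc]
      _ = Pᵀ * (Gtᵀ * At * Gt) * P := by
          rw [hPi]; simp only [transpose_one, one_mul, mul_one, mul_assoc]
      _ = J l R := by rw [hGtA, hJ]
  have hd := SymplecticGroup.det_eq_one hmem
  rw [det_mul, det_mul, mul_comm, ← mul_assoc, ← det_mul, hPi, det_one, one_mul] at hd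
  rw [hGt, det_fromBlocks_zero₁₂, det_one, mul_one] at hd
  exact hd

end Groth.Agent.Lib.Helper14.AltDet
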