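import Mathlib
import Groth.Agent.Lib.Helper26.HalfDisc

/-!
# Alternating matrices in the kernel of a semiregular polar matrix vanish (helper14)

* `vecMul_eq_zero_adjugate`: `v ᵥ* A = 0 → v i * adj A m j = v j * adj A m i`.
* `trUC_general`: `tr(U adj P) = n * halfDisc` for odd `n`.
* `alt_eq_zero`: for odd `n`, unit half-discriminant, `T` alternating with `T * P = 0` is zero.
-/

namespace Groth.Agent.Lib.Helper14.AltKer

open Matrix QuadGrp Groth.Agent.Lib.Helper26.HalfDisc

variable {n : Type*} [Fintype n] [DecidableEq n] {R : Type*} [CommRing R]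

/-- If `v ᵥ* A = 0` then `v i * adj A m j = v j * adj A m i`. -/
theorem vecMul_eq_zero_adjugate (A : Matrix n n R) (v : n → R) (hv : v ᵥ* A = 0) (i j m : n) :
    v i * A.adjugate m j = v j * A.adjugate m i := by
  by_cases hij : i = j
  · subst hij; rfl
  set b : n → R := Pi.single m 1 with hb
  set M := A.updateRow j b with hM
  have hMj : M j = b := by rw [hM, Matrix.updateRow_self]
  have hMk : ∀ k, k ≠ j → M k = A k := fun k hk => by rw [hM, Matrix.updateRow_ne hk]
  have hA0 : ∑ k, v k • A k = 0 := by
    funext c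
    have := congrFun hv c
    simpa [Matrix.vecMul, dotProduct, Finset.sum_apply] using this
  have hsum : ∑ k, v k • M k = v j • b + (-v j) • A j := by
    have h1 : ∀ k, v k • M k = v k • A k + (if k = j then v j • b + (-v j) • A j else 0) := by
      intro k
      by_cases hk : k = j
      · subst hk; rw [hMj, if_pos rfl]; simp
      · rw [hMk k hk, if_neg hk, add_zero]
    simp_rw [h1, Finset.sum_add_distrib, Finset.sum_ite_eq', Finset.mem_univ, if_true]
    rw [hA0, zero_add]
  have h2 := Matrix.det_updateRow_sum M i v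
  rw [hsum, Matrix.det_updateRow_add, Matrix.det_updateRow_smul, Matrix.det_updateRow_smul] at h2
  have hz : (M.updateRow i b).det = 0 := by
    apply Matrix.det_zero_of_row_eq hij
    rw [Matrix.updateRow_self, Matrix.updateRow_ne (Ne.symm hij), hMj]
  have hsw : M.updateRow i (A j) = (A.updateRow i b).submatrix (Equiv.swap i j) id := by
    ext k c
    simp only [Matrix.submatrix_apply, id]
    by_cases hki : k = i
    · subst hki
      rw [Matrix.updateRow_self, Equiv.swap_apply_left, Matrix.updateRow_ne (Ne.symm hij)]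
    · by_cases hkj : k = j
      · subst hkj
        rw [Matrix.updateRow_ne hki, hMj, Equiv.swap_apply_right, Matrix.updateRow_self]
      · rw [Matrix.updateRow_ne hki, hMk k hkj, Equiv.swap_apply_of_ne_of_ne hki hkj,
          Matrix.updateRow_ne hki]
  rw [hz, mul_zero, zero_add, hsw, Matrix.det_permute, Equiv.Perm.sign_swap hij] at h2
  have e1 : A.adjugate m j = M.det := by rw [Matrix.adjugate_apply]
  have e2 : A.adjugate m i = (A.updateRow i b).det := by rw [Matrix.adjugate_apply]
  rw [e1, e2]
  rw [smul_eq_mul] at h2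
  rw [← h2]
  simp

section Alt

variable (P T : Matrix n n R) (hPs : Pᵀ = P) (hT0 : ∀ i, T i i = 0) (hTa : ∀ i j, T i j = - T j i)
  (hTP : T * P = 0)

include hTP in
theorem L1 (l i j m : n) : T l i * P.adjugate m j = T l j * P.adjugate m i := by
  apply vecMul_eq_zero_adjugate P (T l)
  funext c
  have := congrFun (congrFun hTP l) c
  simpa [Matrix.mul_apply, Matrix.vecMul, dotProduct] using this

include hTP hT0 in
theorem L2 (l i m : n) : T l i * P.adjugate m l = 0 := by
  rw [L1 P T hTP l i l m, hT0, zero_mul]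

include hTP hT0 hTa in
theorem L2' (l i m : n) : T l i * P.adjugate m i = 0 := by
  rw [hTa l i, neg_mul, L2 P T hT0 hTP i l m, neg_zero]

include hTP hT0 hTa in
theorem L4 (l i k j : n) : T l i * (P.adjugate k j * P.adjugate k j) = 0 := by
  rw [← mul_assoc, L1 P T hTP l i j k, mul_right_comm, L2' P T hT0 hTa hTP l j k, zero_mul]

include hTP in
theorem L5 (l i : n) : P.det * T l i = 0 := by
  have h : T * P * P.adjugate = 0 := by rw [hTP, Matrix.zero_mul]
  rw [Matrix.mul_assoc, Matrix.mul_adjugate] at h
  have := congrFun (congrFun h l) i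
  rw [mul_comm]
  simpa [Matrix.mul_apply, Matrix.smul_apply, Matrix.one_apply] using this

end Alt


section Semireg

variable {R : Type*} [CommRing R] {n : ℕ}

theorem sq_sum_mul_eq_zero {ι : Type*} (F : Finset ι) (x : ι → R) (t : R) (h2 : 2 * t = 0)
    (hx : ∀ s ∈ F, x s * x s * t = 0) : (∑ s ∈ F, x s) * (∑ s ∈ F, x s) * t = 0 := by
  classical
  induction F using Finset.induction_on with
  | empty => simp
  | insert s F hs ih =>
    rw [Finset.sum_insert hs]
    have h1 := hx s (Finset.mem_insert_self s F)
    have h3 := ih (fun s' hs' => hx s' (Finset.mem_insert_of_mem hs'))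
    linear_combination h1 + h3 + x s * (∑ s ∈ F, x s) * h2

theorem polMat_transpose (a : Sym2 (Fin n) → R) : (polMat a)ᵀ = polMat a := by
  rw [polMat_eq, Matrix.transpose_add, Matrix.transpose_transpose, add_comm]

theorem map_polMat {S : Type*} [CommRing S] (φ : R →+* S) (a : Sym2 (Fin n) → R) :
    (polMat a).map φ = polMat (φ ∘ a) := by
  ext i j
  simp only [polMat, Matrix.map_apply, Matrix.of_apply, Function.comp_apply]
  split_ifs <;> simp [map_ofNat]

/-- the trace expression `tr(U adj P)` -/
def trUC (a : Sym2 (Fin n) → R) : R :=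
  ∑ p : Fin n × Fin n, triMat a p.1 p.2 * (polMat a).adjugate p.2 p.1

theorem trUC_eq_trace (a : Sym2 (Fin n) → R) :
    trUC a = Matrix.trace (triMat a * (polMat a).adjugate) := by
  rw [trUC, Matrix.trace, Fintype.sum_prod_type]
  simp [Matrix.mul_apply]

theorem two_mul_trUC (a : Sym2 (Fin n) → R) : 2 * trUC a = (n : R) * (polMat a).det := by
  have h1 : Matrix.trace (polMat a * (polMat a).adjugate) = (n : R) * (polMat a).det := by
    rw [Matrix.mul_adjugate, Matrix.trace_smul, Matrix.trace_one, Fintype.card_fin, smul_eq_mul,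
      mul_comm]
  rw [← h1]
  have h3 : Matrix.trace (polMat a * (polMat a).adjugate) =
      Matrix.trace (triMat a * (polMat a).adjugate) +
        Matrix.trace ((triMat a)ᵀ * (polMat a).adjugate) := by
    conv_lhs => rw [show polMat a * (polMat a).adjugate =
      (triMat a + (triMat a)ᵀ) * (polMat a).adjugate by rw [← polMat_eq]]
    rw [Matrix.add_mul, Matrix.trace_add]
  rw [h3]
  have h2 : Matrix.trace ((triMat a)ᵀ * (polMat a).adjugate) =
      Matrix.trace (triMat a * (polMat a).adjugate) := by
    rw [← Matrix.trace_transpose, Matrix.transpose_mul, Matrix.transpose_transpose,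
      Matrix.adjugate_transpose, polMat_transpose, Matrix.trace_mul_comm]
  rw [h2, trUC_eq_trace, two_mul]

theorem trUC_of_regular (hn : Odd n) (h2 : ∀ x : R, 2 * x = 0 → x = 0) (a : Sym2 (Fin n) → R) :
    trUC a = (n : R) * MvPolynomial.eval₂ (Int.castRingHom R) a (halfDiscUniv n) := by
  have := h2 (trUC a - (n : R) * MvPolynomial.eval₂ (Int.castRingHom R) a (halfDiscUniv n)) (by
    rw [mul_sub, two_mul_trUC, ← two_mul_eval_halfDiscUniv hn]; ring)
  exact sub_eq_zero.mp this

theorem trUC_general (hn : Odd n) (a : Sym2 (Fin n) → R) :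
    trUC a = (n : R) * MvPolynomial.eval₂ (Int.castRingHom R) a (halfDiscUniv n) := by
  classical
  let U := MvPolynomial (Sym2 (Fin n)) ℤ
  let aU : Sym2 (Fin n) → U := fun s => MvPolynomial.X s
  have hU := trUC_of_regular (R := U) hn (by
    intro x hx
    rcases mul_eq_zero.mp hx with h | h
    · exact absurd h two_ne_zero
    · exact h) aU
  let φ : U →+* R := MvPolynomial.eval₂Hom (Int.castRingHom R) a
  have hφa : φ ∘ aU = a := by
    ext s
    change φ (MvPolynomial.X s) = _
    rw [MvPolynomial.coe_eval₂Hom, MvPolynomial.eval₂_X]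
  have hcomp : φ.comp (Int.castRingHom U) = Int.castRingHom R := RingHom.ext_int _ _
  have e1 : φ (MvPolynomial.eval₂ (Int.castRingHom U) aU (halfDiscUniv n)) =
      MvPolynomial.eval₂ (Int.castRingHom R) (φ ∘ aU) (halfDiscUniv n) := by
    rw [MvPolynomial.eval₂_comp_left φ, hcomp]
  have e2 : φ (trUC aU) = trUC a := by
    rw [trUC, trUC, map_sum]
    refine Finset.sum_congr rfl (fun p _ => ?_)
    rw [map_mul]
    have h1 : φ (triMat aU p.1 p.2) = triMat a p.1 p.2 := by
      rw [← hφa, ← map_triMat, Matrix.map_apply]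
    have h2 : φ ((polMat aU).adjugate p.2 p.1) = (polMat a).adjugate p.2 p.1 := by
      have := RingHom.map_adjugate φ (polMat aU)
      rw [RingHom.mapMatrix_apply, RingHom.mapMatrix_apply, map_polMat, hφa] at this
      rw [← this, Matrix.map_apply]
    rw [h1, h2]
  have := congrArg φ hU
  rw [e2, map_mul, e1, hφa, map_natCast] at this
  exact this


theorem alt_eq_zero (hn : Odd n) (a : Sym2 (Fin n) → R)
    (hu : IsUnit (MvPolynomial.eval₂ (Int.castRingHom R) a (halfDiscUniv n)))
    (T : Matrix (Fin n) (Fin n) R) (hT0 : ∀ i, T i i = 0) (hTa : ∀ i j, T i j = - T j i)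
    (hTP : T * polMat a = 0) : T = 0 := by
  ext l i
  rw [Matrix.zero_apply]
  set t := T l i with ht
  set hd := MvPolynomial.eval₂ (Int.castRingHom R) a (halfDiscUniv n) with hhd
  have h5 : 2 * hd * t = 0 := by
    rw [two_mul_eval_halfDiscUniv hn]
    exact L5 (polMat a) T hTP l i
  obtain ⟨u, hu'⟩ := hu
  have h2t : 2 * t = 0 := by
    have : (u : R) * (2 * t) = 0 := by rw [hu']; linear_combination h5
    exact (Units.mul_right_eq_zero u).mp this
  have hsq : trUC a * trUC a * t = 0 := by
    unfold trUC
    apply sq_sum_mul_eq_zero _ _ _ h2t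
    intro p _
    have := L4 (polMat a) T hT0 hTa hTP l i p.2 p.1
    linear_combination (triMat a p.1 p.2) ^ 2 * this
  rw [trUC_general hn, ← hhd] at hsq
  have hn2 : (n : R) * (n : R) * t = 0 := by
    have : (u : R) * ((u : R) * ((n : R) * (n : R) * t)) = 0 := by
      rw [hu']; linear_combination hsq
    exact (Units.mul_right_eq_zero u).mp ((Units.mul_right_eq_zero u).mp this)
  obtain ⟨q, hq⟩ := hn
  rw [hq] at hn2
  push_cast at hn2
  linear_combination hn2 - (2 * (q : R) ^ 2 + 2 * q) * h2t

end Semireg

end Groth.Agent.Lib.Helper14.AltKer
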