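import Mathlib.RingTheory.Flat.FaithfullyFlat.Basic
import Mathlib.RingTheory.TensorProduct.Basic
import Mathlib.LinearAlgebra.TensorProduct.Associator

universe u v w

open TensorProduct

namespace Groth.Agent.Lib.Helper14.AmitsurMod

variable (R : Type u) (B : Type v) (P : Type w) [CommRing R] [CommRing B] [Algebra R B]
  [AddCommGroup P] [Module R P]

/-- `r ⊗ p ↦ r1 ⊗ p` -/
noncomputable def f₀ : R ⊗[R] P →ₗ[R] B ⊗[R] P := (Algebra.linearMap R B).rTensor P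

/-- `b ⊗ p ↦ (b ⊗ 1) ⊗ p - (1 ⊗ b) ⊗ p` -/
noncomputable def g₀ : B ⊗[R] P →ₗ[R] (B ⊗[R] B) ⊗[R] P :=
  ((Algebra.TensorProduct.includeLeft : B →ₐ[R] B ⊗[R] B).toLinearMap -
    (Algebra.TensorProduct.includeRight : B →ₐ[R] B ⊗[R] B).toLinearMap).rTensor P

/-- `c ⊗ (b ⊗ p) ↦ cb ⊗ (1 ⊗ p)` -/
noncomputable def s₀ : B ⊗[R] (B ⊗[R] P) →ₗ[R] B ⊗[R] (R ⊗[R] P) :=
  (LinearMap.lTensor B (TensorProduct.lid R P).symm.toLinearMap) ∘ₗ
    (LinearMap.rTensor P (LinearMap.mul' R B)) ∘ₗ (TensorProduct.assoc R B B P).symm.toLinearMap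

/-- `c ⊗ ((b₁ ⊗ b₂) ⊗ p) ↦ cb₁ ⊗ (b₂ ⊗ p)` -/
noncomputable def s₁ : B ⊗[R] ((B ⊗[R] B) ⊗[R] P) →ₗ[R] B ⊗[R] (B ⊗[R] P) :=
  (LinearMap.rTensor (B ⊗[R] P) (LinearMap.mul' R B)) ∘ₗ
    (TensorProduct.assoc R B B (B ⊗[R] P)).symm.toLinearMap ∘ₗ
      (LinearMap.lTensor B (TensorProduct.assoc R B B P).toLinearMap)

lemma s₀_tmul (c b : B) (p : P) : s₀ R B P (c ⊗ₜ (b ⊗ₜ p)) = (c * b) ⊗ₜ ((1 : R) ⊗ₜ p) := by
  simp [s₀]

lemma s₁_tmul (c b₁ b₂ : B) (p : P) :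
    s₁ R B P (c ⊗ₜ ((b₁ ⊗ₜ b₂) ⊗ₜ p)) = (c * b₁) ⊗ₜ (b₂ ⊗ₜ p) := by
  simp [s₁]

lemma s₀_comp : s₀ R B P ∘ₗ (f₀ R B P).lTensor B = LinearMap.id := by
  ext c p
  simp [s₀_tmul, f₀]

lemma homotopy : (f₀ R B P).lTensor B ∘ₗ s₀ R B P - s₁ R B P ∘ₗ (g₀ R B P).lTensor B =
    LinearMap.id := by
  ext c b p
  simp [s₀_tmul, s₁_tmul, f₀, g₀]


lemma g₀_comp_f₀ : g₀ R B P ∘ₗ f₀ R B P = 0 := by
  ext r p
  simp [f₀, g₀, Algebra.algebraMap_eq_smul_one, TensorProduct.smul_tmul']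

variable [Module.FaithfullyFlat R B]

theorem f₀_injective : Function.Injective (f₀ R B P) := by
  rw [← Module.FaithfullyFlat.lTensor_injective_iff_injective R B]
  intro x y h
  have hx := LinearMap.congr_fun (s₀_comp R B P) x
  have hy := LinearMap.congr_fun (s₀_comp R B P) y
  simp only [LinearMap.comp_apply, LinearMap.id_apply] at hx hy
  rw [← hx, ← hy, h]

theorem exact : Function.Exact (f₀ R B P) (g₀ R B P) := by
  apply Module.FaithfullyFlat.lTensor_reflects_exact R B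
  intro y
  constructor
  · intro hy
    have h := LinearMap.congr_fun (homotopy R B P) y
    simp only [LinearMap.sub_apply, LinearMap.comp_apply, LinearMap.id_apply] at h
    rw [hy, map_zero, sub_zero] at h
    exact ⟨_, h⟩
  · rintro ⟨x, rfl⟩
    rw [← LinearMap.comp_apply, ← LinearMap.lTensor_comp, g₀_comp_f₀, LinearMap.lTensor_zero]
    rfl

/-- faithfully flat descent for elements of modules: the first two steps of the Amitsur complex -/
theorem mem_range_of_eq (z : B ⊗[R] P)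
    (hz : (Algebra.TensorProduct.includeLeft : B →ₐ[R] B ⊗[R] B).toLinearMap.rTensor P z =
      (Algebra.TensorProduct.includeRight : B →ₐ[R] B ⊗[R] B).toLinearMap.rTensor P z) :
    ∃ x : R ⊗[R] P, (Algebra.linearMap R B).rTensor P x = z := by
  have h : g₀ R B P z = 0 := by
    simp only [g₀, LinearMap.rTensor_sub, LinearMap.sub_apply]
    rw [hz, sub_self]
  exact ((exact R B P) z).1 h

end Groth.Agent.Lib.Helper14.AmitsurMod
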