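import Groth.Agent.Lib.Helper14.AmitsurMod

universe u v w

open TensorProduct

namespace Groth.Agent.Lib.Helper14.AmitsurMod

variable (R : Type u) (B : Type v) (P : Type w) [CommRing R] [CommRing B] [Algebra R B]
  [AddCommGroup P] [Module R P]

/-- `b₁ ⊗ b₂ ↦ (1 ⊗ b₁) ⊗ b₂` -/
noncomputable def d0 : B ⊗[R] B →ₐ[R] (B ⊗[R] B) ⊗[R] B :=
  Algebra.TensorProduct.map (Algebra.TensorProduct.includeRight : B →ₐ[R] B ⊗[R] B) (AlgHom.id R B)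

/-- `b₁ ⊗ b₂ ↦ (b₁ ⊗ 1) ⊗ b₂` -/
noncomputable def d1 : B ⊗[R] B →ₐ[R] (B ⊗[R] B) ⊗[R] B :=
  Algebra.TensorProduct.map (Algebra.TensorProduct.includeLeft : B →ₐ[R] B ⊗[R] B) (AlgHom.id R B)

/-- `b₁ ⊗ b₂ ↦ (b₁ ⊗ b₂) ⊗ 1` -/
noncomputable def d2 : B ⊗[R] B →ₐ[R] (B ⊗[R] B) ⊗[R] B :=
  Algebra.TensorProduct.includeLeft

/-- `((b₁ ⊗ b₂) ⊗ b₃) ⊗ p ↦ b₁ ⊗ ((b₂ ⊗ b₃) ⊗ p)` -/
noncomputable def α3 : ((B ⊗[R] B) ⊗[R] B) ⊗[R] P →ₗ[R] B ⊗[R] ((B ⊗[R] B) ⊗[R] P) :=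
  (LinearMap.lTensor B (TensorProduct.assoc R B B P).symm.toLinearMap) ∘ₗ
    (TensorProduct.assoc R B B (B ⊗[R] P)).toLinearMap ∘ₗ
      (TensorProduct.assoc R (B ⊗[R] B) B P).toLinearMap

lemma α3_tmul (b₁ b₂ b₃ : B) (p : P) :
    α3 R B P (((b₁ ⊗ₜ b₂) ⊗ₜ b₃) ⊗ₜ p) = b₁ ⊗ₜ ((b₂ ⊗ₜ b₃) ⊗ₜ p) := by
  simp [α3]

/-- `c ⊗ (b ⊗ x) ↦ cb ⊗ x` -/
noncomputable def S2 : B ⊗[R] (B ⊗[R] ((B ⊗[R] B) ⊗[R] P)) →ₗ[R] B ⊗[R] ((B ⊗[R] B) ⊗[R] P) :=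
  (LinearMap.rTensor ((B ⊗[R] B) ⊗[R] P) (LinearMap.mul' R B)) ∘ₗ
    (TensorProduct.assoc R B B ((B ⊗[R] B) ⊗[R] P)).symm.toLinearMap

lemma S2_tmul (c b : B) (x : (B ⊗[R] B) ⊗[R] P) : S2 R B P (c ⊗ₜ (b ⊗ₜ x)) = (c * b) ⊗ₜ x := by
  simp [S2]

/-- the components of the second differential, transported -/
noncomputable def E0 : (B ⊗[R] B) ⊗[R] P →ₗ[R] B ⊗[R] ((B ⊗[R] B) ⊗[R] P) :=
  α3 R B P ∘ₗ (d0 R B).toLinearMap.rTensor P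

/-- the components of the second differential, transported -/
noncomputable def E1 : (B ⊗[R] B) ⊗[R] P →ₗ[R] B ⊗[R] ((B ⊗[R] B) ⊗[R] P) :=
  α3 R B P ∘ₗ (d1 R B).toLinearMap.rTensor P

/-- the components of the second differential, transported -/
noncomputable def E2 : (B ⊗[R] B) ⊗[R] P →ₗ[R] B ⊗[R] ((B ⊗[R] B) ⊗[R] P) :=
  α3 R B P ∘ₗ (d2 R B).toLinearMap.rTensor P

/-- the components of `g₀` -/
noncomputable def GL : B ⊗[R] P →ₗ[R] (B ⊗[R] B) ⊗[R] P :=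
  (Algebra.TensorProduct.includeLeft : B →ₐ[R] B ⊗[R] B).toLinearMap.rTensor P

/-- the components of `g₀` -/
noncomputable def GR : B ⊗[R] P →ₗ[R] (B ⊗[R] B) ⊗[R] P :=
  (Algebra.TensorProduct.includeRight : B →ₐ[R] B ⊗[R] B).toLinearMap.rTensor P

/-- the second differential, transported -/
noncomputable def H₀ : (B ⊗[R] B) ⊗[R] P →ₗ[R] B ⊗[R] ((B ⊗[R] B) ⊗[R] P) :=
  E0 R B P - E1 R B P + E2 R B P

lemma g₀_eq : g₀ R B P = GL R B P - GR R B P := by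
  simp only [g₀, GL, GR, LinearMap.rTensor_sub]

lemma E0_tmul (b₁ b₂ : B) (p : P) : E0 R B P ((b₁ ⊗ₜ b₂) ⊗ₜ p) = (1 : B) ⊗ₜ ((b₁ ⊗ₜ b₂) ⊗ₜ p) := by
  simp only [E0, LinearMap.comp_apply, LinearMap.rTensor_tmul, AlgHom.toLinearMap_apply, d0,
    Algebra.TensorProduct.map_tmul, Algebra.TensorProduct.includeRight_apply, AlgHom.coe_id, id,
    α3_tmul]

lemma E1_tmul (b₁ b₂ : B) (p : P) : E1 R B P ((b₁ ⊗ₜ b₂) ⊗ₜ p) = b₁ ⊗ₜ (((1 : B) ⊗ₜ b₂) ⊗ₜ p) := by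
  simp only [E1, LinearMap.comp_apply, LinearMap.rTensor_tmul, AlgHom.toLinearMap_apply, d1,
    Algebra.TensorProduct.map_tmul, Algebra.TensorProduct.includeLeft_apply, AlgHom.coe_id, id,
    α3_tmul]

lemma E2_tmul (b₁ b₂ : B) (p : P) : E2 R B P ((b₁ ⊗ₜ b₂) ⊗ₜ p) = b₁ ⊗ₜ ((b₂ ⊗ₜ (1 : B)) ⊗ₜ p) := by
  simp only [E2, LinearMap.comp_apply, LinearMap.rTensor_tmul, AlgHom.toLinearMap_apply, d2,
    Algebra.TensorProduct.includeLeft_apply, α3_tmul]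

lemma GL_tmul (b : B) (p : P) : GL R B P (b ⊗ₜ p) = (b ⊗ₜ (1 : B)) ⊗ₜ p := by
  simp only [GL, LinearMap.rTensor_tmul, AlgHom.toLinearMap_apply,
    Algebra.TensorProduct.includeLeft_apply]

lemma GR_tmul (b : B) (p : P) : GR R B P (b ⊗ₜ p) = ((1 : B) ⊗ₜ b) ⊗ₜ p := by
  simp only [GR, LinearMap.rTensor_tmul, AlgHom.toLinearMap_apply,
    Algebra.TensorProduct.includeRight_apply]

lemma e0 : S2 R B P ∘ₗ (E0 R B P).lTensor B = LinearMap.id := by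
  ext c b₁ b₂ p
  change S2 R B P ((E0 R B P).lTensor B (c ⊗ₜ ((b₁ ⊗ₜ b₂) ⊗ₜ p))) = c ⊗ₜ ((b₁ ⊗ₜ b₂) ⊗ₜ p)
  rw [LinearMap.lTensor_tmul, E0_tmul, S2_tmul, mul_one]

lemma e1 : S2 R B P ∘ₗ (E1 R B P).lTensor B = (GR R B P).lTensor B ∘ₗ s₁ R B P := by
  ext c b₁ b₂ p
  change S2 R B P ((E1 R B P).lTensor B (c ⊗ₜ ((b₁ ⊗ₜ b₂) ⊗ₜ p))) =
    (GR R B P).lTensor B (s₁ R B P (c ⊗ₜ ((b₁ ⊗ₜ b₂) ⊗ₜ p)))
  rw [LinearMap.lTensor_tmul, E1_tmul, S2_tmul, s₁_tmul, LinearMap.lTensor_tmul, GR_tmul]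

lemma e2 : S2 R B P ∘ₗ (E2 R B P).lTensor B = (GL R B P).lTensor B ∘ₗ s₁ R B P := by
  ext c b₁ b₂ p
  change S2 R B P ((E2 R B P).lTensor B (c ⊗ₜ ((b₁ ⊗ₜ b₂) ⊗ₜ p))) =
    (GL R B P).lTensor B (s₁ R B P (c ⊗ₜ ((b₁ ⊗ₜ b₂) ⊗ₜ p)))
  rw [LinearMap.lTensor_tmul, E2_tmul, S2_tmul, s₁_tmul, LinearMap.lTensor_tmul, GL_tmul]

lemma homotopy1 : S2 R B P ∘ₗ (H₀ R B P).lTensor B - (g₀ R B P).lTensor B ∘ₗ s₁ R B P =
    LinearMap.id := by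
  rw [H₀, g₀_eq, LinearMap.lTensor_add, LinearMap.lTensor_sub, LinearMap.lTensor_sub,
    LinearMap.comp_add, LinearMap.comp_sub, LinearMap.sub_comp, e0, e1, e2]
  abel

lemma H₀_comp_g₀ : H₀ R B P ∘ₗ g₀ R B P = 0 := by
  have a0 : E0 R B P ∘ₗ GL R B P = E2 R B P ∘ₗ GR R B P := by
    ext b p
    change E0 R B P (GL R B P (b ⊗ₜ p)) = E2 R B P (GR R B P (b ⊗ₜ p))
    rw [GL_tmul, GR_tmul, E0_tmul, E2_tmul]
  have a1 : E0 R B P ∘ₗ GR R B P = E1 R B P ∘ₗ GR R B P := by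
    ext b p
    change E0 R B P (GR R B P (b ⊗ₜ p)) = E1 R B P (GR R B P (b ⊗ₜ p))
    rw [GR_tmul, E0_tmul, E1_tmul]
  have a2 : E1 R B P ∘ₗ GL R B P = E2 R B P ∘ₗ GL R B P := by
    ext b p
    change E1 R B P (GL R B P (b ⊗ₜ p)) = E2 R B P (GL R B P (b ⊗ₜ p))
    rw [GL_tmul, E1_tmul, E2_tmul]
  rw [H₀, g₀_eq, LinearMap.comp_sub, LinearMap.add_comp, LinearMap.add_comp, LinearMap.sub_comp,
    LinearMap.sub_comp, a0, a1, a2]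
  abel

variable [Module.FaithfullyFlat R B]

theorem exact1 : Function.Exact (g₀ R B P) (H₀ R B P) := by
  refine Module.FaithfullyFlat.lTensor_reflects_exact R B (g₀ R B P) (H₀ R B P) ?_
  intro y
  constructor
  · intro hy
    have h := LinearMap.congr_fun (homotopy1 R B P) y
    simp only [LinearMap.sub_apply, LinearMap.comp_apply, LinearMap.id_apply] at h
    rw [hy, map_zero, zero_sub] at h
    exact ⟨-(s₁ R B P y), by rw [map_neg]; exact h⟩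
  · rintro ⟨x, rfl⟩
    rw [← LinearMap.comp_apply, ← LinearMap.lTensor_comp, H₀_comp_g₀, LinearMap.lTensor_zero]
    rfl

/-- degree one exactness of the Amitsur complex, in additive form -/
theorem cocycle_exact (c : (B ⊗[R] B) ⊗[R] P)
    (hc : (d0 R B).toLinearMap.rTensor P c + (d2 R B).toLinearMap.rTensor P c =
      (d1 R B).toLinearMap.rTensor P c) :
    ∃ m : B ⊗[R] P, g₀ R B P m = c := by
  apply ((exact1 R B P) c).1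
  have h1 : E0 R B P c + E2 R B P c = E1 R B P c :=
    (map_add (α3 R B P) _ _).symm.trans (congrArg (α3 R B P) hc)
  change E0 R B P c - E1 R B P c + E2 R B P c = 0
  rw [← h1]
  abel


/-- faithfully flat descent of membership in the image of a linear map -/
theorem mem_range_of_lTensor {Q : Type*} [AddCommGroup Q] [Module R Q] (φ : P →ₗ[R] Q)
    (n : R ⊗[R] Q) (m : B ⊗[R] P) (h : φ.lTensor B m = f₀ R B Q n) :
    ∃ m₀ : R ⊗[R] P, φ.lTensor R m₀ = n := by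
  have hex : Function.Exact φ (LinearMap.range φ).mkQ := LinearMap.exact_map_mkQ_range φ
  have hB : Function.Exact (φ.lTensor B) ((LinearMap.range φ).mkQ.lTensor B) :=
    lTensor_exact B hex (Submodule.mkQ_surjective _)
  have hR : Function.Exact (φ.lTensor R) ((LinearMap.range φ).mkQ.lTensor R) :=
    lTensor_exact R hex (Submodule.mkQ_surjective _)
  have h1 : (LinearMap.range φ).mkQ.lTensor B (f₀ R B Q n) = 0 := by
    rw [← h]; exact hB.apply_apply_eq_zero m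
  have h2 : f₀ R B _ ((LinearMap.range φ).mkQ.lTensor R n) =
      (LinearMap.range φ).mkQ.lTensor B (f₀ R B Q n) := by
    simp only [f₀]
    rw [← LinearMap.comp_apply, ← LinearMap.comp_apply, LinearMap.rTensor_comp_lTensor,
      LinearMap.lTensor_comp_rTensor]
  have h3 : (LinearMap.range φ).mkQ.lTensor R n = 0 :=
    f₀_injective R B _ (by rw [h2, h1, map_zero])
  exact (hR n).1 h3

end Groth.Agent.Lib.Helper14.AmitsurMod
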