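import Mathlib
import Groth.Prelude.Def_Red2
import Groth.Agent.Lib.Helper14.MTHom5

set_option autoImplicit false

namespace Groth.Agent.Lib.Helper14.MTQuotA

open CategoryTheory MonoidalCategory CartesianMonoidalCategory MonObj GrpObj AlgebraicGeometry
open CategoryTheory.Limits TensorProduct
open Groth.Agent.Lib.Helper14 GrpBridge

universe u

section alg

variable {R HM HN HK : Type u} [CommRing R] [CommRing HM] [CommRing HN] [CommRing HK]
  [Algebra R HM] [Algebra R HN] [Algebra R HK]
  {M N K : Type} [AddCommGroup M] [AddCommGroup N] [AddCommGroup K]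
  (bM : Module.Basis M R HM) (bN : Module.Basis N R HN) (bK : Module.Basis K R HK)
  (hM0 : bM 0 = 1) (hMadd : ∀ m m', bM (m + m') = bM m * bM m')
  (hN0 : bN 0 = 1) (hNadd : ∀ n n', bN (n + n') = bN n * bN n')
  (φ₀ : M →+ N) (jK : K →+ M) (hφ : Function.Surjective φ₀) (hex : jK.range = φ₀.ker)
  (fφ : HM →ₐ[R] HN) (hfφ : ∀ m, fφ (bM m) = bN (φ₀ m))
  (fj : HK →ₐ[R] HM) (hfj : ∀ k, fj (bK k) = bM (jK k))
  (ε : HK →ₐ[R] R) (hε : ∀ k, ε (bK k) = 1)

include hN0 hNadd in
/-- algebra homomorphisms out of an algebra with a multiplicative basis -/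
lemma exists_algHom (C : Type u) [CommRing C] [Algebra R C] (χ : N → C) (h0 : χ 0 = 1)
    (hadd : ∀ m n, χ (m + n) = χ m * χ n) : ∃ ψ : HN →ₐ[R] C, ∀ m, ψ (bN m) = χ m := by
  let f : HN →ₗ[R] C := bN.constr R χ
  have hf : ∀ m, f (bN m) = χ m := fun m => bN.constr_basis R χ m
  have hbil : (LinearMap.mul R HN).compr₂ f = (LinearMap.mul R C).compl₁₂ f f := by
    apply bN.ext
    intro m
    apply bN.ext
    intro n
    simp only [LinearMap.compr₂_apply, LinearMap.compl₁₂_apply, LinearMap.mul_apply', ← hNadd, hf,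
      hadd]
  refine ⟨AlgHom.ofLinearMap f ?_ ?_, fun m => hf m⟩
  · rw [← hN0, hf, h0]
  · intro x y
    exact LinearMap.congr_fun (LinearMap.congr_fun hbil x) y

include hM0 hMadd hN0 hNadd hφ hex hfφ in
/-- the group algebra of a quotient group as a quotient of the group algebra: the universal
property -/
theorem exists_unique_desc (C : Type u) [CommRing C] [Algebra R C] (g : HM →ₐ[R] C)
    (hg : ∀ k, g (bM (jK k)) = 1) : ∃! d : HN →ₐ[R] C, d.comp fφ = g := by
  have hker : ∀ m, φ₀ m = 0 → g (bM m) = 1 := by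
    intro m hm
    have : m ∈ jK.range := by rw [hex]; exact hm
    obtain ⟨k, rfl⟩ := this
    exact hg k
  have hsame : ∀ m m', φ₀ m = φ₀ m' → g (bM m) = g (bM m') := by
    intro m m' h
    have h1 : m = m' + (m - m') := by abel
    rw [h1, hMadd, map_mul, hker (m - m') (by rw [map_sub, h, sub_self]), _root_.mul_one]
  let σ : N → M := Function.surjInv hφ
  have hσ : ∀ n, φ₀ (σ n) = n := Function.surjInv_eq hφ
  obtain ⟨d, hd⟩ := exists_algHom bN hN0 hNadd C (fun n => g (bM (σ n)))
    (by
      show g (bM (σ 0)) = 1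
      exact hker _ (hσ 0))
    (by
      intro n n'
      show g (bM (σ (n + n'))) = g (bM (σ n)) * g (bM (σ n'))
      rw [← map_mul, ← hMadd]
      exact hsame _ _ (by rw [hσ, map_add, hσ, hσ]))
  have hdf : d.comp fφ = g := by
    apply AlgHom.toLinearMap_injective
    apply bM.ext
    intro m
    show d (fφ (bM m)) = g (bM m)
    rw [hfφ, hd]
    exact hsame _ _ (hσ _)
  refine ⟨d, hdf, fun d' hd' => ?_⟩
  apply AlgHom.toLinearMap_injective
  apply bN.ext
  intro n
  show d' (bN n) = d (bN n)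
  rw [hd, ← hd']
  show d' (bN n) = d' (fφ (bM (σ n)))
  rw [hfφ, hσ]

include hM0 hMadd hN0 hNadd hφ hex hfφ hfj hε in
/-- the group algebra of a quotient group is a pushout -/
theorem isPushout :
    IsPushout (CommRingCat.ofHom (fj : HK →+* HM)) (CommRingCat.ofHom (ε : HK →+* R))
      (CommRingCat.ofHom (fφ : HM →+* HN)) (CommRingCat.ofHom (algebraMap R HN)) := by
  have hjφ : ∀ k, φ₀ (jK k) = 0 := by
    intro k
    have : jK k ∈ φ₀.ker := by rw [← hex]; exact ⟨k, rfl⟩
    exact this
  have hw : (fφ.comp fj : HK →ₐ[R] HN) = (Algebra.ofId R HN).comp ε := by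
    apply AlgHom.toLinearMap_injective
    apply bK.ext
    intro k
    show fφ (fj (bK k)) = algebraMap R HN (ε (bK k))
    rw [hfj, hfφ, hjφ, hN0, hε, map_one]
  have key : ∀ s : PushoutCocone (CommRingCat.ofHom (fj : HK →+* HM))
      (CommRingCat.ofHom (ε : HK →+* R)),
      ∃ d : CommRingCat.of HN ⟶ s.pt, CommRingCat.ofHom (fφ : HM →+* HN) ≫ d = s.inl ∧
        CommRingCat.ofHom (algebraMap R HN) ≫ d = s.inr ∧
        ∀ d' : CommRingCat.of HN ⟶ s.pt, CommRingCat.ofHom (fφ : HM →+* HN) ≫ d' = s.inl →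
          CommRingCat.ofHom (algebraMap R HN) ≫ d' = s.inr → d' = d := by
    intro s
    letI : Algebra R s.pt := s.inr.hom.toAlgebra
    have hcond : ∀ x : HK, s.inl.hom (fj x) = s.inr.hom (ε x) := fun x =>
      congrArg (fun t => t.hom x) s.condition
    let g : HM →ₐ[R] s.pt :=
      { s.inl.hom with
        commutes' := by
          intro r
          show s.inl.hom (algebraMap R HM r) = s.inr.hom r
          rw [← fj.commutes r, hcond, ε.commutes]
          rfl }
    have hg : ∀ k, g (bM (jK k)) = 1 := by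
      intro k
      show s.inl.hom (bM (jK k)) = 1
      rw [← hfj, hcond, hε, map_one]
    obtain ⟨d, hd, hduniq⟩ := exists_unique_desc bM bN hM0 hMadd hN0 hNadd φ₀ jK hφ hex fφ hfφ
      s.pt g hg
    refine ⟨CommRingCat.ofHom (d : HN →+* s.pt), ?_, ?_, ?_⟩
    · ext x
      exact AlgHom.congr_fun hd x
    · ext r
      exact d.commutes r
    · intro d' h1 h2
      let d'' : HN →ₐ[R] s.pt :=
        { d'.hom with
          commutes' := by
            intro r
            exact congrArg (fun t => t.hom r) h2 }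
      have : d'' = d := hduniq d'' (by
        ext x
        exact congrArg (fun t => t.hom x) h1)
      ext x
      exact AlgHom.congr_fun this x
  choose desc h1 h2 h3 using key
  refine ⟨⟨?_⟩, ⟨PushoutCocone.IsColimit.mk _ desc h1 h2 (fun s m hm1 hm2 => h3 s m hm1 hm2)⟩⟩
  ext x
  exact AlgHom.congr_fun hw x

end alg

end Groth.Agent.Lib.Helper14.MTQuotA
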