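import Mathlib
import Groth.Prelude.Def_Red2
import Groth.Prelude.Def_RedSub
import Groth.Prelude.Def_AlgGrp
import Groth.Agent.Lib.Helper14.MTQuotA
import Groth.Agent.Lib.Helper14.MTFix3
import Groth.Agent.Lib.Helper4.QuotAffine
import Groth.Agent.Lib.Helper4.KummerSeq

set_option autoImplicit false

namespace Groth.Agent.Lib.Helper14.MTQuotB

open CategoryTheory MonoidalCategory CartesianMonoidalCategory MonObj GrpObj AlgebraicGeometry
open CategoryTheory.Limits TensorProduct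
open Groth.Agent.Lib.Helper14 GrpBridge

universe u

section uniq

variable {S : Scheme.{u}} {G H : Over S} [GrpObj G] [GrpObj H] (i : H ⟶ G)

/-- a quotient morphism factors through any other quotient morphism -/
lemma exists_desc {Q₁ Q₂ : Over S} (q₁ : G ⟶ Q₁) (q₂ : G ⟶ Q₂) [EffectiveEpi q₁.left]
    (h₁ : IsPullback (fst G H) ((G ◁ i) ≫ μ[G]) q₁ q₁)
    (h₂ : fst G H ≫ q₂ = ((G ◁ i) ≫ μ[G]) ≫ q₂) :
    ∃ ψ : Q₁ ⟶ Q₂, q₁ ≫ ψ = q₂ := by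
  have sq := h₁.map (Over.forget S)
  simp only [Over.forget_map] at sq
  have hco : ∀ {Z : Scheme.{u}} (g₁ g₂ : Z ⟶ G.left), g₁ ≫ q₁.left = g₂ ≫ q₁.left →
      g₁ ≫ q₂.left = g₂ ≫ q₂.left := by
    intro Z g₁ g₂ hg
    have h2 : (fst G H).left ≫ q₂.left = ((G ◁ i) ≫ μ[G]).left ≫ q₂.left :=
      congrArg (fun m => m.left) h₂
    obtain ⟨l, hl1, hl2⟩ : ∃ l : Z ⟶ (G ⊗ H).left, l ≫ (fst G H).left = g₁ ∧
        l ≫ ((G ◁ i) ≫ μ[G]).left = g₂ :=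
      ⟨sq.lift g₁ g₂ hg, sq.lift_fst _ _ _, sq.lift_snd _ _ _⟩
    rw [← hl1, ← hl2, Category.assoc, Category.assoc, h2]
  let ψ₀ : Q₁.left ⟶ Q₂.left := EffectiveEpi.desc q₁.left q₂.left hco
  have hψ₀ : q₁.left ≫ ψ₀ = q₂.left := EffectiveEpi.fac q₁.left q₂.left hco
  haveI : Epi q₁.left := inferInstance
  have hw : ψ₀ ≫ Q₂.hom = Q₁.hom := by
    rw [← cancel_epi q₁.left, ← Category.assoc, hψ₀, Over.w, Over.w]
  refine ⟨Over.homMk ψ₀ hw, ?_⟩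
  ext1
  exact hψ₀

/-- two quotients of a group by the same subgroup are isomorphic -/
theorem exists_iso {Q₁ Q₂ : Over S} (q₁ : G ⟶ Q₁) (q₂ : G ⟶ Q₂) [EffectiveEpi q₁.left]
    [EffectiveEpi q₂.left]
    (h₁ : IsPullback (fst G H) ((G ◁ i) ≫ μ[G]) q₁ q₁)
    (h₂ : IsPullback (fst G H) ((G ◁ i) ≫ μ[G]) q₂ q₂) :
    ∃ ψ : Q₁ ≅ Q₂, q₁ ≫ ψ.hom = q₂ := by
  obtain ⟨a, ha⟩ := exists_desc i q₁ q₂ h₁ h₂.w
  obtain ⟨b, hb⟩ := exists_desc i q₂ q₁ h₂ h₁.w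
  haveI : Epi q₁.left := inferInstance
  haveI : Epi q₂.left := inferInstance
  haveI : Epi q₁ := (Over.forget S).epi_of_epi_map ‹Epi q₁.left›
  haveI : Epi q₂ := (Over.forget S).epi_of_epi_map ‹Epi q₂.left›
  refine ⟨⟨a, b, ?_, ?_⟩, ha⟩
  · rw [← cancel_epi q₁, ← Category.assoc, ha, hb, Category.comp_id]
  · rw [← cancel_epi q₂, ← Category.assoc, hb, ha, Category.comp_id]

/-- a morphism of quotients compatible with homomorphisms is a homomorphism -/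
lemma isMonHom_of_comp {Q₁ Q₂ : Over S} [GrpObj Q₁] [GrpObj Q₂] (q₁ : G ⟶ Q₁) (q₂ : G ⟶ Q₂)
    [IsMonHom q₁] [IsMonHom q₂] [Surjective q₁.left] [Flat q₁.left] (ψ : Q₁ ⟶ Q₂)
    (hψ : q₁ ≫ ψ = q₂) : IsMonHom ψ where
  one_hom := by
    rw [← IsMonHom.one_hom (f := q₁), Category.assoc, hψ, IsMonHom.one_hom]
  mul_hom := by
    haveI : Epi (q₁ ▷ G) := MTFix3.epi_whiskerRight q₁ G
    haveI : Epi (q₁ ▷ Q₁) := MTFix3.epi_whiskerRight q₁ Q₁
    haveI : Epi (Q₁ ◁ q₁) := by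
      have h : Q₁ ◁ q₁ = (β_ Q₁ G).hom ≫ (q₁ ▷ Q₁) ≫ (β_ Q₁ Q₁).inv := by
        rw [← Category.assoc, ← BraidedCategory.braiding_naturality_right, Category.assoc,
          Iso.hom_inv_id, Category.comp_id]
      rw [h]
      infer_instance
    haveI : Epi (q₁ ⊗ₘ q₁) := by
      rw [MonoidalCategory.tensorHom_def]
      infer_instance
    rw [← cancel_epi (q₁ ⊗ₘ q₁), ← Category.assoc, ← IsMonHom.mul_hom (f := q₁), Category.assoc, hψ,
      IsMonHom.mul_hom (f := q₂), ← hψ, ← Category.assoc,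
      MonoidalCategory.tensorHom_comp_tensorHom]

end uniq

end Groth.Agent.Lib.Helper14.MTQuotB
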