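import Mathlib
import Groth.Prelude.Def_Red2
import Groth.Prelude.Def_RedSub
import Groth.Prelude.Def_AlgGrp
import Groth.Agent.Lib.Helper14.MTQuotB
import Groth.Agent.Lib.Helper14.MTHom5
import Groth.Agent.S19140

set_option autoImplicit false

namespace Groth.Agent.Lib.Helper14.MTQuotC

open CategoryTheory MonoidalCategory CartesianMonoidalCategory MonObj GrpObj AlgebraicGeometry
open CategoryTheory.Limits TensorProduct
open Groth.Agent.Lib.Helper14 GrpBridge

universe u

section alg

variable (R : Type u) [CommRing R]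

/-- the spectrum of a homomorphism of bialgebras is a homomorphism of monoid schemes -/
lemma isMonHom_specHom {A A' : Type u} [CommRing A] [CommRing A'] [Bialgebra R A] [Bialgebra R A']
    (f : A →ₐc[R] A') : IsMonHom (specHom R A (f : A →ₐ[R] A')) := by
  have := ((bialgSpec (CommRingCat.of R)).map (CommBialgCat.ofHom f).op).isMonHom_hom
  exact this

variable {R}
variable {HM HN HK : Type u} [CommRing HM] [CommRing HN] [CommRing HK]
  [Bialgebra R HM] [Bialgebra R HN] [HopfAlgebra R HK]
  {M N K : Type} [AddCommGroup M] [AddCommGroup N] [AddCommGroup K]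
  (GM : MTHom1.GLB R HM M) (GN : MTHom1.GLB R HN N) (GK : MTHom1.GLB R HK K)
  (φ₀ : N →+ M) (jK : K →+ N) (hφ : Function.Surjective φ₀) (hex : jK.range = φ₀.ker)
  (fφ : HN →ₐ[R] HM) (hfφ : ∀ n, fφ (GN.b n) = GM.b (φ₀ n))
  (fj : HK →ₐ[R] HN) (hfj : ∀ k, fj (GK.b k) = GN.b (jK k))

include hφ hex hfφ hfj in
/-- the kernel square of diagonalizable groups attached to an exact sequence of character
groups -/
theorem isKernel_spec :
    AlgGrp.IsKernel (specHom R HN fφ) (specHom R HK fj) := by
  unfold AlgGrp.IsKernel
  have po := MTQuotA.isPushout GN.b GM.b GK.b GN.zero GN.add GM.zero GM.add φ₀ jK hφ hex fφ hfφ fj hfj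
    (Bialgebra.counitAlgHom R HK) (fun k => GK.ε k)
  have sq := (po.op.map Scheme.Spec).flip
  refine IsPullback.of_map (Over.forget _) ?_ ?_
  · apply Over.OverMorphism.ext
    exact sq.w
  · exact sq

include hfj in
/-- the quotient morphism of diagonalizable groups attached to an injective homomorphism of
character groups is faithfully flat -/
theorem flat_surj_spec (hj : Function.Injective jK) :
    Flat (Spec.map (CommRingCat.ofHom (fj : HK →+* HN))) ∧
      Surjective (Spec.map (CommRingCat.ofHom (fj : HK →+* HN))) := by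
  rw [flat_and_surjective_SpecMap_iff]
  have hfree := Groth.Agent.S19140.free_of_injective GK.b GN.b GN.add jK fj hfj hj
  show (fj : HK →+* HN).FaithfullyFlat
  letI : Algebra HK HN := fj.toRingHom.toAlgebra
  show Module.FaithfullyFlat HK HN
  haveI : Module.Free HK HN := hfree
  rcases subsingleton_or_nontrivial R with hsub | hnon
  · haveI : Subsingleton HK := by
      refine ⟨fun a b => ?_⟩
      rw [← one_smul R a, ← one_smul R b, Subsingleton.elim (1 : R) 0, zero_smul, zero_smul]
    refine ⟨fun m hm => ?_⟩
    exact absurd (Subsingleton.elim m ⊤) hm.ne_top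
  · haveI : Nontrivial HN := by
      refine ⟨⟨GN.b 0, 0, ?_⟩⟩
      exact GN.b.ne_zero 0
    infer_instance

end alg

section star

variable {S : Scheme.{u}} {G H : Over S}
  {B : Type u} [CommRing B] (k : Spec (CommRingCat.of B) ⟶ S)
  {HM HN : Type u} [CommRing HM] [CommRing HN]
  (R : Type u) [CommRing R] [Algebra B R]

/-- the trivialization of a base change of a chart -/
noncomputable def starIso [Algebra B HM]
    (εG : Red.bc k G ≅ (Spec (.of HM)).asOver (Spec (.of B))) :
    Red.bc (Spec.map (CommRingCat.ofHom (algebraMap B R)) ≫ k) G ≅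
        (Spec (.of (R ⊗[B] HM))).asOver (Spec (.of R)) :=
  (Over.pullbackComp (Spec.map (CommRingCat.ofHom (algebraMap B R))) k).app G ≪≫
    (Over.pullback (Spec.map (CommRingCat.ofHom (algebraMap B R)))).mapIso εG ≪≫
      MTHom2.bcSpec B R HM

theorem starIso_natural [Algebra B HM] [Algebra B HN]
    (εG : Red.bc k G ≅ (Spec (.of HM)).asOver (Spec (.of B)))
    (εH : Red.bc k H ≅ (Spec (.of HN)).asOver (Spec (.of B)))
    (u : G ⟶ H) (f : HN →ₐ[B] HM)
    (hf : εG.inv ≫ (Over.pullback k).map u ≫ εH.hom = specHom B HN f) :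
    (Over.pullback (Spec.map (CommRingCat.ofHom (algebraMap B R)) ≫ k)).map u ≫
        (starIso k R εH).hom =
      (starIso k R εG).hom ≫
        specHom R (R ⊗[B] HN) (Algebra.TensorProduct.map (AlgHom.id R R) f) := by
  unfold starIso
  set r := Spec.map (CommRingCat.ofHom (algebraMap B R)) with hr
  let pc := Over.pullbackComp r k
  have nat := pc.hom.naturality u
  have h1 : (Over.pullback k).map u ≫ εH.hom = εG.hom ≫ specHom B HN f := by
    rw [← hf, Iso.hom_inv_id_assoc]
  have h2 : (Over.pullback r).map (specHom B HN f) ≫ (MTHom2.bcSpec B R HN).hom =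
      (MTHom2.bcSpec B R HM).hom ≫
        specHom R (R ⊗[B] HN) (Algebra.TensorProduct.map (AlgHom.id R R) f) := by
    rw [← Iso.inv_comp_eq, ← Category.assoc, MTHom2.bcSpec_natural, Category.assoc, Iso.inv_hom_id,
      Category.comp_id]
  simp only [Iso.trans_hom, Iso.app_hom, Functor.mapIso_hom, Category.assoc]
  rw [← Category.assoc, nat, Category.assoc]
  congr 1
  simp only [Functor.comp_map]
  rw [← Category.assoc, ← Functor.map_comp, h1, Functor.map_comp, Category.assoc, h2]

open scoped Obj in
theorem starIso_isMonHom [GrpObj G] [Bialgebra B HM]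
    (εG : Red.bc k G ≅ (Spec (.of HM)).asOver (Spec (.of B))) [IsMonHom εG.hom] :
    IsMonHom (starIso k R εG).hom := by
  unfold starIso
  have h1 := MTDescent.isMonHom_app_comp
    (Over.pullbackComp (Spec.map (CommRingCat.ofHom (algebraMap B R))) k).hom G
  have h3 : IsMonHom (MTHom2.bcSpec B R HM).hom := by
    have h : IsMonHom ((pullbackSymmetry .. ≪≫ pullbackSpecIso' B R HM).hom.asOver
        (Spec (.of R))) := inferInstance
    exact h
  simp only [Iso.trans_hom, Iso.app_hom, Functor.mapIso_hom]
  haveI := h1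
  haveI := h3
  haveI h23 : IsMonHom ((Over.pullback (Spec.map (CommRingCat.ofHom (algebraMap B R)))).map εG.hom ≫
      (MTHom2.bcSpec B R HM).hom) := inferInstance
  exact @instIsMonHomComp _ _ _ _ _ _ _
    (Functor.monObjObj (F := Over.pullback (Spec.map (CommRingCat.ofHom (algebraMap B R))))
      ((Over.pullback k).obj G)) _ _ _ h1 h23

end star

end Groth.Agent.Lib.Helper14.MTQuotC
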