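import Mathlib
import Groth.Prelude.Def_Red2
import Groth.Prelude.Def_RedSub
import Groth.Prelude.Def_AlgGrp
import Groth.Agent.Lib.Helper14.MTQuotC

set_option autoImplicit false

namespace Groth.Agent.Lib.Helper14.MTQuotD

open CategoryTheory MonoidalCategory CartesianMonoidalCategory MonObj GrpObj AlgebraicGeometry
open CategoryTheory.Limits TensorProduct
open Groth.Agent.Lib.Helper14 GrpBridge

universe u

section bc

variable {S : Scheme.{u}} {G H Q : Over S} [GrpObj G] [GrpObj H] (i : H ⟶ G) (q : G ⟶ Q)

open scoped Obj in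
/-- base change of the quotient square -/
theorem isPullback_pullback {Z : Scheme.{u}} (g : Z ⟶ S)
    (h : IsPullback (fst G H) ((G ◁ i) ≫ μ[G]) q q) :
    IsPullback (fst ((Over.pullback g).obj G) ((Over.pullback g).obj H))
      (((Over.pullback g).obj G ◁ (Over.pullback g).map i) ≫ μ[(Over.pullback g).obj G])
      ((Over.pullback g).map q) ((Over.pullback g).map q) := by
  have h1 := h.map (Over.pullback g)
  refine IsPullback.of_iso h1 (Functor.Monoidal.μIso (Over.pullback g) G H).symm (Iso.refl _)
    (Iso.refl _) (Iso.refl _) ?_ ?_ ?_ ?_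
  · simp
  · simp [Functor.obj.μ_def]
  · simp
  · simp

open scoped Obj in
theorem isQuotient_pullback {Z : Scheme.{u}} (g : Z ⟶ S) (h : RedSub.IsQuotient i q) :
    RedSub.IsQuotient ((Over.pullback g).map i) ((Over.pullback g).map q) := by
  obtain ⟨h1, h2, h3, h4⟩ := h
  exact ⟨MTHom4.map_of_map @Surjective q g h1, MTHom4.map_of_map @Flat q g h2,
    MTHom4.map_of_map @LocallyOfFinitePresentation q g h3, isPullback_pullback i q g h4⟩

end bc

end Groth.Agent.Lib.Helper14.MTQuotD
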