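import Mathlib
import Groth.Prelude.Def_Red2
import Groth.Prelude.Def_RedSub
import Groth.Prelude.Def_AlgGrp
import Groth.Agent.Lib.Helper14.MTQuotD
import Groth.Agent.S5274

set_option autoImplicit false

namespace Groth.Agent.Lib.Helper14.MTQuotE

open CategoryTheory MonoidalCategory CartesianMonoidalCategory MonObj GrpObj AlgebraicGeometry
open CategoryTheory.Limits TensorProduct
open Groth.Agent.Lib.Helper14 GrpBridge

universe u

section alg

variable {B : Type u} [CommRing B] {HM : Type u} [CommRing HM] [Bialgebra B HM]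
  {M : Type} [AddCommGroup M]

/-- base change of a group-like basis -/
theorem glb_baseChange (GM : MTHom1.GLB B HM M) (R : Type u) [CommRing R] [Algebra B R] :
    ∃ G' : MTHom1.GLB R (R ⊗[B] HM) M, ∀ m, G'.b m = (1 : R) ⊗ₜ[B] GM.b m := by
  classical
  let b := Algebra.TensorProduct.basis R GM.b
  have hb : ∀ m, b m = (1 : R) ⊗ₜ[B] GM.b m := fun m => Algebra.TensorProduct.basis_apply _ _
  have hgl : ∀ m, Coalgebra.comul (R := R) (b m) = b m ⊗ₜ[R] b m := by
    intro m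
    rw [hb]
    simp [GM.gl]
  have hε : ∀ m, Coalgebra.counit (R := R) (b m) = 1 := by
    intro m
    rw [hb]
    simp [GM.ε]
  have hb0 : b 0 = 1 := by
    rw [hb, GM.zero]
    rfl
  have hbadd : ∀ m n, b (m + n) = b m * b n := by
    intro m n
    rw [hb, hb, hb, GM.add, Algebra.TensorProduct.tmul_mul_tmul, _root_.mul_one]
  exact ⟨⟨b, hgl, hε, hb0, hbadd⟩, hb⟩

variable {R : Type u} [CommRing R] {HK HN : Type u} [CommRing HK] [CommRing HN]
  [Bialgebra R HK] [Bialgebra R HN] {K N : Type} [AddCommGroup K] [AddCommGroup N]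

/-- homomorphisms of bialgebras with group-like bases from homomorphisms of index groups -/
theorem exists_bialgHom_of_glb (GK : MTHom1.GLB R HK K) (GN : MTHom1.GLB R HN N) (jK : K →+ N) :
    ∃ fj : HK →ₐc[R] HN, ∀ k, fj (GK.b k) = GN.b (jK k) := by
  obtain ⟨g, hg⟩ := MTQuotA.exists_algHom GK.b GK.zero GK.add HN (fun k => GN.b (jK k))
    (by rw [map_zero, GN.zero]) (by intro m n; rw [map_add, GN.add])
  refine ⟨BialgHom.ofAlgHom g ?_ ?_, hg⟩
  · apply AlgHom.toLinearMap_injective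
    apply GK.b.ext
    intro k
    simp [hg, GK.ε, GN.ε]
  · apply AlgHom.toLinearMap_injective
    apply GK.b.ext
    intro k
    simp [hg, GK.gl, GN.gl]

end alg

/-- the group structure on a base-changed diagonalizable group (found by hand: instance search
does not find it) -/
noncomputable instance grpObjSpecTensor (K₀ R : Type u) [CommRing K₀] [CommRing R] [Algebra K₀ R]
    (K : Type) [AddCommGroup K] :
    GrpObj ((Spec (CommRingCat.of (R ⊗[K₀] MonoidAlgebra K₀ (Multiplicative K)))).asOver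
      (Spec (CommRingCat.of R))) :=
  instGrpObjSpecAsOverSpec (R := CommRingCat.of R)
    (A := CommRingCat.of (R ⊗[K₀] MonoidAlgebra K₀ (Multiplicative K)))

section chart

variable {S : Scheme.{u}} {T H Q : Over S} [GrpObj T] [GrpObj H] [GrpObj Q]
  (i : H ⟶ T) [IsMonHom i] [Mono i] (q : T ⟶ Q) [IsMonHom q] (hq : RedSub.IsQuotient i q)
  {B : Type u} [CommRing B] (k : Spec (CommRingCat.of B) ⟶ S)
  {HM HN : Type u} [CommRing HM] [CommRing HN] [Bialgebra B HM] [Bialgebra B HN]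
  {M N : Type} [AddCommGroup M] [AddCommGroup N]
  (GM : MTHom1.GLB B HM M) (GN : MTHom1.GLB B HN N)
  (εH : Red.bc k H ≅ (Spec (.of HM)).asOver (Spec (.of B))) [IsMonHom εH.hom]
  (εT : Red.bc k T ≅ (Spec (.of HN)).asOver (Spec (.of B))) [IsMonHom εT.hom]
  (f : HN →ₐc[B] HM)
  (hf : εH.inv ≫ (Over.pullback k).map i ≫ εT.hom = specHom B HN (f : HN →ₐ[B] HM))

include hf hq in
open scoped Obj in
theorem chart_quot_const (K₀ : Type u) [CommRing K₀] (R : Type u) [CommRing R] [Algebra B R]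
    [Algebra K₀ R] [Nontrivial R] (φ₀ : N →+ M)
    (hconst : ∀ 𝔮 : PrimeSpectrum R, MTHom1.φP f GM GN (𝔮.comap (algebraMap B R)) = φ₀)
    (K : Type) [AddCommGroup K] (jK : K →+ N) (hj : Function.Injective jK)
    (hex : jK.range = φ₀.ker) :
    ∃ e : Red.bc (Spec.map (CommRingCat.ofHom (algebraMap B R)) ≫ k) Q ≅
        Red.bc (Spec.map (CommRingCat.ofHom (algebraMap K₀ R))) (Red.diag K₀ K),
      IsMonHom e.hom := by
  set G' : R ⊗[B] HN →ₐ[R] R ⊗[B] HM :=
    Algebra.TensorProduct.map (AlgHom.id R R) (f : HN →ₐ[B] HM) with hG'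
  have hg : ∀ n, G' ((1 : R) ⊗ₜ[B] GN.b n) = (1 : R) ⊗ₜ[B] GM.b (φ₀ n) := by
    intro n
    rw [hG', Algebra.TensorProduct.map_tmul]
    exact MTHom1.tmul_f_eq f GM GN R φ₀ hconst n
  obtain ⟨GM', hGM'⟩ := glb_baseChange GM R
  obtain ⟨GN', hGN'⟩ := glb_baseChange GN R
  obtain ⟨GK⟩ := MTHom4.exists_glb K₀ R K
  obtain ⟨fj, hfj⟩ := exists_bialgHom_of_glb GK GN' jK
  have hfφ : ∀ n, G' (GN'.b n) = GM'.b (φ₀ n) := by
    intro n
    rw [hGN', hGM', hg]
  obtain ⟨α, β, hβm, hnat⟩ : ∃ (α : Red.bc (Spec.map (CommRingCat.ofHom (algebraMap B R)) ≫ k) H ≅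
      (Spec (.of (R ⊗[B] HM))).asOver (Spec (.of R)))
      (β : Red.bc (Spec.map (CommRingCat.ofHom (algebraMap B R)) ≫ k) T ≅
      (Spec (.of (R ⊗[B] HN))).asOver (Spec (.of R))), IsMonHom β.hom ∧
      (Over.pullback (Spec.map (CommRingCat.ofHom (algebraMap B R)) ≫ k)).map i ≫ β.hom =
        α.hom ≫ specHom R (R ⊗[B] HN) G' :=
    ⟨MTQuotC.starIso k R εH, MTQuotC.starIso k R εT, MTQuotC.starIso_isMonHom k R εT,
      MTQuotC.starIso_natural k R εH εT i (f : HN →ₐ[B] HM) hf⟩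
  -- surjectivity of φ₀ from `Mono i`
  have hφ : Function.Surjective φ₀ := by
    refine (Groth.Agent.S5274.chartHyp_mono B HM HN M N GM GN f R φ₀ hconst).2 inferInstance ?_
    rw [MorphismProperty.monomorphisms.iff]
    have hm : Mono ((Over.pullback (Spec.map (CommRingCat.ofHom (algebraMap B R)) ≫ k)).map i) :=
      inferInstance
    have h1 : specHom R (R ⊗[B] HN) G' = α.inv ≫
        (Over.pullback (Spec.map (CommRingCat.ofHom (algebraMap B R)) ≫ k)).map i ≫ β.hom := by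
      rw [hnat, Iso.inv_hom_id_assoc]
    have h2 : Mono (specHom R (R ⊗[B] HN) G') := by
      rw [h1]
      infer_instance
    exact (inferInstance : Mono (specHom R (R ⊗[B] HN) G').left)
  have hker := MTQuotC.isKernel_spec (HK := R ⊗[K₀] MonoidAlgebra K₀ (Multiplicative K)) GM' GN' GK φ₀ jK hφ hex G' hfφ
    (fj : R ⊗[K₀] MonoidAlgebra K₀ (Multiplicative K) →ₐ[R] R ⊗[B] HN) hfj
  haveI hfjm : IsMonHom (specHom R (R ⊗[K₀] MonoidAlgebra K₀ (Multiplicative K))
      (fj : R ⊗[K₀] MonoidAlgebra K₀ (Multiplicative K) →ₐ[R] R ⊗[B] HN)) :=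
    MTQuotC.isMonHom_specHom R fj
  obtain ⟨π', hπ'⟩ : ∃ π' : Red.bc (Spec.map (CommRingCat.ofHom (algebraMap B R)) ≫ k) T ⟶
      (Spec (.of (R ⊗[K₀] MonoidAlgebra K₀ (Multiplicative K)))).asOver (Spec (.of R)),
      π' = β.hom ≫ specHom R (R ⊗[K₀] MonoidAlgebra K₀ (Multiplicative K))
        (fj : R ⊗[K₀] MonoidAlgebra K₀ (Multiplicative K) →ₐ[R] R ⊗[B] HN) := ⟨_, rfl⟩
  haveI : IsMonHom π' := by
    rw [hπ']
    infer_instance
  have hker' : AlgGrp.IsKernel
      ((Over.pullback (Spec.map (CommRingCat.ofHom (algebraMap B R)) ≫ k)).map i) π' := by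
    unfold AlgGrp.IsKernel at hker ⊢
    refine IsPullback.of_iso hker α.symm β.symm (Iso.refl _) (Iso.refl _) ?_ ?_ ?_ ?_
    · rw [Iso.symm_hom, Iso.symm_hom, Iso.eq_inv_comp, ← Category.assoc, ← hnat, Category.assoc,
        Iso.hom_inv_id, Category.comp_id]
    · apply toUnit_unique
    · rw [hπ']
      simp
    · exact (Category.comp_id _).trans (Category.id_comp _).symm
  have sq₂ := Groth.Agent.Lib.Helper4.QuotAffine.isPullback_of_isKernel _ π' hker'
  have sq₁ := MTQuotD.isPullback_pullback i q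
    (Spec.map (CommRingCat.ofHom (algebraMap B R)) ≫ k) hq.2.2.2
  haveI hs1 : Surjective ((Over.pullback (Spec.map (CommRingCat.ofHom (algebraMap B R)) ≫ k)).map
      q).left := MTHom4.map_of_map @Surjective q _ hq.1
  haveI hs2 : Flat ((Over.pullback (Spec.map (CommRingCat.ofHom (algebraMap B R)) ≫ k)).map
      q).left := MTHom4.map_of_map @Flat q _ hq.2.1
  haveI hs3 : LocallyOfFinitePresentation
      ((Over.pullback (Spec.map (CommRingCat.ofHom (algebraMap B R)) ≫ k)).map q).left :=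
    MTHom4.map_of_map @LocallyOfFinitePresentation q _ hq.2.2.1
  have hfs := MTQuotC.flat_surj_spec (HK := R ⊗[K₀] MonoidAlgebra K₀ (Multiplicative K)) GN' GK jK
    (fj : R ⊗[K₀] MonoidAlgebra K₀ (Multiplicative K) →ₐ[R] R ⊗[B] HN) hfj hj
  obtain ⟨fjr, hfjr⟩ : ∃ g : R ⊗[K₀] MonoidAlgebra K₀ (Multiplicative K) →+* R ⊗[B] HN,
      g = ((fj : R ⊗[K₀] MonoidAlgebra K₀ (Multiplicative K) →ₐ[R] R ⊗[B] HN) :
        R ⊗[K₀] MonoidAlgebra K₀ (Multiplicative K) →+* R ⊗[B] HN) := ⟨_, rfl⟩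
  rw [← hfjr] at hfs
  have hπl : π'.left = β.hom.left ≫ Spec.map (CommRingCat.ofHom fjr) := by
    rw [hπ', hfjr]
    rfl
  haveI : IsIso β.hom.left := by
    show IsIso ((Over.forget _).map β.hom)
    infer_instance
  have t3 : QuasiCompact (Spec.map (CommRingCat.ofHom fjr)) := inferInstance
  haveI : Flat π'.left := by
    rw [hπl]
    exact MorphismProperty.comp_mem @Flat _ _ inferInstance hfs.1
  haveI : Surjective π'.left := by
    rw [hπl]
    haveI := hfs.2
    exact ⟨(Spec.map (CommRingCat.ofHom fjr)).surjective.comp β.hom.left.surjective⟩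
  haveI : QuasiCompact π'.left := by
    rw [hπl]
    exact MorphismProperty.comp_mem @QuasiCompact _ _ inferInstance t3
  obtain ⟨ψ, hψ⟩ := MTQuotB.exists_iso
    ((Over.pullback (Spec.map (CommRingCat.ofHom (algebraMap B R)) ≫ k)).map i)
    ((Over.pullback (Spec.map (CommRingCat.ofHom (algebraMap B R)) ≫ k)).map q) π' sq₁ sq₂
  haveI : IsMonHom ψ.hom := MTQuotB.isMonHom_of_comp _ _ ψ.hom hψ
  obtain ⟨κ, hκ⟩ := MTAffine.exists_bc_spec_iso K₀ R (MonoidAlgebra K₀ (Multiplicative K))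
  haveI : IsMonHom κ.inv := inferInstance
  refine ⟨ψ ≪≫ κ.symm, ?_⟩
  dsimp only [Iso.trans_hom, Iso.symm_hom]
  infer_instance

include hf hq in
open scoped Obj in
theorem chart_quot (K₀ : Type u) [CommRing K₀] [Algebra K₀ B] (hN : AddGroup.FG N)
    (t : PrimeSpectrum B) :
    ∃ r : B, t ∈ (PrimeSpectrum.basicOpen r : Set (PrimeSpectrum B)) ∧
      ∀ (K : Type) [AddCommGroup K] (jK : K →+ N), Function.Injective jK →
        jK.range = (MTHom1.φP (f : HN →ₐc[B] HM) GM GN t).ker →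
        ∃ e : Red.bc (Spec.map (CommRingCat.ofHom (algebraMap B (Localization.Away r))) ≫ k) Q ≅
          Red.bc (Spec.map (CommRingCat.ofHom (algebraMap K₀ (Localization.Away r))))
            (Red.diag K₀ K), IsMonHom e.hom := by
  have hO := (MTHom1.isClopen_setOf f GM GN hN
    (fun ψ => ψ = MTHom1.φP f GM GN t)).isOpen
  obtain ⟨_, ⟨r, rfl⟩, htr, hrO⟩ :=
    PrimeSpectrum.isTopologicalBasis_basic_opens.exists_subset_of_mem_open
      (show t ∈ {x : PrimeSpectrum B | MTHom1.φP f GM GN x = MTHom1.φP f GM GN t} from rfl) hO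
  refine ⟨r, htr, fun K _ jK hj hex => ?_⟩
  haveI : Nontrivial (Localization.Away r) := by
    by_contra hcon
    rw [not_nontrivial_iff_subsingleton] at hcon
    have h0 : algebraMap B (Localization.Away r) 1 = 0 := Subsingleton.elim _ _
    rw [IsLocalization.map_eq_zero_iff (Submonoid.powers r)] at h0
    obtain ⟨⟨m, n, rfl⟩, hm⟩ := h0
    rw [SetLike.mem_coe, PrimeSpectrum.mem_basicOpen] at htr
    apply htr
    have : r ^ n ∈ t.asIdeal := by
      have h1 : r ^ n = 0 := by simpa using hm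
      rw [h1]
      exact Ideal.zero_mem _
    exact t.isPrime.mem_of_pow_mem n this
  refine chart_quot_const i q hq k GM GN εH εT f hf K₀ (Localization.Away r)
    (MTHom1.φP f GM GN t) (fun 𝔮 => ?_) K jK hj hex
  apply hrO
  show 𝔮.comap (algebraMap B (Localization.Away r)) ∈
    (PrimeSpectrum.basicOpen r : Set (PrimeSpectrum B))
  rw [SetLike.mem_coe, PrimeSpectrum.mem_basicOpen]
  intro hmem
  have hu : IsUnit (algebraMap B (Localization.Away r) r) :=
    IsLocalization.Away.algebraMap_isUnit r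
  exact 𝔮.isPrime.ne_top (Ideal.eq_top_of_isUnit_mem _ hmem hu)

end chart

section chartDS

variable {S : Scheme.{u}} {T H Q : Over S} [GrpObj T] [GrpObj H] [GrpObj Q]
  (i : H ⟶ T) [IsMonHom i] [Mono i] (q : T ⟶ Q) [IsMonHom q] (hq : RedSub.IsQuotient i q)

include hq in
open scoped Obj in
theorem chart_quot_diag (K₀ R : Type u) [CommRing K₀] [CommRing R] [Algebra K₀ R]
    (k : Spec (CommRingCat.of R) ⟶ S) (M N : Type) [AddCommGroup M] [AddCommGroup N]
    (hN : AddGroup.FG N)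
    (eH : Red.bc k H ≅ Red.bc (Spec.map (CommRingCat.ofHom (algebraMap K₀ R))) (Red.diag K₀ M))
    [IsMonHom eH.hom]
    (eT : Red.bc k T ≅ Red.bc (Spec.map (CommRingCat.ofHom (algebraMap K₀ R))) (Red.diag K₀ N))
    [IsMonHom eT.hom] (t : PrimeSpectrum R) :
    ∃ r : R, t ∈ (PrimeSpectrum.basicOpen r : Set (PrimeSpectrum R)) ∧ ∃ φ₀ : N →+ M,
      ∀ (K : Type) [AddCommGroup K] (jK : K →+ N), Function.Injective jK →
        jK.range = φ₀.ker →
        ∃ e : Red.bc (Spec.map (CommRingCat.ofHom (algebraMap R (Localization.Away r))) ≫ k) Q ≅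
          Red.bc (Spec.map (CommRingCat.ofHom (algebraMap K₀ (Localization.Away r))))
            (Red.diag K₀ K), IsMonHom e.hom := by
  obtain ⟨κH, hκH⟩ := MTAffine.exists_bc_spec_iso K₀ R (MonoidAlgebra K₀ (Multiplicative M))
  obtain ⟨κT, hκT⟩ := MTAffine.exists_bc_spec_iso K₀ R (MonoidAlgebra K₀ (Multiplicative N))
  obtain ⟨εH, hεH⟩ : ∃ ε : Red.bc k H ≅ (Spec (.of (R ⊗[K₀]
      MonoidAlgebra K₀ (Multiplicative M)))).asOver (Spec (.of R)), IsMonHom ε.hom := by
    refine ⟨eH ≪≫ κH, ?_⟩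
    dsimp only [Iso.trans_hom]
    infer_instance
  obtain ⟨εT, hεT⟩ : ∃ ε : Red.bc k T ≅ (Spec (.of (R ⊗[K₀]
      MonoidAlgebra K₀ (Multiplicative N)))).asOver (Spec (.of R)), IsMonHom ε.hom := by
    refine ⟨eT ≪≫ κT, ?_⟩
    dsimp only [Iso.trans_hom]
    infer_instance
  haveI : IsMonHom εH.inv := inferInstance
  obtain ⟨f, hf⟩ := GrpBridge.exists_bialgHom R _ _ (εH.inv ≫ (Over.pullback k).map i ≫ εT.hom)
  obtain ⟨GM⟩ := MTHom4.exists_glb K₀ R M
  obtain ⟨GN⟩ := MTHom4.exists_glb K₀ R N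
  obtain ⟨r, hr, h⟩ := chart_quot i q hq k GM GN εH εT f hf K₀ hN t
  exact ⟨r, hr, _, h⟩

include hq in
open scoped Obj in
theorem chart_quot_DS (R : Type u) [CommRing R]
    (k : Spec (CommRingCat.of R) ⟶ S) (M N : Type) [AddCommGroup M] [AddCommGroup N]
    (hN : AddGroup.FG N)
    (eH : Red.bc k H ≅ Red.DS (Spec (CommRingCat.of R)) M) [IsMonHom eH.hom]
    (eT : Red.bc k T ≅ Red.DS (Spec (CommRingCat.of R)) N) [IsMonHom eT.hom]
    (t : PrimeSpectrum R) :
    ∃ r : R, t ∈ (PrimeSpectrum.basicOpen r : Set (PrimeSpectrum R)) ∧ ∃ φ₀ : N →+ M,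
      ∀ (K : Type) [AddCommGroup K] (jK : K →+ N), Function.Injective jK →
        jK.range = φ₀.ker →
        ∃ e : Red.bc (Spec.map (CommRingCat.ofHom (algebraMap R (Localization.Away r))) ≫ k) Q ≅
          Red.DS (Spec (CommRingCat.of (Localization.Away r))) K, IsMonHom e.hom := by
  letI : Algebra (ULift.{u} ℤ) R :=
    RingHom.toAlgebra ((Int.castRingHom R).comp (ULift.ringEquiv : ULift.{u} ℤ ≃+* ℤ).toRingHom)
  have hterm : Limits.IsTerminal.from specULiftZIsTerminal (Spec (CommRingCat.of R)) =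
      Spec.map (CommRingCat.ofHom (algebraMap (ULift.{u} ℤ) R)) :=
    specULiftZIsTerminal.hom_ext _ _
  obtain ⟨cH, hcH⟩ := MTHom4.exists_bc_congr _ _ hterm (Red.diag (ULift.{u} ℤ) M)
  obtain ⟨cT, hcT⟩ := MTHom4.exists_bc_congr _ _ hterm (Red.diag (ULift.{u} ℤ) N)
  haveI : IsMonHom (eH ≪≫ cH).hom := by
    dsimp only [Iso.trans_hom]
    infer_instance
  haveI : IsMonHom (eT ≪≫ cT).hom := by
    dsimp only [Iso.trans_hom]
    infer_instance
  obtain ⟨r, hr, φ₀, h⟩ := chart_quot_diag i q hq (ULift.{u} ℤ) R k M N hN (eH ≪≫ cH) (eT ≪≫ cT) t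
  refine ⟨r, hr, φ₀, fun K _ jK hj hex => ?_⟩
  obtain ⟨e, he⟩ := h K jK hj hex
  have hterm' : Spec.map (CommRingCat.ofHom (algebraMap (ULift.{u} ℤ) (Localization.Away r))) =
      Limits.IsTerminal.from specULiftZIsTerminal (Spec (CommRingCat.of (Localization.Away r))) :=
    specULiftZIsTerminal.hom_ext _ _
  obtain ⟨c, hc⟩ := MTHom4.exists_bc_congr _ _ hterm' (Red.diag (ULift.{u} ℤ) K)
  refine ⟨e ≪≫ c, ?_⟩
  dsimp only [Iso.trans_hom]
  infer_instance

end chartDS

end Groth.Agent.Lib.Helper14.MTQuotE
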