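import Mathlib
import Groth.Prelude.Def_Red2
import Groth.Prelude.Def_RedSub
import Groth.Prelude.Def_AlgGrp
import Groth.Agent.Lib.Helper14.MTQuotE

set_option autoImplicit false

namespace Groth.Agent.Lib.Helper14.MTSplitA

open CategoryTheory MonoidalCategory CartesianMonoidalCategory MonObj GrpObj AlgebraicGeometry
open CategoryTheory.Limits TensorProduct
open Groth.Agent.Lib.Helper14 GrpBridge

universe u

section alg

variable {R : Type u} [CommRing R]
variable {HM HN HK : Type u} [CommRing HM] [CommRing HN] [CommRing HK]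
  [Bialgebra R HM] [Bialgebra R HN] [Bialgebra R HK]
  {M N K : Type} [AddCommGroup M] [AddCommGroup N] [AddCommGroup K]
  (GM : MTHom1.GLB R HM M) (GN : MTHom1.GLB R HN N) (GK : MTHom1.GLB R HK K)
  (φ₀ : N →+ M) (jK : K →+ N) (hφ : Function.Surjective φ₀) (hex : jK.range = φ₀.ker)
  (fφ : HN →ₐ[R] HM) (hfφ : ∀ n, fφ (GN.b n) = GM.b (φ₀ n))
  (fj : HK →ₐ[R] HN) (hfj : ∀ k, fj (GK.b k) = GN.b (jK k))

include hφ hex hfφ hfj in
/-- the kernel square of diagonalizable monoid schemes attached to an exact sequence of character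
groups -/
theorem isPullback_spec :
    IsPullback (specHom R HN fφ) (toUnit _) (specHom R HK fj)
      η[(Spec (.of HK)).asOver (Spec (.of R))] := by
  have po := MTQuotA.isPushout GN.b GM.b GK.b GN.zero GN.add GM.zero GM.add φ₀ jK hφ hex fφ hfφ fj hfj
    (Bialgebra.counitAlgHom R HK) (fun k => GK.ε k)
  have sq := (po.op.map Scheme.Spec).flip
  refine IsPullback.of_map (Over.forget _) ?_ ?_
  · apply Over.OverMorphism.ext
    exact sq.w
  · exact sq

include hfj in
theorem flat_surj_spec (hj : Function.Injective jK) :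
    Flat (Spec.map (CommRingCat.ofHom (fj : HK →+* HN))) ∧
      Surjective (Spec.map (CommRingCat.ofHom (fj : HK →+* HN))) := by
  rw [flat_and_surjective_SpecMap_iff]
  have hfree := Groth.Agent.S19140.free_of_injective GK.b GN.b GN.add jK fj hfj hj
  show (fj : HK →+* HN).FaithfullyFlat
  letI : Algebra HK HN := fj.toRingHom.toAlgebra
  show Module.FaithfullyFlat HK HN
  haveI : Module.Free HK HN := hfree
  rcases subsingleton_or_nontrivial R with hsub | hnon
  · haveI : Subsingleton HK := by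
      refine ⟨fun a b => ?_⟩
      rw [← one_smul R a, ← one_smul R b, Subsingleton.elim (1 : R) 0, zero_smul, zero_smul]
    refine ⟨fun m hm => ?_⟩
    exact absurd (Subsingleton.elim m ⊤) hm.ne_top
  · haveI : Nontrivial HN := by
      refine ⟨⟨GN.b 0, 0, ?_⟩⟩
      exact GN.b.ne_zero 0
    infer_instance

/-- a homomorphism of diagonalizable monoid schemes is trivial iff the homomorphism of character
groups is zero -/
theorem specHom_eq_one_iff [Nontrivial R] (ψ₀ : K →+ M) (g : HK →ₐ[R] HM)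
    (hg : ∀ k, g (GK.b k) = GM.b (ψ₀ k)) :
    specHom R HK g = (toUnit _) ≫ η[(Spec (.of HK)).asOver (Spec (.of R))] ↔ ∀ k, ψ₀ k = 0 := by
  have key : specHom R HK g = (toUnit _) ≫ η[(Spec (.of HK)).asOver (Spec (.of R))] ↔
      g = (Algebra.ofId R HM).comp (Bialgebra.counitAlgHom R HK) := by
    constructor
    · intro h
      have h1 := congrArg (fun m => m.left) h
      have h2 : Spec.map (CommRingCat.ofHom (g : HK →+* HM)) =
          Spec.map (CommRingCat.ofHom (algebraMap R HM)) ≫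
            Spec.map (CommRingCat.ofHom (Bialgebra.counitAlgHom R HK : HK →+* R)) := h1
      rw [← Spec.map_comp] at h2
      have h3 := Spec.map_injective h2
      ext x
      exact congrArg (fun m => m.hom x) h3
    · intro h
      apply Over.OverMorphism.ext
      show Spec.map (CommRingCat.ofHom (g : HK →+* HM)) =
          Spec.map (CommRingCat.ofHom (algebraMap R HM)) ≫
            Spec.map (CommRingCat.ofHom (Bialgebra.counitAlgHom R HK : HK →+* R))
      rw [← Spec.map_comp, h]
      rfl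
  rw [key]
  constructor
  · intro h k
    have h1 : g (GK.b k) = 1 := by
      rw [h]
      show algebraMap R HM (Coalgebra.counit (GK.b k)) = 1
      rw [GK.ε, map_one]
    rw [hg, ← GM.zero] at h1
    exact GM.b.injective h1
  · intro h
    apply AlgHom.toLinearMap_injective
    apply GK.b.ext
    intro k
    show g (GK.b k) = algebraMap R HM (Coalgebra.counit (GK.b k))
    rw [hg, h, GM.zero, GK.ε, map_one]

end alg

section chartD

open scoped Obj in
/-- iterated base change is base change along the composite, naturally and monoidally -/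
theorem exists_bc_comp_family {Z T T' : Scheme.{u}} (g : T' ⟶ T) (t : T ⟶ Z) (t' : T' ⟶ Z)
    (h : g ≫ t = t') :
    ∃ c : ∀ X : Over Z, Red.bc g (Red.bc t X) ≅ Red.bc t' X,
      (∀ (X : Over Z) [MonObj X], IsMonHom (c X).hom) ∧
      ∀ {X X' : Over Z} (m : X ⟶ X'),
        (Over.pullback g).map ((Over.pullback t).map m) ≫ (c X').hom =
          (c X).hom ≫ (Over.pullback t').map m := by
  subst h
  refine ⟨fun X => ((Over.pullbackComp g t).app X).symm,
    fun X _ => MTDescent.isMonHom_comp_app (Over.pullbackComp g t).inv X, fun m => ?_⟩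
  exact (Over.pullbackComp g t).inv.naturality m

variable {S : Scheme.{u}} (K₀ : Type u) [CommRing K₀] (t₀ : S ⟶ Spec (CommRingCat.of K₀))
  {B : Type u} [CommRing B] [Algebra K₀ B] (k : Spec (CommRingCat.of B) ⟶ S)
  (hk : k ≫ t₀ = Spec.map (CommRingCat.ofHom (algebraMap K₀ B)))

include hk in
open scoped Obj in
/-- the canonical charts of the base changes of affine monoid schemes over `K₀` -/
theorem exists_chartD :
    ∃ ε : ∀ (A : Type u) [CommRing A] [Bialgebra K₀ A],
        Red.bc k (Red.bc t₀ ((Spec (.of A)).asOver (Spec (.of K₀)))) ≅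
          (Spec (.of (B ⊗[K₀] A))).asOver (Spec (.of B)),
      (∀ (A : Type u) [CommRing A] [Bialgebra K₀ A], IsMonHom (ε A).hom) ∧
      ∀ (A A' : Type u) [CommRing A] [CommRing A'] [Bialgebra K₀ A] [Bialgebra K₀ A']
        (g : A' →ₐ[K₀] A),
        (Over.pullback k).map ((Over.pullback t₀).map (specHom K₀ A' g)) ≫ (ε A').hom =
          (ε A).hom ≫ specHom B (B ⊗[K₀] A') (Algebra.TensorProduct.map (AlgHom.id B B) g) := by
  obtain ⟨c, hc1, hc2⟩ := exists_bc_comp_family k t₀ _ hk
  have h3 : ∀ (A : Type u) [CommRing A] [Bialgebra K₀ A], IsMonHom (MTHom2.bcSpec K₀ B A).hom := by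
    intro A _ _
    have h : IsMonHom ((pullbackSymmetry .. ≪≫ pullbackSpecIso' K₀ B A).hom.asOver
        (Spec (.of B))) := inferInstance
    exact h
  refine ⟨fun A _ _ => c _ ≪≫ MTHom2.bcSpec K₀ B A, fun A _ _ => ?_, fun A A' _ _ _ _ g => ?_⟩
  · haveI := hc1 ((Spec (.of A)).asOver (Spec (.of K₀)))
    haveI := h3 A
    dsimp only [Iso.trans_hom]
    infer_instance
  · have h2 : (Over.pullback (Spec.map (CommRingCat.ofHom (algebraMap K₀ B)))).map
        (specHom K₀ A' g) ≫ (MTHom2.bcSpec K₀ B A').hom =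
        (MTHom2.bcSpec K₀ B A).hom ≫
          specHom B (B ⊗[K₀] A') (Algebra.TensorProduct.map (AlgHom.id B B) g) := by
      rw [← Iso.inv_comp_eq, ← Category.assoc, MTHom2.bcSpec_natural, Category.assoc,
        Iso.inv_hom_id, Category.comp_id]
    dsimp only [Iso.trans_hom]
    rw [← Category.assoc, hc2, Category.assoc, h2, Category.assoc]

end chartD

section general

variable {S : Scheme.{u}}

open scoped Obj in
/-- triviality is stable under base change -/
theorem bc_eq_one_of {X Y : Over S} [GrpObj Y] (w : X ⟶ Y) {Z Z' : Scheme.{u}} (ρ : Z' ⟶ Z)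
    (σ : Z ⟶ S) (h : (Over.pullback σ).map w = 1) : (Over.pullback (ρ ≫ σ)).map w = 1 := by
  have nat : (Over.pullback (ρ ≫ σ)).map w ≫ (Over.pullbackComp ρ σ).hom.app Y =
      (Over.pullbackComp ρ σ).hom.app X ≫ (Over.pullback ρ).map ((Over.pullback σ).map w) :=
    (Over.pullbackComp ρ σ).hom.naturality w
  rw [h, Functor.map_one, MonObj.comp_one] at nat
  have hm := MTDescent.isMonHom_comp_app (Over.pullbackComp ρ σ).inv Y
  have h2 : (Over.pullback (ρ ≫ σ)).map w =
      ((Over.pullback (ρ ≫ σ)).map w ≫ (Over.pullbackComp ρ σ).hom.app Y) ≫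
        (Over.pullbackComp ρ σ).inv.app Y := by
    rw [Category.assoc, Iso.hom_inv_id_app, Category.comp_id]
  rw [h2, nat]
  exact @MonObj.one_comp _ _ _ _ _ _
    (Functor.monObjObj (F := Over.pullback ρ) ((Over.pullback σ).obj Y)) _
    ((Over.pullbackComp ρ σ).inv.app Y) hm

open scoped Obj in
/-- triviality descends along flat surjective morphisms -/
theorem bc_eq_one_iff {X Y : Over S} [GrpObj Y] (w : X ⟶ Y) {Z Z' : Scheme.{u}} (ρ : Z' ⟶ Z)
    [Flat ρ] [Surjective ρ] (σ : Z ⟶ S) :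
    (Over.pullback (ρ ≫ σ)).map w = 1 ↔ (Over.pullback σ).map w = 1 := by
  refine ⟨fun h => ?_, bc_eq_one_of w ρ σ⟩
  apply MTDescent.hom_ext_of_flat_surj ρ
  rw [Functor.map_one]
  have h1 : (Over.pullback (ρ ≫ σ)).map w = (Over.pullback (ρ ≫ σ)).map (1 : X ⟶ Y) := by
    rw [h, Functor.map_one]
  have h2 := MTDescent.map_map_eq_of_comp ρ σ w 1 h1
  rw [h2, Functor.map_one, Functor.map_one]

/-- morphisms over `S` can be compared locally for the fpqc topology -/
theorem hom_ext_of_local {S'' : Scheme.{u}} (p : S'' ⟶ S) [Flat p] [Surjective p] {X Y : Over S}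
    (a b : X ⟶ Y)
    (h : ∀ y : S'', ∃ (W : Scheme.{u}) (w : W ⟶ S''), IsOpenImmersion w ∧ y ∈ Set.range w ∧
      (Over.pullback (w ≫ p)).map a = (Over.pullback (w ≫ p)).map b) : a = b := by
  apply MTDescent.hom_ext_of_flat_surj p
  choose W w hw hy hab using h
  apply MTDescent.hom_ext_of_cover (Scheme.Cover.mkOfCovers S'' W w (fun y => ⟨y, hy y⟩) hw)
  intro y
  exact MTDescent.map_map_eq_of_comp (w y) p a b (hab y)

end general

section chart

variable {S : Scheme.{u}} {T H TK : Over S} [GrpObj T] [GrpObj H] [GrpObj TK]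
  (i : H ⟶ T) [IsMonHom i] (π : T ⟶ TK) [IsMonHom π]
  {B : Type u} [CommRing B] (k : Spec (CommRingCat.of B) ⟶ S)
  {HM HN HK : Type u} [CommRing HM] [CommRing HN] [CommRing HK] [Bialgebra B HM] [Bialgebra B HN]
  [Bialgebra B HK]
  {M N K : Type} [AddCommGroup M] [AddCommGroup N] [AddCommGroup K]
  (GM : MTHom1.GLB B HM M) (GN : MTHom1.GLB B HN N) (GK : MTHom1.GLB B HK K)
  (εH : Red.bc k H ≅ (Spec (.of HM)).asOver (Spec (.of B))) [IsMonHom εH.hom]
  (εT : Red.bc k T ≅ (Spec (.of HN)).asOver (Spec (.of B))) [IsMonHom εT.hom]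
  (εK : Red.bc k TK ≅ (Spec (.of HK)).asOver (Spec (.of B))) [IsMonHom εK.hom]
  (f : HN →ₐc[B] HM)
  (hf : εH.inv ≫ (Over.pullback k).map i ≫ εT.hom = specHom B HN (f : HN →ₐ[B] HM))
  (jK : K →+ N) (fJ : HK →ₐ[B] HN) (hfJ : ∀ x, fJ (GK.b x) = GN.b (jK x))
  (hJ : εT.inv ≫ (Over.pullback k).map π ≫ εK.hom = specHom B HK fJ)

include hf hfJ hJ in
open scoped Obj in
/-- triviality of a composite after base change to an algebra over a chart on which the
homomorphism of character groups is constant -/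
theorem chart_triv_iff (R : Type u) [CommRing R] [Algebra B R] [Nontrivial R] (φ₀ : N →+ M)
    (hconst : ∀ 𝔮 : PrimeSpectrum R, MTHom1.φP f GM GN (𝔮.comap (algebraMap B R)) = φ₀) :
    (Over.pullback (Spec.map (CommRingCat.ofHom (algebraMap B R)) ≫ k)).map (i ≫ π) = 1 ↔
      ∀ x, φ₀ (jK x) = 0 := by
  set G' : R ⊗[B] HN →ₐ[R] R ⊗[B] HM :=
    Algebra.TensorProduct.map (AlgHom.id R R) (f : HN →ₐ[B] HM) with hG'
  set J' : R ⊗[B] HK →ₐ[R] R ⊗[B] HN :=
    Algebra.TensorProduct.map (AlgHom.id R R) fJ with hJ'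
  have hg : ∀ n, G' ((1 : R) ⊗ₜ[B] GN.b n) = (1 : R) ⊗ₜ[B] GM.b (φ₀ n) := by
    intro n
    rw [hG', Algebra.TensorProduct.map_tmul]
    exact MTHom1.tmul_f_eq f GM GN R φ₀ hconst n
  obtain ⟨GM', hGM'⟩ := MTQuotE.glb_baseChange GM R
  obtain ⟨GN', hGN'⟩ := MTQuotE.glb_baseChange GN R
  obtain ⟨GK', hGK'⟩ := MTQuotE.glb_baseChange GK R
  have hcomp : ∀ x, (G'.comp J') (GK'.b x) = GM'.b ((φ₀.comp jK) x) := by
    intro x
    show G' (J' (GK'.b x)) = _
    rw [hGK', hJ', Algebra.TensorProduct.map_tmul, hfJ, hGM']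
    exact hg _
  obtain ⟨α, β, χ, hαm, hχm, hnat1, hnat2⟩ :
      ∃ (α : Red.bc (Spec.map (CommRingCat.ofHom (algebraMap B R)) ≫ k) H ≅
        (Spec (.of (R ⊗[B] HM))).asOver (Spec (.of R)))
      (β : Red.bc (Spec.map (CommRingCat.ofHom (algebraMap B R)) ≫ k) T ≅
        (Spec (.of (R ⊗[B] HN))).asOver (Spec (.of R)))
      (χ : Red.bc (Spec.map (CommRingCat.ofHom (algebraMap B R)) ≫ k) TK ≅
        (Spec (.of (R ⊗[B] HK))).asOver (Spec (.of R))), IsMonHom α.hom ∧ IsMonHom χ.hom ∧
      (Over.pullback (Spec.map (CommRingCat.ofHom (algebraMap B R)) ≫ k)).map i ≫ β.hom =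
        α.hom ≫ specHom R (R ⊗[B] HN) G' ∧
      (Over.pullback (Spec.map (CommRingCat.ofHom (algebraMap B R)) ≫ k)).map π ≫ χ.hom =
        β.hom ≫ specHom R (R ⊗[B] HK) J' :=
    ⟨MTQuotC.starIso k R εH, MTQuotC.starIso k R εT, MTQuotC.starIso k R εK,
      MTQuotC.starIso_isMonHom k R εH, MTQuotC.starIso_isMonHom k R εK,
      MTQuotC.starIso_natural k R εH εT i (f : HN →ₐ[B] HM) hf,
      MTQuotC.starIso_natural k R εT εK π fJ hJ⟩
  have hkey : (Over.pullback (Spec.map (CommRingCat.ofHom (algebraMap B R)) ≫ k)).map (i ≫ π) ≫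
      χ.hom = α.hom ≫ specHom R (R ⊗[B] HK) (G'.comp J') := by
    rw [Functor.map_comp, Category.assoc, hnat2, ← Category.assoc, hnat1, Category.assoc,
      specHom_comp]
  haveI : IsMonHom χ.inv := inferInstance
  have hiff := specHom_eq_one_iff GM' GK' (φ₀.comp jK) (G'.comp J') hcomp
  rw [← Hom.one_def] at hiff
  refine Iff.trans ?_ hiff
  constructor
  · intro h
    rw [h, MonObj.one_comp] at hkey
    rw [← Iso.inv_comp_eq] at hkey
    rw [← hkey, MonObj.comp_one]
  · intro h
    rw [h, MonObj.comp_one] at hkey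
    rw [← Iso.eq_comp_inv] at hkey
    rw [hkey, MonObj.one_comp]

include hf hfJ hJ in
open scoped Obj in
/-- a given homomorphism which on a chart is dual to the inclusion of the kernel of the
homomorphism of character groups is a quotient morphism, hence isomorphic to any other -/
theorem chart_quot_given [Mono i] {Q : Over S} [GrpObj Q] (q : T ⟶ Q) [IsMonHom q]
    (hq : RedSub.IsQuotient i q)
    (R : Type u) [CommRing R] [Algebra B R] [Nontrivial R] (φ₀ : N →+ M)
    (hconst : ∀ 𝔮 : PrimeSpectrum R, MTHom1.φP f GM GN (𝔮.comap (algebraMap B R)) = φ₀)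
    (hj : Function.Injective jK) (hex : jK.range = φ₀.ker) :
    ∃ ψ : Red.bc (Spec.map (CommRingCat.ofHom (algebraMap B R)) ≫ k) Q ≅
        Red.bc (Spec.map (CommRingCat.ofHom (algebraMap B R)) ≫ k) TK,
      (Over.pullback (Spec.map (CommRingCat.ofHom (algebraMap B R)) ≫ k)).map q ≫ ψ.hom =
        (Over.pullback (Spec.map (CommRingCat.ofHom (algebraMap B R)) ≫ k)).map π := by
  set G' : R ⊗[B] HN →ₐ[R] R ⊗[B] HM :=
    Algebra.TensorProduct.map (AlgHom.id R R) (f : HN →ₐ[B] HM) with hG'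
  set J' : R ⊗[B] HK →ₐ[R] R ⊗[B] HN :=
    Algebra.TensorProduct.map (AlgHom.id R R) fJ with hJ'
  have hg : ∀ n, G' ((1 : R) ⊗ₜ[B] GN.b n) = (1 : R) ⊗ₜ[B] GM.b (φ₀ n) := by
    intro n
    rw [hG', Algebra.TensorProduct.map_tmul]
    exact MTHom1.tmul_f_eq f GM GN R φ₀ hconst n
  obtain ⟨GM', hGM'⟩ := MTQuotE.glb_baseChange GM R
  obtain ⟨GN', hGN'⟩ := MTQuotE.glb_baseChange GN R
  obtain ⟨GK', hGK'⟩ := MTQuotE.glb_baseChange GK R
  have hfφ : ∀ n, G' (GN'.b n) = GM'.b (φ₀ n) := by
    intro n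
    rw [hGN', hGM', hg]
  have hfj : ∀ x, J' (GK'.b x) = GN'.b (jK x) := by
    intro x
    rw [hGK', hJ', Algebra.TensorProduct.map_tmul, hfJ, hGN']
    rfl
  obtain ⟨α, β, χ, hβm, hχm, hnat1, hnat2⟩ :
      ∃ (α : Red.bc (Spec.map (CommRingCat.ofHom (algebraMap B R)) ≫ k) H ≅
        (Spec (.of (R ⊗[B] HM))).asOver (Spec (.of R)))
      (β : Red.bc (Spec.map (CommRingCat.ofHom (algebraMap B R)) ≫ k) T ≅
        (Spec (.of (R ⊗[B] HN))).asOver (Spec (.of R)))
      (χ : Red.bc (Spec.map (CommRingCat.ofHom (algebraMap B R)) ≫ k) TK ≅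
        (Spec (.of (R ⊗[B] HK))).asOver (Spec (.of R))), IsMonHom β.hom ∧ IsMonHom χ.hom ∧
      (Over.pullback (Spec.map (CommRingCat.ofHom (algebraMap B R)) ≫ k)).map i ≫ β.hom =
        α.hom ≫ specHom R (R ⊗[B] HN) G' ∧
      (Over.pullback (Spec.map (CommRingCat.ofHom (algebraMap B R)) ≫ k)).map π ≫ χ.hom =
        β.hom ≫ specHom R (R ⊗[B] HK) J' :=
    ⟨MTQuotC.starIso k R εH, MTQuotC.starIso k R εT, MTQuotC.starIso k R εK,
      MTQuotC.starIso_isMonHom k R εT, MTQuotC.starIso_isMonHom k R εK,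
      MTQuotC.starIso_natural k R εH εT i (f : HN →ₐ[B] HM) hf,
      MTQuotC.starIso_natural k R εT εK π fJ hJ⟩
  haveI : IsMonHom χ.inv := inferInstance
  -- surjectivity of φ₀ from `Mono i`
  have hφ : Function.Surjective φ₀ := by
    refine (Groth.Agent.S5274.chartHyp_mono B HM HN M N GM GN f R φ₀ hconst).2 inferInstance ?_
    rw [MorphismProperty.monomorphisms.iff]
    have hm : Mono ((Over.pullback (Spec.map (CommRingCat.ofHom (algebraMap B R)) ≫ k)).map i) :=
      inferInstance
    have h1 : specHom R (R ⊗[B] HN) G' = α.inv ≫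
        (Over.pullback (Spec.map (CommRingCat.ofHom (algebraMap B R)) ≫ k)).map i ≫ β.hom := by
      rw [hnat1, Iso.inv_hom_id_assoc]
    have h2 : Mono (specHom R (R ⊗[B] HN) G') := by
      rw [h1]
      infer_instance
    exact (inferInstance : Mono (specHom R (R ⊗[B] HN) G').left)
  have hker := isPullback_spec GM' GN' GK' φ₀ jK hφ hex G' hfφ J' hfj
  have hπeq : (Over.pullback (Spec.map (CommRingCat.ofHom (algebraMap B R)) ≫ k)).map π =
      β.hom ≫ specHom R (R ⊗[B] HK) J' ≫ χ.inv := by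
    rw [← Category.assoc, ← hnat2, Category.assoc, Iso.hom_inv_id, Category.comp_id]
  have hker' : AlgGrp.IsKernel
      ((Over.pullback (Spec.map (CommRingCat.ofHom (algebraMap B R)) ≫ k)).map i)
      ((Over.pullback (Spec.map (CommRingCat.ofHom (algebraMap B R)) ≫ k)).map π) := by
    unfold AlgGrp.IsKernel
    refine IsPullback.of_iso hker α.symm β.symm (Iso.refl _) χ.symm ?_ ?_ ?_ ?_
    · rw [Iso.symm_hom, Iso.symm_hom, Iso.eq_inv_comp, ← Category.assoc, ← hnat1, Category.assoc,
        Iso.hom_inv_id, Category.comp_id]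
    · apply toUnit_unique
    · rw [hπeq]
      simp
    · rw [Iso.refl_hom, Category.id_comp, Iso.symm_hom]
      exact IsMonHom.one_hom (f := χ.inv)
  have sq₂ := Groth.Agent.Lib.Helper4.QuotAffine.isPullback_of_isKernel _ _ hker'
  have sq₁ := MTQuotD.isPullback_pullback i q
    (Spec.map (CommRingCat.ofHom (algebraMap B R)) ≫ k) hq.2.2.2
  haveI hs1 : Surjective ((Over.pullback (Spec.map (CommRingCat.ofHom (algebraMap B R)) ≫ k)).map
      q).left := MTHom4.map_of_map @Surjective q _ hq.1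
  haveI hs2 : Flat ((Over.pullback (Spec.map (CommRingCat.ofHom (algebraMap B R)) ≫ k)).map
      q).left := MTHom4.map_of_map @Flat q _ hq.2.1
  haveI hs3 : LocallyOfFinitePresentation
      ((Over.pullback (Spec.map (CommRingCat.ofHom (algebraMap B R)) ≫ k)).map q).left :=
    MTHom4.map_of_map @LocallyOfFinitePresentation q _ hq.2.2.1
  have hfs := flat_surj_spec GN' GK' jK J' hfj hj
  obtain ⟨fjr, hfjr⟩ : ∃ g : R ⊗[B] HK →+* R ⊗[B] HN, g = (J' : R ⊗[B] HK →+* R ⊗[B] HN) :=
    ⟨_, rfl⟩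
  rw [← hfjr] at hfs
  have hπl : ((Over.pullback (Spec.map (CommRingCat.ofHom (algebraMap B R)) ≫ k)).map π).left =
      β.hom.left ≫ Spec.map (CommRingCat.ofHom fjr) ≫ χ.inv.left := by
    rw [hπeq, hfjr]
    rfl
  haveI : IsIso β.hom.left := by
    show IsIso ((Over.forget _).map β.hom)
    infer_instance
  haveI : IsIso χ.inv.left := by
    show IsIso ((Over.forget _).map χ.inv)
    infer_instance
  have t3 : QuasiCompact (Spec.map (CommRingCat.ofHom fjr)) := inferInstance
  have t4 : Flat χ.inv.left := inferInstance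
  have t5 : QuasiCompact χ.inv.left := inferInstance
  haveI : Flat ((Over.pullback (Spec.map (CommRingCat.ofHom (algebraMap B R)) ≫ k)).map π).left := by
    rw [hπl]
    exact MorphismProperty.comp_mem @Flat _ _ inferInstance
      (MorphismProperty.comp_mem @Flat _ _ hfs.1 t4)
  haveI : Surjective
      ((Over.pullback (Spec.map (CommRingCat.ofHom (algebraMap B R)) ≫ k)).map π).left := by
    rw [hπl]
    haveI := hfs.2
    exact ⟨(χ.inv.left.surjective.comp (Spec.map (CommRingCat.ofHom fjr)).surjective).comp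
      β.hom.left.surjective⟩
  haveI : QuasiCompact
      ((Over.pullback (Spec.map (CommRingCat.ofHom (algebraMap B R)) ≫ k)).map π).left := by
    rw [hπl]
    exact MorphismProperty.comp_mem @QuasiCompact _ _ inferInstance
      (MorphismProperty.comp_mem @QuasiCompact _ _ t3 t5)
  exact MTQuotB.exists_iso
    ((Over.pullback (Spec.map (CommRingCat.ofHom (algebraMap B R)) ≫ k)).map i)
    ((Over.pullback (Spec.map (CommRingCat.ofHom (algebraMap B R)) ≫ k)).map q)
    ((Over.pullback (Spec.map (CommRingCat.ofHom (algebraMap B R)) ≫ k)).map π) sq₁ sq₂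

include hf hfJ hJ in
open scoped Obj in
/-- triviality of a composite on the fibre at the image of a point of a chart -/
theorem fibre_triv_iff (t : Spec (CommRingCat.of B)) :
    (Over.pullback (S.fromSpecResidueField (k t))).map (i ≫ π) = 1 ↔
      ∀ x, MTHom1.φP f GM GN t (jK x) = 0 := by
  obtain ⟨g, hg1, hg2⟩ := MTHom3.exists_residue_hom' t
  letI : Algebra B ((Spec (CommRingCat.of B)).residueField t) := g.toAlgebra
  have hcomm : Spec.map (CommRingCat.ofHom (algebraMap B
      ((Spec (CommRingCat.of B)).residueField t))) ≫ k =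
      Spec.map (k.residueFieldMap t) ≫ S.fromSpecResidueField (k t) := by
    rw [Scheme.Hom.SpecMap_residueFieldMap_fromSpecResidueField]
    exact congrArg (· ≫ k) hg1
  have hconst : ∀ 𝔮 : PrimeSpectrum ((Spec (CommRingCat.of B)).residueField t),
      MTHom1.φP f GM GN (𝔮.comap (algebraMap B _)) = MTHom1.φP f GM GN t := by
    intro 𝔮
    congr 1
    apply PrimeSpectrum.ext
    show Ideal.comap g 𝔮.asIdeal = t.asIdeal
    have h0 : 𝔮.asIdeal = ⊥ :=
      (Ideal.eq_bot_or_top 𝔮.asIdeal).resolve_right 𝔮.isPrime.ne_top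
    rw [h0, ← hg2]
    rfl
  have h1 := chart_triv_iff i π k GM GN GK εH εT εK f hf jK fJ hfJ hJ _
    (MTHom1.φP f GM GN t) hconst
  have hfs : Flat (Spec.map (k.residueFieldMap t)) ∧
      Surjective (Spec.map (k.residueFieldMap t)) := by
    rw [flat_and_surjective_SpecMap_iff]
    letI : Algebra (S.residueField (k t)) ((Spec (CommRingCat.of B)).residueField t) :=
      (k.residueFieldMap t).hom.toAlgebra
    exact (RingHom.faithfullyFlat_algebraMap_iff).mpr inferInstance
  haveI := hfs.1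
  haveI := hfs.2
  rw [← bc_eq_one_iff (i ≫ π) (Spec.map (k.residueFieldMap t)) (S.fromSpecResidueField (k t)),
    ← hcomm]
  exact h1

end chart

end Groth.Agent.Lib.Helper14.MTSplitA
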