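import Mathlib
import Groth.Prelude.Def_Red2
import Groth.Prelude.Def_RedSub
import Groth.Prelude.Def_AlgGrp
import Groth.Agent.Lib.Helper14.MTSplitA

set_option autoImplicit false

namespace Groth.Agent.Lib.Helper14.MTSplitB

open CategoryTheory MonoidalCategory CartesianMonoidalCategory MonObj GrpObj AlgebraicGeometry
open CategoryTheory.Limits TensorProduct
open Groth.Agent.Lib.Helper14 GrpBridge

universe u

section glb

variable (K₀ B : Type u) [CommRing K₀] [CommRing B] [Algebra K₀ B] (M : Type) [AddCommGroup M]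

/-- the group-like basis of the base change of a group algebra, with its values -/
theorem exists_glb' : ∃ G : MTHom1.GLB B (B ⊗[K₀] MonoidAlgebra K₀ (Multiplicative M)) M,
    ∀ m, G.b m = (1 : B) ⊗ₜ[K₀] MonoidAlgebra.single (Multiplicative.ofAdd m) (1 : K₀) := by
  classical
  let b₀ := Algebra.TensorProduct.basis B (MonoidAlgebra.basis (Multiplicative M) K₀)
  let b := b₀.reindex (Multiplicative.toAdd : Multiplicative M ≃ M)
  have hb : ∀ m, b m = (1 : B) ⊗ₜ[K₀] MonoidAlgebra.single (Multiplicative.ofAdd m) (1 : K₀) := by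
    intro m
    simp [b, b₀, MonoidAlgebra.basis_apply]
  have hgl : ∀ m, Coalgebra.comul (R := B) (b m) = b m ⊗ₜ[B] b m := by
    intro m
    rw [hb]
    simp
  have hε : ∀ m, Coalgebra.counit (R := B) (b m) = 1 := by
    intro m
    rw [hb]
    simp
  have hb0 : b 0 = 1 := by
    rw [hb]
    simp [Algebra.TensorProduct.one_def, MonoidAlgebra.one_def]
  have hbadd : ∀ m n, b (m + n) = b m * b n := by
    intro m n
    rw [hb, hb, hb]
    simp [MonoidAlgebra.single_mul_single]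
  exact ⟨⟨b, hgl, hε, hb0, hbadd⟩, hb⟩

end glb

section pack

variable {S : Scheme.{u}} (K₀ : Type u) [CommRing K₀] (t₀ : S ⟶ Spec (CommRingCat.of K₀))
  (N : Type) [AddCommGroup N]

/-- functoriality of the base change to `S` of the diagonalizable groups over `K₀` -/
noncomputable abbrev Dmap {K : Type} [AddCommGroup K] (jK : K →+ N) :
    Red.bc t₀ (Red.diag K₀ N) ⟶ Red.bc t₀ (Red.diag K₀ K) :=
  (Over.pullback t₀).map (Red.diagMap K₀ jK)

open scoped Obj in
instance isMonHom_Dmap {K : Type} [AddCommGroup K] (jK : K →+ N) : IsMonHom (Dmap K₀ t₀ N jK) := by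
  have := Groth.Agent.Lib.Helper4.KummerSeq.diagMap_isMonHom K₀ jK
  exact Functor.map.instIsMonHom _ _ _

end pack

section pack2

variable {S : Scheme.{u}} {T H : Over S} [GrpObj T] [GrpObj H] (i : H ⟶ T) [IsMonHom i]
  (K₀ : Type u) [CommRing K₀] (t₀ : S ⟶ Spec (CommRingCat.of K₀))
  (N : Type) [AddCommGroup N] (hN : AddGroup.FG N)
  (e : T ≅ Red.bc t₀ (Red.diag K₀ N)) [IsMonHom e.hom]
  {B : Type u} [CommRing B] [Algebra K₀ B] (k : Spec (CommRingCat.of B) ⟶ S)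
  (hk : k ≫ t₀ = Spec.map (CommRingCat.ofHom (algebraMap K₀ B)))
  (M : Type) [AddCommGroup M]
  (eH : Red.bc k H ≅ Red.bc (Spec.map (CommRingCat.ofHom (algebraMap K₀ B))) (Red.diag K₀ M))
  [IsMonHom eH.hom]

include hN hk eH in
open scoped Obj in
/-- everything a chart provides for the study of a subgroup of multiplicative type of a split
torus -/
theorem chart_pack : ∃ Φ : PrimeSpectrum B → (N →+ M),
    (∀ t : PrimeSpectrum B, ∃ r : B, t ∈ (PrimeSpectrum.basicOpen r : Set (PrimeSpectrum B)) ∧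
      ∀ t' ∈ (PrimeSpectrum.basicOpen r : Set (PrimeSpectrum B)), Φ t' = Φ t) ∧
    (∀ (K : Type) [AddCommGroup K] (jK : K →+ N) (R : Type u) [CommRing R] [Algebra B R]
      [Nontrivial R] (φ₀ : N →+ M),
        (∀ 𝔮 : PrimeSpectrum R, Φ (𝔮.comap (algebraMap B R)) = φ₀) →
        ((Over.pullback (Spec.map (CommRingCat.ofHom (algebraMap B R)) ≫ k)).map
          (i ≫ e.hom ≫ Dmap K₀ t₀ N jK) = 1 ↔ ∀ x, φ₀ (jK x) = 0)) ∧
    (∀ (K : Type) [AddCommGroup K] (jK : K →+ N) (t : Spec (CommRingCat.of B)),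
        (Over.pullback (S.fromSpecResidueField (k t))).map (i ≫ e.hom ≫ Dmap K₀ t₀ N jK) = 1 ↔
          ∀ x, Φ t (jK x) = 0) ∧
    (∀ [Mono i] (Q : Over S) [GrpObj Q] (q : T ⟶ Q) [IsMonHom q], RedSub.IsQuotient i q →
      ∀ (K : Type) [AddCommGroup K] (jK : K →+ N), Function.Injective jK →
      ∀ (R : Type u) [CommRing R] [Algebra B R] [Nontrivial R] (φ₀ : N →+ M),
        (∀ 𝔮 : PrimeSpectrum R, Φ (𝔮.comap (algebraMap B R)) = φ₀) → jK.range = φ₀.ker →
        ∃ ψ : Red.bc (Spec.map (CommRingCat.ofHom (algebraMap B R)) ≫ k) Q ≅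
            Red.bc (Spec.map (CommRingCat.ofHom (algebraMap B R)) ≫ k)
              (Red.bc t₀ (Red.diag K₀ K)),
          (Over.pullback (Spec.map (CommRingCat.ofHom (algebraMap B R)) ≫ k)).map q ≫ ψ.hom =
            (Over.pullback (Spec.map (CommRingCat.ofHom (algebraMap B R)) ≫ k)).map
              (e.hom ≫ Dmap K₀ t₀ N jK)) := by
  obtain ⟨κH, hκH⟩ := MTAffine.exists_bc_spec_iso K₀ B (MonoidAlgebra K₀ (Multiplicative M))
  obtain ⟨εH, hεH⟩ : ∃ ε : Red.bc k H ≅ (Spec (.of (B ⊗[K₀]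
      MonoidAlgebra K₀ (Multiplicative M)))).asOver (Spec (.of B)), IsMonHom ε.hom := by
    refine ⟨eH ≪≫ κH, ?_⟩
    dsimp only [Iso.trans_hom]
    infer_instance
  obtain ⟨ε, hε1, hε2⟩ := MTSplitA.exists_chartD K₀ t₀ k hk
  obtain ⟨εT, hεT, hεTdef⟩ : ∃ ε' : Red.bc k T ≅ (Spec (.of (B ⊗[K₀]
      MonoidAlgebra K₀ (Multiplicative N)))).asOver (Spec (.of B)), IsMonHom ε'.hom ∧
      ε' = (Over.pullback k).mapIso e ≪≫ ε (MonoidAlgebra K₀ (Multiplicative N)) := by
    refine ⟨(Over.pullback k).mapIso e ≪≫ ε (MonoidAlgebra K₀ (Multiplicative N)), ?_, rfl⟩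
    haveI := hε1 (MonoidAlgebra K₀ (Multiplicative N))
    dsimp only [Iso.trans_hom, Functor.mapIso_hom]
    infer_instance
  haveI : IsMonHom εH.inv := inferInstance
  obtain ⟨f, hf⟩ := GrpBridge.exists_bialgHom B _ _ (εH.inv ≫ (Over.pullback k).map i ≫ εT.hom)
  obtain ⟨GM, hGM⟩ := exists_glb' K₀ B M
  obtain ⟨GN, hGN⟩ := exists_glb' K₀ B N
  -- the data attached to a homomorphism `jK`
  have hdata : ∀ (K : Type) [AddCommGroup K] (jK : K →+ N),
      ∃ (GK : MTHom1.GLB B (B ⊗[K₀] MonoidAlgebra K₀ (Multiplicative K)) K)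
        (εK : Red.bc k (Red.bc t₀ (Red.diag K₀ K)) ≅ (Spec (.of (B ⊗[K₀]
          MonoidAlgebra K₀ (Multiplicative K)))).asOver (Spec (.of B)))
        (fJ : B ⊗[K₀] MonoidAlgebra K₀ (Multiplicative K) →ₐ[B]
          B ⊗[K₀] MonoidAlgebra K₀ (Multiplicative N)),
        IsMonHom εK.hom ∧ (∀ x, fJ (GK.b x) = GN.b (jK x)) ∧
        εT.inv ≫ (Over.pullback k).map (e.hom ≫ Dmap K₀ t₀ N jK) ≫ εK.hom =
          specHom B (B ⊗[K₀] MonoidAlgebra K₀ (Multiplicative K)) fJ := by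
    intro K _ jK
    obtain ⟨GK, hGK⟩ := exists_glb' K₀ B K
    refine ⟨GK, ε (MonoidAlgebra K₀ (Multiplicative K)),
      Algebra.TensorProduct.map (AlgHom.id B B)
        (MonoidAlgebra.mapDomainAlgHom K₀ K₀ (AddMonoidHom.toMultiplicative jK)),
      hε1 _, fun x => ?_, ?_⟩
    · rw [hGK, hGN, Algebra.TensorProduct.map_tmul]
      simp
    · have h := hε2 (MonoidAlgebra K₀ (Multiplicative N)) (MonoidAlgebra K₀ (Multiplicative K))
        (MonoidAlgebra.mapDomainAlgHom K₀ K₀ (AddMonoidHom.toMultiplicative jK))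
      rw [hεTdef]
      simp only [Iso.trans_inv, Functor.mapIso_inv, Functor.map_comp, Category.assoc]
      rw [← Functor.map_comp_assoc, Iso.inv_hom_id, CategoryTheory.Functor.map_id, Category.id_comp]
      rw [Iso.inv_comp_eq]
      exact h
  refine ⟨MTHom1.φP f GM GN, fun t => ?_, fun K _ jK R _ _ _ φ₀ hconst => ?_,
    fun K _ jK t => ?_, fun Q _ q _ hq K _ jK hj R _ _ _ φ₀ hconst hex => ?_⟩
  · have hO := (MTHom1.isClopen_setOf f GM GN hN
      (fun ψ => ψ = MTHom1.φP f GM GN t)).isOpen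
    obtain ⟨_, ⟨r, rfl⟩, htr, hrO⟩ :=
      PrimeSpectrum.isTopologicalBasis_basic_opens.exists_subset_of_mem_open
        (show t ∈ {x : PrimeSpectrum B | MTHom1.φP f GM GN x = MTHom1.φP f GM GN t} from rfl) hO
    exact ⟨r, htr, fun t' ht' => hrO ht'⟩
  · obtain ⟨GK, εK, fJ, hεK, hfJ, hJ⟩ := hdata K jK
    exact MTSplitA.chart_triv_iff i (e.hom ≫ Dmap K₀ t₀ N jK) k GM GN GK εH εT εK f hf jK fJ hfJ hJ
      R φ₀ hconst
  · obtain ⟨GK, εK, fJ, hεK, hfJ, hJ⟩ := hdata K jK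
    exact MTSplitA.fibre_triv_iff i (e.hom ≫ Dmap K₀ t₀ N jK) k GM GN GK εH εT εK f hf jK fJ hfJ hJ
      t
  · obtain ⟨GK, εK, fJ, hεK, hfJ, hJ⟩ := hdata K jK
    exact MTSplitA.chart_quot_given i (e.hom ≫ Dmap K₀ t₀ N jK) k GM GN GK εH εT εK f hf jK fJ hfJ
      hJ q hq R φ₀ hconst hj hex

end pack2

end Groth.Agent.Lib.Helper14.MTSplitB
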