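import Mathlib
import Groth.Prelude.Def_Red2
import Groth.Prelude.Def_RedSub
import Groth.Prelude.Def_AlgGrp
import Groth.Agent.Lib.Helper14.MTSplitB

set_option autoImplicit false

namespace Groth.Agent.Lib.Helper14.MTSplitC

open CategoryTheory MonoidalCategory CartesianMonoidalCategory MonObj GrpObj AlgebraicGeometry
open CategoryTheory.Limits TensorProduct
open Groth.Agent.Lib.Helper14 GrpBridge

universe u

section packDS

variable {S : Scheme.{u}} {T H : Over S} [GrpObj T] [GrpObj H] (i : H ⟶ T) [IsMonHom i]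
  (N : Type) [AddCommGroup N] (hN : AddGroup.FG N)
  (e : T ≅ Red.DS S N) [IsMonHom e.hom]
  (B : Type u) [CommRing B] (k : Spec (CommRingCat.of B) ⟶ S)
  (M : Type) [AddCommGroup M]
  (eH : Red.bc k H ≅ Red.DS (Spec (CommRingCat.of B)) M) [IsMonHom eH.hom]

include hN eH in
open scoped Obj in
theorem chart_pack_DS : ∃ Φ : PrimeSpectrum B → (N →+ M),
    (∀ t : PrimeSpectrum B, ∃ r : B, t ∈ (PrimeSpectrum.basicOpen r : Set (PrimeSpectrum B)) ∧
      ∀ t' ∈ (PrimeSpectrum.basicOpen r : Set (PrimeSpectrum B)), Φ t' = Φ t) ∧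
    (∀ (K : Type) [AddCommGroup K] (jK : K →+ N) (R : Type u) [CommRing R] [Algebra B R]
      [Nontrivial R] (φ₀ : N →+ M),
        (∀ 𝔮 : PrimeSpectrum R, Φ (𝔮.comap (algebraMap B R)) = φ₀) →
        ((Over.pullback (Spec.map (CommRingCat.ofHom (algebraMap B R)) ≫ k)).map
          (i ≫ e.hom ≫ Red.DSmap S jK) = 1 ↔ ∀ x, φ₀ (jK x) = 0)) ∧
    (∀ (K : Type) [AddCommGroup K] (jK : K →+ N) (t : Spec (CommRingCat.of B)),
        (Over.pullback (S.fromSpecResidueField (k t))).map (i ≫ e.hom ≫ Red.DSmap S jK) = 1 ↔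
          ∀ x, Φ t (jK x) = 0) ∧
    (∀ [Mono i] (Q : Over S) [GrpObj Q] (q : T ⟶ Q) [IsMonHom q], RedSub.IsQuotient i q →
      ∀ (K : Type) [AddCommGroup K] (jK : K →+ N), Function.Injective jK →
      ∀ (R : Type u) [CommRing R] [Algebra B R] [Nontrivial R] (φ₀ : N →+ M),
        (∀ 𝔮 : PrimeSpectrum R, Φ (𝔮.comap (algebraMap B R)) = φ₀) → jK.range = φ₀.ker →
        ∃ ψ : Red.bc (Spec.map (CommRingCat.ofHom (algebraMap B R)) ≫ k) Q ≅
            Red.bc (Spec.map (CommRingCat.ofHom (algebraMap B R)) ≫ k) (Red.DS S K),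
          (Over.pullback (Spec.map (CommRingCat.ofHom (algebraMap B R)) ≫ k)).map q ≫ ψ.hom =
            (Over.pullback (Spec.map (CommRingCat.ofHom (algebraMap B R)) ≫ k)).map
              (e.hom ≫ Red.DSmap S jK)) := by
  letI : Algebra (ULift.{u} ℤ) B :=
    RingHom.toAlgebra ((Int.castRingHom B).comp (ULift.ringEquiv : ULift.{u} ℤ ≃+* ℤ).toRingHom)
  have hterm : Limits.IsTerminal.from specULiftZIsTerminal (Spec (CommRingCat.of B)) =
      Spec.map (CommRingCat.ofHom (algebraMap (ULift.{u} ℤ) B)) :=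
    specULiftZIsTerminal.hom_ext _ _
  have hk : k ≫ Limits.IsTerminal.from specULiftZIsTerminal S =
      Spec.map (CommRingCat.ofHom (algebraMap (ULift.{u} ℤ) B)) :=
    specULiftZIsTerminal.hom_ext _ _
  obtain ⟨cH, hcH⟩ := MTHom4.exists_bc_congr _ _ hterm (Red.diag (ULift.{u} ℤ) M)
  haveI : IsMonHom (eH ≪≫ cH).hom := by
    dsimp only [Iso.trans_hom]
    infer_instance
  exact MTSplitB.chart_pack i (ULift.{u} ℤ) (Limits.IsTerminal.from specULiftZIsTerminal S) N hN e k
    hk M (eH ≪≫ cH)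

end packDS

section packDS'

variable {S : Scheme.{u}} {T H : Over S} [GrpObj T] [GrpObj H] (i : H ⟶ T) [IsMonHom i]
  (N : Type) [AddCommGroup N] (hN : AddGroup.FG N)
  (e : T ≅ Red.DS S N) [IsMonHom e.hom]
  (B : Type u) [CommRing B] (k : Spec (CommRingCat.of B) ⟶ S)
  (M : Type) [AddCommGroup M]
  (eH : Red.bc k H ≅ Red.DS (Spec (CommRingCat.of B)) M) [IsMonHom eH.hom]

lemma nontrivial_away {B : Type u} [CommRing B] (t : PrimeSpectrum B) (r : B)
    (htr : t ∈ (PrimeSpectrum.basicOpen r : Set (PrimeSpectrum B))) :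
    Nontrivial (Localization.Away r) := by
  by_contra hcon
  rw [not_nontrivial_iff_subsingleton] at hcon
  have h0 : algebraMap B (Localization.Away r) 1 = 0 := Subsingleton.elim _ _
  rw [IsLocalization.map_eq_zero_iff (Submonoid.powers r)] at h0
  obtain ⟨⟨m, n, rfl⟩, hm⟩ := h0
  rw [SetLike.mem_coe, PrimeSpectrum.mem_basicOpen] at htr
  apply htr
  have : r ^ n ∈ t.asIdeal := by
    have h1 : r ^ n = 0 := by simpa using hm
    rw [h1]
    exact Ideal.zero_mem _
  exact t.isPrime.mem_of_pow_mem n this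

lemma comap_mem_basicOpen {B : Type u} [CommRing B] (r : B)
    (𝔮 : PrimeSpectrum (Localization.Away r)) :
    𝔮.comap (algebraMap B (Localization.Away r)) ∈
      (PrimeSpectrum.basicOpen r : Set (PrimeSpectrum B)) := by
  rw [SetLike.mem_coe, PrimeSpectrum.mem_basicOpen]
  intro hmem
  have hu : IsUnit (algebraMap B (Localization.Away r) r) :=
    IsLocalization.Away.algebraMap_isUnit r
  exact 𝔮.isPrime.ne_top (Ideal.eq_top_of_isUnit_mem _ hmem hu)

open scoped Obj in
/-- what a chart provides, in terms of the subgroups of characters trivial on the subgroup -/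
def IsGoodChart (Ψ : PrimeSpectrum B → AddSubgroup N) : Prop :=
    (∀ (K : Type) [AddCommGroup K] (jK : K →+ N) (t : Spec (CommRingCat.of B)),
        (Over.pullback (S.fromSpecResidueField (k t))).map (i ≫ e.hom ≫ Red.DSmap S jK) = 1 ↔
          ∀ x, jK x ∈ Ψ t) ∧
    ∀ t : PrimeSpectrum B, ∃ r : B, t ∈ (PrimeSpectrum.basicOpen r : Set (PrimeSpectrum B)) ∧
      (∀ t' ∈ (PrimeSpectrum.basicOpen r : Set (PrimeSpectrum B)), Ψ t' = Ψ t) ∧
      (∀ (K : Type) [AddCommGroup K] (jK : K →+ N),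
        ((Over.pullback (Spec.map (CommRingCat.ofHom (algebraMap B (Localization.Away r))) ≫
          k)).map (i ≫ e.hom ≫ Red.DSmap S jK) = 1 ↔ ∀ x, jK x ∈ Ψ t)) ∧
      (∀ [Mono i] (Q : Over S) [GrpObj Q] (q : T ⟶ Q) [IsMonHom q], RedSub.IsQuotient i q →
        ∀ (K : Type) [AddCommGroup K] (jK : K →+ N), Function.Injective jK → jK.range = Ψ t →
        ∃ ψ : Red.bc (Spec.map (CommRingCat.ofHom (algebraMap B (Localization.Away r))) ≫ k) Q ≅
            Red.bc (Spec.map (CommRingCat.ofHom (algebraMap B (Localization.Away r))) ≫ k)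
              (Red.DS S K),
          (Over.pullback (Spec.map (CommRingCat.ofHom (algebraMap B (Localization.Away r))) ≫
            k)).map q ≫ ψ.hom =
            (Over.pullback (Spec.map (CommRingCat.ofHom (algebraMap B (Localization.Away r))) ≫
              k)).map (e.hom ≫ Red.DSmap S jK))

include hN eH in
open scoped Obj in
/-- the chart package in terms of the subgroups of characters trivial on the subgroup -/
theorem chart_pack_DS' : ∃ Ψ : PrimeSpectrum B → AddSubgroup N, IsGoodChart i N e B k Ψ := by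
  obtain ⟨Φ, ha, hb, hb', hc⟩ := chart_pack_DS i N hN e B k M eH
  refine ⟨fun t => (Φ t).ker, fun K _ jK t => hb' K jK t, fun t => ?_⟩
  obtain ⟨r, htr, hr⟩ := ha t
  haveI := nontrivial_away t r htr
  have hconst : ∀ 𝔮 : PrimeSpectrum (Localization.Away r),
      Φ (𝔮.comap (algebraMap B (Localization.Away r))) = Φ t :=
    fun 𝔮 => hr _ (comap_mem_basicOpen r 𝔮)
  refine ⟨r, htr, fun t' ht' => by show (Φ t').ker = (Φ t).ker; rw [hr t' ht'], fun K _ jK => ?_,
    fun Q _ q _ hq K _ jK hj hex => ?_⟩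
  · exact hb K jK (Localization.Away r) (Φ t) hconst
  · exact hc Q q hq K jK hj (Localization.Away r) (Φ t) hconst hex

end packDS'

section cover

open Groth.Agent.Lib.Helper4.FpqcCov (IsCov)

variable {S : Scheme.{u}} {T H : Over S} [GrpObj T] [GrpObj H] (i : H ⟶ T) [IsMonHom i]
  {N : Type} [AddCommGroup N] (hN : AddGroup.FG N)
  (e : T ≅ Red.DS S N) [IsMonHom e.hom] (hH : MTHom5.LocTriv H (fun _ _ => True))

open scoped Obj in
/-- the characters of the split torus which are trivial on the fibre of the subgroup at `s` -/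
def Kset (s : S) : Set N :=
  {n | (Over.pullback (S.fromSpecResidueField s)).map
    (i ≫ e.hom ≫ Red.DSmap S (zmultiplesHom N n)) = 1}

include hN hH in
theorem exists_cover : ∃ (S'' : Scheme.{u}) (p : S'' ⟶ S), IsCov p ∧
    ∀ x : S'', ∃ (R : CommRingCat.{u}) (j : Spec R ⟶ S''), IsOpenImmersion j ∧
      x ∈ Set.range j ∧ ∃ Ψ : PrimeSpectrum R → AddSubgroup N, IsGoodChart i N e R (j ≫ p) Ψ := by
  obtain ⟨S'', p, hp, hcharts⟩ := MTHom5.exists_common H H _ _ hH hH
  refine ⟨S'', p, hp, fun x => ?_⟩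
  obtain ⟨R, j, hj, hx, M, iM, -, -, -, -, ⟨eG, heG⟩, -⟩ := hcharts x
  exact ⟨R, j, hj, hx, chart_pack_DS' i N hN e R (j ≫ p) M eG⟩

variable {i e} in
/-- on a good chart the set of characters trivial on the fibre is the subgroup of the chart -/
theorem kset_chart {R : Type u} [CommRing R] {k : Spec (CommRingCat.of R) ⟶ S}
    {Ψ : PrimeSpectrum R → AddSubgroup N} (h : IsGoodChart i N e R k Ψ)
    (t : Spec (CommRingCat.of R)) : Kset i e (k t) = (Ψ t : Set N) := by
  ext n
  show _ = 1 ↔ n ∈ Ψ t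
  rw [h.1 ℤ (zmultiplesHom N n) t]
  constructor
  · intro hx
    simpa using hx 1
  · intro hn x
    simpa using (Ψ t).zsmul_mem hn x

include hN hH in
/-- the set of characters trivial on the fibres of the subgroup is locally constant -/
theorem isOpen_kset_eq (L : Set N) : IsOpen {s : S | Kset i e s = L} := by
  obtain ⟨S'', p, hp, hcharts⟩ := exists_cover i hN e hH
  refine MTHom5.isOpen_of_isCov p hp _ ?_
  rw [isOpen_iff_forall_mem_open]
  intro x hxL
  obtain ⟨R, j, hj, ⟨t, ht⟩, Ψ, hΨ⟩ := hcharts x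
  obtain ⟨r, htr, hr, -⟩ := hΨ.2 t
  refine ⟨j '' (PrimeSpectrum.basicOpen r : Set (PrimeSpectrum R)), ?_,
    j.isOpenEmbedding.isOpenMap _ (PrimeSpectrum.basicOpen r).isOpen, ⟨t, htr, ht⟩⟩
  rintro _ ⟨t', ht', rfl⟩
  show Kset i e (p (j t')) = L
  have h1 : Kset i e ((j ≫ p) t') = (Ψ t' : Set N) := kset_chart hΨ t'
  have h2 : Kset i e ((j ≫ p) t) = (Ψ t : Set N) := kset_chart hΨ t
  have h3 : Kset i e (p x) = L := hxL
  rw [← ht] at h3
  show Kset i e ((j ≫ p) t') = L
  rw [h1, hr t' ht', ← h2]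
  exact h3

include hN hH in
/-- the set of characters trivial on a fibre of the subgroup is a subgroup -/
theorem exists_subgroup_kset (s : S) : ∃ L : AddSubgroup N, Kset i e s = (L : Set N) := by
  obtain ⟨S'', p, hp, hcharts⟩ := exists_cover i hN e hH
  obtain ⟨x, rfl⟩ := hp.1.surj s
  obtain ⟨R, j, hj, ⟨t, rfl⟩, Ψ, hΨ⟩ := hcharts x
  exact ⟨Ψ t, kset_chart hΨ t⟩

include hN hH in
open scoped Obj in
/-- the quotient of a split torus by a subgroup of multiplicative type whose subgroup of trivial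
characters is constant is the split torus attached to this subgroup -/
theorem core [Mono i] {Q : Over S} [GrpObj Q] (q : T ⟶ Q) [IsMonHom q]
    (hq : RedSub.IsQuotient i q) {K : Type} [AddCommGroup K] (jK : K →+ N)
    (hj : Function.Injective jK) (hconst : ∀ s : S, Kset i e s = (jK.range : Set N)) :
    ∃ ψ : Q ≅ Red.DS S K, IsMonHom ψ.hom := by
  obtain ⟨S'', p, hp, hcharts⟩ := exists_cover i hN e hH
  haveI : Flat p := hp.2.1
  haveI : Surjective p := hp.1
  haveI : IsMonHom (Red.DSmap S jK) := Groth.Agent.Lib.Helper4.KummerSeq.isMonHom_DSmap S jK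
  obtain ⟨π, hπ⟩ : ∃ π : T ⟶ Red.DS S K, π = e.hom ≫ Red.DSmap S jK := ⟨_, rfl⟩
  haveI : IsMonHom π := by
    rw [hπ]
    infer_instance
  have hgood : ∀ y : S'', ∃ (W : Scheme.{u}) (w : W ⟶ S''), IsOpenImmersion w ∧ y ∈ Set.range w ∧
      (Over.pullback (w ≫ p)).map (i ≫ π) = 1 ∧
      ∃ ψ : Red.bc (w ≫ p) Q ≅ Red.bc (w ≫ p) (Red.DS S K),
        (Over.pullback (w ≫ p)).map q ≫ ψ.hom = (Over.pullback (w ≫ p)).map π := by
    intro y
    obtain ⟨R, j, hj', ⟨t, ht⟩, Ψ, hΨ⟩ := hcharts y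
    obtain ⟨r, htr, hr, hb, hc⟩ := hΨ.2 t
    have hΨt : Ψ t = jK.range := by
      apply SetLike.coe_injective
      rw [← kset_chart hΨ t, hconst]
    haveI : IsOpenImmersion (Spec.map (CommRingCat.ofHom (algebraMap R (Localization.Away r))) ≫
      j) := inferInstance
    refine ⟨_, Spec.map (CommRingCat.ofHom (algebraMap R (Localization.Away r))) ≫ j,
      inferInstance, ?_, ?_, ?_⟩
    · have htr' : t ∈ Set.range (PrimeSpectrum.comap (algebraMap R (Localization.Away r))) := by
        rw [PrimeSpectrum.localization_away_comap_range (Localization.Away r) r]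
        exact htr
      obtain ⟨t', ht'⟩ := htr'
      refine ⟨t', ?_⟩
      show j (PrimeSpectrum.comap (algebraMap R (Localization.Away r)) t') = y
      rw [ht', ht]
    · rw [Category.assoc, hπ, hb K jK, hΨt]
      exact fun x => ⟨x, rfl⟩
    · rw [Category.assoc, hπ]
      exact hc Q q hq K jK hj hΨt.symm
  have h1 : i ≫ π = 1 := by
    refine MTSplitA.hom_ext_of_local p _ _ (fun y => ?_)
    obtain ⟨W, w, hw, hy, h, -⟩ := hgood y
    exact ⟨W, w, hw, hy, by rw [h, Functor.map_one]⟩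
  haveI := hq.1
  haveI := hq.2.1
  haveI := hq.2.2.1
  have h₂ : fst T H ≫ π = ((T ◁ i) ≫ μ[T]) ≫ π := by
    have e1 : (T ◁ i) ≫ (π ⊗ₘ π) = lift (fst T H ≫ π) (snd T H ≫ i ≫ π) := by
      apply CartesianMonoidalCategory.hom_ext <;> simp
    rw [Category.assoc, IsMonHom.mul_hom, ← Category.assoc, e1, ← Hom.mul_def, h1,
      MonObj.comp_one, _root_.mul_one]
  obtain ⟨ψ, hψ⟩ := MTQuotB.exists_desc i q π hq.2.2.2 h₂
  haveI : IsMonHom ψ := MTQuotB.isMonHom_of_comp q π ψ hψ
  have hiso : (MorphismProperty.isomorphisms Scheme.{u}) ψ.left := by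
    apply MTHom4.of_isCov (MorphismProperty.isomorphisms Scheme.{u}) ψ p hp
    apply MTHom5.of_local (MorphismProperty.isomorphisms Scheme.{u}) ψ p
    intro y
    obtain ⟨W, w, hw, hy, -, ψ', hψ'⟩ := hgood y
    refine ⟨W, w, hw, hy, ?_⟩
    have hfl : Flat ((Over.pullback (w ≫ p)).map q).left := MTHom4.map_of_map @Flat q _ hq.2.1
    have hsj : Surjective ((Over.pullback (w ≫ p)).map q).left :=
      MTHom4.map_of_map @Surjective q _ hq.1
    haveI : Epi ((Over.pullback (w ≫ p)).map q).left := Flat.epi_of_flat_of_surjective _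
    haveI : Epi ((Over.pullback (w ≫ p)).map q) := (Over.forget _).epi_of_epi_map ‹_›
    have heq : (Over.pullback (w ≫ p)).map ψ = ψ'.hom := by
      rw [← cancel_epi ((Over.pullback (w ≫ p)).map q), hψ', ← Functor.map_comp, hψ]
    rw [heq, MorphismProperty.isomorphisms.iff]
    show IsIso ((Over.forget _).map ψ'.hom)
    infer_instance
  rw [MorphismProperty.isomorphisms.iff] at hiso
  haveI : IsIso ((Over.forget S).map ψ) := hiso
  haveI : IsIso ψ := isIso_of_reflects_iso ψ (Over.forget S)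
  exact ⟨asIso ψ, by dsimp only [asIso_hom]; infer_instance⟩

end cover

/-- a subgroup of a free abelian group of finite rank is the isomorphic image of some `ℤ^r` with
`r` at most the rank -/
lemma exists_fin_hom {N : Type} [AddCommGroup N] (hN : AddGroup.FG N) (hfree : Module.Free ℤ N)
    (L : AddSubgroup N) :
    ∃ (r : ℕ) (jK : (Fin r → ℤ) →+ N), r ≤ Module.finrank ℤ N ∧ Function.Injective jK ∧
      jK.range = L := by
  haveI : Module.Finite ℤ N := Module.Finite.iff_addGroup_fg.mpr hN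
  let L' : Submodule ℤ N := AddSubgroup.toIntSubmodule L
  haveI : Module.Free ℤ L' := inferInstance
  haveI : Module.Finite ℤ L' := inferInstance
  let b := Module.finBasis ℤ L'
  let g : (Fin (Module.finrank ℤ L') → ℤ) →ₗ[ℤ] N := L'.subtype.comp b.equivFun.symm.toLinearMap
  refine ⟨Module.finrank ℤ L', g.toAddMonoidHom, Submodule.finrank_le L', ?_, ?_⟩
  · show Function.Injective g
    exact L'.subtype_injective.comp b.equivFun.symm.injective
  · ext x
    constructor
    · rintro ⟨y, rfl⟩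
      exact (b.equivFun.symm y).2
    · intro hx
      exact ⟨b.equivFun ⟨x, hx⟩, by
        show L'.subtype (b.equivFun.symm (b.equivFun ⟨x, hx⟩)) = x
        rw [LinearEquiv.symm_apply_apply]
        rfl⟩

end Groth.Agent.Lib.Helper14.MTSplitC
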