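import Mathlib
import Groth.Prelude.Def_Red2
import Groth.Prelude.Def_RedSub
import Groth.Prelude.Def_AlgGrp
import Groth.Agent.Lib.Helper14.MTSplitC

set_option autoImplicit false

namespace Groth.Agent.Lib.Helper14.MTSplitD

open CategoryTheory MonoidalCategory CartesianMonoidalCategory MonObj GrpObj AlgebraicGeometry
open CategoryTheory.Limits TensorProduct
open Groth.Agent.Lib.Helper14 GrpBridge

universe u

section locTriv

open Groth.Agent.Lib.Helper4.FpqcCov (IsCov)

variable {S : Scheme.{u}}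

open scoped Obj in
/-- local triviality for the fpqc topology is stable under base change -/
theorem locTriv_bc (G : Over S) [GrpObj G] (PM : ∀ (M : Type) [AddCommGroup M], Prop)
    (h : MTHom5.LocTriv G PM) {Z : Scheme.{u}} (g : Z ⟶ S) : MTHom5.LocTriv (Red.bc g G) PM := by
  obtain ⟨S', f, hfl, hsj, hcov, hloc⟩ := h
  have hc : IsCov (pullback.snd f g) := IsCov.baseChange ⟨hsj, hfl, hcov⟩ g
  refine ⟨pullback f g, pullback.snd f g, hc.2.1, hc.1, hc.2.2, fun y => ?_⟩
  obtain ⟨U, hxU, M, iM, hPM, ⟨e₀⟩⟩ := hloc (pullback.fst f g y)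
  obtain ⟨e, he⟩ := MTDescent.exists_iso_of_grp_iso e₀
  refine ⟨(pullback.fst f g) ⁻¹ᵁ U, hxU, M, iM, hPM, ?_⟩
  have hq : (pullback.fst f g).resLE U ((pullback.fst f g) ⁻¹ᵁ U) le_rfl ≫ (U.ι ≫ f) =
      (((pullback.fst f g) ⁻¹ᵁ U).ι ≫ pullback.snd f g) ≫ g := by
    rw [← Category.assoc, Scheme.Hom.resLE_comp_ι, Category.assoc, Category.assoc,
      pullback.condition]
  obtain ⟨e', he'⟩ := MTHom5.triv_of_factor G (U.ι ≫ f) M e
    ((pullback.fst f g).resLE U ((pullback.fst f g) ⁻¹ᵁ U) le_rfl)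
    ((((pullback.fst f g) ⁻¹ᵁ U).ι ≫ pullback.snd f g) ≫ g) hq
  obtain ⟨c, hc'⟩ := MTDescent.exists_bc_comp_iso
    (((pullback.fst f g) ⁻¹ᵁ U).ι ≫ pullback.snd f g) g _ rfl G
  haveI : IsMonHom (c ≪≫ e').hom := by
    dsimp only [Iso.trans_hom]
    infer_instance
  exact ⟨Grp.mkIso' (c ≪≫ e')⟩

end locTriv

section general

variable {S : Scheme.{u}}

/-- composing with a monoid isomorphism does not change triviality -/
theorem comp_iso_eq_one_iff {X Y Y' : Over S} [GrpObj Y] [GrpObj Y'] (v : X ⟶ Y) (c : Y ≅ Y')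
    [IsMonHom c.hom] : v ≫ c.hom = 1 ↔ v = 1 := by
  haveI : IsMonHom c.inv := inferInstance
  constructor
  · intro h
    have : v = (v ≫ c.hom) ≫ c.inv := by rw [Category.assoc, Iso.hom_inv_id, Category.comp_id]
    rw [this, h, MonObj.one_comp]
  · intro h
    rw [h, MonObj.one_comp]

open scoped Obj in
/-- triviality after iterated base change -/
theorem bc_bc_eq_one_iff {X Y : Over S} [GrpObj Y] (w : X ⟶ Y) {Z Z' : Scheme.{u}} (ρ : Z' ⟶ Z)
    (σ : Z ⟶ S) :
    (Over.pullback ρ).map ((Over.pullback σ).map w) = 1 ↔ (Over.pullback (ρ ≫ σ)).map w = 1 := by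
  have nat : (Over.pullback (ρ ≫ σ)).map w ≫ (Over.pullbackComp ρ σ).hom.app Y =
      (Over.pullbackComp ρ σ).hom.app X ≫ (Over.pullback ρ).map ((Over.pullback σ).map w) :=
    (Over.pullbackComp ρ σ).hom.naturality w
  have hm := MTDescent.isMonHom_comp_app (Over.pullbackComp ρ σ).inv Y
  have hm' := MTDescent.isMonHom_app_comp (Over.pullbackComp ρ σ).hom Y
  constructor
  · intro h
    rw [h, MonObj.comp_one] at nat
    have h2 : (Over.pullback (ρ ≫ σ)).map w =
        ((Over.pullback (ρ ≫ σ)).map w ≫ (Over.pullbackComp ρ σ).hom.app Y) ≫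
          (Over.pullbackComp ρ σ).inv.app Y := by
      rw [Category.assoc, Iso.hom_inv_id_app, Category.comp_id]
    rw [h2, nat]
    exact @MonObj.one_comp _ _ _ _ _ _
      (Functor.monObjObj (F := Over.pullback ρ) ((Over.pullback σ).obj Y)) _
      ((Over.pullbackComp ρ σ).inv.app Y) hm
  · intro h
    rw [h] at nat
    have h3 := @MonObj.one_comp _ _ _ _ _ ((Over.pullback (ρ ≫ σ)).obj X) _
        (Functor.monObjObj (F := Over.pullback ρ) ((Over.pullback σ).obj Y))
        ((Over.pullbackComp ρ σ).hom.app Y) hm'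
    have nat' := h3.symm.trans nat
    have h4 : (Over.pullback ρ).map ((Over.pullback σ).map w) =
        (Over.pullbackComp ρ σ).inv.app X ≫ (Over.pullbackComp ρ σ).hom.app X ≫
          (Over.pullback ρ).map ((Over.pullback σ).map w) := by
      rw [Iso.inv_hom_id_app_assoc]
    rw [h4, ← nat']
    exact MonObj.comp_one _

end general

section ksetBC

variable {S : Scheme.{u}} {T H : Over S} [GrpObj T] [GrpObj H] (i : H ⟶ T) [IsMonHom i]
  {N : Type} [AddCommGroup N] (e : T ≅ Red.DS S N) [IsMonHom e.hom]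

open scoped Obj in
/-- base change of the splitting of the torus, compatibly with the sets of characters trivial on
the fibres of the subgroup -/
theorem exists_bc_data {Z : Scheme.{u}} (g : Z ⟶ S) :
    ∃ eZ : Red.bc g T ≅ Red.DS Z N, IsMonHom eZ.hom ∧
      ∀ z : Z, MTSplitC.Kset ((Over.pullback g).map i) eZ z = MTSplitC.Kset i e (g z) := by
  obtain ⟨c, hc1, hc2⟩ := MTSplitA.exists_bc_comp_family g
    (Limits.IsTerminal.from specULiftZIsTerminal S)
    (Limits.IsTerminal.from specULiftZIsTerminal Z) (specULiftZIsTerminal.hom_ext _ _)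
  obtain ⟨eZ, heZm, heZ⟩ : ∃ eZ : Red.bc g T ≅ Red.DS Z N, IsMonHom eZ.hom ∧
      eZ = (Over.pullback g).mapIso e ≪≫ c (Red.diag (ULift.{u} ℤ) N) := by
    refine ⟨(Over.pullback g).mapIso e ≪≫ c (Red.diag (ULift.{u} ℤ) N), ?_, rfl⟩
    haveI := hc1 (Red.diag (ULift.{u} ℤ) N)
    dsimp only [Iso.trans_hom, Functor.mapIso_hom]
    infer_instance
  refine ⟨eZ, heZm, fun z => ?_⟩
  ext n
  show (Over.pullback (Z.fromSpecResidueField z)).map
      ((Over.pullback g).map i ≫ eZ.hom ≫ Red.DSmap Z (zmultiplesHom N n)) = 1 ↔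
    (Over.pullback (S.fromSpecResidueField (g z))).map
      (i ≫ e.hom ≫ Red.DSmap S (zmultiplesHom N n)) = 1
  haveI := hc1 (Red.diag (ULift.{u} ℤ) ℤ)
  have h1 : (Over.pullback g).map i ≫ eZ.hom ≫ Red.DSmap Z (zmultiplesHom N n) =
      (Over.pullback g).map (i ≫ e.hom ≫ Red.DSmap S (zmultiplesHom N n)) ≫
        (c (Red.diag (ULift.{u} ℤ) ℤ)).hom := by
    have h2 := hc2 (Red.diagMap (ULift.{u} ℤ) (zmultiplesHom N n))
    rw [heZ]
    simp only [Iso.trans_hom, Functor.mapIso_hom, Functor.map_comp, Category.assoc]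
    congr 2
    exact h2.symm
  rw [h1, Functor.map_comp]
  haveI : IsMonHom ((Over.pullback (Z.fromSpecResidueField z)).map
      (c (Red.diag (ULift.{u} ℤ) ℤ)).hom) := inferInstance
  obtain ⟨cz, hczm, hcz⟩ : ∃ cz : (Over.pullback (Z.fromSpecResidueField z)).obj
      (Red.bc g (Red.bc (Limits.IsTerminal.from specULiftZIsTerminal S)
        (Red.diag (ULift.{u} ℤ) ℤ))) ≅
      (Over.pullback (Z.fromSpecResidueField z)).obj (Red.bc
        (Limits.IsTerminal.from specULiftZIsTerminal Z) (Red.diag (ULift.{u} ℤ) ℤ)),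
      IsMonHom cz.hom ∧ cz.hom = (Over.pullback (Z.fromSpecResidueField z)).map
        (c (Red.diag (ULift.{u} ℤ) ℤ)).hom :=
    ⟨(Over.pullback (Z.fromSpecResidueField z)).mapIso (c (Red.diag (ULift.{u} ℤ) ℤ)), this, rfl⟩
  rw [← hcz, comp_iso_eq_one_iff _ cz, bc_bc_eq_one_iff]
  have hfs : Flat (Spec.map (g.residueFieldMap z)) ∧
      Surjective (Spec.map (g.residueFieldMap z)) := by
    rw [flat_and_surjective_SpecMap_iff]
    letI : Algebra (S.residueField (g z)) (Z.residueField z) :=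
      (g.residueFieldMap z).hom.toAlgebra
    exact (RingHom.faithfullyFlat_algebraMap_iff).mpr inferInstance
  haveI := hfs.1
  haveI := hfs.2
  rw [← Scheme.Hom.SpecMap_residueFieldMap_fromSpecResidueField, MTSplitA.bc_eq_one_iff]

end ksetBC

section stage

variable {S : Scheme.{u}} {T H : Over S} [GrpObj T] [GrpObj H] (i : H ⟶ T) [IsMonHom i] [Mono i]
  {N : Type} [AddCommGroup N] (hN : AddGroup.FG N) (hfree : Module.Free ℤ N)
  (e : T ≅ Red.DS S N) [IsMonHom e.hom] (hH : MTHom5.LocTriv H (fun _ _ => True))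

include hN hfree e hH in
open scoped Obj in
/-- the quotient of a split torus by a subgroup of multiplicative type is locally split -/
theorem stage {Q : Over S} [GrpObj Q] (q : T ⟶ Q) [IsMonHom q] (hq : RedSub.IsQuotient i q)
    (s : S) : ∃ V : S.Opens, s ∈ V ∧ ∃ r' : ℕ,
      Red.IsSplitTorusWith (Fin r' → ℤ) (Red.bc V.ι Q) := by
  obtain ⟨L, hL⟩ := MTSplitC.exists_subgroup_kset i hN e hH s
  obtain ⟨r', jK, -, hjinj, hjrange⟩ := MTSplitC.exists_fin_hom hN hfree L
  refine ⟨⟨{s' | MTSplitC.Kset i e s' = (L : Set N)}, MTSplitC.isOpen_kset_eq i hN e hH _⟩, hL, r',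
    ?_⟩
  set V : S.Opens := ⟨{s' | MTSplitC.Kset i e s' = (L : Set N)},
    MTSplitC.isOpen_kset_eq i hN e hH _⟩ with hV
  obtain ⟨eV, heVm, heV⟩ := exists_bc_data i e V.ι
  have hHV := locTriv_bc H _ hH V.ι
  have hqV := MTQuotD.isQuotient_pullback i q V.ι hq
  obtain ⟨ψ, hψ⟩ := MTSplitC.core ((Over.pullback V.ι).map i) hN eV hHV
    ((Over.pullback V.ι).map q) hqV jK hjinj (by
      intro v
      rw [heV v, hjrange]
      exact v.2)
  exact ⟨Grp.mkIso' ψ⟩

end stage

end Groth.Agent.Lib.Helper14.MTSplitD
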