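import Mathlib
import Groth.Prelude.Def_TwC
import Groth.Agent.Lib.Helper14.MTHom4
import Groth.Agent.Lib.Helper4.AffineDescent

set_option autoImplicit false
open CategoryTheory AlgebraicGeometry CategoryTheory.Limits
universe u

namespace Groth.Agent.Lib.Helper14.TwCFin


/-- finiteness over the union of two disjoint open subschemes -/
lemma isFinite_sup {Z V : Scheme.{u}} (h : Z ⟶ V) (A B : Z.Opens) (hAB : Disjoint A B)
    (hA : IsFinite (A.ι ≫ h)) (hB : IsFinite (B.ι ≫ h)) : IsFinite ((A ⊔ B).ι ≫ h) := by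
  have hcompl : IsCompl (Z.homOfLE (le_sup_left : A ≤ A ⊔ B)).opensRange
      (Z.homOfLE (le_sup_right : B ≤ A ⊔ B)).opensRange := by
    rw [Scheme.opensRange_homOfLE, Scheme.opensRange_homOfLE]
    constructor
    · rw [disjoint_iff, ← Scheme.Hom.preimage_inf, disjoint_iff.mp hAB]
      rfl
    · rw [codisjoint_iff, ← Scheme.Hom.preimage_sup]
      simp
  obtain ⟨hc⟩ := nonempty_isColimit_binaryCofanMk_of_isCompl _ _ hcompl
  let φ : (A : Scheme.{u}) ⨿ (B : Scheme.{u}) ≅ ((A ⊔ B : Z.Opens) : Scheme.{u}) :=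
    (coprodIsCoprod _ _).coconePointUniqueUpToIso hc
  have hφ : φ.hom ≫ (A ⊔ B).ι ≫ h = coprod.desc (A.ι ≫ h) (B.ι ≫ h) := by
    apply coprod.hom_ext
    · rw [coprod.inl_desc, ← Category.assoc]
      have : coprod.inl ≫ φ.hom = Z.homOfLE (le_sup_left : A ≤ A ⊔ B) :=
        (coprodIsCoprod _ _).comp_coconePointUniqueUpToIso_hom hc ⟨WalkingPair.left⟩
      rw [this, ← Category.assoc, Scheme.homOfLE_ι]
    · rw [coprod.inr_desc, ← Category.assoc]
      have : coprod.inr ≫ φ.hom = Z.homOfLE (le_sup_right : B ≤ A ⊔ B) :=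
        (coprodIsCoprod _ _).comp_coconePointUniqueUpToIso_hom hc ⟨WalkingPair.right⟩
      rw [this, ← Category.assoc, Scheme.homOfLE_ι]
  have h1 : IsFinite (φ.hom ≫ (A ⊔ B).ι ≫ h) := by
    rw [hφ]
    infer_instance
  have h2 : (A ⊔ B).ι ≫ h = φ.inv ≫ φ.hom ≫ (A ⊔ B).ι ≫ h := by rw [Iso.inv_hom_id_assoc]
  rw [h2]
  infer_instance

/-- finiteness over a finite union of pairwise disjoint open subschemes -/
lemma isFinite_biSup {Z V : Scheme.{u}} (h : Z ⟶ V) {I : Type*} (A : I → Z.Opens)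
    (hdisj : Pairwise (Function.onFun Disjoint A)) (hA : ∀ i, IsFinite ((A i).ι ≫ h))
    (J : Finset I) : ∀ W : Z.Opens, W = ⨆ i ∈ J, A i → IsFinite (W.ι ≫ h) := by
  classical
  induction J using Finset.induction_on with
  | empty =>
    intro W hW
    have hW' : W = ⊥ := by simpa using hW
    subst hW'
    haveI : IsEmpty ((⊥ : Z.Opens) : Scheme.{u}) := by
      constructor
      rintro ⟨x, hx⟩
      exact hx
    haveI : IsClosedImmersion ((⊥ : Z.Opens).ι ≫ h) := inferInstance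
    infer_instance
  | insert a J' ha ih =>
    intro W hW
    rw [Finset.iSup_insert] at hW
    subst hW
    apply isFinite_sup h _ _ ?_ (hA a) (ih _ rfl)
    rw [disjoint_iSup₂_iff]
    intro i hi
    exact hdisj (fun hai => ha (hai ▸ hi))

instance isFinite_isZariskiLocalAtTarget : IsZariskiLocalAtTarget @IsFinite :=
  @HasAffineProperty.instIsZariskiLocalAtTarget _ _
    AlgebraicGeometry.IsFinite.instHasAffinePropertyAndIsAffineFiniteCarrierObjOppositeOpensCarrierCarrierCommRingCatPresheafOpOpensTopHomAppTop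

/-- the restriction of an open immersion over an open subset of its image is an isomorphism -/
lemma isIso_restrict_ι {Z : Scheme.{u}} (W T : Z.Opens) (hTW : T ≤ W) : IsIso (W.ι ∣_ T) := by
  rw [isIso_iff_isOpenImmersion_and_epi_base]
  refine ⟨inferInstance, ?_⟩
  rw [TopCat.epi_iff_surjective]
  rintro ⟨x, hx⟩
  refine ⟨⟨⟨x, hTW hx⟩, hx⟩, ?_⟩
  apply T.ι.injective
  have := congrArg (fun f => f ⟨⟨x, hTW hx⟩, hx⟩) (congrArg (fun f => f.base.hom.toFun)
    (morphismRestrict_ι W.ι T))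
  exact this

/-- a closed subscheme of a constant scheme which is quasi-compact over the base is finite over
the base -/
lemma isFinite_of_closedImmersion_const {U : Scheme.{u}} (I : Type u) {Z : Scheme.{u}}
    (c : Z ⟶ (TwC.const U I).left) [IsClosedImmersion c]
    (hqc : QuasiCompact (c ≫ (TwC.const U I).hom)) : IsFinite (c ≫ (TwC.const U I).hom) := by
  obtain ⟨h, hh⟩ : ∃ h : Z ⟶ U, h = c ≫ (TwC.const U I).hom := ⟨_, rfl⟩
  rw [← hh] at hqc ⊢
  let O : I → (∐ fun _ : I => U).Opens := fun i => (Sigma.ι (fun _ : I => U) i).opensRange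
  let Zi : I → Z.Opens := fun i => c ⁻¹ᵁ O i
  have hdisj : Pairwise (Function.onFun Disjoint Zi) := by
    intro i j hij
    show Disjoint (c ⁻¹ᵁ O i) (c ⁻¹ᵁ O j)
    rw [disjoint_iff, ← Scheme.Hom.preimage_inf,
      disjoint_iff.mp (disjoint_opensRange_sigmaι (fun _ : I => U) i j hij)]
    rfl
  have hfin : ∀ i, IsFinite ((Zi i).ι ≫ h) := by
    intro i
    have h1 : (O i).ι ≫ Sigma.desc (fun _ : I => 𝟙 U) =
        (Sigma.ι (fun _ : I => U) i).isoOpensRange.inv := by
      rw [← cancel_epi (Sigma.ι (fun _ : I => U) i).isoOpensRange.hom, Iso.hom_inv_id,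
        ← Category.assoc, Scheme.Hom.isoOpensRange_hom_ι, Sigma.ι_desc]
    have h2 : (Zi i).ι ≫ h = (c ∣_ O i) ≫ (Sigma.ι (fun _ : I => U) i).isoOpensRange.inv := by
      rw [hh, ← Category.assoc, ← morphismRestrict_ι, Category.assoc]
      congr 1
    rw [h2]
    haveI : IsClosedImmersion (c ∣_ O i) :=
      IsZariskiLocalAtTarget.restrict (P := @IsClosedImmersion) inferInstance _
    infer_instance
  apply IsZariskiLocalAtTarget.of_forall_exists_morphismRestrict (P := @IsFinite)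
  intro x
  obtain ⟨_, ⟨V, hV, rfl⟩, hxV, -⟩ :=
    U.isBasis_affineOpens.exists_subset_of_mem_open (Set.mem_univ x) isOpen_univ
  refine ⟨V, hxV, ?_⟩
  have hcomp : IsCompact ((h ⁻¹ᵁ V : Z.Opens) : Set Z) :=
    hqc.isCompact_preimage _ V.isOpen hV.isCompact
  have hcover : ((h ⁻¹ᵁ V : Z.Opens) : Set Z) ⊆ ⋃ i, ((Zi i : Z.Opens) : Set Z) := by
    intro z _
    obtain ⟨i, y, hy⟩ := (sigmaOpenCover (fun _ : I => U)).exists_eq (c z)
    exact Set.mem_iUnion.mpr ⟨i, ⟨y, hy⟩⟩
  obtain ⟨J, hJ⟩ := hcomp.elim_finite_subcover (fun i => ((Zi i : Z.Opens) : Set Z))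
    (fun i => (Zi i).isOpen) hcover
  obtain ⟨W, hW⟩ : ∃ W : Z.Opens, W = ⨆ i ∈ J, Zi i := ⟨_, rfl⟩
  have hFW : IsFinite (W.ι ≫ h) := isFinite_biSup h Zi hdisj hfin J W hW
  have hle : h ⁻¹ᵁ V ≤ W := by
    intro z hz
    rw [hW]
    have := hJ hz
    simpa using this
  haveI := isIso_restrict_ι W (h ⁻¹ᵁ V) hle
  have h3 : IsFinite ((W.ι ≫ h) ∣_ V) :=
    IsZariskiLocalAtTarget.restrict (P := @IsFinite) hFW V
  rw [morphismRestrict_comp] at h3
  have h4 : h ∣_ V = inv (W.ι ∣_ (h ⁻¹ᵁ V)) ≫ (W.ι ∣_ (h ⁻¹ᵁ V)) ≫ h ∣_ V := by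
    rw [IsIso.inv_hom_id_assoc]
  rw [h4]
  haveI := h3
  exact MorphismProperty.comp_mem (W := @IsFinite) _ _ inferInstance h3


/-- being finite is Zariski-local on the target, pointwise version -/
lemma isFinite_of_local {T Y : Scheme.{u}} (h : T ⟶ Y)
    (hloc : ∀ y : Y, ∃ (W : Scheme.{u}) (w : W ⟶ Y), IsOpenImmersion w ∧ y ∈ Set.range w ∧
      IsFinite (pullback.snd h w)) : IsFinite h := by
  choose W w hw hy hP using hloc
  exact IsZariskiLocalAtTarget.of_openCover (P := (@IsFinite : MorphismProperty Scheme.{u}))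
    (Scheme.Cover.mkOfCovers Y W w (fun y => ⟨y, hy y⟩) hw) hP

/-- a closed subscheme, quasi-compact over the base, of a twisted constant scheme is finite over
the base -/
theorem main {S : Scheme.{u}} (R : Over S) (hR : TwC.IsTwConst TwC.Topology.fpqc R)
    {Z : Scheme.{u}} (z : Z ⟶ R.left) [IsClosedImmersion z] [QuasiCompact (z ≫ R.hom)] :
    IsFinite (z ≫ R.hom) := by
  obtain ⟨S', f, hfl, hsj, hcov, hloc⟩ := hR
  refine Groth.Agent.Lib.Helper4.FpqcCov.descends_of_isCov
    (@IsFinite : MorphismProperty Scheme.{u}) ⟨hsj, hfl, hcov⟩ (z ≫ R.hom) ?_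
  apply isFinite_of_local
  intro y
  obtain ⟨U, hyU, I, ⟨e⟩⟩ := hloc y
  refine ⟨U, U.ι, inferInstance, by rw [Scheme.Opens.range_ι]; exact hyU, ?_⟩
  let A : Over S := Over.mk (z ≫ R.hom)
  let φ : A ⟶ R := Over.homMk z rfl
  let k : (U : Scheme.{u}) ⟶ S := U.ι ≫ f
  let cc : Red.bc U.ι (Red.bc f A) ≅ Red.bc k A := ((Over.pullbackComp U.ι f).app A).symm
  have h1 : pullback.snd (pullback.snd (z ≫ R.hom) f) U.ι = cc.hom.left ≫ (Red.bc k A).hom :=
    (Over.w cc.hom).symm
  let c : Red.bc k A ⟶ TwC.const (U : Scheme.{u}) I := (Over.pullback k).map φ ≫ e.hom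
  have hc1 : IsClosedImmersion ((Over.pullback k).map φ).left :=
    MTHom4.map_of_map (@IsClosedImmersion : MorphismProperty Scheme.{u}) φ k
      (inferInstanceAs (IsClosedImmersion z))
  haveI : IsIso e.hom.left := (Over.forget _).map_isIso e.hom
  haveI : IsClosedImmersion c.left := by
    show IsClosedImmersion (((Over.pullback k).map φ).left ≫ e.hom.left)
    infer_instance
  have hqc : QuasiCompact (c.left ≫ (TwC.const (U : Scheme.{u}) I).hom) := by
    rw [Over.w c]
    show QuasiCompact (pullback.snd (z ≫ R.hom) k)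
    infer_instance
  have h2 := isFinite_of_closedImmersion_const I c.left hqc
  rw [Over.w c] at h2
  haveI : IsIso cc.hom.left := (Over.forget _).map_isIso cc.hom
  rw [h1]
  exact MorphismProperty.comp_mem (W := @IsFinite) _ _ inferInstance h2

end Groth.Agent.Lib.Helper14.TwCFin
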