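import Mathlib
import Groth.Prelude.Def_TwC
import Groth.Agent.Lib.Helper14.TwCFin
import Groth.Agent.Lib.Helper14.MTHom4
import Groth.Agent.Lib.Helper4.AffineDescent
import Groth.Agent.Lib.Helper24.Affinization.Fibre

set_option autoImplicit false
set_option linter.style.haveILetI false
open CategoryTheory AlgebraicGeometry CategoryTheory.Limits
universe u

namespace Groth.Agent.Lib.Helper14.TwCFin2

open Groth.Agent.Lib.Helper14.TwCFin

/-- the base change of a constant scheme is a constant scheme -/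
theorem nonempty_bc_const_iso {S' V : Scheme.{u}} (g : V ⟶ S') (I : Type u) :
    Nonempty (Red.bc g (TwC.const S' I) ≅ TwC.const V I) := by
  obtain ⟨D, hD⟩ : ∃ D : (∐ fun _ : I => S') ⟶ S', D = Sigma.desc fun _ : I => 𝟙 S' := ⟨_, rfl⟩
  have hιD : ∀ i, Sigma.ι (fun _ : I => S') i ≫ D = 𝟙 S' := by
    intro i; rw [hD]; exact Sigma.ι_desc _ _
  let c : I → (V ⟶ pullback D g) := fun i =>
    pullback.lift (g ≫ Sigma.ι (fun _ : I => S') i) (𝟙 V) (by rw [Category.assoc, hιD]; simp)
  have hc1 : ∀ i, c i ≫ pullback.fst D g = g ≫ Sigma.ι (fun _ : I => S') i :=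
    fun i => pullback.lift_fst _ _ _
  have hc2 : ∀ i, c i ≫ pullback.snd D g = 𝟙 V := fun i => pullback.lift_snd _ _ _
  have hpb : ∀ i, IsPullback (c i) g (pullback.fst D g) (Sigma.ι (fun _ : I => S') i) := by
    intro i
    refine IsPullback.of_right ?_ (hc1 i) (IsPullback.of_hasPullback D g).flip
    rw [hc2, hιD]
    exact IsPullback.of_horiz_isIso ⟨by simp⟩
  haveI : ∀ i, IsOpenImmersion (c i) := fun i =>
    MorphismProperty.of_isPullback (P := @IsOpenImmersion) (hpb i).flip inferInstance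
  have hcov : ⨆ i, (c i).opensRange = ⊤ := by
    rw [eq_top_iff]
    intro q _
    obtain ⟨i, s'', hs''⟩ := (sigmaOpenCover (fun _ : I => S')).exists_eq (pullback.fst D g q)
    obtain ⟨v, hv1, hv2⟩ := Scheme.exists_preimage_of_isPullback (hpb i) q s'' hs''.symm
    simp only [TopologicalSpace.Opens.iSup_mk, TopologicalSpace.Opens.mem_mk, Set.mem_iUnion]
    exact ⟨i, v, hv1⟩
  have hdisj : Pairwise (Function.onFun Disjoint fun i => (c i).opensRange) := by
    intro i j hij
    show Disjoint (c i).opensRange (c j).opensRange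
    rw [disjoint_iff]
    ext q
    simp only [TopologicalSpace.Opens.coe_inf, Set.mem_inter_iff, SetLike.mem_coe,
      TopologicalSpace.Opens.coe_bot, Set.mem_empty_iff_false, iff_false, not_and]
    rintro ⟨v, rfl⟩ ⟨v', hv'⟩
    have h1 : pullback.fst D g (c i v) = Sigma.ι (fun _ : I => S') i (g v) := by
      have := congrArg (fun t : V ⟶ _ => t v) (hc1 i)
      exact this
    have h2 : pullback.fst D g (c j v') = Sigma.ι (fun _ : I => S') j (g v') := by
      have := congrArg (fun t : V ⟶ _ => t v') (hc1 j)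
      exact this
    rw [hv', h1] at h2
    have hd := disjoint_opensRange_sigmaι (fun _ : I => S') i j hij
    rw [disjoint_iff] at hd
    have hm : Sigma.ι (fun _ : I => S') i (g v) ∈
        ((Sigma.ι (fun _ : I => S') i).opensRange ⊓ (Sigma.ι (fun _ : I => S') j).opensRange :
          (∐ fun _ : I => S').Opens) := ⟨⟨_, rfl⟩, ⟨_, h2.symm⟩⟩
    rw [hd] at hm
    exact hm
  obtain ⟨hcol⟩ := nonempty_isColimit_cofanMk_of c hcov hdisj
  let ψ : (∐ fun _ : I => V) ≅ pullback D g :=
    (coproductIsCoproduct (fun _ : I => V)).coconePointUniqueUpToIso hcol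
  have hψ : ∀ i, Sigma.ι (fun _ : I => V) i ≫ ψ.hom = c i := fun i =>
    (coproductIsCoproduct (fun _ : I => V)).comp_coconePointUniqueUpToIso_hom hcol ⟨i⟩
  have hw : ψ.hom ≫ pullback.snd D g = Sigma.desc fun _ : I => 𝟙 V := by
    apply Sigma.hom_ext
    intro i
    rw [← Category.assoc, hψ, hc2, Sigma.ι_desc]
  subst hD
  refine ⟨(Over.isoMk ψ ?_).symm⟩
  exact hw

/-- the part of a closed subscheme of a constant scheme lying in one copy of the base is finite over
the base -/
lemma isFinite_piece {U : Scheme.{u}} (I : Type u) {Z : Scheme.{u}}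
    (c : Z ⟶ (TwC.const U I).left) [IsClosedImmersion c] (i : I) :
    IsFinite ((c ⁻¹ᵁ (Sigma.ι (fun _ : I => U) i).opensRange).ι ≫ c ≫ (TwC.const U I).hom) := by
  have h1 : ((Sigma.ι (fun _ : I => U) i).opensRange).ι ≫ Sigma.desc (fun _ : I => 𝟙 U) =
      (Sigma.ι (fun _ : I => U) i).isoOpensRange.inv := by
    rw [← cancel_epi (Sigma.ι (fun _ : I => U) i).isoOpensRange.hom, Iso.hom_inv_id,
      ← Category.assoc, Scheme.Hom.isoOpensRange_hom_ι, Sigma.ι_desc]
  have h2 : (c ⁻¹ᵁ (Sigma.ι (fun _ : I => U) i).opensRange).ι ≫ c ≫ (TwC.const U I).hom =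
      (c ∣_ (Sigma.ι (fun _ : I => U) i).opensRange) ≫
        (Sigma.ι (fun _ : I => U) i).isoOpensRange.inv := by
    rw [← Category.assoc, ← morphismRestrict_ι, Category.assoc]
    congr 1
  rw [h2]
  haveI : IsClosedImmersion (c ∣_ (Sigma.ι (fun _ : I => U) i).opensRange) :=
    IsZariskiLocalAtTarget.restrict (P := @IsClosedImmersion) inferInstance _
  infer_instance

/-- a closed subscheme of a constant scheme meeting only finitely many copies of the base is finite
over the base -/
lemma isFinite_of_finset {U : Scheme.{u}} (I : Type u) {Z : Scheme.{u}}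
    (c : Z ⟶ (TwC.const U I).left) [IsClosedImmersion c] (J : Finset I)
    (hJ : ∀ zz : Z, ∃ i ∈ J, c zz ∈ Set.range (Sigma.ι (fun _ : I => U) i)) :
    IsFinite (c ≫ (TwC.const U I).hom) := by
  let Zi : I → Z.Opens := fun i => c ⁻¹ᵁ (Sigma.ι (fun _ : I => U) i).opensRange
  have hdisj : Pairwise (Function.onFun Disjoint Zi) := by
    intro i j hij
    show Disjoint (c ⁻¹ᵁ _) (c ⁻¹ᵁ _)
    rw [disjoint_iff, ← Scheme.Hom.preimage_inf,
      disjoint_iff.mp (disjoint_opensRange_sigmaι (fun _ : I => U) i j hij)]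
    rfl
  have htop : (⊤ : Z.Opens) = ⨆ i ∈ J, Zi i := by
    symm
    rw [eq_top_iff]
    intro zz _
    obtain ⟨i, hi, hz⟩ := hJ zz
    simp only [TopologicalSpace.Opens.iSup_mk, TopologicalSpace.Opens.mem_mk, Set.mem_iUnion]
    exact ⟨i, hi, hz⟩
  have h1 := isFinite_biSup (c ≫ (TwC.const U I).hom) Zi hdisj (fun i => isFinite_piece I c i) J ⊤ htop
  have h2 : c ≫ (TwC.const U I).hom =
      Z.topIso.inv ≫ (⊤ : Z.Opens).ι ≫ c ≫ (TwC.const U I).hom := by
    rw [← Category.assoc, Scheme.toIso_inv_ι, Category.id_comp]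
  rw [h2]
  exact MorphismProperty.comp_mem (W := @IsFinite) _ _ inferInstance h1

theorem locallyQuasiFinite_of_unramified {X Y : Scheme.{u}} (f : X ⟶ Y) [LocallyOfFiniteType f]
    [FormallyUnramified f] : LocallyQuasiFinite f := by
  rw [HasRingHomProperty.iff_appLE (P := @LocallyQuasiFinite)]
  intro U V e
  have h1 := HasRingHomProperty.appLE (P := @LocallyOfFiniteType) f inferInstance U V e
  have h2 := HasRingHomProperty.appLE (P := @FormallyUnramified) f inferInstance U V e
  algebraize [(f.appLE U V e).hom]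
  change Algebra.QuasiFinite _ _
  infer_instance

/-- an étale quasi-compact morphism has finite fibres -/
lemma finite_fibre_of_etale {X Y : Scheme.{u}} (f : X ⟶ Y) [Etale f] [QuasiCompact f] (y : Y) :
    (f ⁻¹' {y}).Finite := by
  haveI := locallyQuasiFinite_of_unramified f
  exact f.finite_preimage_singleton y

/-- the dichotomy over a connected chart -/
theorem chart_dichotomy {S : Scheme.{u}} (P : Over S) {Z : Scheme.{u}} (z : Z ⟶ P.left)
    [IsOpenImmersion z] [IsClosedImmersion z] {V : Scheme.{u}} [ConnectedSpace V] (k : V ⟶ S)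
    [Etale k] [QuasiCompact k] (I : Type u) (e : Red.bc k P ≅ TwC.const V I) :
    IsFinite (pullback.snd (z ≫ P.hom) k) ∨
      ∀ v : V, ¬ ((z ≫ P.hom) ⁻¹' {k v}).Finite := by
  obtain ⟨h, hh⟩ : ∃ h : Z ⟶ S, h = z ≫ P.hom := ⟨_, rfl⟩
  rw [← hh]
  let A : Over S := Over.mk h
  let φ : A ⟶ P := Over.homMk z hh.symm
  let c : Red.bc k A ⟶ TwC.const V I := (Over.pullback k).map φ ≫ e.hom
  have hc1 : IsClosedImmersion ((Over.pullback k).map φ).left :=
    MTHom4.map_of_map (@IsClosedImmersion : MorphismProperty Scheme.{u}) φ k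
      (inferInstanceAs (IsClosedImmersion z))
  have hc2 : IsOpenImmersion ((Over.pullback k).map φ).left :=
    MTHom4.map_of_map (@IsOpenImmersion : MorphismProperty Scheme.{u}) φ k
      (inferInstanceAs (IsOpenImmersion z))
  haveI : IsIso e.hom.left := (Over.forget _).map_isIso e.hom
  haveI : IsClosedImmersion c.left := by
    show IsClosedImmersion (((Over.pullback k).map φ).left ≫ e.hom.left)
    infer_instance
  haveI : IsOpenImmersion c.left := by
    show IsOpenImmersion (((Over.pullback k).map φ).left ≫ e.hom.left)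
    infer_instance
  have hcw : c.left ≫ (TwC.const V I).hom = pullback.snd h k := Over.w c
  let J : Set I := {i | ∃ zz, c.left zz ∈ Set.range (Sigma.ι (fun _ : I => V) i)}
  have hJall : ∀ i ∈ J, ∀ v : V, Sigma.ι (fun _ : I => V) i v ∈ Set.range c.left := by
    rintro i ⟨zz, v₀, hv₀⟩ v
    let T : Set V := (Sigma.ι (fun _ : I => V) i) ⁻¹' (Set.range c.left)
    have hT : IsClopen T :=
      ⟨c.left.isClosedEmbedding.isClosed_range.preimage (Sigma.ι (fun _ : I => V) i).continuous,
        c.left.isOpenEmbedding.isOpen_range.preimage (Sigma.ι (fun _ : I => V) i).continuous⟩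
    have hne : T.Nonempty := ⟨v₀, ⟨zz, hv₀.symm⟩⟩
    have := hT.eq_univ hne
    have hv : v ∈ T := by rw [this]; trivial
    exact hv
  by_cases hJ : J.Finite
  · left
    rw [← hcw]
    apply isFinite_of_finset I c.left hJ.toFinset
    intro zz
    obtain ⟨i, v, hv⟩ := (sigmaOpenCover (fun _ : I => V)).exists_eq (c.left zz)
    exact ⟨i, (Set.Finite.mem_toFinset hJ).mpr ⟨zz, v, hv⟩, v, hv⟩
  · right
    intro v hfin
    apply hJ
    have hfin2 : ((pullback.snd h k) ⁻¹' {v}).Finite := by
      have hsub : (pullback.snd h k) ⁻¹' {v} ⊆ (pullback.fst h k) ⁻¹' (h ⁻¹' {k v}) := by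
        intro w hw
        have hw' : pullback.snd h k w = v := hw
        show h (pullback.fst h k w) = k v
        have := congrArg (fun t : pullback h k ⟶ S => t w) (pullback.condition (f := h) (g := k))
        rw [← hw']
        exact this
      refine Set.Finite.subset ?_ hsub
      exact Set.Finite.preimage' hfin (fun b _ => finite_fibre_of_etale (pullback.fst h k) b)
    have hchoose : ∀ i : J, ∃ zz, c.left zz = Sigma.ι (fun _ : I => V) i.1 v := fun i =>
      hJall i.1 i.2 v
    choose F hF using hchoose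
    have hmem : ∀ i : J, F i ∈ (pullback.snd h k) ⁻¹' {v} := by
      intro i
      show pullback.snd h k (F i) = v
      rw [← hcw]
      show (TwC.const V I).hom (c.left (F i)) = v
      rw [hF i]
      have := congrArg (fun t : V ⟶ V => t v)
        (Sigma.ι_desc (fun _ : I => 𝟙 V) i.1)
      exact this
    haveI : Finite ↥((pullback.snd h k) ⁻¹' {v}) := hfin2.to_subtype
    have hinj : Function.Injective (fun i : J => (⟨F i, hmem i⟩ : ↥((pullback.snd h k) ⁻¹' {v}))) := by
      intro i j hij
      have h1 : F i = F j := congrArg Subtype.val hij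
      have h2 : Sigma.ι (fun _ : I => V) i.1 v = Sigma.ι (fun _ : I => V) j.1 v := by
        rw [← hF i, ← hF j, h1]
      by_contra hne
      have hne' : i.1 ≠ j.1 := fun h => hne (Subtype.ext h)
      have hd := disjoint_opensRange_sigmaι (fun _ : I => V) i.1 j.1 hne'
      rw [disjoint_iff] at hd
      have hm : Sigma.ι (fun _ : I => V) i.1 v ∈
          ((Sigma.ι (fun _ : I => V) i.1).opensRange ⊓ (Sigma.ι (fun _ : I => V) j.1).opensRange :
            (∐ fun _ : I => V).Opens) := ⟨⟨_, rfl⟩, ⟨_, h2.symm⟩⟩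
      rw [hd] at hm
      exact hm
    have : Finite J := Finite.of_injective _ hinj
    exact Set.toFinite J

/-- if the base change along `k` is finite then the fibres over the image of `k` are finite -/
lemma finite_fibre_of_isFinite_bc {Z S V : Scheme.{u}} (h : Z ⟶ S) (k : V ⟶ S)
    (hfin : IsFinite (pullback.snd h k)) (v : V) : (h ⁻¹' {k v}).Finite := by
  have h1 : ((pullback.snd h k) ⁻¹' {v}).Finite := (pullback.snd h k).finite_preimage_singleton v
  refine Set.Finite.subset (h1.image (pullback.fst h k)) ?_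
  intro zz hzz
  obtain ⟨w, hw1, hw2⟩ := Scheme.Pullback.exists_preimage_pullback (f := h) (g := k) zz v hzz
  exact ⟨w, hw2, hw1⟩

set_option backward.isDefEq.respectTransparency.types false in
/-- descent of finiteness from an étale quasi-compact chart to its open image -/
theorem isFinite_restrict_range {Z S V : Scheme.{u}} (h : Z ⟶ S) (k : V ⟶ S) [Etale k]
    [QuasiCompact k] (hfin : IsFinite (pullback.snd h k)) (W : S.Opens)
    (hW : (W : Set S) = Set.range k) : IsFinite (h ∣_ W) := by
  have hrange : Set.range k ⊆ Set.range W.ι := by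
    rw [Scheme.Opens.range_ι, hW]
  let k' : V ⟶ (W : Scheme.{u}) := IsOpenImmersion.lift W.ι k hrange
  have hk' : k' ≫ W.ι = k := IsOpenImmersion.lift_fac _ _ _
  have hfl : Flat k' := by
    have : Flat (k' ≫ W.ι) := by rw [hk']; infer_instance
    exact MorphismProperty.of_postcomp (W := @Flat) (W' := @IsOpenImmersion) k' W.ι
      inferInstance this
  have hsj : Surjective k' := by
    constructor
    rintro ⟨w, hw⟩
    have : w ∈ Set.range k := hW ▸ hw
    obtain ⟨v, rfl⟩ := this
    refine ⟨v, ?_⟩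
    apply W.ι.injective
    rw [← Scheme.Hom.comp_apply, hk']
    rfl
  have hqc : QuasiCompact k' := by
    haveI : QuasiCompact (k' ≫ W.ι) := by rw [hk']; infer_instance
    exact QuasiCompact.of_comp k' W.ι
  have hC := isPullback_morphismRestrict h W
  have big : IsPullback (pullback.fst h k) (pullback.snd h k) h (k' ≫ W.ι) := by
    rw [hk']
    exact IsPullback.of_hasPullback h k
  obtain ⟨l, hl1, hl2⟩ : ∃ l, l ≫ (h ∣_ W) = pullback.snd h k ≫ k' ∧
      l ≫ (h ⁻¹ᵁ W).ι = pullback.fst h k :=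
    ⟨hC.lift (pullback.snd h k ≫ k') (pullback.fst h k)
      (by rw [Category.assoc]; exact big.w.symm), hC.lift_fst _ _ _, hC.lift_snd _ _ _⟩
  rw [← hl2] at big
  have left := IsPullback.of_right big hl1 hC.flip
  exact Groth.Agent.Lib.Helper4.AffineDescent.isFinite_of_isPullback left.flip

/-- connected Noetherian étale charts for a quasi-isotrivial twisted constant scheme over a locally
Noetherian base -/
theorem exists_chart {S : Scheme.{u}} [IsLocallyNoetherian S] (P : Over S)
    (hP : TwC.IsTwConst TwC.Topology.etale P) (s : S) :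
    ∃ (V : Scheme.{u}) (k : V ⟶ S), Etale k ∧ QuasiCompact k ∧ ConnectedSpace V ∧
      s ∈ Set.range k ∧ ∃ I : Type u, Nonempty (Red.bc k P ≅ TwC.const V I) := by
  obtain ⟨S', f, hf, ⟨s', rfl⟩, I, ⟨e⟩⟩ := hP s
  haveI : IsLocallyNoetherian S' := LocallyOfFiniteType.isLocallyNoetherian f
  obtain ⟨_, ⟨A, hA, rfl⟩, hs'A, -⟩ :=
    S'.isBasis_affineOpens.exists_subset_of_mem_open (Set.mem_univ s') isOpen_univ
  haveI : IsNoetherianRing Γ(S', A) := IsLocallyNoetherian.component_noetherian ⟨A, hA⟩
  haveI : TopologicalSpace.NoetherianSpace A := noetherianSpace_of_isAffineOpen A hA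
  let a : (A : Scheme.{u}) := ⟨s', hs'A⟩
  let V : (A : Scheme.{u}).Opens := ⟨connectedComponent a,
    Groth.Agent.Lib.Helper24.Affinization.isOpen_connectedComponent_of_noetherianSpace
      (α := A) a⟩
  haveI : ConnectedSpace V := isConnected_iff_connectedSpace.mp
    (isConnected_connectedComponent (x := a))
  haveI : TopologicalSpace.NoetherianSpace V :=
    inferInstanceAs (TopologicalSpace.NoetherianSpace ((V : Set A)))
  let g : (V : Scheme.{u}) ⟶ S' := V.ι ≫ Scheme.Opens.ι A
  haveI : IsOpenImmersion g := inferInstanceAs (IsOpenImmersion (V.ι ≫ Scheme.Opens.ι A))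
  obtain ⟨e2⟩ := nonempty_bc_const_iso g I
  refine ⟨V, g ≫ f, inferInstance, inferInstance, inferInstance, ?_, I, ?_⟩
  · refine ⟨⟨a, mem_connectedComponent⟩, ?_⟩
    rfl
  · exact ⟨(Over.pullbackComp g f).app P ≪≫ (Over.pullback g).mapIso e ≪≫ e2⟩

/-- an open and closed subscheme of a quasi-isotrivial twisted constant scheme over a connected
locally Noetherian base with one finite fibre is finite over the base -/
theorem main5267 {S : Scheme.{u}} [IsLocallyNoetherian S] [ConnectedSpace S]
    (P : Over S) (hP : TwC.IsTwConst TwC.Topology.etale P)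
    {Z : Scheme.{u}} (z : Z ⟶ P.left) [IsOpenImmersion z] [IsClosedImmersion z]
    (hs : ∃ s : S, Set.Finite ((z ≫ P.hom).base ⁻¹' {s})) :
    IsFinite (z ≫ P.hom) := by
  have hL : ∀ s : S, ∃ W : S.Opens, s ∈ W ∧
      ((IsFinite ((z ≫ P.hom) ∣_ W) ∧ ∀ w ∈ W, ((z ≫ P.hom) ⁻¹' {w}).Finite) ∨
        (∀ w ∈ W, ¬ ((z ≫ P.hom) ⁻¹' {w}).Finite)) := by
    intro s
    obtain ⟨V, k, hk1, hk2, hk3, hsk, I, ⟨e⟩⟩ := exists_chart P hP s
    refine ⟨⟨Set.range k, k.isOpenMap.isOpen_range⟩, hsk, ?_⟩
    rcases chart_dichotomy P z k I e with h1 | h2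
    · left
      refine ⟨isFinite_restrict_range _ k h1 _ rfl, ?_⟩
      rintro _ ⟨v, rfl⟩
      exact finite_fibre_of_isFinite_bc _ k h1 v
    · right
      rintro _ ⟨v, rfl⟩
      exact h2 v
  let T : Set S := {s | ((z ≫ P.hom) ⁻¹' {s}).Finite}
  have hTo : IsOpen T := by
    rw [isOpen_iff_forall_mem_open]
    intro s hsT
    obtain ⟨W, hsW, h1 | h2⟩ := hL s
    · exact ⟨W, fun w hw => h1.2 w hw, W.isOpen, hsW⟩
    · exact absurd hsT (h2 s hsW)
  have hTc : IsOpen Tᶜ := by
    rw [isOpen_iff_forall_mem_open]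
    intro s hsT
    obtain ⟨W, hsW, h1 | h2⟩ := hL s
    · exact absurd (h1.2 s hsW) hsT
    · exact ⟨W, fun w hw => h2 w hw, W.isOpen, hsW⟩
  have hT : T = Set.univ := by
    have hclopen : IsClopen T := ⟨isOpen_compl_iff.mp hTc, hTo⟩
    obtain ⟨s₀, hs₀⟩ := hs
    exact hclopen.eq_univ ⟨s₀, hs₀⟩
  apply IsZariskiLocalAtTarget.of_forall_exists_morphismRestrict (P := @IsFinite)
  intro s
  obtain ⟨W, hsW, h1 | h2⟩ := hL s
  · exact ⟨W, hsW, h1.1⟩
  · have : s ∈ T := by rw [hT]; trivial
    exact absurd this (h2 s hsW)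

end Groth.Agent.Lib.Helper14.TwCFin2
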