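import Mathlib
import Groth.Prelude.Def_TwC
import Groth.Agent.Lib.Helper14.TwCFin2
import Groth.Agent.Lib.Helper17.UniqueMinimalScheme
import Groth.Agent.Lib.Helper24.Unibranch.Top
import Groth.Agent.Lib.Helper3.AlgSpLocP

set_option autoImplicit false
set_option linter.style.haveILetI false
set_option backward.isDefEq.respectTransparency.types false
open CategoryTheory AlgebraicGeometry CategoryTheory.Limits
universe u

namespace Groth.Agent.Lib.Helper14.TwCUni

open Groth.Agent.Lib.Helper14.TwCFin Groth.Agent.Lib.Helper14.TwCFin2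
open Groth.Agent.Lib.Helper17.UniqueMinimalScheme Groth.Agent.Lib.Helper17.UnibranchScheme
open Groth.Agent.Lib.Helper24.Unibranch

/-- the maximal points of a locally Noetherian scheme are locally finite -/
lemma maxPt_locallyFinite (S : Scheme.{u}) [IsLocallyNoetherian S] (x : S) :
    ∃ W : Set S, IsOpen W ∧ x ∈ W ∧ (W ∩ {e : S | IsMaxPt e}).Finite := by
  obtain ⟨_, ⟨A, hA, rfl⟩, hxA, -⟩ :=
    S.isBasis_affineOpens.exists_subset_of_mem_open (Set.mem_univ x) isOpen_univ
  haveI : IsNoetherianRing Γ(S, A) := IsLocallyNoetherian.component_noetherian ⟨A, hA⟩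
  haveI : TopologicalSpace.NoetherianSpace A := noetherianSpace_of_isAffineOpen A hA
  haveI : QuasiSober A := inferInstanceAs (QuasiSober (A : Scheme.{u}))
  haveI : T0Space A := inferInstanceAs (T0Space (A : Scheme.{u}))
  refine ⟨A, A.isOpen, hxA, ?_⟩
  have hfin : (irreducibleComponents A).Finite :=
    TopologicalSpace.NoetherianSpace.finite_irreducibleComponents
  have hfin2 : {a : A | IsMaxPt a}.Finite := by
    refine Set.Finite.of_injOn (f := fun a : A => closure ({a} : Set A)) ?_ ?_ hfin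
    · intro a ha
      exact IsMaxPt.closure_mem_irreducibleComponents ha
    · intro a _ b _ hab
      have h1 : a ⤳ b := by
        rw [specializes_iff_closure_subset]
        exact hab.ge
      have h2 : b ⤳ a := by
        rw [specializes_iff_closure_subset]
        exact hab.le
      exact (h1.antisymm h2).eq
  refine (hfin2.image Subtype.val).subset ?_
  rintro e ⟨heA, heE⟩
  refine ⟨⟨e, heA⟩, ?_, rfl⟩
  intro ζ hζ
  have : ζ.1 ⤳ e := (subtype_specializes_iff _ _).mp hζ
  exact Subtype.ext (heE _ this)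

/-- over a locally Noetherian scheme with geometrically unibranch local rings every point has an
open and closed irreducible neighbourhood -/
theorem exists_clopen_irreducible {S : Scheme.{u}} [IsLocallyNoetherian S]
    (hS : ∀ s : S, CAlg2.IsGeomUnibranch (S.presheaf.stalk s)) (s : S) :
    ∃ S₀ : S.Opens, s ∈ S₀ ∧ IsClosed (S₀ : Set S) ∧ IsIrreducible (S₀ : Set S) := by
  have huniq : ∀ x : S, ∀ e ∈ {e : S | IsMaxPt e}, ∀ e' ∈ {e : S | IsMaxPt e},
      e ⤳ x → e' ⤳ x → e = e' := by
    intro x e he e' he' hex he'x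
    have hx := isNilpotent_or_stalk_of_etale (𝟙 S) x (hS _)
    have hprime : (nilradical (S.presheaf.stalk x)).IsPrime := by
      refine ⟨?_, ?_⟩
      · intro htop
        have h1 : (1 : S.presheaf.stalk x) ∈ nilradical (S.presheaf.stalk x) := by
          rw [htop]; exact Submodule.mem_top
        exact not_isNilpotent_one (mem_nilradical.mp h1)
      · intro a b hab
        exact (hx a b (mem_nilradical.mp hab)).imp mem_nilradical.mpr mem_nilradical.mpr
    have key : ∀ e : S, e ⤳ x → IsMaxPt e →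
        S.fromSpecStalk x ⟨nilradical (S.presheaf.stalk x), hprime⟩ = e := by
      intro e he hmax
      obtain ⟨P, hP⟩ : e ∈ Set.range (S.fromSpecStalk x) := by
        rw [Scheme.range_fromSpecStalk]
        exact he
      have h0 : (⟨nilradical (S.presheaf.stalk x), hprime⟩ :
          PrimeSpectrum (S.presheaf.stalk x)) ⤳ P :=
        (PrimeSpectrum.le_iff_specializes _ _).mp
          ((PrimeSpectrum.asIdeal_le_asIdeal _ _).mp (nilradical_le_prime P.asIdeal))
      have h1 : S.fromSpecStalk x ⟨nilradical (S.presheaf.stalk x), hprime⟩ ⤳ e := by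
        rw [← hP]
        exact Specializes.map h0 (S.fromSpecStalk x).continuous
      exact hmax _ h1
    rw [← key e hex he, ← key e' he'x he']
  obtain ⟨-, h2⟩ := irreducibleComponents_of_unique {e : S | IsMaxPt e}
    (maxPt_locallyFinite S) (fun x => by
      obtain ⟨ξ, h1, h2⟩ := exists_maxPt x
      exact ⟨ξ, h2, h1⟩) huniq
  refine ⟨⟨irreducibleComponent s,
    (h2 _ (irreducibleComponent_mem_irreducibleComponents s)).1⟩, mem_irreducibleComponent,
    isClosed_irreducibleComponent, isIrreducible_irreducibleComponent⟩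

/-- the irreducible components of a scheme étale over an irreducible open of a geometrically
unibranch scheme (variant of S2787) -/
theorem irreducibleComponents_of_etale {X Y₀ S : Scheme.{u}} (f : X ⟶ Y₀) [Etale f]
    (j : Y₀ ⟶ S) [Etale j] [IrreducibleSpace Y₀]
    (hS : ∀ s : S, CAlg2.IsGeomUnibranch (S.presheaf.stalk s)) :
    (∀ x : X, ∃! Z, Z ∈ irreducibleComponents ↥X ∧ x ∈ Z) ∧
    (∀ Z ∈ irreducibleComponents ↥X, IsOpen Z ∧ ∃! x : X, x ∈ Z ∧ f x = genericPoint Y₀) := by
  have hqf := Groth.Agent.Lib.Helper14.TwCFin2.locallyQuasiFinite_of_unramified f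
  have hLF : ∀ x : X, ∃ W : Set X, IsOpen W ∧ x ∈ W ∧ (W ∩ f ⁻¹' {genericPoint Y₀}).Finite := by
    intro x
    obtain ⟨W, hxW, hfin⟩ := exists_open_finite_fibre f (genericPoint Y₀) x
    exact ⟨W, W.2, hxW, hfin.subset (fun e he => ⟨he.1, he.2⟩)⟩
  have hS' : ∀ x : X, ∃ e ∈ f ⁻¹' {genericPoint Y₀}, e ⤳ x := by
    intro x
    obtain ⟨x', hx'x, hfx'⟩ := Flat.generalizingMap f (a := x) (b := genericPoint Y₀)
      (genericPoint_specializes _)
    exact ⟨x', hfx', hx'x⟩
  have huniq : ∀ x : X, ∀ e ∈ f ⁻¹' {genericPoint Y₀}, ∀ e' ∈ f ⁻¹' {genericPoint Y₀},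
      e ⤳ x → e' ⤳ x → e = e' := by
    intro x e he e' he' hex he'x
    exact eq_of_specializes_of_nilradical_prime f x
      (isNilpotent_or_stalk_of_etale (f ≫ j) x (hS _)) hex he'x he he'
  exact irreducibleComponents_of_unique (f ⁻¹' {genericPoint Y₀}) hLF hS' huniq

/-- a quasi-isotrivial twisted constant scheme is étale over the base -/
theorem etale_of_isTwConst {S : Scheme.{u}} (P : Over S)
    (hP : TwC.IsTwConst TwC.Topology.etale P) : Etale P.hom := by
  have key : ∀ x : P.left, ∃ U : P.left.Opens, x ∈ U ∧ Etale (U.ι ≫ P.hom) := by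
    intro x
    obtain ⟨S', k, hk, ⟨v, hv⟩, I, ⟨e⟩⟩ := hP (P.hom x)
    obtain ⟨π, hπ⟩ : ∃ π : pullback P.hom k ⟶ P.left, π = pullback.fst P.hom k := ⟨_, rfl⟩
    haveI : Etale π := by rw [hπ]; infer_instance
    let U : P.left.Opens := ⟨Set.range π, π.isOpenMap.isOpen_range⟩
    have hxU : x ∈ U := by
      obtain ⟨w, hw1, -⟩ := Scheme.Pullback.exists_preimage_pullback (f := P.hom) (g := k) x v
        hv.symm
      exact ⟨w, by rw [hπ]; exact hw1⟩
    refine ⟨U, hxU, ?_⟩
    have hrange : Set.range π ⊆ Set.range U.ι := by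
      rw [Scheme.Opens.range_ι]
      exact subset_rfl
    let π' : pullback P.hom k ⟶ (U : Scheme.{u}) := IsOpenImmersion.lift U.ι π hrange
    have hπ' : π' ≫ U.ι = π := IsOpenImmersion.lift_fac _ _ _
    have het : Etale π' := by
      apply Groth.Agent.Lib.Helper3.isEtLocal_etale.of_postcomp_etale π' U.ι
      rw [hπ']
      infer_instance
    have hsurj : Surjective π' := by
      constructor
      rintro ⟨d, a, rfl⟩
      refine ⟨a, ?_⟩
      apply U.ι.injective
      have := congrArg (fun t : pullback P.hom k ⟶ P.left => t a) hπ'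
      exact this
    have hcomp : Etale (π' ≫ U.ι ≫ P.hom) := by
      rw [← Category.assoc, hπ', hπ, pullback.condition]
      have h1 : pullback.snd P.hom k = e.hom.left ≫ (TwC.const S' I).hom := (Over.w e.hom).symm
      rw [h1]
      haveI : IsIso e.hom.left := (Over.forget _).map_isIso e.hom
      haveI : Etale (TwC.const S' I).hom :=
        IsZariskiLocalAtSource.sigmaDesc (P := @Etale) (fun _ => inferInstance)
      infer_instance
    exact Groth.Agent.Lib.Helper3.isEtLocal_etale.of_comp π' (U.ι ≫ P.hom) het hsurj hcomp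
  choose U hxU hU using key
  refine IsZariskiLocalAtSource.of_iSup_eq_top (P := @Etale) U ?_ hU
  rw [eq_top_iff]
  intro x _
  exact TopologicalSpace.Opens.mem_iSup.mpr ⟨x, hxU x⟩

/-- base change of a quasi-isotrivial twisted constant scheme -/
theorem isTwConst_bc {S T : Scheme.{u}} (g : T ⟶ S) (P : Over S)
    (hP : TwC.IsTwConst TwC.Topology.etale P) :
    TwC.IsTwConst TwC.Topology.etale (Red.bc g P) := by
  intro t
  obtain ⟨S', k, hk, ⟨v, hv⟩, I, ⟨e⟩⟩ := hP (g t)
  refine ⟨pullback k g, pullback.snd k g, inferInstance, ?_, I, ?_⟩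
  · obtain ⟨w, -, hw2⟩ := Scheme.Pullback.exists_preimage_pullback (f := k) (g := g) v t hv
    exact ⟨w, hw2⟩
  · obtain ⟨e2⟩ := nonempty_bc_const_iso (pullback.fst k g) I
    have hcongr : ∀ {a b : pullback k g ⟶ S} (_ : a = b), Nonempty (Red.bc a P ≅ Red.bc b P) := by
      intro a b h
      subst h
      exact ⟨Iso.refl _⟩
    obtain ⟨e3⟩ := hcongr (pullback.condition (f := k) (g := g)).symm
    exact ⟨((Over.pullbackComp (pullback.snd k g) g).app P).symm ≪≫ e3 ≪≫
      (Over.pullbackComp (pullback.fst k g) k).app P ≪≫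
      (Over.pullback (pullback.fst k g)).mapIso e ≪≫ e2⟩

/-- connected components of a quasi-isotrivial twisted constant scheme over a locally Noetherian
geometrically unibranch base are open and finite over the base -/
theorem main5268 {S : Scheme.{u}} [IsLocallyNoetherian S]
    (hS : ∀ s : S, CAlg2.IsGeomUnibranch (S.presheaf.stalk s))
    (P : Over S) (hP : TwC.IsTwConst TwC.Topology.etale P) (x : P.left) :
    ∃ U : P.left.Opens, (U : Set P.left) = connectedComponent x ∧ IsFinite (U.ι ≫ P.hom) := by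
  obtain ⟨S₀, hsS₀, hS₀cl, hS₀irr⟩ := exists_clopen_irreducible hS (P.hom x)
  haveI : IrreducibleSpace S₀ := Subtype.irreducibleSpace hS₀irr
  haveI : IsClosedImmersion S₀.ι := IsClosedImmersion.of_isPreimmersion _ (by
    rw [Scheme.Opens.range_ι]; exact hS₀cl)
  obtain ⟨P', hP'def⟩ : ∃ P' : Over (S₀ : Scheme.{u}), P' = Red.bc S₀.ι P := ⟨_, rfl⟩
  have hP' : TwC.IsTwConst TwC.Topology.etale P' := by
    rw [hP'def]; exact isTwConst_bc S₀.ι P hP
  haveI : Etale P'.hom := etale_of_isTwConst P' hP'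
  obtain ⟨-, hcomp2⟩ := irreducibleComponents_of_etale P'.hom S₀.ι hS
  obtain ⟨q, hq⟩ : ∃ q : P'.left ⟶ P.left, q ≫ P.hom = P'.hom ≫ S₀.ι ∧ IsClosedImmersion q ∧
      IsOpenImmersion q ∧ ∃ x' : P'.left, q x' = x := by
    subst hP'def
    refine ⟨pullback.fst P.hom S₀.ι, pullback.condition, inferInstance, inferInstance, ?_⟩
    obtain ⟨w, hw1, -⟩ := Scheme.Pullback.exists_preimage_pullback (f := P.hom) (g := S₀.ι) x
      ⟨P.hom x, hsS₀⟩ rfl
    exact ⟨w, hw1⟩
  obtain ⟨hqw, hqcl, hqop, x', hx'⟩ := hq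
  have hZ₀mem := irreducibleComponent_mem_irreducibleComponents x'
  obtain ⟨hZ₀open, ξ, ⟨hξZ, hξη⟩, hξuniq⟩ := hcomp2 _ hZ₀mem
  let Z : P'.left.Opens := ⟨irreducibleComponent x', hZ₀open⟩
  haveI : IsClosedImmersion Z.ι := IsClosedImmersion.of_isPreimmersion _ (by
    rw [Scheme.Opens.range_ι]; exact isClosed_irreducibleComponent)
  have hfin : IsFinite (Z.ι ≫ P'.hom) := by
    refine main5267 P' hP' Z.ι ⟨genericPoint S₀, ?_⟩
    refine Set.Subsingleton.finite ?_
    intro w hw w' hw'
    apply Z.ι.injective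
    have h1 : Z.ι w = ξ := hξuniq _ ⟨w.2, hw⟩
    have h2 : Z.ι w' = ξ := hξuniq _ ⟨w'.2, hw'⟩
    rw [h1, h2]
  let U : P.left.Opens := (Z.ι ≫ q).opensRange
  have hUset : (U : Set P.left) = q '' (irreducibleComponent x') := by
    show Set.range (Z.ι ≫ q) = _
    ext y
    constructor
    · rintro ⟨w, rfl⟩
      exact ⟨w.1, w.2, rfl⟩
    · rintro ⟨w, hw, rfl⟩
      exact ⟨⟨w, hw⟩, rfl⟩
  refine ⟨U, ?_, ?_⟩
  · have hxU : x ∈ (U : Set P.left) := by
      rw [hUset]; exact ⟨x', mem_irreducibleComponent, hx'⟩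
    have hclopen : IsClopen (U : Set P.left) := by
      refine ⟨?_, U.isOpen⟩
      rw [hUset]
      exact q.isClosedEmbedding.isClosedMap _ isClosed_irreducibleComponent
    have hpre : _root_.IsPreconnected (U : Set P.left) := by
      rw [hUset]
      exact (isIrreducible_irreducibleComponent (x := x')).isConnected.isPreconnected.image _
        q.continuous.continuousOn
    exact Set.Subset.antisymm (hpre.subset_connectedComponent hxU)
      (hclopen.connectedComponent_subset hxU)
  · have h1 : U.ι ≫ P.hom = (Z.ι ≫ q).isoOpensRange.inv ≫ (Z.ι ≫ P'.hom) ≫ S₀.ι := by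
      rw [← cancel_epi (Z.ι ≫ q).isoOpensRange.hom, Iso.hom_inv_id_assoc, ← Category.assoc,
        Scheme.Hom.isoOpensRange_hom_ι, Category.assoc, Category.assoc, hqw]
    rw [h1]
    haveI := hfin
    infer_instance

end Groth.Agent.Lib.Helper14.TwCUni
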