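import Mathlib
import Groth.Prelude.Def_TwC
import Groth.Agent.Lib.Helper14.TwCUni
import Groth.Agent.Lib.Helper3.FppfLocal2

set_option autoImplicit false
set_option linter.style.haveILetI false
open CategoryTheory AlgebraicGeometry CategoryTheory.Limits
universe u

namespace Groth.Agent.Lib.Helper14.TwCSep

open Groth.Agent.Lib.Helper14.TwCFin Groth.Agent.Lib.Helper14.TwCFin2
open Groth.Agent.Lib.Helper14.TwCUni

/-- a constant scheme is separated over the base -/
theorem isSeparated_const (V : Scheme.{u}) (I : Type u) : IsSeparated (TwC.const V I).hom := by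
  obtain ⟨D, hD⟩ : ∃ D : (∐ fun _ : I => V) ⟶ V, D = Sigma.desc fun _ : I => 𝟙 V := ⟨_, rfl⟩
  have hιD : ∀ i, Sigma.ι (fun _ : I => V) i ≫ D = 𝟙 V := by
    intro i; rw [hD]; exact Sigma.ι_desc _ _
  show IsSeparated (Sigma.desc fun _ : I => 𝟙 V)
  rw [← hD]
  constructor
  apply IsClosedImmersion.of_isPreimmersion
  rw [← isOpen_compl_iff, isOpen_iff_forall_mem_open]
  intro p hp
  obtain ⟨i, a, ha⟩ : ∃ (i : I) (a : V), Sigma.ι (fun _ : I => V) i a = pullback.fst D D p := by
    obtain ⟨i, a, ha⟩ := (sigmaOpenCover (fun _ : I => V)).exists_eq (pullback.fst D D p)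
    exact ⟨i, a, ha⟩
  obtain ⟨j, b, hb⟩ : ∃ (j : I) (b : V), Sigma.ι (fun _ : I => V) j b = pullback.snd D D p := by
    obtain ⟨j, b, hb⟩ := (sigmaOpenCover (fun _ : I => V)).exists_eq (pullback.snd D D p)
    exact ⟨j, b, hb⟩
  refine ⟨(pullback.fst D D) ⁻¹' (Set.range (Sigma.ι (fun _ : I => V) i)) ∩
    (pullback.snd D D) ⁻¹' (Set.range (Sigma.ι (fun _ : I => V) j)), ?_, ?_, ⟨a, ha⟩, ⟨b, hb⟩⟩
  · rintro _ ⟨⟨a', ha'⟩, ⟨b', hb'⟩⟩ ⟨y, rfl⟩
    have h1 : pullback.fst D D (pullback.diagonal D y) = y := by
      have := congrArg (fun t : (∐ fun _ : I => V) ⟶ _ => t y) (pullback.diagonal_fst D)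
      exact this
    have h2 : pullback.snd D D (pullback.diagonal D y) = y := by
      have := congrArg (fun t : (∐ fun _ : I => V) ⟶ _ => t y) (pullback.diagonal_snd D)
      exact this
    rw [h1] at ha'
    rw [h2] at hb'
    by_cases hij : i = j
    · subst hij
      apply hp
      -- p lies on the diagonal
      have he : 𝟙 V ≫ 𝟙 V = Sigma.ι (fun _ : I => V) i ≫ D := by rw [hιD, Category.comp_id]
      have hr := Scheme.Pullback.range_map (f := 𝟙 V) (g := 𝟙 V) D D
        (Sigma.ι (fun _ : I => V) i) (Sigma.ι (fun _ : I => V) i) (𝟙 V) he he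
      have hpm : p ∈ Set.range (pullback.map (𝟙 V) (𝟙 V) D D
          (Sigma.ι (fun _ : I => V) i) (Sigma.ι (fun _ : I => V) i) (𝟙 V) he he) := by
        rw [hr]
        exact ⟨⟨a, ha⟩, ⟨b, hb⟩⟩
      obtain ⟨t, rfl⟩ := hpm
      have hΔ : pullback.fst (𝟙 V) (𝟙 V) ≫ pullback.diagonal (𝟙 V) = 𝟙 _ := by
        apply pullback.hom_ext
        · simp
        · rw [Category.assoc, pullback.diagonal_snd, Category.comp_id, Category.id_comp]
          have := pullback.condition (f := 𝟙 V) (g := 𝟙 V)
          simpa using this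
      have hcomm : pullback.diagonal (𝟙 V) ≫ pullback.map (𝟙 V) (𝟙 V) D D
          (Sigma.ι (fun _ : I => V) i) (Sigma.ι (fun _ : I => V) i) (𝟙 V) he he =
          Sigma.ι (fun _ : I => V) i ≫ pullback.diagonal D := by
        apply pullback.hom_ext
        · rw [Category.assoc, Category.assoc, pullback.diagonal_fst, Category.comp_id]
          show _ ≫ pullback.lift _ _ _ ≫ _ = _
          rw [pullback.lift_fst, ← Category.assoc, pullback.diagonal_fst, Category.id_comp]
        · rw [Category.assoc, Category.assoc, pullback.diagonal_snd, Category.comp_id]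
          show _ ≫ pullback.lift _ _ _ ≫ _ = _
          rw [pullback.lift_snd, ← Category.assoc, pullback.diagonal_snd, Category.id_comp]
      refine ⟨Sigma.ι (fun _ : I => V) i (pullback.fst (𝟙 V) (𝟙 V) t), ?_⟩
      have e1 := congrArg (fun m : pullback (𝟙 V) (𝟙 V) ⟶ pullback D D => m t)
        (show (pullback.fst (𝟙 V) (𝟙 V) ≫ Sigma.ι (fun _ : I => V) i) ≫ pullback.diagonal D =
          pullback.map (𝟙 V) (𝟙 V) D D
          (Sigma.ι (fun _ : I => V) i) (Sigma.ι (fun _ : I => V) i) (𝟙 V) he he by
            rw [Category.assoc, ← hcomm, ← Category.assoc, hΔ, Category.id_comp])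
      exact e1
    · -- different copies: impossible
      have hd := disjoint_opensRange_sigmaι (fun _ : I => V) i j hij
      rw [disjoint_iff] at hd
      have hm : y ∈ ((Sigma.ι (fun _ : I => V) i).opensRange ⊓
          (Sigma.ι (fun _ : I => V) j).opensRange : (∐ fun _ : I => V).Opens) :=
        ⟨⟨a', ha'⟩, ⟨b', hb'⟩⟩
      rw [hd] at hm
      exact hm
  · exact ((Sigma.ι (fun _ : I => V) i).isOpenEmbedding.isOpen_range.preimage
      (pullback.fst D D).continuous).inter
      ((Sigma.ι (fun _ : I => V) j).isOpenEmbedding.isOpen_range.preimage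
      (pullback.snd D D).continuous)

set_option backward.isDefEq.respectTransparency.types false in
/-- fppf descent from an étale chart to its open image -/
theorem descend_restrict_range (P : MorphismProperty Scheme.{u})
    [P.DescendsAlong (@Surjective ⊓ @Flat ⊓ @LocallyOfFinitePresentation)]
    {Z S V : Scheme.{u}} (h : Z ⟶ S) (k : V ⟶ S) [Etale k]
    (hP : P (pullback.snd h k)) (W : S.Opens) (hW : (W : Set S) = Set.range k) :
    P (h ∣_ W) := by
  have hrange : Set.range k ⊆ Set.range W.ι := by
    rw [Scheme.Opens.range_ι, hW]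
  let k' : V ⟶ (W : Scheme.{u}) := IsOpenImmersion.lift W.ι k hrange
  have hk' : k' ≫ W.ι = k := IsOpenImmersion.lift_fac _ _ _
  have het : Etale k' := by
    apply Groth.Agent.Lib.Helper3.isEtLocal_etale.of_postcomp_etale k' W.ι
    rw [hk']
    infer_instance
  have hsj : Surjective k' := by
    constructor
    rintro ⟨w, hw⟩
    have : w ∈ Set.range k := hW ▸ hw
    obtain ⟨v, rfl⟩ := this
    refine ⟨v, ?_⟩
    apply W.ι.injective
    rw [← Scheme.Hom.comp_apply, hk']
    rfl
  have hC := isPullback_morphismRestrict h W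
  have big : IsPullback (pullback.fst h k) (pullback.snd h k) h (k' ≫ W.ι) := by
    rw [hk']
    exact IsPullback.of_hasPullback h k
  obtain ⟨l, hl1, hl2⟩ : ∃ l, l ≫ (h ∣_ W) = pullback.snd h k ≫ k' ∧
      l ≫ (h ⁻¹ᵁ W).ι = pullback.fst h k :=
    ⟨hC.lift (pullback.snd h k ≫ k') (pullback.fst h k)
      (by rw [Category.assoc]; exact big.w.symm), hC.lift_fst _ _ _, hC.lift_snd _ _ _⟩
  rw [← hl2] at big
  have left := IsPullback.of_right big hl1 hC.flip
  exact MorphismProperty.of_isPullback_of_descendsAlong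
    (Q := @Surjective ⊓ @Flat ⊓ @LocallyOfFinitePresentation) left.flip
    ⟨⟨hsj, inferInstance⟩, inferInstance⟩ hP

/-- a quasi-isotrivial twisted constant scheme is separated over the base -/
theorem isSeparated_of_isTwConst {S : Scheme.{u}} (X : Over S)
    (hX : TwC.IsTwConst TwC.Topology.etale X) : IsSeparated X.hom := by
  apply IsZariskiLocalAtTarget.of_forall_exists_morphismRestrict (P := @IsSeparated)
  intro s
  obtain ⟨S', k, hk, hsk, I, ⟨e⟩⟩ := hX s
  refine ⟨⟨Set.range k, k.isOpenMap.isOpen_range⟩, hsk, ?_⟩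
  apply descend_restrict_range (@IsSeparated) X.hom k ?_ _ rfl
  have h1 : pullback.snd X.hom k = e.hom.left ≫ (TwC.const S' I).hom := (Over.w e.hom).symm
  rw [h1]
  haveI : IsIso e.hom.left := (Over.forget _).map_isIso e.hom
  haveI := isSeparated_const S' I
  infer_instance

/-- the structure morphism of a quasi-isotrivial twisted constant scheme lifts specializations -/
theorem specializingMap_of_isTwConst {S : Scheme.{u}} (X : Over S)
    (hX : TwC.IsTwConst TwC.Topology.etale X) : SpecializingMap X.hom := by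
  intro x s' hs
  obtain ⟨S', k, hk, ⟨v', hv'⟩, I, ⟨e⟩⟩ := hX s'
  obtain ⟨v, hvv', hkv⟩ := Flat.generalizingMap k (a := v') (b := X.hom x) (by rw [hv']; exact hs)
  obtain ⟨y, hy1, hy2⟩ := Scheme.Pullback.exists_preimage_pullback (f := X.hom) (g := k) x v
    hkv.symm
  obtain ⟨i, v₁, hv₁⟩ : ∃ (i : I) (v₁ : S'), Sigma.ι (fun _ : I => S') i v₁ = e.hom.left y := by
    obtain ⟨i, a, ha⟩ := (sigmaOpenCover (fun _ : I => S')).exists_eq (e.hom.left y)
    exact ⟨i, a, ha⟩
  have hv₁v : v₁ = v := by
    have h1 : (TwC.const S' I).hom (e.hom.left y) = pullback.snd X.hom k y := by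
      have := congrArg (fun t : (Red.bc k X).left ⟶ S' => t y) (Over.w e.hom)
      exact this
    rw [← hv₁, hy2] at h1
    have h2 : (TwC.const S' I).hom (Sigma.ι (fun _ : I => S') i v₁) = v₁ := by
      have := congrArg (fun t : S' ⟶ S' => t v₁) (Sigma.ι_desc (fun _ : I => 𝟙 S') i)
      exact this
    rw [h2] at h1
    exact h1
  subst hv₁v
  have hinv : e.inv.left (e.hom.left y) = y := by
    have h := congrArg (fun t => t.left) e.hom_inv_id
    simp only [Over.comp_left, Over.id_left] at h
    exact congrArg (fun t : (Red.bc k X).left ⟶ (Red.bc k X).left => t y) h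
  let y' := e.inv.left (Sigma.ι (fun _ : I => S') i v')
  have hyy' : y ⤳ y' := by
    rw [← hinv, ← hv₁]
    exact (hvv'.map (Sigma.ι (fun _ : I => S') i).continuous).map e.inv.left.continuous
  refine ⟨pullback.fst X.hom k y', ?_, ?_⟩
  · rw [← hy1]
    exact hyy'.map (pullback.fst X.hom k).continuous
  · have h1 : X.hom (pullback.fst X.hom k y') = k (pullback.snd X.hom k y') := by
      have := congrArg (fun t : pullback X.hom k ⟶ S => t y') (pullback.condition (f := X.hom) (g := k))
      exact this
    rw [h1]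
    have h2 : pullback.snd X.hom k y' = v' := by
      have h3 : pullback.snd X.hom k y' =
          (TwC.const S' I).hom (Sigma.ι (fun _ : I => S') i v') := by
        have := congrArg (fun t : (TwC.const S' I).left ⟶ S' =>
          t (Sigma.ι (fun _ : I => S') i v')) (Over.w e.inv)
        exact this
      rw [h3]
      have := congrArg (fun t : S' ⟶ S' => t v') (Sigma.ι_desc (fun _ : I => 𝟙 S') i)
      exact this
    rw [h2, hv']

/-- a quasi-isotrivial twisted constant scheme satisfies the valuative criterion -/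
theorem valuativeCriterion_of_isTwConst {S : Scheme.{u}} (X : Over S)
    (hX : TwC.IsTwConst TwC.Topology.etale X) : ValuativeCriterion X.hom := by
  rw [ValuativeCriterion.iff]
  refine ⟨?_, ?_⟩
  · rw [ValuativeCriterion.Existence.eq]
    intro X' Y' i₁ i₂ f' hpb
    have hspec := specializingMap_of_isTwConst (Red.bc i₂ X) (isTwConst_bc i₂ X hX)
    let φ : X' ≅ pullback X.hom i₂ := hpb.flip.isoPullback
    have hφ : φ.hom ≫ pullback.snd X.hom i₂ = f' := hpb.flip.isoPullback_hom_snd
    intro a y hay
    have h1 : pullback.snd X.hom i₂ (φ.hom a) = f' a := by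
      have := congrArg (fun t : X' ⟶ Y' => t a) hφ
      exact this
    obtain ⟨b, hb1, hb2⟩ := hspec (a := φ.hom a) (b := y) (by
      show (Red.bc i₂ X).hom (φ.hom a) ⤳ y
      have : (Red.bc i₂ X).hom (φ.hom a) = f' a := h1
      rw [this]; exact hay)
    refine ⟨φ.inv b, ?_, ?_⟩
    · have h2 : φ.inv (φ.hom a) = a := by
        have := congrArg (fun t : X' ⟶ X' => t a) φ.hom_inv_id
        exact this
      rw [← h2]
      exact hb1.map φ.inv.continuous
    · have h3 : f' (φ.inv b) = pullback.snd X.hom i₂ (φ.hom (φ.inv b)) := by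
        have := congrArg (fun t : X' ⟶ Y' => t (φ.inv b)) hφ
        exact this.symm
      have h4 : φ.hom (φ.inv b) = b := by
        have := congrArg (fun t : pullback X.hom i₂ ⟶ pullback X.hom i₂ => t b) φ.inv_hom_id
        exact this
      rw [h3, h4]
      exact hb2
  · haveI := isSeparated_of_isTwConst X hX
    exact IsSeparated.valuativeCriterion X.hom

theorem main19144 {S : Scheme.{u}} (X : Over S)
    (hX : TwC.IsTwConst TwC.Topology.etale X) :
    IsSeparated X.hom ∧ Etale X.hom ∧ ValuativeCriterion X.hom :=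
  ⟨isSeparated_of_isTwConst X hX, etale_of_isTwConst X hX, valuativeCriterion_of_isTwConst X hX⟩

end Groth.Agent.Lib.Helper14.TwCSep
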