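import Mathlib
import Groth.Prelude.Def_TwC
import Groth.Agent.Lib.Helper14.TwCSep
import Groth.Agent.Lib.Helper14.MTHom4

set_option autoImplicit false
set_option linter.style.haveILetI false
set_option backward.isDefEq.respectTransparency.types false
open CategoryTheory AlgebraicGeometry CategoryTheory.Limits
universe u

namespace Groth.Agent.Lib.Helper14.TwCIrr

open Groth.Agent.Lib.Helper14.TwCFin Groth.Agent.Lib.Helper14.TwCFin2
open Groth.Agent.Lib.Helper14.TwCUni Groth.Agent.Lib.Helper14.TwCSep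

/-- the existence of connected quasi-compact étale charts -/
def HasCharts {S : Scheme.{u}} (P : Over S) : Prop :=
  ∀ s : S, ∃ (V : Scheme.{u}) (k : V ⟶ S), Etale k ∧ QuasiCompact k ∧ ConnectedSpace V ∧
    s ∈ Set.range k ∧ ∃ I : Type u, Nonempty (Red.bc k P ≅ TwC.const V I)

/-- version of `main5267` with the charts as a hypothesis -/
theorem main5267' {S : Scheme.{u}} [ConnectedSpace S]
    (P : Over S) (hP : HasCharts P)
    {Z : Scheme.{u}} (z : Z ⟶ P.left) [IsOpenImmersion z] [IsClosedImmersion z]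
    (hs : ∃ s : S, Set.Finite ((z ≫ P.hom).base ⁻¹' {s})) :
    IsFinite (z ≫ P.hom) := by
  have hL : ∀ s : S, ∃ W : S.Opens, s ∈ W ∧
      ((IsFinite ((z ≫ P.hom) ∣_ W) ∧ ∀ w ∈ W, ((z ≫ P.hom) ⁻¹' {w}).Finite) ∨
        (∀ w ∈ W, ¬ ((z ≫ P.hom) ⁻¹' {w}).Finite)) := by
    intro s
    obtain ⟨V, k, hk1, hk2, hk3, hsk, I, ⟨e⟩⟩ := hP s
    refine ⟨⟨Set.range k, k.isOpenMap.isOpen_range⟩, hsk, ?_⟩
    rcases chart_dichotomy P z k I e with h1 | h2
    · left
      refine ⟨isFinite_restrict_range _ k h1 _ rfl, ?_⟩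
      rintro _ ⟨v, rfl⟩
      exact finite_fibre_of_isFinite_bc _ k h1 v
    · right
      rintro _ ⟨v, rfl⟩
      exact h2 v
  let T : Set S := {s | ((z ≫ P.hom) ⁻¹' {s}).Finite}
  have hTo : IsOpen T := by
    rw [isOpen_iff_forall_mem_open]
    intro s hsT
    obtain ⟨W, hsW, h1 | h2⟩ := hL s
    · exact ⟨W, fun w hw => h1.2 w hw, W.isOpen, hsW⟩
    · exact absurd hsT (h2 s hsW)
  have hTc : IsOpen Tᶜ := by
    rw [isOpen_iff_forall_mem_open]
    intro s hsT
    obtain ⟨W, hsW, h1 | h2⟩ := hL s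
    · exact absurd (h1.2 s hsW) hsT
    · exact ⟨W, fun w hw => h2 w hw, W.isOpen, hsW⟩
  have hT : T = Set.univ := by
    have hclopen : IsClopen T := ⟨isOpen_compl_iff.mp hTc, hTo⟩
    obtain ⟨s₀, hs₀⟩ := hs
    exact hclopen.eq_univ ⟨s₀, hs₀⟩
  apply IsZariskiLocalAtTarget.of_forall_exists_morphismRestrict (P := @IsFinite)
  intro s
  obtain ⟨W, hsW, h1 | h2⟩ := hL s
  · exact ⟨W, hsW, h1.1⟩
  · have : s ∈ T := by rw [hT]; trivial
    exact absurd this (h2 s hsW)

/-- charts over an irreducible quasi-separated open of a geometrically unibranch scheme -/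
theorem hasCharts_of_irreducible {S S₀ : Scheme.{u}} (j : S₀ ⟶ S) [Etale j]
    [IrreducibleSpace S₀] [QuasiSeparatedSpace S₀]
    (hS : ∀ s : S, CAlg2.IsGeomUnibranch (S.presheaf.stalk s))
    (P : Over S₀) (hP : TwC.IsTwConst TwC.Topology.etale P) : HasCharts P := by
  intro s
  obtain ⟨S', f, hf, ⟨s', rfl⟩, I, ⟨e⟩⟩ := hP s
  obtain ⟨-, hcomp⟩ := irreducibleComponents_of_etale f j hS
  obtain ⟨hZopen, -⟩ := hcomp _ (irreducibleComponent_mem_irreducibleComponents s')
  obtain ⟨_, ⟨A, hA, rfl⟩, hs'A, -⟩ :=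
    S'.isBasis_affineOpens.exists_subset_of_mem_open (Set.mem_univ s') isOpen_univ
  let V : S'.Opens := ⟨(A : Set S') ∩ irreducibleComponent s', A.isOpen.inter hZopen⟩
  have hs'V : s' ∈ V := ⟨hs'A, mem_irreducibleComponent⟩
  have hVirr : IsIrreducible (V : Set S') :=
    ⟨⟨s', hs'V⟩, (isIrreducible_irreducibleComponent (x := s')).isPreirreducible.open_subset
      V.isOpen Set.inter_subset_right⟩
  haveI : IrreducibleSpace V := Subtype.irreducibleSpace hVirr
  have hVc : IsCompact (V : Set S') :=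
    hA.isCompact.inter_right isClosed_irreducibleComponent
  haveI : CompactSpace V := isCompact_iff_compactSpace.mp hVc
  obtain ⟨e2⟩ := nonempty_bc_const_iso V.ι I
  refine ⟨V, V.ι ≫ f, inferInstance, inferInstance, inferInstance, ⟨⟨s', hs'V⟩, rfl⟩, I, ?_⟩
  exact ⟨(Over.pullbackComp V.ι f).app P ≪≫ (Over.pullback V.ι).mapIso e ≪≫ e2⟩

open Groth.Agent.Lib.Helper24.Unibranch in
/-- structure of the irreducible components of a scheme étale over an irreducible geometrically
unibranch base: the generic point of the component of `x` lies over the generic point -/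
theorem exists_generic {S : Scheme.{u}} [IrreducibleSpace S]
    (hS : ∀ s : S, CAlg2.IsGeomUnibranch (S.presheaf.stalk s))
    {X : Scheme.{u}} (f : X ⟶ S) [Etale f] (x : X) :
    ∃ l : X, f l = genericPoint S ∧ x ∈ closure ({l} : Set X) ∧
      closure ({l} : Set X) = irreducibleComponent x := by
  have hirr : IsIrreducible (irreducibleComponent x) := isIrreducible_irreducibleComponent
  have hcl : IsClosed (irreducibleComponent x) := isClosed_irreducibleComponent
  have hg := hirr.isGenericPoint_genericPoint hcl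
  refine ⟨hirr.genericPoint, ?_, ?_, hg.def⟩
  · obtain ⟨x', hx'1, hx'2⟩ := Flat.generalizingMap f (a := hirr.genericPoint)
      (b := genericPoint S) (genericPoint_specializes _)
    have hmax := isMaxPt_of_isGenericPoint (irreducibleComponent_mem_irreducibleComponents x) hg
    rw [← hmax x' hx'1]
    exact hx'2
  · rw [hg.def]
    exact mem_irreducibleComponent

theorem closure_generic {S : Scheme.{u}} [IrreducibleSpace S]
    (hS : ∀ s : S, CAlg2.IsGeomUnibranch (S.presheaf.stalk s))
    {X : Scheme.{u}} (f : X ⟶ S) [Etale f] (l : X) (hl : f l = genericPoint S) :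
    closure ({l} : Set X) ∈ irreducibleComponents X ∧ IsOpen (closure ({l} : Set X)) ∧
      ∀ y ∈ closure ({l} : Set X), f y = genericPoint S → y = l := by
  obtain ⟨-, h2⟩ := irreducibleComponents_of_etale f (𝟙 S) hS
  obtain ⟨hopen, ξ, ⟨hξZ, hξη⟩, huniq⟩ := h2 _ (irreducibleComponent_mem_irreducibleComponents l)
  obtain ⟨ζ, hζη, hlζ, hζdef⟩ := exists_generic hS f l
  have h1 : l = ξ := huniq l ⟨mem_irreducibleComponent, hl⟩
  have h2' : ζ = ξ := huniq ζ ⟨by rw [← hζdef]; exact subset_closure rfl, hζη⟩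
  have h3 : closure ({l} : Set X) = irreducibleComponent l :=
    (congrArg (fun t => closure ({t} : Set X)) (h1.trans h2'.symm)).trans hζdef
  rw [h3]
  refine ⟨irreducibleComponent_mem_irreducibleComponents l, hopen, ?_⟩
  intro y hy hyη
  rw [huniq y ⟨hy, hyη⟩, h1]

/-- part (1) -/
theorem part1 {S : Scheme.{u}} [IrreducibleSpace S]
    (hS : ∀ s : S, CAlg2.IsGeomUnibranch (S.presheaf.stalk s))
    {X : Scheme.{u}} (f : X ⟶ S) [Etale f] (x : X) :
    ∃! l : X, f l = genericPoint S ∧ x ∈ closure ({l} : Set X) := by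
  obtain ⟨h1, -⟩ := irreducibleComponents_of_etale f (𝟙 S) hS
  obtain ⟨ζ, hζη, hxζ, hζdef⟩ := exists_generic hS f x
  refine ⟨ζ, ⟨hζη, hxζ⟩, ?_⟩
  rintro l' ⟨hl'η, hxl'⟩
  obtain ⟨hc', -, -⟩ := closure_generic hS f l' hl'η
  obtain ⟨hc, -, huniq⟩ := closure_generic hS f ζ hζη
  obtain ⟨Z, -, hZuniq⟩ := h1 x
  have e1 := hZuniq _ ⟨hc', hxl'⟩
  have e2 := hZuniq _ ⟨hc, hxζ⟩
  apply huniq l' _ hl'η
  rw [e2, ← e1]
  exact subset_closure rfl

/-- part (2), finiteness -/
theorem isFinite_closure_generic {S : Scheme.{u}} [IrreducibleSpace S]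
    (hS : ∀ s : S, CAlg2.IsGeomUnibranch (S.presheaf.stalk s))
    (X : Over S) (hX : TwC.IsTwConst TwC.Topology.etale X) (U : X.left.Opens)
    (hUcl : IsClosed (U : Set X.left))
    (hU1 : ∀ y y' : X.left, y ∈ U → y' ∈ U → X.hom y = genericPoint S →
      X.hom y' = genericPoint S → y = y') :
    IsFinite (U.ι ≫ X.hom) := by
  apply isFinite_of_local
  intro s
  obtain ⟨_, ⟨W₀, hW₀, rfl⟩, hsW₀, -⟩ :=
    S.isBasis_affineOpens.exists_subset_of_mem_open (Set.mem_univ s) isOpen_univ
  refine ⟨W₀, Scheme.Opens.ι W₀, inferInstance, by rw [Scheme.Opens.range_ι]; exact hsW₀, ?_⟩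
  have hirr : IsIrreducible (W₀ : Set S) :=
    ⟨⟨s, hsW₀⟩, (IrreducibleSpace.isIrreducible_univ S).isPreirreducible.open_subset
      W₀.isOpen (Set.subset_univ _)⟩
  haveI : IrreducibleSpace W₀ := Subtype.irreducibleSpace hirr
  haveI : IsAffine (W₀ : Scheme.{u}) := hW₀
  obtain ⟨j, hj⟩ : ∃ j : (W₀ : Scheme.{u}) ⟶ S, j = Scheme.Opens.ι W₀ := ⟨_, rfl⟩
  haveI : IsOpenImmersion j := by rw [hj]; infer_instance
  rw [← hj]
  have hP' := isTwConst_bc j X hX
  have hch := hasCharts_of_irreducible j hS (Red.bc j X) hP'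
  haveI : IsClosedImmersion U.ι := IsClosedImmersion.of_isPreimmersion _ (by
    rw [Scheme.Opens.range_ι]; exact hUcl)
  let A : Over S := Over.mk (U.ι ≫ X.hom)
  let φ : A ⟶ X := Over.homMk U.ι rfl
  have hc1 : IsClosedImmersion ((Over.pullback j).map φ).left :=
    MTHom4.map_of_map (@IsClosedImmersion : MorphismProperty Scheme.{u}) φ j
      (inferInstanceAs (IsClosedImmersion U.ι))
  have hc2 : IsOpenImmersion ((Over.pullback j).map φ).left :=
    MTHom4.map_of_map (@IsOpenImmersion : MorphismProperty Scheme.{u}) φ j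
      (inferInstanceAs (IsOpenImmersion U.ι))
  have hw : ((Over.pullback j).map φ).left ≫ (Red.bc j X).hom = pullback.snd (U.ι ≫ X.hom) j :=
    Over.w ((Over.pullback j).map φ)
  rw [← hw]
  refine main5267' (Red.bc j X) hch ((Over.pullback j).map φ).left ⟨genericPoint W₀, ?_⟩
  refine Set.Subsingleton.finite ?_
  intro w hw1 w' hw1'
  rw [hw] at hw1 hw1'
  have hη : j (genericPoint W₀) = genericPoint S := genericPoint_eq_of_isOpenImmersion j
  have key : ∀ w : (pullback (U.ι ≫ X.hom) j : Scheme.{u}), pullback.snd (U.ι ≫ X.hom) j w = genericPoint W₀ →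
      X.hom (U.ι (pullback.fst (U.ι ≫ X.hom) j w)) = genericPoint S := by
    intro w hw
    have := congrArg (fun t : pullback (U.ι ≫ X.hom) j ⟶ S => t w)
      (pullback.condition (f := U.ι ≫ X.hom) (g := j))
    have h' : X.hom (U.ι (pullback.fst (U.ι ≫ X.hom) j w)) =
        j (pullback.snd (U.ι ≫ X.hom) j w) := this
    rw [h', hw, hη]
  have h3 := hU1 _ _ (pullback.fst (U.ι ≫ X.hom) j w).2 (pullback.fst (U.ι ≫ X.hom) j w').2
    (key w hw1) (key w' hw1')
  have h4 : pullback.fst (U.ι ≫ X.hom) j w = pullback.fst (U.ι ≫ X.hom) j w' :=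
    U.ι.injective h3
  exact (pullback.fst (U.ι ≫ X.hom) j).injective h4

/-- part (2) -/
theorem part2 {S : Scheme.{u}} [IrreducibleSpace S]
    (hS : ∀ s : S, CAlg2.IsGeomUnibranch (S.presheaf.stalk s))
    (X : Over S) (hX : TwC.IsTwConst TwC.Topology.etale X) (l : X.left)
    (hl : X.hom l = genericPoint S) :
    ∃ U : X.left.Opens, (U : Set X.left) = closure ({l} : Set X.left) ∧ IsClosed (U : Set X.left) ∧
      IsFinite (U.ι ≫ X.hom) ∧ Etale (U.ι ≫ X.hom) ∧ Surjective (U.ι ≫ X.hom) := by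
  haveI : Etale X.hom := etale_of_isTwConst X hX
  obtain ⟨-, hopen, huniq⟩ := closure_generic hS X.hom l hl
  let U : X.left.Opens := ⟨closure ({l} : Set X.left), hopen⟩
  have hfin : IsFinite (U.ι ≫ X.hom) := by
    apply isFinite_closure_generic hS X hX U isClosed_closure
    intro y y' hy hy' hyη hy'η
    rw [huniq y hy hyη, huniq y' hy' hy'η]
  refine ⟨U, rfl, isClosed_closure, hfin, inferInstance, ?_⟩
  constructor
  have hcl : IsClosed (Set.range (U.ι ≫ X.hom)) := (U.ι ≫ X.hom).isClosedMap.isClosed_range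
  have hmem : genericPoint S ∈ Set.range (U.ι ≫ X.hom) :=
    ⟨⟨l, subset_closure rfl⟩, hl⟩
  have : Set.range (U.ι ≫ X.hom) = Set.univ := by
    apply Set.eq_univ_of_univ_subset
    rw [← genericPoint_closure (α := S)]
    exact hcl.closure_subset_iff.mpr (Set.singleton_subset_iff.mpr hmem)
  intro s
  have hs : s ∈ Set.range (U.ι ≫ X.hom) := by rw [this]; trivial
  exact hs

/-- part (3): sections of a separated étale morphism over an irreducible base are determined by
their restriction to the generic point -/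
theorem part3 {S : Scheme.{u}} [IrreducibleSpace S] {X : Scheme.{u}} (f : X ⟶ S) [Etale f]
    [IsSeparated f] (σ₁ σ₂ : S ⟶ X) (h₁ : σ₁ ≫ f = 𝟙 S) (h₂ : σ₂ ≫ f = 𝟙 S)
    (hη : S.fromSpecResidueField (genericPoint S) ≫ σ₁ =
      S.fromSpecResidueField (genericPoint S) ≫ σ₂) : σ₁ = σ₂ := by
  let L : S ⟶ pullback f f := pullback.lift σ₁ σ₂ (by rw [h₁, h₂])
  let jE := pullback.snd (pullback.diagonal f) L
  have hL1 : L ≫ pullback.fst f f = σ₁ := pullback.lift_fst _ _ _
  have hL2 : L ≫ pullback.snd f f = σ₂ := pullback.lift_snd _ _ _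
  have hE : jE ≫ σ₁ = jE ≫ σ₂ := by
    have hc : pullback.fst (pullback.diagonal f) L ≫ pullback.diagonal f = jE ≫ L :=
      pullback.condition
    have e1 := congrArg (fun t => t ≫ pullback.fst f f) hc
    have e2 := congrArg (fun t => t ≫ pullback.snd f f) hc
    simp only [Category.assoc, pullback.diagonal_fst, pullback.diagonal_snd, Category.comp_id,
      hL1, hL2] at e1 e2
    rw [← e1, ← e2]
  haveI : IsOpenImmersion jE := inferInstanceAs (IsOpenImmersion (pullback.snd _ _))
  haveI : IsClosedImmersion jE := inferInstanceAs (IsClosedImmersion (pullback.snd _ _))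
  have hne : (Set.range jE).Nonempty := by
    let g := S.fromSpecResidueField (genericPoint S)
    let t : Spec (S.residueField (genericPoint S)) ⟶ pullback (pullback.diagonal f) L :=
      pullback.lift (g ≫ σ₁) g (by
        apply pullback.hom_ext
        · rw [Category.assoc, pullback.diagonal_fst, Category.comp_id, Category.assoc, hL1]
        · rw [Category.assoc, pullback.diagonal_snd, Category.comp_id, Category.assoc, hL2]
          exact hη)
    have ht : t ≫ jE = g := pullback.lift_snd _ _ _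
    let pt : Spec (S.residueField (genericPoint S)) := IsLocalRing.closedPoint _
    exact ⟨g pt, t pt, congrArg (fun m : Spec (S.residueField (genericPoint S)) ⟶ S => m pt) ht⟩
  have hclopen : IsClopen (Set.range jE) :=
    ⟨jE.isClosedEmbedding.isClosed_range, jE.isOpenEmbedding.isOpen_range⟩
  have huniv : Set.range jE = Set.univ := hclopen.eq_univ hne
  haveI : IsIso jE := by
    rw [isIso_iff_isOpenImmersion_and_epi_base]
    refine ⟨inferInstance, ?_⟩
    rw [TopCat.epi_iff_surjective]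
    exact Set.range_eq_univ.mp huniv
  exact (cancel_epi jE).mp hE

/-- part (4): sections over the generic point extend -/
theorem part4 {S : Scheme.{u}} [IrreducibleSpace S]
    (hS : ∀ s : S, CAlg2.IsGeomUnibranch (S.presheaf.stalk s))
    (X : Over S) (hX : TwC.IsTwConst TwC.Topology.etale X)
    (τ : Spec (S.residueField (genericPoint S)) ⟶ X.left)
    (hτ : τ ≫ X.hom = S.fromSpecResidueField (genericPoint S)) :
    ∃ σ : S ⟶ X.left, σ ≫ X.hom = 𝟙 S ∧ S.fromSpecResidueField (genericPoint S) ≫ σ = τ := by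
  haveI : Etale X.hom := etale_of_isTwConst X hX
  obtain ⟨g, hg⟩ : ∃ g : Spec (S.residueField (genericPoint S)) ⟶ S,
    g = S.fromSpecResidueField (genericPoint S) := ⟨_, rfl⟩
  haveI : IsPreimmersion g := by rw [hg]; infer_instance
  rw [← hg] at hτ ⊢
  let pt : Spec (S.residueField (genericPoint S)) := IsLocalRing.closedPoint _
  have hgpt : ∀ y : Spec (S.residueField (genericPoint S)), g y = genericPoint S := by
    intro y; rw [hg]; exact Scheme.fromSpecResidueField_apply _ _
  obtain ⟨l, hldef⟩ : ∃ l : X.left, l = τ pt := ⟨_, rfl⟩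
  have hl : X.hom l = genericPoint S := by
    rw [hldef]
    exact (congrArg (fun m : Spec (S.residueField (genericPoint S)) ⟶ S => m pt) hτ).trans
      (hgpt pt)
  obtain ⟨U, hUdef, hUcl, hfin, het, hsurj⟩ := part2 hS X hX l hl
  obtain ⟨-, -, huniq⟩ := closure_generic hS X.hom l hl
  obtain ⟨f, hf⟩ : ∃ f : (U : Scheme.{u}) ⟶ S, f = U.ι ≫ X.hom := ⟨_, rfl⟩
  rw [← hf] at hfin het hsurj
  have hrange : Set.range τ ⊆ Set.range U.ι := by
    rw [Scheme.Opens.range_ι, hUdef]
    rintro _ ⟨y, rfl⟩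
    have : y = pt := Subsingleton.elim _ _
    rw [this, ← hldef]
    exact subset_closure rfl
  let τU : Spec (S.residueField (genericPoint S)) ⟶ (U : Scheme.{u}) :=
    IsOpenImmersion.lift U.ι τ hrange
  have hτU : τU ≫ U.ι = τ := IsOpenImmersion.lift_fac _ _ _
  have hτUf : τU ≫ f = g := by rw [hf, ← Category.assoc, hτU, hτ]
  -- the generic fibre
  let p := pullback.snd f g
  let sec : Spec (S.residueField (genericPoint S)) ⟶ pullback f g :=
    pullback.lift τU (𝟙 _) (by rw [hτUf, Category.id_comp])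
  have hsec : sec ≫ p = 𝟙 _ := pullback.lift_snd _ _ _
  have hsub : ∀ w w' : (pullback f g : Scheme.{u}), w = w' := by
    have key : ∀ w : (pullback f g : Scheme.{u}), U.ι (pullback.fst f g w) = l := by
      intro w
      apply huniq
      · rw [← hUdef]; exact (pullback.fst f g w).2
      · have := congrArg (fun t : pullback f g ⟶ S => t w) (pullback.condition (f := f) (g := g))
        have h' : f (pullback.fst f g w) = g (pullback.snd f g w) := this
        have h'' : X.hom (U.ι (pullback.fst f g w)) = f (pullback.fst f g w) :=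
          (congrArg (fun t : (U : Scheme.{u}) ⟶ S => t (pullback.fst f g w)) hf).symm
        exact h''.trans (h'.trans (hgpt _))
    intro w w'
    apply (pullback.fst f g).isEmbedding.injective
    apply U.ι.injective
    rw [key w, key w']
  haveI : Etale p := inferInstanceAs (Etale (pullback.snd f g))
  have hsecet : Etale sec := by
    apply Groth.Agent.Lib.Helper3.isEtLocal_etale.of_postcomp_etale sec p
    rw [hsec]
    infer_instance
  haveI : Mono sec := mono_of_mono_fac hsec
  haveI : IsOpenImmersion sec := IsOpenImmersion.of_flat_of_mono sec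
  haveI : IsIso sec := by
    rw [isIso_iff_isOpenImmersion_and_epi_base]
    refine ⟨inferInstance, ?_⟩
    rw [TopCat.epi_iff_surjective]
    intro w
    exact ⟨pt, hsub _ _⟩
  haveI : IsIso p := by
    have : p = inv sec := by
      rw [← cancel_epi sec, hsec, IsIso.hom_inv_id]
    rw [this]
    infer_instance
  have hrank_pt : Scheme.Hom.finrank f (genericPoint S) = 1 := by
    have h1 := Scheme.Hom.finrank_pullback_snd f g pt
    rw [hgpt pt] at h1
    rw [← h1]
    have h2 := Scheme.Hom.finrank_eq_one_of_isIso p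
    exact congrFun h2 pt
  have hrank : Scheme.Hom.finrank f = 1 := by
    funext s
    have := (Scheme.Hom.isLocallyConstant_finrank f).apply_eq_of_preconnectedSpace s
      (genericPoint S)
    rw [this, hrank_pt]
    rfl
  haveI : IsIso f := (Scheme.Hom.isIso_iff_finrank_eq f).mpr hrank
  refine ⟨inv f ≫ U.ι, ?_, ?_⟩
  · rw [Category.assoc, ← hf, IsIso.inv_hom_id]
  · have : τU = g ≫ inv f := by
      rw [← hτUf, Category.assoc, IsIso.hom_inv_id, Category.comp_id]
    rw [← Category.assoc, ← this, hτU]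

theorem main19145 {S : Scheme.{u}} [IrreducibleSpace S]
    (hS : ∀ s : S, CAlg2.IsGeomUnibranch (S.presheaf.stalk s))
    (X : Over S) (hX : TwC.IsTwConst TwC.Topology.etale X) :
    (∀ x : X.left, ∃! l : X.left, X.hom.base l = genericPoint S ∧ x ∈ closure ({l} : Set X.left)) ∧
    (∀ l : X.left, X.hom.base l = genericPoint S →
      ∃ U : X.left.Opens, (U : Set X.left) = closure ({l} : Set X.left) ∧ IsClosed (U : Set X.left) ∧
        IsFinite (U.ι ≫ X.hom) ∧ Etale (U.ι ≫ X.hom) ∧ Surjective (U.ι ≫ X.hom)) ∧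
    (∀ σ₁ σ₂ : S ⟶ X.left, σ₁ ≫ X.hom = 𝟙 S → σ₂ ≫ X.hom = 𝟙 S →
      S.fromSpecResidueField (genericPoint S) ≫ σ₁ = S.fromSpecResidueField (genericPoint S) ≫ σ₂ → σ₁ = σ₂) ∧
    (∀ τ : Spec (S.residueField (genericPoint S)) ⟶ X.left, τ ≫ X.hom = S.fromSpecResidueField (genericPoint S) →
      ∃ σ : S ⟶ X.left, σ ≫ X.hom = 𝟙 S ∧ S.fromSpecResidueField (genericPoint S) ≫ σ = τ) := by
  haveI : Etale X.hom := etale_of_isTwConst X hX
  haveI : IsSeparated X.hom := isSeparated_of_isTwConst X hX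
  exact ⟨fun x => part1 hS X.hom x, fun l hl => part2 hS X hX l hl,
    fun σ₁ σ₂ h₁ h₂ h => part3 X.hom σ₁ σ₂ h₁ h₂ h, fun τ hτ => part4 hS X hX τ hτ⟩

end Groth.Agent.Lib.Helper14.TwCIrr
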