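import Mathlib
import Groth.Agent.Lib.Helper14.TwCIrr

set_option autoImplicit false
universe u
open CategoryTheory Limits AlgebraicGeometry

namespace Groth.Agent.Lib.Helper14.EtTorsC

/-- factor a residue-field point through the residue field of the image -/
lemma exists_factor {T S : Scheme.{u}} (f : T ⟶ S) (t : T) (s : S) (h : f t = s) :
    ∃ c : Spec (T.residueField t) ⟶ Spec (S.residueField s),
      T.fromSpecResidueField t ≫ f = c ≫ S.fromSpecResidueField s := by
  subst h
  exact ⟨Spec.map (f.residueFieldMap t),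
    (Scheme.Hom.SpecMap_residueFieldMap_fromSpecResidueField f t).symm⟩

lemma isIso_of_isOpenImmersion_of_surjective {X Y : Scheme.{u}} (f : X ⟶ Y) [IsOpenImmersion f]
    (hf : Function.Surjective f) : IsIso f := by
  apply isIso_of_isOpenImmersion_of_opensRange_eq_top
  ext y
  simpa using hf y

/-- the fibre of an étale morphism having a single point and a rational point is trivial -/
theorem isIso_fiber_of_section {S Z : Scheme.{u}} (q : Z ⟶ S) [Etale q] (η : S)
    (hsub : (q ⁻¹' {η}).Subsingleton)
    (x' : Spec (S.residueField η) ⟶ Z) (hx' : x' ≫ q = S.fromSpecResidueField η) :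
    IsIso (q.fiberToSpecResidueField η) := by
  let σ : Spec (S.residueField η) ⟶ q.fiber η := pullback.lift x' (𝟙 _) (by simpa using hx')
  have hσ : σ ≫ q.fiberToSpecResidueField η = 𝟙 _ := pullback.lift_snd _ _ _
  have hm : Mono σ := mono_of_mono_fac hσ
  have h1 : Etale (q.fiberToSpecResidueField η) :=
    inferInstanceAs (Etale (pullback.snd q (S.fromSpecResidueField η)))
  have h2 : Etale σ := by
    have : Etale (σ ≫ q.fiberToSpecResidueField η) := by rw [hσ]; infer_instance
    exact Etale.of_comp σ (q.fiberToSpecResidueField η)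
  have h3 : IsOpenImmersion σ := IsOpenImmersion.of_flat_of_mono σ
  have h4 : Function.Surjective σ := by
    have hss : Subsingleton ↥(q.fiber η) := by
      have : Subsingleton ↥(q ⁻¹' {η}) := hsub.coe_sort
      exact (q.fiberHomeo η).toEquiv.subsingleton
    intro y
    exact ⟨(IsLocalRing.closedPoint _ : PrimeSpectrum _), Subsingleton.elim _ _⟩
  have h5 : IsIso σ := isIso_of_isOpenImmersion_of_surjective σ h4
  have h6 : IsIso (σ ≫ q.fiberToSpecResidueField η) := by rw [hσ]; infer_instance
  exact IsIso.of_isIso_comp_left σ _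

/-- an étale separated morphism from an irreducible scheme to `S`, with a single point over `η`
and a `κ(η)`-rational point there, with `η`-fibre dense under generization, is a monomorphism -/
theorem mono_of_section {S Z : Scheme.{u}} (q : Z ⟶ S) [Etale q] [IsSeparated q] (η : S)
    (ξ : Z) (hξ : ∀ z : Z, ξ ⤳ z) (huniq : ∀ z : Z, q z = η → z = ξ)
    (x' : Spec (S.residueField η) ⟶ Z) (hx' : x' ≫ q = S.fromSpecResidueField η) :
    Mono q := by
  have hξη : q ξ = η := by
    obtain ⟨pt⟩ : Nonempty ↥(Spec (S.residueField η)) := ⟨IsLocalRing.closedPoint _⟩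
    have h : q (x' pt) = η := by
      rw [← Scheme.Hom.comp_apply, hx', Scheme.fromSpecResidueField_apply]
    rw [← huniq _ h]
    exact h
  have hsub : (q ⁻¹' {η}).Subsingleton := by
    intro a ha b hb
    rw [huniq a ha, huniq b hb]
  have hiso := isIso_fiber_of_section q η hsub x' hx'
  rw [← pullback.isIso_diagonal_iff]
  have hcl : IsClosed (Set.range (pullback.diagonal q)) :=
    (pullback.diagonal q).isClosedEmbedding.isClosed_range
  apply isIso_of_isOpenImmersion_of_surjective
  intro w
  -- generization of `w` over `ξ`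
  obtain ⟨w₀, hw₀w, hw₀ξ⟩ := Flat.generalizingMap (pullback.fst q q) (a := w) (b := ξ) (hξ _)
  have hw₀ξ' : pullback.snd q q w₀ = ξ := by
    apply huniq
    rw [← Scheme.Hom.comp_apply, ← pullback.condition, Scheme.Hom.comp_apply, hw₀ξ, hξη]
  have hw₀η : (pullback.fst q q ≫ q) w₀ = η := by
    rw [Scheme.Hom.comp_apply, hw₀ξ, hξη]
  obtain ⟨c, hc⟩ := exists_factor (pullback.fst q q ≫ q) w₀ η hw₀η
  set ι₀ := (pullback q q).fromSpecResidueField w₀ with hι₀
  let a := ι₀ ≫ pullback.fst q q
  let b := ι₀ ≫ pullback.snd q q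
  have hab : a = b := by
    have ha : a ≫ q = c ≫ S.fromSpecResidueField η := by
      rw [← hc]; simp [a]
    have hb : b ≫ q = c ≫ S.fromSpecResidueField η := by
      rw [← hc]; simp [b, pullback.condition]
    have e1 : pullback.lift a c ha ≫ q.fiberToSpecResidueField η = c := pullback.lift_snd _ _ _
    have e2 : pullback.lift b c hb ≫ q.fiberToSpecResidueField η = c := pullback.lift_snd _ _ _
    have e3 : pullback.lift a c ha = pullback.lift b c hb :=
      (cancel_mono (q.fiberToSpecResidueField η)).mp (e1.trans e2.symm)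
    have e4 := congrArg (fun f => f ≫ pullback.fst q (S.fromSpecResidueField η)) e3
    simp only [pullback.lift_fst] at e4
    exact e4
  have hfac : ι₀ = a ≫ pullback.diagonal q := by
    apply pullback.hom_ext
    · simp [a]
    · simp only [Category.assoc, pullback.diagonal_snd, Category.comp_id]
      exact hab.symm ▸ rfl
  have hw₀ : w₀ ∈ Set.range (pullback.diagonal q) := by
    obtain ⟨pt⟩ : Nonempty ↥(Spec ((pullback q q).residueField w₀)) :=
      ⟨IsLocalRing.closedPoint _⟩
    refine ⟨a pt, ?_⟩
    rw [← Scheme.Hom.comp_apply, ← hfac, hι₀]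
    exact (pullback q q).fromSpecResidueField_apply w₀ _
  exact hcl.stableUnderSpecialization hw₀w hw₀

/-- the component through a generic rational point of an étale separated scheme over an
irreducible geometrically unibranch base maps by an open immersion -/
theorem exists_component {S X : Scheme.{u}} [IrreducibleSpace S]
    (hS : ∀ s : S, CAlg2.IsGeomUnibranch (S.presheaf.stalk s))
    (p : X ⟶ S) [Etale p] [IsSeparated p]
    (x : Spec (S.residueField (genericPoint S)) ⟶ X)
    (hx : x ≫ p = S.fromSpecResidueField (genericPoint S)) :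
    ∃ (Z : X.Opens) (x' : Spec (S.residueField (genericPoint S)) ⟶ Z.toScheme),
      IsClosed (Z : Set X) ∧ IsOpenImmersion (Z.ι ≫ p) ∧ x' ≫ Z.ι = x := by
  obtain ⟨pt⟩ : Nonempty ↥(Spec (S.residueField (genericPoint S))) :=
    ⟨IsLocalRing.closedPoint _⟩
  have hss : Subsingleton ↥(Spec (S.residueField (genericPoint S))) :=
    inferInstanceAs (Subsingleton (PrimeSpectrum _))
  set ξ := x pt with hξdef
  have hξ : p ξ = genericPoint S := by
    rw [hξdef, ← Scheme.Hom.comp_apply, hx, Scheme.fromSpecResidueField_apply]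
  obtain ⟨hcomp, hopen, huniq⟩ := TwCIrr.closure_generic hS p ξ hξ
  let Z : X.Opens := ⟨closure {ξ}, hopen⟩
  have hrange : Set.range x ⊆ (Z : Set X) := by
    rintro _ ⟨y, rfl⟩
    have : y = pt := Subsingleton.elim _ _
    subst this
    exact subset_closure rfl
  let x' := IsOpenImmersion.lift Z.ι x (by simpa using hrange)
  have hx' : x' ≫ Z.ι = x := IsOpenImmersion.lift_fac _ _ _
  refine ⟨Z, x', isClosed_closure, ?_, hx'⟩
  let ξ' : Z.toScheme := ⟨ξ, subset_closure rfl⟩
  have hgen : ∀ z : Z.toScheme, ξ' ⤳ z := by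
    intro z
    rw [← Z.ι.isOpenEmbedding.isInducing.specializes_iff]
    exact specializes_iff_mem_closure.mpr z.2
  have huniq' : ∀ z : Z.toScheme, (Z.ι ≫ p) z = genericPoint S → z = ξ' := by
    intro z hz
    apply Z.ι.isOpenEmbedding.injective
    exact huniq (Z.ι z) z.2 (by simpa using hz)
  have hm : Mono (Z.ι ≫ p) := mono_of_section (Z.ι ≫ p) _ ξ' hgen huniq' x'
    (by rw [← hx, ← hx', Category.assoc])
  exact IsOpenImmersion.of_flat_of_mono (Z.ι ≫ p)

end Groth.Agent.Lib.Helper14.EtTorsC
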