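import Mathlib
import Groth.Agent.Lib.Helper9.ClImmNhd
import Groth.Agent.Lib.Helper24.FibHom.SecIso
import Groth.Agent.Lib.Helper14.EtTorsC

/-! A homomorphism of group schemes whose source is locally of finite type over the base and
all of whose fibres are monomorphisms is a monomorphism. -/

set_option autoImplicit false
set_option linter.style.haveILetI false

namespace Groth.Agent.Lib.Helper14.KerTriv

open CategoryTheory MonoidalCategory CartesianMonoidalCategory MonObj GrpObj AlgebraicGeometry
open CategoryTheory.Limits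

universe u

variable {S : Scheme.{u}}

set_option backward.isDefEq.respectTransparency.types false in
/-- a morphism locally of finite type, with a section, all of whose fibres are trivial, is an
isomorphism -/
theorem isIso_of_fibres {K : Scheme.{u}} (k₂ : K ⟶ S) [LocallyOfFiniteType k₂] (σ : S ⟶ K)
    (hσ : σ ≫ k₂ = 𝟙 S) (hfib : ∀ y : S, IsIso (k₂.fiberToSpecResidueField y)) : IsIso k₂ := by
  have hunr : FormallyUnramified k₂ := by
    have key : ∀ x : K, ∃ W : K.Opens, x ∈ W ∧ FormallyUnramified (W.ι ≫ k₂) := by
      intro x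
      haveI := hfib (k₂ x)
      exact Groth.Agent.Lib.Helper9.ClImmNhd.exists_unramified_nhd k₂ (k₂ x) x rfl
    choose W hxW hW using key
    refine IsZariskiLocalAtSource.of_iSup_eq_top (P := @FormallyUnramified) W ?_ hW
    rw [eq_top_iff]
    intro x _
    exact TopologicalSpace.Opens.mem_iSup.mpr ⟨x, hxW x⟩
  haveI : IsOpenImmersion (σ ≫ k₂) := by rw [hσ]; infer_instance
  haveI : IsOpenImmersion σ :=
    Groth.Agent.Lib.Helper24.FibHom.isOpenImmersion_of_comp_unramified σ k₂
  have hsurj : Function.Surjective σ := by
    intro z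
    refine ⟨k₂ z, ?_⟩
    set y := k₂ z with hy
    haveI := hfib y
    have hsub : Subsingleton ↥(k₂.fiber y) := by
      have hinj : Function.Injective (k₂.fiberToSpecResidueField y) :=
        (ConcreteCategory.bijective_of_isIso ((k₂.fiberToSpecResidueField y).base)).injective
      haveI : Subsingleton ↥(Spec (S.residueField y)) :=
        inferInstanceAs (Subsingleton (PrimeSpectrum _))
      exact hinj.subsingleton
    have h1 : z ∈ Set.range (k₂.fiberι y) := by rw [k₂.range_fiberι y]; rfl
    have h2 : σ y ∈ Set.range (k₂.fiberι y) := by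
      rw [k₂.range_fiberι y]
      show k₂ (σ y) = y
      have : k₂ (σ y) = (σ ≫ k₂) y := rfl
      rw [this, hσ]; rfl
    obtain ⟨a, ha⟩ := h1
    obtain ⟨b, hb⟩ := h2
    rw [← ha, ← hb, Subsingleton.elim a b]
  haveI : IsIso σ := Groth.Agent.Lib.Helper14.EtTorsC.isIso_of_isOpenImmersion_of_surjective σ hsurj
  have : k₂ = inv σ := by
    rw [← cancel_epi σ, hσ, IsIso.hom_inv_id]
  rw [this]; infer_instance

section grp

variable (H G : Over S) [GrpObj H] [GrpObj G] (u : H ⟶ G) [IsMonHom u]

/-- unit section of a group over `S` -/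
noncomputable def unitSec (G : Over S) [GrpObj G] : S ⟶ G.left := (η[G] : 𝟙_ (Over S) ⟶ G).left

lemma unitSec_hom (G : Over S) [GrpObj G] : unitSec G ≫ G.hom = 𝟙 S :=
  Over.w (η[G] : 𝟙_ (Over S) ⟶ G)

lemma unitSec_comp : unitSec H ≫ u.left = unitSec G := by
  have := congrArg (fun t : 𝟙_ (Over S) ⟶ G => t.left) (IsMonHom.one_hom (f := u))
  exact this

lemma one_left {T : Over S} (G : Over S) [GrpObj G] : (1 : T ⟶ G).left = T.hom ≫ unitSec G := by
  rw [Hom.one_def, Over.comp_left]
  rfl

theorem mono_of_fibres [LocallyOfFiniteType H.hom]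
    (hfib : ∀ s : S, Mono ((Over.pullback (S.fromSpecResidueField s)).map u).left) :
    Mono u.left := by
  set eG := unitSec G with heG
  set eH := unitSec H with heH
  let k₁ := pullback.fst u.left eG
  let k₂ := pullback.snd u.left eG
  have hcond : k₁ ≫ u.left = k₂ ≫ eG := pullback.condition
  have hk : k₁ ≫ H.hom = k₂ := by
    rw [← Over.w u, ← Category.assoc, hcond, Category.assoc, unitSec_hom, Category.comp_id]
  let σ : S ⟶ pullback u.left eG := pullback.lift eH (𝟙 S) (by
    rw [Category.id_comp]; exact unitSec_comp H G u)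
  have hσ : σ ≫ k₂ = 𝟙 S := pullback.lift_snd _ _ _
  have hσ1 : σ ≫ k₁ = eH := pullback.lift_fst _ _ _
  haveI : LocallyOfFiniteType eG := by
    haveI : LocallyOfFiniteType (eG ≫ G.hom) := by rw [unitSec_hom]; infer_instance
    exact locallyOfFiniteType_of_comp eG G.hom
  haveI : LocallyOfFiniteType k₁ := by
    show LocallyOfFiniteType (pullback.fst u.left eG)
    infer_instance
  haveI : LocallyOfFiniteType k₂ := by rw [← hk]; infer_instance
  have hfibiso : ∀ y : S, IsIso (k₂.fiberToSpecResidueField y) := by
    intro y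
    set j := S.fromSpecResidueField y with hj
    have hmono : Mono (pullback.snd k₂ j) := by
      constructor
      intro T a b hab
      have hfst : a ≫ pullback.fst k₂ j ≫ k₂ = b ≫ pullback.fst k₂ j ≫ k₂ := by
        rw [pullback.condition, ← Category.assoc, hab, Category.assoc]
      -- the two `H`-valued points
      obtain ⟨α, hα⟩ : ∃ α, α = a ≫ pullback.fst k₂ j ≫ k₁ := ⟨_, rfl⟩
      obtain ⟨β, hβ⟩ : ∃ β, β = b ≫ pullback.fst k₂ j ≫ k₁ := ⟨_, rfl⟩
      obtain ⟨t, ht⟩ : ∃ t, t = a ≫ pullback.snd k₂ j := ⟨_, rfl⟩
      have hαt : α ≫ H.hom = t ≫ j := by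
        rw [hα, ht]
        simp only [Category.assoc]
        rw [hk, pullback.condition]
      have hβt : β ≫ H.hom = t ≫ j := by
        rw [hβ, ht, hab]
        simp only [Category.assoc]
        rw [hk, pullback.condition]
      have hαβu : α ≫ u.left = β ≫ u.left := by
        rw [hα, hβ]
        simp only [Category.assoc]
        rw [hcond]
        have := congrArg (fun w => w ≫ eG) hfst
        simpa only [Category.assoc] using this
      let α' : T ⟶ pullback H.hom j := pullback.lift α t hαt
      let β' : T ⟶ pullback H.hom j := pullback.lift β t hβt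
      have hα'β' : α' ≫ ((Over.pullback j).map u).left = β' ≫ ((Over.pullback j).map u).left := by
        apply pullback.hom_ext
        · rw [Category.assoc, Category.assoc]
          erw [pullback.lift_fst]
          rw [← Category.assoc, ← Category.assoc, pullback.lift_fst, pullback.lift_fst, hαβu]
        · rw [Category.assoc, Category.assoc]
          erw [pullback.lift_snd]
          rw [pullback.lift_snd, pullback.lift_snd]
      have h1 := (hfib y).right_cancellation _ _ hα'β'
      have h2 : α = β := by
        have := congrArg (fun w => w ≫ pullback.fst H.hom j) h1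
        simp only [α', β', pullback.lift_fst] at this
        exact this
      apply pullback.hom_ext
      · apply pullback.hom_ext
        · simpa [hα, hβ] using h2
        · simpa using hfst
      · exact hab
    let τ : Spec (S.residueField y) ⟶ pullback k₂ j := pullback.lift (j ≫ σ) (𝟙 _) (by
      rw [Category.assoc, hσ, Category.comp_id, Category.id_comp])
    have hτ : τ ≫ pullback.snd k₂ j = 𝟙 _ := pullback.lift_snd _ _ _
    haveI : IsSplitEpi (pullback.snd k₂ j) := ⟨⟨τ, hτ⟩⟩
    haveI := hmono
    exact isIso_of_mono_of_isSplitEpi (pullback.snd k₂ j)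
  haveI hiso : IsIso k₂ := isIso_of_fibres k₂ σ hσ hfibiso
  -- conclusion
  constructor
  intro T a b hab
  have hstr : b ≫ H.hom = a ≫ H.hom := by
    rw [← Over.w u, ← Category.assoc, ← hab, Category.assoc]
  let T' : Over S := Over.mk (a ≫ H.hom)
  let a' : T' ⟶ H := Over.homMk a rfl
  let b' : T' ⟶ H := Over.homMk b hstr
  have hab' : a' ≫ u = b' ≫ u := Over.OverMorphism.ext hab
  set c : T' ⟶ H := a'⁻¹ * b' with hc
  have hcu : c ≫ u = 1 := by
    have h1 := (IsMonHom.monoidHom u T').map_mul a'⁻¹ b'
    have h2 := (IsMonHom.monoidHom u T').map_inv a'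
    simp only [IsMonHom.monoidHom_apply] at h1 h2
    rw [hc, h1, h2, hab', inv_mul_cancel]
  have hcl : c.left ≫ u.left = T'.hom ≫ eG := by
    have := congrArg (fun t : T' ⟶ G => t.left) hcu
    simp only [Over.comp_left] at this
    rw [this, one_left]
  let w : T ⟶ pullback u.left eG := pullback.lift c.left T'.hom hcl
  have hw2 : w ≫ k₂ = T'.hom := pullback.lift_snd _ _ _
  have hw1 : w ≫ k₁ = c.left := pullback.lift_fst _ _ _
  have hw : w = T'.hom ≫ σ := by
    rw [← cancel_mono k₂, hw2, Category.assoc, hσ, Category.comp_id]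
  have hc1 : c = 1 := by
    apply Over.OverMorphism.ext
    rw [← hw1, hw, Category.assoc, hσ1, one_left]
  have : a' = b' := by
    rw [hc, inv_mul_eq_one] at hc1
    exact hc1
  exact congrArg (fun t : T' ⟶ H => t.left) this

end grp

end Groth.Agent.Lib.Helper14.KerTriv
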