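import Groth.Agent.Lib.Helper17.PullbackBC

/-!
# Base change along a pushout square of rings: the canonical map is bijective (helper14)
-/

set_option autoImplicit false
set_option linter.unusedSectionVars false

universe u

open CategoryTheory CategoryTheory.Limits TensorProduct

namespace Groth.Agent.Lib.Helper14.BCTheta

open Groth.Agent.Lib.Helper17.PullbackBC

theorem exists_theta_of_isBC {R Bv S P' : Type u} [CommRing R] [CommRing Bv] [CommRing S]
    [CommRing P'] (φ : R →+* Bv) (α : R →+* S) (p₁ : S →+* P') (p₂ : Bv →+* P')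
    (hpo : IsPushout (CommRingCat.ofHom φ) (CommRingCat.ofHom α) (CommRingCat.ofHom p₂)
      (CommRingCat.ofHom p₁))
    {N N' : Type u} [AddCommGroup N] [Module S N] [AddCommGroup N'] [Module P' N']
    (c : N →+ N') (hc : ∀ (s : S) (n : N), c (s • n) = p₁ s • c n) (hbc : IsBC p₁ (fun n => c n)) :
    letI := φ.toAlgebra
    letI : Module R N := Module.compHom N α
    ∃ θ : Bv ⊗[R] N ≃+ N', ∀ (b : Bv) (n : N), θ (b ⊗ₜ n) = p₂ b • c n := by
  letI := φ.toAlgebra
  letI : Module R N := Module.compHom N α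
  letI : Module R N' := Module.compHom N' (p₂.comp φ)
  have hw : p₂.comp φ = p₁.comp α := congrArg CommRingCat.Hom.hom hpo.w
  have hsN : ∀ (r : R) (n : N), r • n = α r • n := fun _ _ => rfl
  have hsN' : ∀ (r : R) (n : N'), r • n = p₂ (φ r) • n := fun _ _ => rfl
  have hsB : ∀ (r : R) (b : Bv), r • b = φ r * b := fun _ _ => rfl
  let β : Bv →ₗ[R] N →ₗ[R] N' := LinearMap.mk₂ R (fun b n => p₂ b • c n)
    (fun b b' n => by rw [map_add, add_smul])
    (fun r b n => by rw [hsB, map_mul, mul_smul, hsN'])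
    (fun b n n' => by rw [map_add, smul_add])
    (fun r b n => by
      rw [hsN, hc, hsN', smul_comm]
      congr 1
      have := congrArg (fun ψ => ψ r) hw
      exact this.symm ▸ rfl)
  let u : Bv ⊗[R] N →+ N' := (TensorProduct.lift β).toAddMonoidHom
  have hu_tmul : ∀ (b : Bv) (n : N), u (b ⊗ₜ n) = p₂ b • c n := fun _ _ => rfl
  have hu : ∀ (a' : Bv) (t : Bv ⊗[R] N), u (a' • t) = p₂ a' • u t := by
    intro a' t
    induction t using TensorProduct.induction_on with
    | zero => simp
    | add x y hx hy => rw [smul_add, map_add, map_add, hx, hy, smul_add]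
    | tmul b n => rw [TensorProduct.smul_tmul', hu_tmul, hu_tmul, smul_eq_mul, map_mul, mul_smul]
  have h₁ : IsBC φ (P := N) (T := Bv ⊗[R] N) (fun n => (1 : Bv) ⊗ₜ[R] n) :=
    (isBC_iff φ _).mpr ⟨LinearEquiv.refl Bv _, fun p => rfl⟩
  have hbij := bijective_of_isBC φ α p₂ p₁ hpo (P := N) (T := Bv ⊗[R] N) (T₂ := N')
    (fun a p => rfl) (fun n => (1 : Bv) ⊗ₜ[R] n) (fun n => c n) h₁ hbc u hu
    (fun p => by rw [hu_tmul, map_one, one_smul])
  exact ⟨AddEquiv.ofBijective u hbij, fun b n => rfl⟩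

end Groth.Agent.Lib.Helper14.BCTheta
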