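import Groth.Prelude.Def_BigSite
import Mathlib

/-!
# A small model of the big fppf site of a scheme (helper14)
-/

set_option autoImplicit false
set_option linter.unusedSectionVars false

universe u

open CategoryTheory CategoryTheory.Limits Opposite AlgebraicGeometry

namespace Groth.Agent.Lib.Helper14.BigFppf

instance : (@Flat ⊓ @LocallyOfFinitePresentation : MorphismProperty Scheme.{u}).ContainsIdentities :=
  ⟨fun _ => ⟨inferInstance, inferInstance⟩⟩

instance : Scheme.fppfPrecoverage.{u}.HasIsos := by
  unfold Scheme.fppfPrecoverage; infer_instance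

instance : Scheme.fppfPrecoverage.{u}.HasPullbacks := by
  unfold Scheme.fppfPrecoverage; infer_instance

variable (T : Scheme.{u})

/-- the small model of the big site -/
abbrev DB : Type (u + 1) := ULiftHom.{u + 1} (Over T)

/-- the equivalence with the big site -/
abbrev eB : Over T ≌ DB T := ULiftHom.equiv

/-- the transported topology -/
abbrev KB : GrothendieckTopology (DB T) :=
  (eB T).inverse.inducedTopology (QuotSh.J Scheme.fppfPrecoverage T)

instance : HasPullbacks (DB T) := Adjunction.hasLimitsOfShape_of_equivalence (eB T).inverse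

variable {T}

/-- the underlying scheme of an object of the small model -/
abbrev sch (V : DB T) : Scheme.{u} := (ULiftHom.objDown V).left

/-- the underlying scheme morphism of a morphism of the small model -/
abbrev schMap {V W : DB T} (g : V ⟶ W) : sch V ⟶ sch W := g.down.left

/-- the structure morphism -/
abbrev str (V : DB T) : sch V ⟶ T := (ULiftHom.objDown V).hom

lemma schMap_comp {V W Z : DB T} (g : V ⟶ W) (h : W ⟶ Z) :
    schMap (g ≫ h) = schMap g ≫ schMap h := rfl

lemma schMap_str {V W : DB T} (g : V ⟶ W) : schMap g ≫ str W = str V :=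
  CategoryTheory.Over.w g.down

/-- a scheme over an object, as an object -/
abbrev liftObj (U : DB T) {W : Scheme.{u}} (g : W ⟶ sch U) : DB T :=
  ULiftHom.objUp (Over.mk (g ≫ str U))

/-- a scheme morphism to an object, as a morphism -/
abbrev liftHom (U : DB T) {W : Scheme.{u}} (g : W ⟶ sch U) : liftObj U g ⟶ U :=
  ⟨Over.homMk g rfl⟩

lemma schMap_liftHom (U : DB T) {W : Scheme.{u}} (g : W ⟶ sch U) : schMap (liftHom U g) = g := rfl

lemma hom_ext_sch {V W : DB T} (g g' : V ⟶ W) (h : schMap g = schMap g') : g = g' := by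
  apply ULift.ext
  exact Over.OverMorphism.ext h

lemma mem_KB_iff (U : DB T) (S : Sieve U) :
    S ∈ KB T U ↔ ∃ R ∈ Scheme.fppfPrecoverage (sch U),
      ∀ ⦃W : Scheme.{u}⦄ (g : W ⟶ sch U), R g → S (liftHom U g) := by
  rw [Functor.mem_inducedTopology_iff_of_isCoverDense, GrothendieckTopology.mem_over_iff,
    Precoverage.mem_toGrothendieck_iff_of_isStableUnderComposition]
  constructor
  · rintro ⟨R, hR, hle⟩
    refine ⟨R, hR, fun W g hg => ?_⟩
    have h1 := hle W g hg
    rw [Sieve.overEquiv_iff] at h1
    obtain ⟨V, h, k, hS, hk⟩ := h1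
    have : liftHom U g = (⟨k⟩ : liftObj U g ⟶ V) ≫ h := by
      apply ULift.ext
      exact hk
    rw [this]
    exact S.downward_closed hS _
  · rintro ⟨R, hR, h⟩
    refine ⟨R, hR, fun W g hg => ?_⟩
    rw [Sieve.overEquiv_iff]
    exact ⟨liftObj U g, liftHom U g, 𝟙 _, h g hg, (Category.id_comp _).symm⟩

end Groth.Agent.Lib.Helper14.BigFppf
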