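import Groth.Agent.Lib.Helper14.BigFppf1
import Groth.Agent.Lib.Helper14.SheafFam
import Groth.Prelude.Def_CohCx

/-!
# Affine objects, finite coproducts and extensivity in the small model of the big fppf site (helper14)
-/

set_option autoImplicit false
set_option linter.unusedSectionVars false

universe u

open CategoryTheory CategoryTheory.Limits Opposite AlgebraicGeometry

namespace Groth.Agent.Lib.Helper14.BigFppf

variable {T : Scheme.{u}}

/-- the functor to schemes -/
noncomputable abbrev Ψ (T : Scheme.{u}) : DB T ⥤ Scheme.{u} := (eB T).inverse ⋙ Over.forget T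

lemma Ψ_obj (V : DB T) : (Ψ T).obj V = sch V := rfl
lemma Ψ_map {V W : DB T} (g : V ⟶ W) : (Ψ T).map g = schMap g := rfl

/-- affine objects -/
def BA (T : Scheme.{u}) : Set (DB T) := {V | IsAffine (sch V)}

lemma mem_BA_of_iso {V W : DB T} (i : V ≅ W) (hV : V ∈ BA T) : W ∈ BA T := by
  have hV' : IsAffine (sch V) := hV
  have hiso : IsIso (schMap i.inv) := (inferInstance : IsIso ((Ψ T).mapIso i).inv)
  exact IsAffine.of_isIso (schMap i.inv)

lemma mem_BA_of_isPullback {P A B U : DB T} {fst : P ⟶ A} {snd : P ⟶ B} {f : A ⟶ U} {g : B ⟶ U}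
    (h : IsPullback fst snd f g) (hA : A ∈ BA T) (hB : B ∈ BA T) (hU : U ∈ BA T) :
    P ∈ BA T := by
  have hA' : IsAffine (sch A) := hA
  have hB' : IsAffine (sch B) := hB
  have hU' : IsAffine (sch U) := hU
  have h' : IsPullback (schMap fst) (schMap snd) (schMap f) (schMap g) := h.map (Ψ T)
  exact IsAffine.of_isPullback h'

/-- limit fans with affine point -/
theorem exists_fan (U : DB T) (hU : U ∈ BA T) : ∀ (n : ℕ) (W : Fin n → Over U),
    (∀ k, (W k).left ∈ BA T) → ∃ (c : Fan W), Nonempty (IsLimit c) ∧ c.pt.left ∈ BA T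
  | 0, W, _ => by
    refine ⟨Fan.mk (Over.mk (𝟙 U)) (fun k => Fin.elim0 k), ⟨?_⟩, hU⟩
    refine mkFanLimit _ (fun s => Over.homMk s.pt.hom) (fun s k => Fin.elim0 k) ?_
    intro s m _
    ext
    have := Over.w m
    simpa using this
  | n + 1, W, h => by
    obtain ⟨c₁, ⟨hc₁⟩, h₁⟩ := exists_fan U hU n (fun i => W i.succ) (fun i => h i.succ)
    let c₂ : BinaryFan (W 0) c₁.pt := BinaryFan.mk prod.fst prod.snd
    have hc₂ : IsLimit c₂ := prodIsProd (W 0) c₁.pt
    refine ⟨extendFan c₁ c₂, ⟨extendFanIsLimit W hc₁ hc₂⟩, ?_⟩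
    have hp := Over.isPullback_of_binaryFan_isLimit c₂ hc₂
    exact mem_BA_of_isPullback hp (h 0) h₁ hU

/-- finite products (in `Over U`) of affine objects over an affine object are affine -/
theorem prod_mem_BA (U : DB T) (hU : U ∈ BA T) {ι : Type*} (Y : ι → Over U)
    (hY : ∀ i, (Y i).left ∈ BA T) (p : ℕ) (a : Fin (p + 1) → ι) :
    (∏ᶜ fun k => Y (a k)).left ∈ BA T := by
  obtain ⟨c, ⟨hc⟩, h⟩ := exists_fan U hU (p + 1) (fun k => Y (a k)) (fun k => hY (a k))
  have i : c.pt ≅ ∏ᶜ fun k => Y (a k) :=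
    hc.conePointUniqueUpToIso (limit.isLimit _)
  exact mem_BA_of_iso ((Over.forget U).mapIso i) h

section Ext

/-- the comparison from the lift of the underlying morphism -/
noncomputable def toSrc {V W : DB T} (g : W ⟶ V) : liftObj V (schMap g) ⟶ W :=
  ⟨Over.homMk (𝟙 _) (by
    change 𝟙 _ ≫ str W = schMap g ≫ str V
    rw [Category.id_comp, schMap_str])⟩

lemma liftHom_eq {V W : DB T} (g : W ⟶ V) : liftHom V (schMap g) = toSrc g ≫ g := by
  apply hom_ext_sch
  change schMap g = 𝟙 _ ≫ schMap g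
  rw [Category.id_comp]

lemma bot_mem_of_isEmpty (Z : DB T) [IsEmpty (sch Z)] : ⊥ ∈ KB T Z := by
  rw [mem_KB_iff]
  refine ⟨⊥, ?_, fun W g hg => hg.elim⟩
  unfold Scheme.fppfPrecoverage
  exact Scheme.bot_mem_precoverage _ _

lemma subsingleton_of_isEmpty (P : (DB T)ᵒᵖ ⥤ AddCommGrpCat.{u + 1})
    (hP : Presheaf.IsSheaf (KB T) P) (Z : DB T) [IsEmpty (sch Z)] :
    Subsingleton (P.obj (op Z)) := by
  have h1 : Presheaf.IsSheaf (KB T) (P ⋙ forget AddCommGrpCat.{u + 1}) :=
    (Presheaf.isSheaf_iff_isSheaf_forget (KB T) P (forget AddCommGrpCat.{u + 1})).1 hP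
  have hterm := Sheaf.isTerminalOfBotCover ⟨_, h1⟩ Z (bot_mem_of_isEmpty Z)
  have := Types.isTerminalEquivUnique _ hterm
  exact (inferInstance : Subsingleton ((P ⋙ forget AddCommGrpCat.{u + 1}).obj (op Z)))

/-- a family of fppf morphisms which is jointly surjective generates a covering sieve -/
lemma ofArrows_mem_KB {κ : Type*} {V : DB T} (W : κ → DB T) (g : ∀ k, W k ⟶ V)
    (hfl : ∀ k, Flat (schMap (g k))) (hfp : ∀ k, LocallyOfFinitePresentation (schMap (g k)))
    (hcov : ∀ x : sch V, ∃ k, x ∈ Set.range (schMap (g k))) :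
    Sieve.ofArrows W g ∈ KB T V := by
  rw [mem_KB_iff]
  refine ⟨Presieve.ofArrows (fun k => sch (W k)) (fun k => schMap (g k)), ?_, ?_⟩
  · unfold Scheme.fppfPrecoverage
    rw [Scheme.ofArrows_mem_precoverage_iff]
    exact ⟨hcov, fun k => ⟨hfl k, hfp k⟩⟩
  · rintro W' g' ⟨k⟩
    rw [liftHom_eq]
    exact (Sieve.ofArrows W g).downward_closed (Sieve.ofArrows_mk _ _ k) _

variable {κ : Type*} {V : DB T} (W : κ → DB T) (g : ∀ k, W k ⟶ V)
  (hopen : ∀ k, IsOpenImmersion (schMap (g k)))
  (hdisj : ∀ k l, k ≠ l → Disjoint (Set.range (schMap (g k))) (Set.range (schMap (g l))))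
  (hcov : ∀ x : sch V, ∃ k, x ∈ Set.range (schMap (g k)))

include hopen hdisj hcov in
/-- sheaves turn disjoint open decompositions into products -/
theorem bijective_restrict (P : (DB T)ᵒᵖ ⥤ AddCommGrpCat.{u + 1})
    (hP : Presheaf.IsSheaf (KB T) P) :
    Function.Bijective (fun (t : P.obj (op V)) (k : κ) => P.map (g k).op t) := by
  have hcov' : Sieve.ofArrows W g ∈ KB T V :=
    ofArrows_mem_KB W g (fun k => by haveI := hopen k; infer_instance)
      (fun k => by haveI := hopen k; infer_instance) hcov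
  have hcompat : ∀ (x : ∀ k, P.obj (op (W k))),
      Presieve.Arrows.Compatible (P ⋙ forget AddCommGrpCat.{u + 1}) g x := by
    intro x i j Z gi gj hg
    by_cases hij : i = j
    · subst hij
      have : gi = gj := by
        apply hom_ext_sch
        have hl : schMap gi ≫ schMap (g i) = schMap gj ≫ schMap (g i) :=
          congrArg (fun φ : Z ⟶ V => schMap φ) hg
        haveI := hopen i
        exact (cancel_mono (schMap (g i))).1 hl
      rw [this]
    · haveI : IsEmpty (sch Z) := ⟨fun z => by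
        have hl : schMap gi ≫ schMap (g i) = schMap gj ≫ schMap (g j) :=
          congrArg (fun φ : Z ⟶ V => schMap φ) hg
        have h2 : schMap (g i) (schMap gi z) = schMap (g j) (schMap gj z) := by
          have := congrArg (fun φ : sch Z ⟶ sch V => φ z) hl
          simpa using this
        exact Set.disjoint_left.1 (hdisj i j hij) ⟨_, rfl⟩ ⟨_, h2.symm⟩⟩
      haveI := subsingleton_of_isEmpty P hP Z
      exact Subsingleton.elim (α := P.obj (op Z)) _ _
  constructor
  · intro t t' h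
    obtain ⟨s, -, hs⟩ := Groth.Agent.Lib.Helper14.SheafFam.sheafFor (KB T) P hP W g hcov'
      (fun k => P.map (g k).op t) (hcompat _)
    exact (hs t (fun _ => rfl)).trans (hs t' (fun k => (congrFun h k).symm)).symm
  · intro x
    obtain ⟨s, hs, -⟩ := Groth.Agent.Lib.Helper14.SheafFam.sheafFor (KB T) P hP W g hcov' x (hcompat x)
    exact ⟨s, funext hs⟩

end Ext

end Groth.Agent.Lib.Helper14.BigFppf
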