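import Groth.Agent.Lib.Helper14.BigFppf2

/-!
# Cofinality of one-member affine coverings in the small model of the big fppf site (helper14)
-/

set_option autoImplicit false
set_option linter.unusedSectionVars false

universe u

open CategoryTheory CategoryTheory.Limits Opposite AlgebraicGeometry

namespace Groth.Agent.Lib.Helper14.BigFppf

variable {T : Scheme.{u}}

section Sigma

variable {κ : Type u} (W : κ → DB T)

/-- the coproduct in the small model -/
noncomputable def sigD : DB T := ULiftHom.objUp (Over.mk (Sigma.desc fun k => str (W k)))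

lemma sch_sigD : sch (sigD W) = ∐ fun k => sch (W k) := rfl

/-- the coproduct inclusions -/
noncomputable def sigι (k : κ) : W k ⟶ sigD W :=
  ⟨Over.homMk (Sigma.ι (fun k => sch (W k)) k) (by
    change Sigma.ι (fun k => sch (W k)) k ≫ Sigma.desc (fun k => str (W k)) = str (W k)
    exact Sigma.ι_desc _ _)⟩

lemma schMap_sigι (k : κ) : schMap (sigι W k) = Sigma.ι (fun k => sch (W k)) k := rfl

/-- the universal property -/
noncomputable def sigDesc {U : DB T} (g : ∀ k, W k ⟶ U) : sigD W ⟶ U :=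
  ⟨Over.homMk (Sigma.desc fun k => schMap (g k)) (by
    change Sigma.desc (fun k => schMap (g k)) ≫ str U = Sigma.desc (fun k => str (W k))
    apply Sigma.hom_ext
    intro k
    rw [Sigma.ι_desc_assoc, Sigma.ι_desc, schMap_str])⟩

lemma schMap_sigDesc {U : DB T} (g : ∀ k, W k ⟶ U) :
    schMap (sigDesc W g) = Sigma.desc fun k => schMap (g k) := rfl

lemma sigι_desc {U : DB T} (g : ∀ k, W k ⟶ U) (k : κ) : sigι W k ≫ sigDesc W g = g k := by
  apply hom_ext_sch
  exact Sigma.ι_desc (fun k => schMap (g k)) k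

instance isOpenImmersion_sigι (k : κ) : IsOpenImmersion (schMap (sigι W k)) :=
  (inferInstance : IsOpenImmersion (Sigma.ι (fun k => sch (W k)) k))

lemma disjoint_sigι (k l : κ) (h : k ≠ l) :
    Disjoint (Set.range (schMap (sigι W k))) (Set.range (schMap (sigι W l))) := by
  rw [Set.disjoint_left]
  rintro z ⟨x, hx⟩ ⟨y, hy⟩
  have := (sigmaι_eq_iff (fun k => sch (W k)) k l x y).1 (hx.trans hy.symm)
  exact h (congrArg Sigma.fst this)

lemma cover_sigι (x : sch (sigD W)) : ∃ k, x ∈ Set.range (schMap (sigι W k)) := by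
  obtain ⟨⟨k, y⟩, hy⟩ := (sigmaMk (fun k => sch (W k))).surjective x
  refine ⟨k, y, ?_⟩
  rw [← hy, sigmaMk_mk]
  rfl

lemma sigD_mem_BA [Finite κ] (hW : ∀ k, W k ∈ BA T) : sigD W ∈ BA T := by
  haveI : ∀ k, IsAffine (sch (W k)) := hW
  change IsAffine (∐ fun k => sch (W k))
  infer_instance

end Sigma

/-- the covering families: one affine object, flat, locally of finite presentation and surjective
over an affine object -/
def CovA (T : Scheme.{u}) (U : DB T) (ι : Type (u + 1)) (Y : ι → Over U) : Prop :=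
  (PUnit.{u + 2} = ι) ∧ U ∈ BA T ∧ (∀ i, (Y i).left ∈ BA T) ∧
    (∀ i, Flat (schMap (Y i).hom)) ∧ (∀ i, LocallyOfFinitePresentation (schMap (Y i).hom)) ∧
    ∀ x : sch U, ∃ i, x ∈ Set.range (schMap (Y i).hom)

theorem covA_h1 (U : DB T) (ι : Type (u + 1)) (Y : ι → Over U) (h : CovA T U ι Y) :
    U ∈ BA T ∧
      Sieve.ofArrows (fun i => (Y i).left) (fun i => (Y i).hom) ∈ KB T U ∧
      ∀ (p : ℕ) (a : Fin (p + 1) → ι), (∏ᶜ fun k => Y (a k)).left ∈ BA T := by
  obtain ⟨-, hU, hY, hfl, hfp, hcov⟩ := h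
  exact ⟨hU, ofArrows_mem_KB _ _ hfl hfp hcov, fun p a => prod_mem_BA U hU Y hY p a⟩

/-- an open subscheme of an object, as an object of the small model -/
noncomputable abbrev opnD (V : DB T) (W : (sch V).Opens) : DB T := liftObj V W.ι

/-- the inclusion of an open subscheme -/
noncomputable abbrev opnDι (V : DB T) (W : (sch V).Opens) : opnD V W ⟶ V := liftHom V W.ι

lemma opnD_mem_BA (V : DB T) (W : (sch V).Opens) (hW : IsAffineOpen W) : opnD V W ∈ BA T := by
  change IsAffine (W : Scheme)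
  exact hW

theorem covA_h2 (U : DB T) (hU : U ∈ BA T) (S : Sieve U) (hS : S ∈ KB T U) :
    ∃ (ι : Type (u + 1)) (Y : ι → Over U), CovA T U ι Y ∧
      ∀ (G G' : Sheaf (KB T) AddCommGrpCat.{u + 1}) (φ : G ⟶ G') (s : G'.obj.obj (op U)),
        (∀ ⦃W : DB T⦄ (g : W ⟶ U), S g →
          ∃ t : G.obj.obj (op W), φ.hom.app _ t = G'.obj.map g.op s) →
        ∀ i, ∃ t : G.obj.obj (op (Y i).left), φ.hom.app _ t = G'.obj.map (Y i).hom.op s := by
  classical
  have hUa : IsAffine (sch U) := hU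
  have hUc : CompactSpace (sch U) := inferInstance
  rw [mem_KB_iff] at hS
  obtain ⟨R, hR, hRS⟩ := hS
  have hR' : R ∈ Scheme.precoverage (@Flat ⊓ @LocallyOfFinitePresentation) (sch U) := hR
  have hjs := (Presieve.mem_comap_jointlySurjectivePrecoverage_iff _).1 hR'.1
  have hx : ∀ x : sch U, ∃ (V : Scheme.{u}) (g : V ⟶ sch U) (W : V.Opens), R g ∧ IsAffineOpen W ∧
      x ∈ g '' (W : Set V) := by
    intro x
    obtain ⟨V, g, hg, y, hy⟩ := hjs x
    obtain ⟨W, hW, hyW, -⟩ := TopologicalSpace.Opens.isBasis_iff_nbhd.1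
      V.isBasis_affineOpens (show y ∈ (⊤ : V.Opens) from trivial)
    exact ⟨V, g, W, hg, hW, y, hyW, hy⟩
  choose V g W hg hW hxW using hx
  have hP : ∀ x, (@Flat ⊓ @LocallyOfFinitePresentation : MorphismProperty Scheme.{u}) (g x) :=
    fun x => hR'.2 (hg x)
  have hopen : ∀ x, IsOpen (g x '' (W x : Set (V x))) := fun x => by
    haveI : Flat (g x) := (hP x).1
    haveI : LocallyOfFinitePresentation (g x) := (hP x).2
    exact (g x).isOpenMap _ (W x).isOpen
  obtain ⟨t, ht⟩ := isCompact_univ.elim_finite_subcover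
    (fun x : sch U => g x '' (W x : Set (V x))) hopen
    (fun y _ => Set.mem_iUnion.2 ⟨y, hxW y⟩)
  -- the pieces
  let κ : Type u := {x : sch U // x ∈ t}
  let Wk : κ → DB T := fun k => liftObj U ((W k.1).ι ≫ g k.1)
  let gk : ∀ k, Wk k ⟶ U := fun k => liftHom U ((W k.1).ι ≫ g k.1)
  have hgk : ∀ k, S (gk k) := fun k => by
    have h1 : S (liftHom U (g k.1)) := hRS _ (hg k.1)
    have h2 : gk k = (⟨Over.homMk (W k.1).ι (by
        change (W k.1).ι ≫ g k.1 ≫ str U = ((W k.1).ι ≫ g k.1) ≫ str U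
        rw [Category.assoc])⟩ : Wk k ⟶ liftObj U (g k.1)) ≫ liftHom U (g k.1) := by
      apply hom_ext_sch
      rfl
    rw [h2]
    exact S.downward_closed h1 _
  have hWk : ∀ k, Wk k ∈ BA T := fun k => by
    change IsAffine ((W k.1 : (V k.1).Opens) : Scheme)
    exact hW k.1
  have hflk : ∀ k, Flat (schMap (gk k)) := fun k => by
    haveI : Flat (g k.1) := (hP k.1).1
    change Flat ((W k.1).ι ≫ g k.1)
    infer_instance
  have hfpk : ∀ k, LocallyOfFinitePresentation (schMap (gk k)) := fun k => by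
    haveI : LocallyOfFinitePresentation (g k.1) := (hP k.1).2
    change LocallyOfFinitePresentation ((W k.1).ι ≫ g k.1)
    infer_instance
  refine ⟨PUnit.{u + 2}, fun _ => Over.mk (sigDesc Wk gk),
    ⟨rfl, hU, fun _ => sigD_mem_BA Wk hWk, fun _ => ?_, fun _ => ?_, ?_⟩, ?_⟩
  · change Flat (Sigma.desc fun k => schMap (gk k))
    exact IsZariskiLocalAtSource.sigmaDesc (P := @Flat) hflk
  · change LocallyOfFinitePresentation (Sigma.desc fun k => schMap (gk k))
    exact IsZariskiLocalAtSource.sigmaDesc (P := @LocallyOfFinitePresentation) hfpk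
  · intro y
    obtain ⟨x, hx⟩ := Set.mem_iUnion.1 (ht (Set.mem_univ y))
    obtain ⟨hxt, w, hw, hwy⟩ := Set.mem_iUnion.1 hx
    refine ⟨PUnit.unit, ?_⟩
    change y ∈ Set.range (schMap (sigDesc Wk gk))
    refine ⟨schMap (sigι Wk ⟨x, hxt⟩) ⟨w, hw⟩, ?_⟩
    have h1 : schMap (sigι Wk ⟨x, hxt⟩) ≫ schMap (sigDesc Wk gk) = schMap (gk ⟨x, hxt⟩) := by
      rw [← schMap_comp, sigι_desc]
    have h2 := congrArg (fun φ : sch (Wk ⟨x, hxt⟩) ⟶ sch U => φ ⟨w, hw⟩) h1
    refine Eq.trans ?_ hwy
    exact h2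
  · intro G G' φ s hloc _
    have hl : ∀ k, ∃ tk : G.obj.obj (op (Wk k)), φ.hom.app _ tk = G'.obj.map (gk k).op s :=
      fun k => hloc (gk k) (hgk k)
    choose tk htk using hl
    have hbG := bijective_restrict Wk (sigι Wk) (fun k => isOpenImmersion_sigι Wk k)
      (disjoint_sigι Wk) (cover_sigι Wk) G.obj G.property
    have hbG' := bijective_restrict Wk (sigι Wk) (fun k => isOpenImmersion_sigι Wk k)
      (disjoint_sigι Wk) (cover_sigι Wk) G'.obj G'.property
    obtain ⟨t0, ht0⟩ := hbG.2 tk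
    refine ⟨t0, ?_⟩
    apply hbG'.1
    funext k
    change G'.obj.map (sigι Wk k).op (φ.hom.app _ t0) =
      G'.obj.map (sigι Wk k).op (G'.obj.map (sigDesc Wk gk).op s)
    have e1 : G'.obj.map (sigι Wk k).op (φ.hom.app _ t0) =
        φ.hom.app _ (G.obj.map (sigι Wk k).op t0) :=
      (ConcreteCategory.congr_hom (φ.hom.naturality (sigι Wk k).op) t0).symm
    have e2 : G.obj.map (sigι Wk k).op t0 = tk k := congrFun ht0 k
    have e3 : G'.obj.map (sigι Wk k).op (G'.obj.map (sigDesc Wk gk).op s) =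
        G'.obj.map (gk k).op s := by
      rw [← sigι_desc Wk gk k, op_comp, Functor.map_comp]
      rfl
    rw [e1, e2, htk, e3]

end Groth.Agent.Lib.Helper14.BigFppf
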