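import Groth.Agent.Lib.Helper14.BigFppf3
import Groth.Agent.Lib.Helper27.EtTransport6

/-!
# Transport of cohomology from the big fppf site to its small model (helper14)
-/

set_option autoImplicit false
set_option linter.unusedSectionVars false
set_option backward.isDefEq.respectTransparency false
set_option backward.isDefEq.respectTransparency.types false

universe u

open CategoryTheory CategoryTheory.Limits Opposite AlgebraicGeometry Abelian

namespace Groth.Agent.Lib.Helper14.BigFppf

open Groth.Agent.Lib.Helper6 Groth.Agent.Lib.Helper27.ExtFilt Groth.Agent.Lib.Helper27.ToposCartan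
open Groth.Agent.Lib.Helper27.EtTransport (extFunctorObjIso)

variable (T : Scheme.{u})

/-- the functor from the small model to the big site -/
noncomputable abbrev GB : DB T ⥤ Over T := (eB T).inverse

/-- restriction of sheaves to the small model -/
noncomputable abbrev ΦB : BigSite.Ab Scheme.fppfPrecoverage T ⥤ Sheaf (KB T) AddCommGrpCat.{u + 1} :=
  (Functor.IsDenseSubsite.sheafEquiv (KB T) (QuotSh.J Scheme.fppfPrecoverage T) (GB T)
    AddCommGrpCat.{u + 1}).inverse

instance : (ΦB T).Additive where
  map_add := rfl

/-- the terminal object of the big site -/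
abbrev topB : Over T := Over.mk (𝟙 T)

/-- the terminal object of the small model -/
noncomputable abbrev TB : DB T := ULiftHom.objUp (topB T)

/-- it is terminal -/
noncomputable def isTerminalTop : IsTerminal (topB T) := Over.mkIdTerminal

/-- it is terminal -/
noncomputable def isTerminalTB : IsTerminal (TB T) :=
  (isTerminalTop T).isTerminalObj (eB T).functor _

/-- the constant sheaf `ℤ` on the big site -/
noncomputable abbrev constZ : BigSite.Ab Scheme.fppfPrecoverage T :=
  (constantSheaf (QuotSh.J Scheme.fppfPrecoverage T) AddCommGrpCat.{u + 1}).obj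
    (AddCommGrpCat.of (ULift.{u + 1} ℤ))

/-- the restriction of the constant sheaf is the free abelian sheaf on the terminal object -/
noncomputable def zfreeIsoΦ : SheafCoh.Zfree (KB T) (TB T) ≅ (ΦB T).obj (constZ T) :=
  zfreeIso (KB T) (TB T) ≪≫
    freeTerminalIso (J := KB T) (T := ToposFin.eps (KB T) (TB T))
      (((isTerminalTB T).isTerminalObj yoneda _).isTerminalObj
        (presheafToSheaf (KB T) (Type (u + 1))) _) ≪≫
    (equivCommuteConstant' (KB T) AddCommGrpCat.{u + 1} (QuotSh.J Scheme.fppfPrecoverage T) (GB T)
      (isTerminalTB T) (isTerminalTop T)).app (AddCommGrpCat.of (ULift.{u + 1} ℤ))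

/-- vanishing of cohomology on the big site from vanishing of `Ext` out of the free sheaf on the
terminal object of the small model -/
theorem subsingleton_H_of_ext_zfree (F : BigSite.Ab Scheme.fppfPrecoverage T) (n : ℕ)
    (h : ∀ x : Ext (SheafCoh.Zfree (KB T) (TB T)) ((ΦB T).obj F) n, x = 0) :
    Subsingleton (BigSite.H Scheme.fppfPrecoverage T F n) := by
  have e1 := (extFunctorObjIso (ΦB T) (constZ T) n).app F
  have e2 := ((extFunctor n).mapIso (zfreeIsoΦ T).symm.op).app ((ΦB T).obj F)
  have h0 : Subsingleton (Ext (SheafCoh.Zfree (KB T) (TB T)) ((ΦB T).obj F) n) :=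
    ⟨fun a b => (h a).trans (h b).symm⟩
  have h1 := @Equiv.subsingleton _ _ (e2.symm.addCommGroupIsoToAddEquiv.toEquiv) h0
  exact @Equiv.subsingleton _ _ (e1.addCommGroupIsoToAddEquiv.toEquiv) h1

end Groth.Agent.Lib.Helper14.BigFppf
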