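import Mathlib

/-!
# The Cech complex only depends on the family up to isomorphism (helper14)
-/

set_option autoImplicit false
set_option linter.unusedSectionVars false

universe w v v' u u'

open CategoryTheory CategoryTheory.Limits Opposite

namespace Groth.Agent.Lib.Helper14.CechFamIso

variable {C : Type u} [Category.{v} C] [HasFiniteProducts C]
  {A : Type u'} [Category.{v'} A] [HasProducts.{w} A] [Preadditive A]

/-- the map of cosimplicial objects induced by a map of formal coproducts, as a natural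
transformation -/
noncomputable def cosMap' (Q : (FormalCoproduct.{w} C)ᵒᵖ ⥤ A) {X X' : FormalCoproduct.{w} C} (f : X ⟶ X') :
    X'.cech.rightOp ⋙ Q ⟶ X.cech.rightOp ⋙ Q :=
  Functor.whiskerRight (NatTrans.rightOp (FormalCoproduct.cechFunctor.map f)) Q

lemma cosMap'_id (Q : (FormalCoproduct.{w} C)ᵒᵖ ⥤ A) (X : FormalCoproduct.{w} C) :
    cosMap' Q (𝟙 X) = 𝟙 _ := by
  ext n
  have h : (FormalCoproduct.cechFunctor.map (𝟙 X)).app (op n) = 𝟙 _ := by
    rw [CategoryTheory.Functor.map_id]; rfl
  change Q.map ((FormalCoproduct.cechFunctor.map (𝟙 X)).app (op n)).op = 𝟙 _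
  rw [h, op_id, CategoryTheory.Functor.map_id]

lemma cosMap'_comp (Q : (FormalCoproduct.{w} C)ᵒᵖ ⥤ A) {X X' X'' : FormalCoproduct.{w} C}
    (f : X ⟶ X') (g : X' ⟶ X'') :
    cosMap' Q (f ≫ g) = cosMap' Q g ≫ cosMap' Q f := by
  ext n
  have h : (FormalCoproduct.cechFunctor.map (f ≫ g)).app (op n) =
      (FormalCoproduct.cechFunctor.map f).app (op n) ≫ (FormalCoproduct.cechFunctor.map g).app (op n) := by
    rw [CategoryTheory.Functor.map_comp]; rfl
  change Q.map ((FormalCoproduct.cechFunctor.map (f ≫ g)).app (op n)).op =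
    Q.map ((FormalCoproduct.cechFunctor.map g).app (op n)).op ≫
      Q.map ((FormalCoproduct.cechFunctor.map f).app (op n)).op
  rw [h, op_comp, CategoryTheory.Functor.map_comp]

/-- the map of cosimplicial objects induced by a map of formal coproducts -/
noncomputable def cosMap (P : Cᵒᵖ ⥤ A) {X X' : FormalCoproduct.{w} C} (f : X ⟶ X') :
    (FormalCoproduct.cosimplicialObjectFunctor X'.cech).obj P ⟶
      (FormalCoproduct.cosimplicialObjectFunctor X.cech).obj P :=
  cosMap' ((FormalCoproduct.evalOp.{w} C A).obj P) f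

lemma cosMap_id (P : Cᵒᵖ ⥤ A) (X : FormalCoproduct.{w} C) : cosMap P (𝟙 X) = 𝟙 _ :=
  cosMap'_id _ X

lemma cosMap_comp (P : Cᵒᵖ ⥤ A) {X X' X'' : FormalCoproduct.{w} C} (f : X ⟶ X') (g : X' ⟶ X'') :
    cosMap P (f ≫ g) = cosMap P g ≫ cosMap P f :=
  cosMap'_comp _ f g

/-- the Cech complex as a contravariant functor of the formal coproduct -/
noncomputable def cechCx (P : Cᵒᵖ ⥤ A) : (FormalCoproduct.{w} C)ᵒᵖ ⥤ CochainComplex A ℕ where
  obj X := (FormalCoproduct.cochainComplexFunctor X.unop.cech).obj P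
  map {X X'} f := (AlgebraicTopology.alternatingCofaceMapComplex A).map (cosMap P f.unop)
  map_id X := by
    rw [unop_id, cosMap_id, CategoryTheory.Functor.map_id]
    rfl
  map_comp f g := by
    rw [unop_comp, cosMap_comp, CategoryTheory.Functor.map_comp]
    rfl

/-- isomorphic families have isomorphic Cech complexes -/
noncomputable def cechFamIso {ι : Type w} (U U' : ι → C) (e : ∀ i, U i ≅ U' i) (P : Cᵒᵖ ⥤ A) :
    (cechComplexFunctor U).obj P ≅ (cechComplexFunctor U').obj P :=
  (cechCx P).mapIso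
    (FormalCoproduct.isoOfComponents (X := FormalCoproduct.mk ι U') (Y := FormalCoproduct.mk ι U)
      (Equiv.refl ι) (fun i => (e i).symm)).op

end Groth.Agent.Lib.Helper14.CechFamIso
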