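import Groth.Agent.Lib.Helper14.BigFppf4
import Groth.Agent.Lib.Helper14.CechFunct
import Groth.Agent.Lib.Helper14.CechFamIso
import Groth.Agent.S8788

/-!
# Čech acyclicity of adequate modules on the small model of the big fppf site (helper14)
-/

set_option autoImplicit false
set_option linter.unusedSectionVars false

universe u

open CategoryTheory CategoryTheory.Limits Opposite AlgebraicGeometry

namespace Groth.Agent.Lib.Helper14.BigFppf

section Transport

variable {T : Scheme.{u}} (U₁ : DB T) [IsAffine (sch U₁)]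

/-- the coordinate ring of an affine object -/
abbrev RU : CommRingCat.{u} := Γ(sch U₁, ⊤)

/-- the identification of an affine object with a spectrum -/
noncomputable abbrev iU : sch U₁ ≅ Spec (RU U₁) := (sch U₁).isoSpec

/-- from objects over an affine object of the small model to schemes over its spectrum -/
noncomputable def GU : Over U₁ ⥤ Over (Spec (RU U₁)) where
  obj Y := Over.mk (schMap Y.hom ≫ (iU U₁).hom)
  map {Y Y'} h := Over.homMk (schMap (V := Y.left) (W := Y'.left) h.left) (by
    have h1 : schMap h.left ≫ schMap Y'.hom = schMap Y.hom := by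
      rw [← schMap_comp, Over.w h]
    simp only [Over.mk_hom]
    rw [← Category.assoc, h1])
  map_id Y := rfl
  map_comp h h' := rfl

lemma GU_map_left {Y Y' : Over U₁} (h : Y ⟶ Y') : ((GU U₁).map h).left = schMap h.left := rfl

instance : (GU U₁).Faithful where
  map_injective {Y Y'} h h' heq := by
    apply Over.OverMorphism.ext
    apply hom_ext_sch
    have h3 := congrArg CommaMorphism.left heq
    exact h3

instance : (GU U₁).Full where
  map_surjective {Y Y'} k := by
    let kl : sch Y.left ⟶ sch Y'.left := k.left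
    have h0 : kl ≫ schMap (V := Y'.left) (W := U₁) Y'.hom = schMap (V := Y.left) (W := U₁) Y.hom := by
      have h4 : kl ≫ (schMap (V := Y'.left) (W := U₁) Y'.hom ≫ (iU U₁).hom) =
          schMap (V := Y.left) (W := U₁) Y.hom ≫ (iU U₁).hom := Over.w k
      rw [← Category.assoc] at h4
      exact (cancel_mono (iU U₁).hom).1 h4
    have h1 : kl ≫ str Y'.left = str Y.left := by
      rw [← schMap_str Y'.hom, ← Category.assoc, h0, schMap_str]
    let l : Y.left ⟶ Y'.left := ⟨Over.homMk kl h1⟩
    have h2 : l ≫ Y'.hom = Y.hom := hom_ext_sch _ _ h0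
    exact ⟨Over.homMk l h2, Over.OverMorphism.ext rfl⟩

instance : (GU U₁).EssSurj where
  mem_essImage Z := by
    refine ⟨Over.mk (liftHom U₁ (Z.hom ≫ (iU U₁).inv)), ⟨Over.isoMk (Iso.refl _) ?_⟩⟩
    change 𝟙 _ ≫ Z.hom = (Z.hom ≫ (iU U₁).inv) ≫ (iU U₁).hom
    simp

instance : (GU U₁).IsEquivalence where

variable {S : Scheme.{u}} (f : T ⟶ S)

/-- the structure map of the spectrum of an affine object -/
noncomputable abbrev aU : Spec (RU U₁) ⟶ S := (iU U₁).inv ≫ str U₁ ≫ f

/-- compatibility of the transport with the forgetful functors to the big site of `S` -/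
noncomputable def GUIso : GU U₁ ⋙ Over.map (aU U₁ f) ≅ Over.forget U₁ ⋙ GB T ⋙ Over.map f :=
  NatIso.ofComponents (fun Y => Over.isoMk (Iso.refl _) (by
    simp [GU, aU]
    exact Category.id_comp _)) (by
    intro Y Y' h
    ext
    simp [GU]
    exact (Category.comp_id _).trans (Category.id_comp _).symm)

end Transport

section Main

variable {T S : Scheme.{u}} (f : T ⟶ S) (M : BigSite.Mod Scheme.fppfPrecoverage S)

/-- the presheaf of an `O`-module of the big site of `S` on the small model of the big site of `T` -/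
noncomputable abbrev PM : (DB T)ᵒᵖ ⥤ AddCommGrpCat.{u + 1} :=
  (GB T).op ⋙ (Over.map f).op ⋙ ((BigSite.toAbMod Scheme.fppfPrecoverage S).obj M).obj

/-- the presheaf over an affine object agrees with the presheaf over its spectrum -/
noncomputable def presheafIsoU (U₁ : DB T) [IsAffine (sch U₁)] :
    (GU U₁).op ⋙ ((Over.map (aU U₁ f)).op ⋙ ((BigSite.toAbMod Scheme.fppfPrecoverage S).obj M).obj) ≅
      (Over.forget U₁).op ⋙ PM f M :=
  Functor.isoWhiskerRight (NatIso.op (GUIso U₁ f)).symm
    ((BigSite.toAbMod Scheme.fppfPrecoverage S).obj M).obj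

theorem cech_exactAt (hM : Adeq.adequateMod Scheme.fppfPrecoverage S M) (U₁ : DB T) (hU : U₁ ∈ BA T)
    (Y : Over U₁) (hY : Y.left ∈ BA T) (hfl : Flat (schMap Y.hom))
    (hs : ∀ x : sch U₁, x ∈ Set.range (schMap Y.hom)) (p : ℕ) :
    ((cechComplexFunctor (fun _ : PUnit.{u + 2} => Y)).obj ((Over.forget U₁).op ⋙ PM f M)).ExactAt
      (p + 1) := by
  haveI : IsAffine (sch U₁) := hU
  haveI : IsAffine (sch Y.left) := hY
  haveI : Surjective (schMap Y.hom) := ⟨fun x => hs x⟩
  letI algY : Algebra (RU U₁) Γ(sch Y.left, ⊤) := (schMap Y.hom).appTop.hom.toAlgebra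
  haveI : Module.FaithfullyFlat (RU U₁) Γ(sch Y.left, ⊤) :=
    (AlgebraicGeometry.Flat.flat_and_surjective_iff_faithfullyFlat_of_isAffine (f := schMap Y.hom)).1
      ⟨inferInstance, inferInstance⟩
  have hex0 := Groth.Agent.S8788.result S M hM (RU U₁) (aU U₁ f) Γ(sch Y.left, ⊤) (p + 1)
    (Nat.succ_pos p)
  -- the family
  let α : (GU U₁).obj Y ≅
      (Over.mk (Spec.map (CommRingCat.ofHom (algebraMap (RU U₁) Γ(sch Y.left, ⊤)))) :
        Over (Spec (RU U₁))) :=
    Over.isoMk (sch Y.left).isoSpec (by
      have := Scheme.isoSpec_hom_naturality (schMap Y.hom)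
      exact this)
  have hex1 := hex0.of_iso
    (Groth.Agent.Lib.Helper14.CechFamIso.cechFamIso (fun _ : PUnit.{u + 2} => (GU U₁).obj Y) _
      (fun _ => α) _).symm
  have hex2 := hex1.of_iso
    (Groth.Agent.Lib.Helper14.CechFunct.cechIso (GU U₁) (fun _ : PUnit.{u + 2} => Y) _)
  exact hex2.of_iso ((cechComplexFunctor (fun _ : PUnit.{u + 2} => Y)).mapIso (presheafIsoU f M U₁))

end Main

end Groth.Agent.Lib.Helper14.BigFppf
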