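import Mathlib
import Groth.Agent.Lib.Helper14.MaxSpecPi

/-!
# A bound for the number of residue field embeddings of a finite algebra over a local ring

`Helper14.card_sigma_embOver_le`: for a finite algebra `S` over a local ring `A` and a field `Ω`
over the residue field `κ` of `A`, the number of pairs (maximal ideal `n` of `S`, `κ`-embedding
`S/n → Ω`) is at most `length_A (S / A) + 1`.
-/

set_option autoImplicit false
universe u

namespace Helper14

open IsLocalRing

section Core

variable {A : Type u} [CommRing A] [IsLocalRing A] {S : Type u} [CommRing S] [Algebra A S]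
  [Module.Finite A S]

omit [Module.Finite A S] in
lemma comap_eq_maximalIdeal [Algebra.IsIntegral A S] (n : Ideal S) [n.IsMaximal] :
    n.comap (algebraMap A S) = maximalIdeal A :=
  eq_maximalIdeal (Ideal.isMaximal_comap_of_isIntegral_of_isMaximal n)

variable (A S) in
/-- the map `S → ∏ S/n` -/
noncomputable def toPiQuot : S →ₗ[A] ∀ n : MaximalSpectrum S, S ⧸ n.asIdeal :=
  LinearMap.pi fun n => (Ideal.Quotient.mkₐ A n.asIdeal).toLinearMap

omit [IsLocalRing A] [Module.Finite A S] in
lemma toPiQuot_surjective [Finite (MaximalSpectrum S)] : Function.Surjective (toPiQuot A S) := by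
  intro x
  have hcop : Pairwise (Function.onFun IsCoprime fun n : MaximalSpectrum S => n.asIdeal) := by
    intro n n' hne
    rw [Function.onFun, Ideal.isCoprime_iff_sup_eq]
    exact Ideal.IsMaximal.coprime_of_ne n.isMaximal n'.isMaximal
      (fun h => hne (MaximalSpectrum.ext h))
  obtain ⟨r, hr⟩ := Ideal.pi_quotient_surjective hcop x
  exact ⟨r, funext hr⟩

lemma length_pi_quot_le [Fintype (MaximalSpectrum S)] :
    Module.length A (∀ n : MaximalSpectrum S, S ⧸ n.asIdeal) ≤
      1 + Module.length A (S ⧸ LinearMap.range (Algebra.linearMap A S)) := by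
  set W : Submodule A S := LinearMap.range (Algebra.linearMap A S) with hW
  set π := toPiQuot A S with hπ
  have hπs : Function.Surjective π := toPiQuot_surjective
  set T : Submodule A (∀ n : MaximalSpectrum S, S ⧸ n.asIdeal) := W.map π with hT
  -- additivity
  have hadd := Module.length_eq_add_of_exact T.subtype T.mkQ (Submodule.subtype_injective _)
    (Submodule.mkQ_surjective _) (LinearMap.exact_subtype_mkQ T)
  rw [hadd]
  refine add_le_add ?_ ?_
  · -- `T` is a quotient of the residue field
    have hle : maximalIdeal A ≤ LinearMap.ker (π ∘ₗ Algebra.linearMap A S) := by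
      intro a ha
      rw [LinearMap.mem_ker]
      funext n
      haveI := n.isMaximal
      have ha' := ha
      rw [← comap_eq_maximalIdeal (A := A) n.asIdeal, Ideal.mem_comap] at ha'
      exact Ideal.Quotient.eq_zero_iff_mem.2 ha'
    let ρ : (A ⧸ maximalIdeal A) →ₗ[A] (∀ n : MaximalSpectrum S, S ⧸ n.asIdeal) :=
      Submodule.liftQ (maximalIdeal A) (π ∘ₗ Algebra.linearMap A S) hle
    have hρ : LinearMap.range ρ = T := by
      rw [Submodule.range_liftQ, LinearMap.range_comp]
    have h1 : Module.length A T ≤ Module.length A (A ⧸ maximalIdeal A) := by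
      rw [← hρ]
      exact Module.length_le_of_surjective ρ.rangeRestrict ρ.surjective_rangeRestrict
    have hsimple : IsSimpleModule A (A ⧸ maximalIdeal A) :=
      isSimpleModule_iff_quot_maximal.mpr ⟨_, maximalIdeal.isMaximal A, ⟨LinearEquiv.refl _ _⟩⟩
    have h2 : Module.length A (A ⧸ maximalIdeal A) = 1 := Module.length_eq_one _ _
    rw [h2] at h1
    exact h1
  · -- `∏ / T` is a quotient of `S / W`
    have hWT : W ≤ T.comap π := Submodule.le_comap_map _ _
    have hsurj : Function.Surjective (Submodule.mapQ W T π hWT) := by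
      intro y
      obtain ⟨y, rfl⟩ := Submodule.mkQ_surjective _ y
      obtain ⟨s, rfl⟩ := hπs y
      exact ⟨Submodule.Quotient.mk s, rfl⟩
    exact Module.length_le_of_surjective _ hsurj


variable (A) in
include A in
lemma finite_maxSpec : Finite (MaximalSpectrum S) := by
  have hfin : ((maximalIdeal A).primesOver S).Finite := Algebra.QuasiFinite.finite_primesOver _
  have : Finite ((maximalIdeal A).primesOver S) := hfin
  refine Finite.of_injective
    (fun n : MaximalSpectrum S => (⟨n.asIdeal, n.isMaximal.isPrime, ⟨?_⟩⟩ :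
      (maximalIdeal A).primesOver S)) ?_
  · haveI := n.isMaximal
    exact (comap_eq_maximalIdeal n.asIdeal).symm
  · intro n n' h
    apply MaximalSpectrum.ext
    exact congrArg Subtype.val h


/-- embeddings of the residue field of `n` into `Ω` over the residue field of `A` -/
abbrev EmbOver (Ω : Type u) [Field Ω] [Algebra (ResidueField A) Ω] (n : MaximalSpectrum S) : Type u :=
  {σ : S ⧸ n.asIdeal →+* Ω //
    σ.comp ((Ideal.Quotient.mk n.asIdeal).comp (algebraMap A S)) =
      (algebraMap (ResidueField A) Ω).comp (residue A)}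

lemma card_embOver_le (Ω : Type u) [Field Ω] [Algebra (ResidueField A) Ω]
    (n : MaximalSpectrum S) :
    ENat.card (EmbOver (A := A) Ω n) ≤ Module.length A (S ⧸ n.asIdeal) := by
  haveI := n.isMaximal
  letI : Field (S ⧸ n.asIdeal) := Ideal.Quotient.field n.asIdeal
  have hker : ∀ a ∈ maximalIdeal A, algebraMap A (S ⧸ n.asIdeal) a = 0 := by
    intro a ha
    rw [← comap_eq_maximalIdeal (A := A) n.asIdeal, Ideal.mem_comap] at ha
    exact Ideal.Quotient.eq_zero_iff_mem.2 ha
  let g : ResidueField A →+* S ⧸ n.asIdeal :=
    Ideal.Quotient.lift (maximalIdeal A) (algebraMap A (S ⧸ n.asIdeal)) hker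
  letI : Algebra (ResidueField A) (S ⧸ n.asIdeal) := g.toAlgebra
  haveI : IsScalarTower A (ResidueField A) (S ⧸ n.asIdeal) :=
    IsScalarTower.of_algebraMap_eq (fun a => rfl)
  haveI : Module.Finite (ResidueField A) (S ⧸ n.asIdeal) :=
    Module.Finite.of_restrictScalars_finite A _ _
  -- the injection into algebra homs
  let ι : EmbOver (A := A) Ω n → ((S ⧸ n.asIdeal) →ₐ[ResidueField A] Ω) := fun σ =>
    { σ.1 with
      commutes' := by
        intro x
        obtain ⟨a, rfl⟩ := residue_surjective x
        have := RingHom.congr_fun σ.2 a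
        exact this }
  have hι : Function.Injective ι := by
    intro σ τ h
    apply Subtype.ext
    ext x
    exact congrArg (fun f : (S ⧸ n.asIdeal) →ₐ[ResidueField A] Ω => f x) h
  calc ENat.card (EmbOver (A := A) Ω n)
      ≤ ENat.card ((S ⧸ n.asIdeal) →ₐ[ResidueField A] Ω) := ENat.card_le_card_of_injective hι
    _ = (Nat.card ((S ⧸ n.asIdeal) →ₐ[ResidueField A] Ω) : ℕ∞) := ENat.card_eq_coe_natCard _
    _ ≤ (Module.finrank (ResidueField A) (S ⧸ n.asIdeal) : ℕ∞) := by
        exact_mod_cast card_algHom_le_finrank (ResidueField A) (S ⧸ n.asIdeal) Ω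
    _ = Module.length (ResidueField A) (S ⧸ n.asIdeal) := (Module.length_eq_finrank _ _).symm
    _ = Module.length A (S ⧸ n.asIdeal) :=
        (Module.length_eq_of_surjective (residue_surjective (R := A))).symm


theorem card_sigma_embOver_le (Ω : Type u) [Field Ω] [Algebra (ResidueField A) Ω] :
    ENat.card (Σ n : MaximalSpectrum S, EmbOver (A := A) Ω n) ≤
      Module.length A (S ⧸ LinearMap.range (Algebra.linearMap A S)) + 1 := by
  haveI := finite_maxSpec A (S := S)
  cases nonempty_fintype (MaximalSpectrum S)
  rw [enat_card_sigma]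
  calc ∑ n, ENat.card (EmbOver (A := A) Ω n)
      ≤ ∑ n : MaximalSpectrum S, Module.length A (S ⧸ n.asIdeal) :=
        Finset.sum_le_sum fun n _ => card_embOver_le Ω n
    _ = Module.length A (∀ n : MaximalSpectrum S, S ⧸ n.asIdeal) :=
        (Module.length_pi_of_fintype A _).symm
    _ ≤ 1 + Module.length A (S ⧸ LinearMap.range (Algebra.linearMap A S)) := length_pi_quot_le
    _ = _ := add_comm _ _

end Core

end Helper14
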