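import Mathlib
import Groth.Agent.Lib.Helper14.BranchBound

/-!
# The equality case of `Helper14.card_sigma_embOver_le`

For a finite algebra `S` over a local ring `A` such that every residue field of `S` has at most one
embedding over `κ(A)` into `Ω`, if `length_A (S / A) + 1 ≤ #(maximal ideals with embeddings)`
(and the length is finite) then all residue fields of `S` are those of `A` and the Jacobson radical
of `S` is contained in the image of `A`.
-/

set_option autoImplicit false
universe u

namespace Helper14

open IsLocalRing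

section Core

variable {A : Type u} [CommRing A] [IsLocalRing A] {S : Type u} [CommRing S] [Algebra A S]
  [Module.Finite A S]

theorem eq_consequences (Ω : Type u) [Field Ω] [Algebra (ResidueField A) Ω]
    (hfin : Module.length A (S ⧸ LinearMap.range (Algebra.linearMap A S)) < ⊤)
    (hle : ∀ n : MaximalSpectrum S, ENat.card (EmbOver (A := A) Ω n) ≤ 1)
    (heq : Module.length A (S ⧸ LinearMap.range (Algebra.linearMap A S)) + 1 ≤
      ENat.card (Σ n : MaximalSpectrum S, EmbOver (A := A) Ω n)) :
    (∀ n : MaximalSpectrum S, Module.length A (S ⧸ n.asIdeal) = 1) ∧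
    (∀ s : S, (∀ n : MaximalSpectrum S, s ∈ n.asIdeal) →
      s ∈ LinearMap.range (Algebra.linearMap A S)) := by
  classical
  haveI := finite_maxSpec A (S := S)
  cases nonempty_fintype (MaximalSpectrum S)
  set W : Submodule A S := LinearMap.range (Algebra.linearMap A S) with hW
  set π := toPiQuot A S with hπ
  have hπs : Function.Surjective π := toPiQuot_surjective
  set T : Submodule A (∀ n : MaximalSpectrum S, S ⧸ n.asIdeal) := W.map π with hT
  have hadd := Module.length_eq_add_of_exact T.subtype T.mkQ (Submodule.subtype_injective _)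
    (Submodule.mkQ_surjective _) (LinearMap.exact_subtype_mkQ T)
  -- `T` is a quotient of the residue field
  have hT1 : Module.length A T ≤ 1 := by
    have hle : maximalIdeal A ≤ LinearMap.ker (π ∘ₗ Algebra.linearMap A S) := by
      intro a ha
      rw [LinearMap.mem_ker]
      funext n
      haveI := n.isMaximal
      have ha' := ha
      rw [← comap_eq_maximalIdeal (A := A) n.asIdeal, Ideal.mem_comap] at ha'
      exact Ideal.Quotient.eq_zero_iff_mem.2 ha'
    let ρ : (A ⧸ maximalIdeal A) →ₗ[A] (∀ n : MaximalSpectrum S, S ⧸ n.asIdeal) :=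
      Submodule.liftQ (maximalIdeal A) (π ∘ₗ Algebra.linearMap A S) hle
    have hρ : LinearMap.range ρ = T := by
      rw [Submodule.range_liftQ, LinearMap.range_comp]
    have h1 : Module.length A T ≤ Module.length A (A ⧸ maximalIdeal A) := by
      rw [← hρ]
      exact Module.length_le_of_surjective ρ.rangeRestrict ρ.surjective_rangeRestrict
    have hsimple : IsSimpleModule A (A ⧸ maximalIdeal A) :=
      isSimpleModule_iff_quot_maximal.mpr ⟨_, maximalIdeal.isMaximal A, ⟨LinearEquiv.refl _ _⟩⟩
    have h2 : Module.length A (A ⧸ maximalIdeal A) = 1 := Module.length_eq_one _ _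
    rw [h2] at h1
    exact h1
  -- `∏ / T` is a quotient of `S / W`
  have hWT : W ≤ T.comap π := Submodule.le_comap_map _ _
  set g := Submodule.mapQ W T π hWT with hg
  have hsurj : Function.Surjective g := by
    intro y
    obtain ⟨y, rfl⟩ := Submodule.mkQ_surjective _ y
    obtain ⟨s, rfl⟩ := hπs y
    exact ⟨Submodule.Quotient.mk s, rfl⟩
  have hadd2 := Module.length_eq_add_of_exact (LinearMap.ker g).subtype g
    (Submodule.subtype_injective _) hsurj (LinearMap.exact_subtype_ker_map g)
  set a := Module.length A ((∀ n : MaximalSpectrum S, S ⧸ n.asIdeal) ⧸ T) with ha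
  set k := Module.length A (LinearMap.ker g) with hk
  have ha_top : a ≠ ⊤ := by
    intro h
    rw [hadd2, h, add_top] at hfin
    exact lt_irrefl _ hfin
  -- the chain
  have hN1 : ENat.card (Σ n : MaximalSpectrum S, EmbOver (A := A) Ω n) ≤
      (Fintype.card (MaximalSpectrum S) : ℕ∞) := by
    rw [enat_card_sigma]
    calc ∑ n, ENat.card (EmbOver (A := A) Ω n) ≤ ∑ _n : MaximalSpectrum S, (1 : ℕ∞) :=
          Finset.sum_le_sum fun n _ => hle n
      _ = _ := by simp
  have hpos : ∀ n : MaximalSpectrum S, 1 ≤ Module.length A (S ⧸ n.asIdeal) := by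
    intro n
    haveI := n.isMaximal
    haveI : Nontrivial (S ⧸ n.asIdeal) := Ideal.Quotient.nontrivial_iff.2 n.isMaximal.ne_top
    exact Order.one_le_iff_pos.2 Module.length_pos
  have hsum : ∑ n : MaximalSpectrum S, Module.length A (S ⧸ n.asIdeal) = Module.length A T + a := by
    rw [← hadd]
    exact (Module.length_pi_of_fintype A _).symm
  have hsum_le : ∑ n : MaximalSpectrum S, Module.length A (S ⧸ n.asIdeal) ≤ 1 + a := by
    rw [hsum]
    exact add_le_add hT1 le_rfl
  have hN2 : (Fintype.card (MaximalSpectrum S) : ℕ∞) ≤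
      ∑ n : MaximalSpectrum S, Module.length A (S ⧸ n.asIdeal) := by
    calc (Fintype.card (MaximalSpectrum S) : ℕ∞) = ∑ _n : MaximalSpectrum S, (1 : ℕ∞) := by simp
      _ ≤ _ := Finset.sum_le_sum fun n _ => hpos n
  have hchain : k + a + 1 ≤ (Fintype.card (MaximalSpectrum S) : ℕ∞) := by
    rw [← hadd2]
    exact heq.trans hN1
  have hk0 : k = 0 := by
    have h1 : k + (a + 1) ≤ 0 + (a + 1) := by
      rw [zero_add, ← add_assoc, add_comm a 1]
      exact hchain.trans (hN2.trans hsum_le)
    have h2 : a + 1 ≠ ⊤ := by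
      simp [ha_top]
    exact le_antisymm ((ENat.add_le_add_iff_right h2).1 h1) bot_le
  have hNa : (Fintype.card (MaximalSpectrum S) : ℕ∞) = 1 + a := by
    refine le_antisymm (hN2.trans hsum_le) ?_
    have := hchain
    rw [hk0, zero_add, add_comm] at this
    exact this
  refine ⟨fun n₀ => le_antisymm ?_ (hpos n₀), fun s hs => ?_⟩
  · -- each residue field has length one
    have hsplit := Finset.add_sum_erase Finset.univ
      (fun n : MaximalSpectrum S => Module.length A (S ⧸ n.asIdeal)) (Finset.mem_univ n₀)
    have hrest : ((Finset.univ.erase n₀).card : ℕ∞) ≤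
        ∑ n ∈ Finset.univ.erase n₀, Module.length A (S ⧸ n.asIdeal) := by
      calc ((Finset.univ.erase n₀).card : ℕ∞) = ∑ _n ∈ Finset.univ.erase n₀, (1 : ℕ∞) := by simp
        _ ≤ _ := Finset.sum_le_sum fun n _ => hpos n
    have hcard : (Finset.univ.erase n₀).card + 1 = Fintype.card (MaximalSpectrum S) := by
      rw [Finset.card_erase_of_mem (Finset.mem_univ n₀), Finset.card_univ]
      have : 0 < Fintype.card (MaximalSpectrum S) := Fintype.card_pos_iff.2 ⟨n₀⟩
      omega
    have h1 : Module.length A (S ⧸ n₀.asIdeal) + ((Finset.univ.erase n₀).card : ℕ∞) ≤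
        1 + ((Finset.univ.erase n₀).card : ℕ∞) := by
      calc Module.length A (S ⧸ n₀.asIdeal) + ((Finset.univ.erase n₀).card : ℕ∞)
          ≤ Module.length A (S ⧸ n₀.asIdeal) +
            ∑ n ∈ Finset.univ.erase n₀, Module.length A (S ⧸ n.asIdeal) := add_le_add le_rfl hrest
        _ = ∑ n : MaximalSpectrum S, Module.length A (S ⧸ n.asIdeal) := hsplit
        _ ≤ 1 + a := hsum_le
        _ = (Fintype.card (MaximalSpectrum S) : ℕ∞) := hNa.symm
        _ = 1 + ((Finset.univ.erase n₀).card : ℕ∞) := by
          rw [← hcard]; push_cast; ring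
    exact (ENat.add_le_add_iff_right (ENat.natCast_ne_top _)).1 h1
  · -- the Jacobson radical lies in the image of `A`
    have hπ0 : π s = 0 := by
      funext n
      exact Ideal.Quotient.eq_zero_iff_mem.2 (hs n)
    have hmem : (Submodule.Quotient.mk s : S ⧸ W) ∈ LinearMap.ker g := by
      rw [LinearMap.mem_ker, hg, Submodule.mapQ_apply, hπ0, Submodule.Quotient.mk_zero]
    have hsub : Subsingleton (LinearMap.ker g) := Module.length_eq_zero_iff.1 hk0
    have h0 : (⟨_, hmem⟩ : LinearMap.ker g) = 0 := Subsingleton.elim _ _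
    have h1 : (Submodule.Quotient.mk s : S ⧸ W) = 0 := congrArg Subtype.val h0
    exact (Submodule.Quotient.mk_eq_zero W).1 h1

omit [Module.Finite A S] [IsLocalRing A] in
/-- a maximal ideal with `length_A (S/n) = 1` has the residue field of `A` -/
lemma exists_sub_mem_of_length_eq_one (n : Ideal S) [n.IsMaximal]
    (h : Module.length A (S ⧸ n) = 1) (x : S) : ∃ a : A, x - algebraMap A S a ∈ n := by
  have hsimple : IsSimpleModule A (S ⧸ n) := Module.length_eq_one_iff.1 h
  let f : A →ₗ[A] S ⧸ n := Algebra.linearMap A (S ⧸ n)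
  have hne : LinearMap.range f ≠ ⊥ := by
    intro hbot
    have h1 : f 1 ∈ LinearMap.range f := ⟨1, rfl⟩
    rw [hbot, Submodule.mem_bot] at h1
    have h2 : (1 : S ⧸ n) = 0 := by simpa [f] using h1
    haveI : Nontrivial (S ⧸ n) := Ideal.Quotient.nontrivial_iff.2 (Ideal.IsMaximal.ne_top ‹_›)
    exact one_ne_zero h2
  have htop : LinearMap.range f = ⊤ := (eq_bot_or_eq_top _).resolve_left hne
  have hx : Ideal.Quotient.mk n x ∈ LinearMap.range f := by rw [htop]; trivial
  obtain ⟨a, ha⟩ := hx
  refine ⟨a, ?_⟩
  rw [← Ideal.Quotient.eq_zero_iff_mem, map_sub, ← ha]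
  exact sub_self _

end Core

end Helper14
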