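import Mathlib

/-!
# Buchberger's criterion (monic case) for `MvPolynomial`

A family `G : ι → MvPolynomial σ A` with prescribed leading monomials `lm i` (leading coefficient `1`)
all of whose S-pairs have standard representations is a Gröbner basis: every nonzero element of the
ideal generated has its degree divisible by some `lm i`.
-/

namespace Groth.Agent.Lib.Helper14.Buchberger

open MvPolynomial MonomialOrder
open scoped MonomialOrder

section generic

variable {σ : Type*} (m : MonomialOrder σ) {A : Type*} [CommRing A] {ι : Type*}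
  (lm : ι → σ →₀ ℕ) (G : ι → MvPolynomial σ A)

/-- span of the monomial multiples `x^α G_k` with `α + lm k ≺ δ`. -/
noncomputable def Vlt (δ : σ →₀ ℕ) : Submodule A (MvPolynomial σ A) :=
  Submodule.span A {p | ∃ α k, α + lm k ≺[m] δ ∧ p = monomial α 1 * G k}

/-- span of the monomial multiples `x^α G_k` with `α + lm k ≼ δ`. -/
noncomputable def Vle (δ : σ →₀ ℕ) : Submodule A (MvPolynomial σ A) :=
  Submodule.span A {p | ∃ α k, α + lm k ≼[m] δ ∧ p = monomial α 1 * G k}

/-- span of the monomial multiples `x^α G_k` with `α + lm k = δ`. -/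
noncomputable def Veq (δ : σ →₀ ℕ) : Submodule A (MvPolynomial σ A) :=
  Submodule.span A {p | ∃ α k, α + lm k = δ ∧ p = monomial α 1 * G k}

/-- polynomials all of whose monomials are `≺ δ`. -/
noncomputable def suppLt (δ : σ →₀ ℕ) : Submodule A (MvPolynomial σ A) where
  carrier := {f | ∀ β ∈ f.support, β ≺[m] δ}
  zero_mem' := by simp
  add_mem' := by
    classical
    intro f g hf hg β hβ
    rcases Finset.mem_union.mp (MvPolynomial.support_add hβ) with h | h
    · exact hf β h
    · exact hg β h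
  smul_mem' := by
    intro c f hf β hβ
    exact hf β (MvPolynomial.support_smul hβ)

/-- polynomials all of whose monomials are `≼ δ`. -/
noncomputable def suppLe (δ : σ →₀ ℕ) : Submodule A (MvPolynomial σ A) where
  carrier := {f | ∀ β ∈ f.support, β ≼[m] δ}
  zero_mem' := by simp
  add_mem' := by
    classical
    intro f g hf hg β hβ
    rcases Finset.mem_union.mp (MvPolynomial.support_add hβ) with h | h
    · exact hf β h
    · exact hg β h
  smul_mem' := by
    intro c f hf β hβ
    exact hf β (MvPolynomial.support_smul hβ)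

/-- The Gröbner basis certificate. -/
structure IsGB : Prop where
  coeff_lm : ∀ i, (G i).coeff (lm i) = 1
  supp_le : ∀ i, ∀ β ∈ (G i).support, β ≼[m] lm i
  spair : ∀ i j, monomial (lm i ⊔ lm j - lm i) 1 * G i - monomial (lm i ⊔ lm j - lm j) 1 * G j ∈
    Vlt m lm G (lm i ⊔ lm j)

variable {m lm G}

lemma support_monomial_mul_le (h : IsGB m lm G) (α : σ →₀ ℕ) (k : ι) :
    ∀ β ∈ (monomial α (1 : A) * G k).support, β ≼[m] α + lm k := by
  classical
  intro β hβ
  have h1 := MvPolynomial.support_mul _ _ hβ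
  obtain ⟨a, ha, b, hb, rfl⟩ := Finset.mem_add.mp h1
  have ha' : a = α := by
    have := MvPolynomial.support_monomial_subset ha
    simpa using this
  subst ha'
  have := h.supp_le k b hb
  simp only [map_add]
  exact add_le_add le_rfl this

lemma Vlt_le_suppLt (h : IsGB m lm G) (δ : σ →₀ ℕ) : Vlt m lm G δ ≤ suppLt m δ := by
  apply Submodule.span_le.mpr
  rintro p ⟨α, k, hlt, rfl⟩ β hβ
  exact lt_of_le_of_lt (support_monomial_mul_le h α k β hβ) hlt

lemma Vle_le_suppLe (h : IsGB m lm G) (δ : σ →₀ ℕ) : Vle m lm G δ ≤ suppLe m δ := by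
  apply Submodule.span_le.mpr
  rintro p ⟨α, k, hle, rfl⟩ β hβ
  exact le_trans (support_monomial_mul_le h α k β hβ) hle

lemma coeff_eq_zero_of_mem_Vlt (h : IsGB m lm G) {δ : σ →₀ ℕ} {f : MvPolynomial σ A}
    (hf : f ∈ Vlt m lm G δ) : f.coeff δ = 0 := by
  by_contra hne
  have := Vlt_le_suppLt h δ hf δ (MvPolynomial.mem_support_iff.mpr hne)
  exact lt_irrefl _ this

lemma Vlt_le_Vle (δ : σ →₀ ℕ) : Vlt m lm G δ ≤ Vle m lm G δ := by
  apply Submodule.span_mono
  rintro p ⟨α, k, hlt, rfl⟩
  exact ⟨α, k, hlt.le, rfl⟩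

lemma Vle_mono {δ δ' : σ →₀ ℕ} (hδ : δ ≼[m] δ') : Vle m lm G δ ≤ Vle m lm G δ' := by
  apply Submodule.span_mono
  rintro p ⟨α, k, hle, rfl⟩
  exact ⟨α, k, hle.trans hδ, rfl⟩

lemma Vle_le_Vlt {δ δ' : σ →₀ ℕ} (hδ : δ ≺[m] δ') : Vle m lm G δ ≤ Vlt m lm G δ' := by
  apply Submodule.span_mono
  rintro p ⟨α, k, hle, rfl⟩
  exact ⟨α, k, lt_of_le_of_lt hle hδ, rfl⟩

lemma monomial_mul_mem_Vlt (β : σ →₀ ℕ) {δ : σ →₀ ℕ} {f : MvPolynomial σ A}
    (hf : f ∈ Vlt m lm G δ) : monomial β 1 * f ∈ Vlt m lm G (β + δ) := by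
  have : Vlt m lm G δ ≤ (Vlt m lm G (β + δ)).comap (LinearMap.mulLeft A (monomial β (1 : A))) := by
    apply Submodule.span_le.mpr
    rintro p ⟨α, k, hlt, rfl⟩
    simp only [Submodule.comap_coe, Set.mem_preimage, LinearMap.mulLeft_apply, SetLike.mem_coe]
    apply Submodule.subset_span
    refine ⟨β + α, k, ?_, ?_⟩
    · rw [add_assoc, map_add, map_add m.toSyn β δ]
      exact add_lt_add_right hlt _
    · rw [← mul_assoc, monomial_mul, one_mul]
  exact this hf

lemma monomial_mul_mem_Vle (β : σ →₀ ℕ) {δ : σ →₀ ℕ} {f : MvPolynomial σ A}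
    (hf : f ∈ Vle m lm G δ) : monomial β 1 * f ∈ Vle m lm G (β + δ) := by
  have : Vle m lm G δ ≤ (Vle m lm G (β + δ)).comap (LinearMap.mulLeft A (monomial β (1 : A))) := by
    apply Submodule.span_le.mpr
    rintro p ⟨α, k, hle, rfl⟩
    simp only [Submodule.comap_coe, Set.mem_preimage, LinearMap.mulLeft_apply, SetLike.mem_coe]
    apply Submodule.subset_span
    refine ⟨β + α, k, ?_, ?_⟩
    · rw [add_assoc, map_add, map_add m.toSyn β δ]
      exact add_le_add_right hle _
    · rw [← mul_assoc, monomial_mul, one_mul]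
  exact this hf

lemma Vle_eq_sup (δ : σ →₀ ℕ) : Vle m lm G δ = Vlt m lm G δ ⊔ Veq lm G δ := by
  apply le_antisymm
  · apply Submodule.span_le.mpr
    rintro p ⟨α, k, hle, rfl⟩
    rcases lt_or_eq_of_le hle with hlt | heq
    · exact Submodule.mem_sup_left (Submodule.subset_span ⟨α, k, hlt, rfl⟩)
    · exact Submodule.mem_sup_right
        (Submodule.subset_span ⟨α, k, m.toSyn.injective heq, rfl⟩)
  · apply sup_le (Vlt_le_Vle δ)
    apply Submodule.span_mono
    rintro p ⟨α, k, heq, rfl⟩
    exact ⟨α, k, heq ▸ le_rfl, rfl⟩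

/-- Two top-degree generators differ by an element of `Vlt`. -/
lemma sub_mem_Vlt (h : IsGB m lm G) {δ α α0 : σ →₀ ℕ} {k k0 : ι}
    (hα : α + lm k = δ) (hα0 : α0 + lm k0 = δ) :
    monomial α 1 * G k - monomial α0 1 * G k0 ∈ Vlt m lm G δ := by
  set γ := lm k ⊔ lm k0 with hγ
  have hk : lm k ≤ δ := hα ▸ le_add_self
  have hk0 : lm k0 ≤ δ := hα0 ▸ le_add_self
  have hγδ : γ ≤ δ := sup_le hk hk0
  have e1 : α = (δ - γ) + (γ - lm k) := by
    rw [tsub_add_tsub_cancel hγδ le_sup_left, ← hα, add_tsub_cancel_right]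
  have e2 : α0 = (δ - γ) + (γ - lm k0) := by
    rw [tsub_add_tsub_cancel hγδ le_sup_right, ← hα0, add_tsub_cancel_right]
  have e3 : (δ - γ) + γ = δ := tsub_add_cancel_of_le hγδ
  have key := monomial_mul_mem_Vlt (δ - γ) (h.spair k k0)
  rw [e3] at key
  have : monomial α 1 * G k - monomial α0 1 * G k0 =
      monomial (δ - γ) 1 * (monomial (lm k ⊔ lm k0 - lm k) 1 * G k -
        monomial (lm k ⊔ lm k0 - lm k0) 1 * G k0) := by
    rw [mul_sub, ← mul_assoc, ← mul_assoc, monomial_mul, monomial_mul, one_mul, ← e1, ← e2]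
  rw [this]
  exact key

lemma coeff_top (h : IsGB m lm G) {δ α : σ →₀ ℕ} {k : ι} (hα : α + lm k = δ) :
    (monomial α (1 : A) * G k).coeff δ = 1 := by
  rw [← hα, coeff_monomial_mul, one_mul, h.coeff_lm]

lemma Veq_structure (h : IsGB m lm G) {δ α0 : σ →₀ ℕ} {k0 : ι} (hα0 : α0 + lm k0 = δ)
    {f : MvPolynomial σ A} (hf : f ∈ Veq lm G δ) :
    f - f.coeff δ • (monomial α0 1 * G k0) ∈ Vlt m lm G δ := by
  induction hf using Submodule.span_induction with
  | mem p hp =>
    obtain ⟨α, k, hα, rfl⟩ := hp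
    rw [coeff_top h hα, one_smul]
    exact sub_mem_Vlt h hα hα0
  | zero => simp
  | add f g _ _ hf hg =>
    have : f + g - (f + g).coeff δ • (monomial α0 1 * G k0) =
        (f - f.coeff δ • (monomial α0 1 * G k0)) + (g - g.coeff δ • (monomial α0 1 * G k0)) := by
      rw [coeff_add, add_smul]; abel
    rw [this]
    exact add_mem hf hg
  | smul c f _ hf =>
    have : c • f - (c • f).coeff δ • (monomial α0 1 * G k0) =
        c • (f - f.coeff δ • (monomial α0 1 * G k0)) := by
      rw [coeff_smul, smul_sub, smul_smul, smul_eq_mul]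
    rw [this]
    exact Submodule.smul_mem _ _ hf

lemma descend {δ : σ →₀ ℕ} {f : MvPolynomial σ A} (hf : f ∈ Vlt m lm G δ) :
    f = 0 ∨ ∃ δ', δ' ≺[m] δ ∧ f ∈ Vle m lm G δ' := by
  induction hf using Submodule.span_induction with
  | mem p hp =>
    obtain ⟨α, k, hlt, rfl⟩ := hp
    exact Or.inr ⟨α + lm k, hlt, Submodule.subset_span ⟨α, k, le_rfl, rfl⟩⟩
  | zero => exact Or.inl rfl
  | add f g _ _ hf hg =>
    rcases hf with rfl | ⟨δ1, h1, hf1⟩
    · simpa using hg
    rcases hg with rfl | ⟨δ2, h2, hg2⟩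
    · right; exact ⟨δ1, h1, by simpa using hf1⟩
    right
    rcases le_total (m.toSyn δ1) (m.toSyn δ2) with hle | hle
    · exact ⟨δ2, h2, add_mem (Vle_mono hle hf1) hg2⟩
    · exact ⟨δ1, h1, add_mem hf1 (Vle_mono hle hg2)⟩
  | smul c f _ hf =>
    rcases hf with rfl | ⟨δ1, h1, hf1⟩
    · left; simp
    · right; exact ⟨δ1, h1, Submodule.smul_mem _ _ hf1⟩

/-- Main induction. -/
theorem exists_lm_le_of_mem_Vle (h : IsGB m lm G) (δ : σ →₀ ℕ) :
    ∀ f ∈ Vle m lm G δ, f ≠ 0 → ∃ i, lm i ≤ m.degree f := by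
  induction' hδ : m.toSyn δ using WellFoundedLT.induction with s ih generalizing δ
  subst hδ
  intro f hf hf0
  -- reduce to `f ∈ Vlt δ`
  have hmain : (∃ i, lm i ≤ m.degree f) ∨ f ∈ Vlt m lm G δ := by
    rw [Vle_eq_sup] at hf
    obtain ⟨f1, hf1, f2, hf2, rfl⟩ := Submodule.mem_sup.mp hf
    by_cases hgen : ∃ α0 k0, α0 + lm k0 = δ
    · obtain ⟨α0, k0, hα0⟩ := hgen
      by_cases hc : (f1 + f2).coeff δ = 0
      · right
        have hc2 : f2.coeff δ = 0 := by
          rw [coeff_add, coeff_eq_zero_of_mem_Vlt h hf1, zero_add] at hc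
          exact hc
        have := Veq_structure h hα0 hf2
        rw [hc2, zero_smul, sub_zero] at this
        exact add_mem hf1 this
      · left
        refine ⟨k0, ?_⟩
        have hdeg : m.degree (f1 + f2) = δ := by
          apply m.toSyn.injective
          apply le_antisymm
          · rw [degree_le_iff]
            exact Vle_le_suppLe h δ (by rw [Vle_eq_sup]; exact hf)
          · exact m.le_degree (MvPolynomial.mem_support_iff.mpr hc)
        rw [hdeg, ← hα0]
        exact le_add_self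
    · right
      have : Veq lm G δ = ⊥ := by
        rw [Veq]
        convert Submodule.span_empty
        ext p
        simp only [Set.mem_ofPred_eq, Set.mem_empty_iff_false, iff_false]
        rintro ⟨α, k, hα, -⟩
        exact hgen ⟨α, k, hα⟩
      rw [this, Submodule.mem_bot] at hf2
      subst hf2
      simpa using hf1
  rcases hmain with hdone | hlt
  · exact hdone
  · rcases descend hlt with rfl | ⟨δ', hδ', hf'⟩
    · exact absurd rfl hf0
    · exact ih (m.toSyn δ') hδ' δ' rfl f hf' hf0

lemma exists_mem_Vle_of_mem_span {f : MvPolynomial σ A} (hf : f ∈ Ideal.span (Set.range G)) :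
    ∃ δ, f ∈ Vle m lm G δ := by
  have hmul : ∀ (q : MvPolynomial σ A) (f : MvPolynomial σ A), (∃ δ, f ∈ Vle m lm G δ) →
      ∃ δ, q * f ∈ Vle m lm G δ := by
    intro q f ⟨δ, hf⟩
    induction q using MvPolynomial.induction_on' with
    | monomial β c =>
      refine ⟨β + δ, ?_⟩
      have : monomial β c * f = c • (monomial β 1 * f) := by
        rw [← smul_mul_assoc, smul_monomial, smul_eq_mul, mul_one]
      rw [this]
      exact Submodule.smul_mem _ _ (monomial_mul_mem_Vle β hf)
    | add p q hp hq =>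
      obtain ⟨δ1, h1⟩ := hp
      obtain ⟨δ2, h2⟩ := hq
      rw [add_mul]
      rcases le_total (m.toSyn δ1) (m.toSyn δ2) with hle | hle
      · exact ⟨δ2, add_mem (Vle_mono hle h1) h2⟩
      · exact ⟨δ1, add_mem h1 (Vle_mono hle h2)⟩
  induction hf using Submodule.span_induction with
  | mem p hp =>
    obtain ⟨k, rfl⟩ := hp
    refine ⟨0 + lm k, Submodule.subset_span ⟨0, k, le_rfl, ?_⟩⟩
    simp
  | zero => exact ⟨0, zero_mem _⟩
  | add f g _ _ hf hg =>
    obtain ⟨δ1, h1⟩ := hf
    obtain ⟨δ2, h2⟩ := hg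
    rcases le_total (m.toSyn δ1) (m.toSyn δ2) with hle | hle
    · exact ⟨δ2, add_mem (Vle_mono hle h1) h2⟩
    · exact ⟨δ1, add_mem h1 (Vle_mono hle h2)⟩
  | smul q f _ hf => exact hmul q f hf

/-- **Buchberger's criterion**: every nonzero element of the ideal has degree divisible by
some leading monomial. -/
theorem IsGB.exists_lm_le (h : IsGB m lm G) {f : MvPolynomial σ A}
    (hf : f ∈ Ideal.span (Set.range G)) (hf0 : f ≠ 0) : ∃ i, lm i ≤ m.degree f := by
  obtain ⟨δ, hδ⟩ := exists_mem_Vle_of_mem_span (m := m) (lm := lm) hf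
  exact exists_lm_le_of_mem_Vle h δ f hδ hf0

/-- A polynomial is reduced if none of its monomials is divisible by a leading monomial. -/
def Reduced (lm : ι → σ →₀ ℕ) (f : MvPolynomial σ A) : Prop :=
  ∀ β ∈ f.support, ∀ i, ¬ lm i ≤ β

theorem IsGB.eq_zero_of_reduced (h : IsGB m lm G) {f : MvPolynomial σ A}
    (hf : f ∈ Ideal.span (Set.range G)) (hred : Reduced lm f) : f = 0 := by
  by_contra hf0
  obtain ⟨i, hi⟩ := h.exists_lm_le hf hf0
  exact hred _ (m.degree_mem_support hf0) i hi

lemma IsGB.degree_eq [Nontrivial A] (h : IsGB m lm G) (i : ι) : m.degree (G i) = lm i := by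
  apply m.toSyn.injective
  apply le_antisymm
  · rw [degree_le_iff]; exact h.supp_le i
  · apply m.le_degree
    rw [MvPolynomial.mem_support_iff, h.coeff_lm]
    exact one_ne_zero

lemma IsGB.leadingCoeff_eq [Nontrivial A] (h : IsGB m lm G) (i : ι) :
    m.leadingCoeff (G i) = 1 := by
  rw [leadingCoeff, h.degree_eq, h.coeff_lm]

theorem IsGB.exists_reduced [Nontrivial A] (h : IsGB m lm G) (f : MvPolynomial σ A) :
    ∃ r, f - r ∈ Ideal.span (Set.range G) ∧ Reduced lm r := by
  obtain ⟨g, r, hfr, -, hr⟩ := m.div (b := G)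
    (fun i => by rw [h.leadingCoeff_eq]; exact isUnit_one) f
  refine ⟨r, ?_, ?_⟩
  · have : f - r = Finsupp.linearCombination _ G g := by rw [hfr]; ring
    rw [this, Finsupp.linearCombination_apply]
    apply Ideal.sum_mem
    intro i _
    show g i • G i ∈ _
    rw [smul_eq_mul]
    exact Ideal.mul_mem_left _ _ (Ideal.subset_span ⟨i, rfl⟩)
  · intro β hβ i
    rw [← h.degree_eq i]
    exact hr β hβ i

/-- A variable not occurring in any leading monomial is a nonzerodivisor modulo the ideal. -/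
theorem IsGB.mem_of_X_mul_mem [Nontrivial A] (h : IsGB m lm G) (x : σ) (hx : ∀ i, lm i x = 0)
    {f : MvPolynomial σ A} (hf : X x * f ∈ Ideal.span (Set.range G)) :
    f ∈ Ideal.span (Set.range G) := by
  classical
  obtain ⟨r, hr, hred⟩ := h.exists_reduced f
  have h1 : X x * r ∈ Ideal.span (Set.range G) := by
    have : X x * r = X x * f - X x * (f - r) := by ring
    rw [this]
    exact sub_mem hf (Ideal.mul_mem_left _ _ hr)
  have h2 : Reduced lm (X x * r) := by
    intro β hβ i hle
    rw [support_X_mul] at hβ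
    obtain ⟨β', hβ', rfl⟩ := Finset.mem_map.mp hβ
    apply hred β' hβ' i
    intro y
    have := hle y
    simp only [addLeftEmbedding_apply, Finsupp.coe_add, Pi.add_apply] at this
    by_cases hy : y = x
    · subst hy; rw [hx i]; exact Nat.zero_le _
    · rwa [Finsupp.single_eq_of_ne hy, zero_add] at this
  have h3 := h.eq_zero_of_reduced h1 h2
  have hX : (X x : MvPolynomial σ A) ∈ nonZeroDivisors _ := by
    apply m.mem_nonZeroDivisors_of_leadingCoeff_mem_nonZeroDivisors
    rw [leadingCoeff_X]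
    exact one_mem _
  have hr0 : r = 0 := by
    exact (mul_left_mem_nonZeroDivisors_eq_zero_iff hX).mp h3
  rw [hr0, sub_zero] at hr
  exact hr

/-- Scalars that are nonzerodivisors of `A` are nonzerodivisors modulo the ideal. -/
theorem IsGB.mem_of_smul_mem [Nontrivial A] (h : IsGB m lm G) (a : A)
    (ha : ∀ b : A, a * b = 0 → b = 0)
    {f : MvPolynomial σ A} (hf : a • f ∈ Ideal.span (Set.range G)) :
    f ∈ Ideal.span (Set.range G) := by
  obtain ⟨r, hr, hred⟩ := h.exists_reduced f
  have h1 : a • r ∈ Ideal.span (Set.range G) := by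
    have : a • r = a • f - a • (f - r) := by rw [smul_sub]; abel
    rw [this]
    refine sub_mem hf ?_
    rw [smul_eq_C_mul]
    exact Ideal.mul_mem_left _ _ hr
  have h2 : Reduced lm (a • r) := fun β hβ i => hred β (MvPolynomial.support_smul hβ) i
  have h3 := h.eq_zero_of_reduced h1 h2
  have hr0 : r = 0 := by
    ext β
    have := congrArg (MvPolynomial.coeff β) h3
    rw [coeff_smul, smul_eq_mul, coeff_zero] at this
    rw [coeff_zero]
    exact ha _ this
  rw [hr0, sub_zero] at hr
  exact hr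

/-- Elements of the ideal whose monomials avoid a set of variables meeting every leading monomial
vanish (elimination). -/
theorem IsGB.eq_zero_of_support_avoid (h : IsGB m lm G) (S : Set σ)
    (hS : ∀ i, ∃ x ∈ S, lm i x ≠ 0) {f : MvPolynomial σ A}
    (hf : f ∈ Ideal.span (Set.range G)) (hv : ∀ β ∈ f.support, ∀ x ∈ S, β x = 0) : f = 0 := by
  apply h.eq_zero_of_reduced hf
  intro β hβ i hle
  obtain ⟨x, hxS, hx⟩ := hS i
  have := hle x
  rw [hv β hβ x hxS] at this
  exact hx (Nat.le_zero.mp this)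

/-- A monic polynomial whose leading monomial is disjoint from all leading monomials of the Gröbner
basis is a nonzerodivisor modulo the ideal. -/
theorem IsGB.mem_of_mul_mem_of_disjoint [Nontrivial A] (h : IsGB m lm G) (p : MvPolynomial σ A)
    (hp : m.leadingCoeff p = 1) (hdisj : ∀ i x, lm i x ≠ 0 → m.degree p x = 0)
    {f : MvPolynomial σ A} (hf : p * f ∈ Ideal.span (Set.range G)) :
    f ∈ Ideal.span (Set.range G) := by
  obtain ⟨r, hr, hred⟩ := h.exists_reduced f
  have h1 : p * r ∈ Ideal.span (Set.range G) := by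
    have : p * r = p * f - p * (f - r) := by ring
    rw [this]
    exact sub_mem hf (Ideal.mul_mem_left _ _ hr)
  have hreg : IsRegular (m.leadingCoeff p) := by rw [hp]; exact isRegular_one
  by_cases hr0 : r = 0
  · rw [hr0, sub_zero] at hr; exact hr
  exfalso
  have hpr0 : p * r ≠ 0 := by
    intro h0
    have h2 := m.leadingCoeff_mul_of_isRegular_left (g := r) hreg
    rw [h0, leadingCoeff_zero, hp, one_mul] at h2
    exact hr0 (m.leadingCoeff_eq_zero_iff.mp h2.symm)
  obtain ⟨i, hi⟩ := h.exists_lm_le h1 hpr0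
  rw [m.degree_mul_of_isRegular_left hreg hr0] at hi
  apply hred _ (m.degree_mem_support hr0) i
  intro x
  have := hi x
  simp only [Finsupp.coe_add, Pi.add_apply] at this
  by_cases hx : lm i x = 0
  · rw [hx]; exact Nat.zero_le _
  · rwa [hdisj i x hx, zero_add] at this

/-- The ideal is proper (over a nontrivial ring) as soon as no leading monomial is `0`. -/
theorem IsGB.one_notMem [Nontrivial A] (h : IsGB m lm G) (h0 : ∀ i, lm i ≠ 0) :
    (1 : MvPolynomial σ A) ∉ Ideal.span (Set.range G) := by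
  intro h1
  have : (1 : MvPolynomial σ A) = 0 := by
    apply h.eq_zero_of_reduced h1
    intro β hβ i hle
    have hβ0 : β = 0 := by
      have : (1 : MvPolynomial σ A) = monomial 0 1 := rfl
      rw [this] at hβ
      have := MvPolynomial.support_monomial_subset hβ
      simpa using this
    subst hβ0
    exact h0 i (le_antisymm hle _root_.zero_le)
  exact one_ne_zero this

/-- It suffices to check S-pairs for `i < j`. -/
theorem IsGB.of_lt [LinearOrder ι]
    (coeff_lm : ∀ i, (G i).coeff (lm i) = 1)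
    (supp_le : ∀ i, ∀ β ∈ (G i).support, β ≼[m] lm i)
    (spair : ∀ i j, i < j →
      monomial (lm i ⊔ lm j - lm i) 1 * G i - monomial (lm i ⊔ lm j - lm j) 1 * G j ∈
        Vlt m lm G (lm i ⊔ lm j)) : IsGB m lm G := by
  refine ⟨coeff_lm, supp_le, ?_⟩
  intro i j
  rcases lt_trichotomy i j with h | h | h
  · exact spair i j h
  · subst h; simp
  · have := spair j i h
    rw [sup_comm (lm j) (lm i)] at this
    have h2 := neg_mem this
    rwa [neg_sub] at h2

end generic

section concrete

variable {n : ℕ} {A : Type*} [CommRing A]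

/-- exponent vector as a finsupp -/
noncomputable def vmon (v : Fin n → ℕ) : Fin n →₀ ℕ := Finsupp.equivFunOnFinite.symm v

@[simp] lemma vmon_apply (v : Fin n → ℕ) (i : Fin n) : vmon v i = v i := rfl

lemma vmon_add (v w : Fin n → ℕ) : vmon (v + w) = vmon v + vmon w := by
  ext i; simp

lemma vmon_sup (v w : Fin n → ℕ) : vmon (v ⊔ w) = vmon v ⊔ vmon w := by
  ext i; simp

/-- the monomial with exponent vector `v` -/
noncomputable def mon (v : Fin n → ℕ) : MvPolynomial (Fin n) A := monomial (vmon v) 1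

lemma mon_eq_prod (v : Fin n → ℕ) : (mon v : MvPolynomial (Fin n) A) = ∏ i, X i ^ v i := by
  rw [mon, MvPolynomial.monomial_eq, C_1, one_mul, Finsupp.prod_fintype]
  · rfl
  · intro i; simp

/-- lexicographic comparison of exponent vectors (`X 0 > X 1 > ...`). -/
def LexLt (v w : Fin n → ℕ) : Prop := ∃ i, (∀ j, j < i → v j = w j) ∧ v i < w i

instance (v w : Fin n → ℕ) : Decidable (LexLt v w) := by
  unfold LexLt; infer_instance

lemma lexLt_sound {v w : Fin n → ℕ} (h : LexLt v w) :
    vmon v ≺[MonomialOrder.lex] vmon w := by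
  rw [MonomialOrder.lex_lt_iff, Finsupp.Lex.lt_iff]
  exact h

/-- polynomial given by a list of terms with integer coefficients -/
noncomputable def evalTerms (L : List (ℤ × (Fin n → ℕ))) : MvPolynomial (Fin n) A :=
  (L.map fun t => C (t.1 : A) * mon t.2).sum

lemma support_evalTerms (L : List (ℤ × (Fin n → ℕ))) :
    ∀ β ∈ (evalTerms L : MvPolynomial (Fin n) A).support, ∃ t ∈ L, β = vmon t.2 := by
  classical
  induction L with
  | nil => simp [evalTerms]
  | cons t L ih =>
    intro β hβ
    have : (evalTerms (t :: L) : MvPolynomial (Fin n) A) =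
        C (t.1 : A) * mon t.2 + evalTerms L := by
      simp [evalTerms]
    rw [this] at hβ
    rcases Finset.mem_union.mp (MvPolynomial.support_add hβ) with h | h
    · refine ⟨t, List.mem_cons_self, ?_⟩
      rw [mon, C_mul_monomial] at h
      have := MvPolynomial.support_monomial_subset h
      simpa using this
    · obtain ⟨t', ht', rfl⟩ := ih β h
      exact ⟨t', List.mem_cons_of_mem _ ht', rfl⟩

/-- Data-driven Gröbner basis certificate for the lexicographic order on `Fin n`. -/
theorem isGB_of_data {ι : Type*} [LinearOrder ι] (lmv : ι → Fin n → ℕ)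
    (tail : ι → List (ℤ × (Fin n → ℕ))) (G : ι → MvPolynomial (Fin n) A)
    (hG : ∀ i, G i = mon (lmv i) + evalTerms (tail i))
    (htail : ∀ i, ∀ t ∈ tail i, LexLt t.2 (lmv i))
    (γ μ₁ μ₂ : ι → ι → Fin n → ℕ)
    (cert : ι → ι → List (ℤ × (Fin n → ℕ) × ι))
    (hγ : ∀ i j, i < j → γ i j = lmv i ⊔ lmv j ∧ μ₁ i j + lmv i = γ i j ∧ μ₂ i j + lmv j = γ i j)
    (hcert : ∀ i j, i < j → ∀ t ∈ cert i j, LexLt (t.2.1 + lmv t.2.2) (γ i j))
    (hid : ∀ i j, i < j → mon (μ₁ i j) * G i - mon (μ₂ i j) * G j =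
      ((cert i j).map fun t => C (t.1 : A) * mon t.2.1 * G t.2.2).sum) :
    IsGB MonomialOrder.lex (fun i => vmon (lmv i)) G := by
  classical
  have hsupp : ∀ i, ∀ β ∈ (evalTerms (tail i) : MvPolynomial (Fin n) A).support,
      β ≺[MonomialOrder.lex] vmon (lmv i) := by
    intro i β hβ
    obtain ⟨t, ht, rfl⟩ := support_evalTerms _ β hβ
    exact lexLt_sound (htail i t ht)
  apply IsGB.of_lt
  · intro i
    rw [hG i, coeff_add, mon, coeff_monomial, if_pos rfl]
    have : (evalTerms (tail i) : MvPolynomial (Fin n) A).coeff (vmon (lmv i)) = 0 := by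
      by_contra hne
      exact lt_irrefl _ (hsupp i _ (MvPolynomial.mem_support_iff.mpr hne))
    rw [this, add_zero]
  · intro i β hβ
    rw [hG i] at hβ
    rcases Finset.mem_union.mp (MvPolynomial.support_add hβ) with h | h
    · have := MvPolynomial.support_monomial_subset h
      have : β = vmon (lmv i) := by simpa using this
      rw [this]
    · exact (hsupp i β h).le
  · intro i j hij
    obtain ⟨h1, h2, h3⟩ := hγ i j hij
    have e0 : vmon (lmv i) ⊔ vmon (lmv j) = vmon (γ i j) := by rw [h1, vmon_sup]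
    have e1 : vmon (lmv i) ⊔ vmon (lmv j) - vmon (lmv i) = vmon (μ₁ i j) := by
      rw [e0, ← h2, vmon_add, add_tsub_cancel_right]
    have e2 : vmon (lmv i) ⊔ vmon (lmv j) - vmon (lmv j) = vmon (μ₂ i j) := by
      rw [e0, ← h3, vmon_add, add_tsub_cancel_right]
    show monomial (vmon (lmv i) ⊔ vmon (lmv j) - vmon (lmv i)) 1 * G i -
      monomial (vmon (lmv i) ⊔ vmon (lmv j) - vmon (lmv j)) 1 * G j ∈
        Vlt MonomialOrder.lex (fun i => vmon (lmv i)) G (vmon (lmv i) ⊔ vmon (lmv j))
    rw [e1, e2, e0]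
    have := hid i j hij
    simp only [mon] at this
    rw [this]
    apply list_sum_mem
    intro p hp
    obtain ⟨t, ht, rfl⟩ := List.mem_map.mp hp
    have hlt := lexLt_sound (hcert i j hij t ht)
    rw [vmon_add] at hlt
    have : C (t.1 : A) * monomial (vmon t.2.1) 1 * G t.2.2 =
        (t.1 : A) • (monomial (vmon t.2.1) 1 * G t.2.2) := by
      rw [smul_eq_C_mul, mul_assoc]
    rw [this]
    exact Submodule.smul_mem _ _ (Submodule.subset_span ⟨_, _, hlt, rfl⟩)

/-- A polynomial given as leading monomial plus smaller terms is monic for the lex order. -/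
theorem monic_of_data [Nontrivial A] (v : Fin n → ℕ) (tail : List (ℤ × (Fin n → ℕ)))
    (p : MvPolynomial (Fin n) A) (hp : p = mon v + evalTerms tail)
    (ht : ∀ t ∈ tail, LexLt t.2 v) :
    MonomialOrder.lex.degree p = vmon v ∧ MonomialOrder.lex.leadingCoeff p = 1 := by
  have h : IsGB MonomialOrder.lex (fun _ : Unit => vmon v) (fun _ => p) :=
    isGB_of_data (fun _ => v) (fun _ => tail) (fun _ => p) (fun _ => hp) (fun _ => ht)
      (fun _ _ => 0) (fun _ _ => 0) (fun _ _ => 0) (fun _ _ => [])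
      (fun i j hij => absurd hij (by simp)) (fun i j hij => absurd hij (by simp))
      (fun i j hij => absurd hij (by simp))
  exact ⟨h.degree_eq (), h.leadingCoeff_eq ()⟩

theorem mem_nonZeroDivisors_of_data [Nontrivial A] (v : Fin n → ℕ)
    (tail : List (ℤ × (Fin n → ℕ)))
    (p : MvPolynomial (Fin n) A) (hp : p = mon v + evalTerms tail)
    (ht : ∀ t ∈ tail, LexLt t.2 v) : p ∈ nonZeroDivisors (MvPolynomial (Fin n) A) := by
  apply MonomialOrder.lex.mem_nonZeroDivisors_of_leadingCoeff_mem_nonZeroDivisors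
  rw [(monic_of_data v tail p hp ht).2]
  exact one_mem _

end concrete

end Groth.Agent.Lib.Helper14.Buchberger
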