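import Mathlib

/-! Algebraic core: closed submonoids of diagonalizable groups with trivial closed fibre. -/

set_option autoImplicit false

namespace Groth.Agent.Lib.Helper14.CSubA

open TensorProduct

universe u

/-- the algebraic shadow of a closed submonoid scheme of a diagonalizable group `D_A(M)`:
`B` is the coordinate ring, `g m` the restriction of the character `m`. -/
structure CSub (A : Type u) [CommRing A] (M : Type) [AddCommGroup M] (B : Type u) [CommRing B]
    [Algebra A B] where
  g : M → B
  g_zero : g 0 = 1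
  g_add : ∀ m m', g (m + m') = g m * g m'
  span : Submodule.span A (Set.range g) = ⊤
  ε : B →ₐ[A] A
  ε_g : ∀ m, ε (g m) = 1
  mul : ∀ (R : Type u) [CommRing R] [Algebra A R] (χ₁ χ₂ : B →ₐ[A] R),
    ∃ χ₃ : B →ₐ[A] R, ∀ m, χ₃ (g m) = χ₁ (g m) * χ₂ (g m)

namespace CSub

variable {A : Type u} [CommRing A] {M : Type} [AddCommGroup M] {B : Type u} [CommRing B]
  [Algebra A B] (C : CSub A M B)

lemma g_neg_mul (m : M) : C.g (-m) * C.g m = 1 := by
  rw [← C.g_add, neg_add_cancel, C.g_zero]

lemma isUnit_g (m : M) : IsUnit (C.g m) :=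
  IsUnit.of_mul_eq_one (C.g (-m)) (by rw [mul_comm]; exact C.g_neg_mul m)

lemma g_nsmul (n : ℕ) (m : M) : C.g (n • m) = C.g m ^ n := by
  induction n with
  | zero => simp [C.g_zero]
  | succ k ih => rw [succ_nsmul, C.g_add, ih, pow_succ]

/-- base change of the data -/
noncomputable def baseChange (A' : Type u) [CommRing A'] [Algebra A A'] : CSub A' M (A' ⊗[A] B) where
  g m := 1 ⊗ₜ C.g m
  g_zero := by rw [C.g_zero]; rfl
  g_add m m' := by rw [C.g_add, Algebra.TensorProduct.tmul_mul_tmul, one_mul]
  span := by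
    rw [eq_top_iff]
    rintro x -
    have h1 : ∀ b : B, (1 : A') ⊗ₜ[A] b ∈
        Submodule.span A' (Set.range fun m => (1 : A') ⊗ₜ[A] C.g m) := by
      intro b
      have hb : b ∈ Submodule.span A (Set.range C.g) := by rw [C.span]; trivial
      induction hb using Submodule.span_induction with
      | mem x hx =>
        obtain ⟨m, rfl⟩ := hx
        exact Submodule.subset_span ⟨m, rfl⟩
      | zero => rw [TensorProduct.tmul_zero]; exact Submodule.zero_mem _
      | add x y _ _ hx hy => rw [TensorProduct.tmul_add]; exact Submodule.add_mem _ hx hy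
      | smul a x _ hx =>
        have : (1 : A') ⊗ₜ[A] (a • x) = (algebraMap A A' a) • ((1 : A') ⊗ₜ[A] x) := by
          rw [TensorProduct.smul_tmul', smul_eq_mul, mul_one, ← TensorProduct.smul_tmul,
            Algebra.smul_def, mul_one]
        rw [this]
        exact Submodule.smul_mem _ _ hx
    induction x using TensorProduct.induction_on with
    | zero => exact Submodule.zero_mem _
    | tmul a b =>
      have : a ⊗ₜ[A] b = a • ((1 : A') ⊗ₜ[A] b) := by
        rw [TensorProduct.smul_tmul', smul_eq_mul, mul_one]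
      rw [this]
      exact Submodule.smul_mem _ _ (h1 b)
    | add x y hx hy => exact Submodule.add_mem _ hx hy
  ε := Algebra.TensorProduct.lift (AlgHom.id A' A') ((Algebra.ofId A A').comp C.ε)
    (fun _ _ => Commute.all _ _)
  ε_g m := by
    rw [Algebra.TensorProduct.lift_tmul]
    simp [C.ε_g]
  mul R _ _ χ₁ χ₂ := by
    letI : Algebra A R := ((algebraMap A' R).comp (algebraMap A A')).toAlgebra
    haveI : IsScalarTower A A' R := IsScalarTower.of_algebraMap_eq (fun _ => rfl)
    let ι : B →ₐ[A] A' ⊗[A] B := Algebra.TensorProduct.includeRight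
    obtain ⟨χ₃, h₃⟩ := C.mul R ((χ₁.restrictScalars A).comp ι) ((χ₂.restrictScalars A).comp ι)
    refine ⟨Algebra.TensorProduct.lift (Algebra.ofId A' R) χ₃ (fun _ _ => Commute.all _ _), ?_⟩
    intro m
    rw [Algebra.TensorProduct.lift_tmul, map_one, one_mul, h₃]
    rfl

lemma bijective_iff : Function.Bijective (algebraMap A B) ↔ ∀ m, C.g m = 1 := by
  constructor
  · intro h m
    obtain ⟨a, ha⟩ := h.2 (C.g m)
    have := congrArg C.ε ha
    rw [C.ε_g, AlgHom.commutes] at this
    rw [← ha, show a = 1 from this, map_one]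
  · intro h
    constructor
    · intro a a' haa
      have := congrArg C.ε haa
      simpa using this
    · intro b
      have hb : b ∈ Submodule.span A (Set.range C.g) := by rw [C.span]; trivial
      induction hb using Submodule.span_induction with
      | mem x hx =>
        obtain ⟨m, rfl⟩ := hx
        exact ⟨1, by rw [h, map_one]⟩
      | zero => exact ⟨0, map_zero _⟩
      | add x y _ _ hx hy =>
        obtain ⟨a, rfl⟩ := hx
        obtain ⟨a', rfl⟩ := hy
        exact ⟨a + a', map_add _ _ _⟩
      | smul a x _ hx =>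
        obtain ⟨a', rfl⟩ := hx
        exact ⟨a * a', by rw [map_mul, Algebra.smul_def]⟩

end CSub



theorem eq_top_of_forall_mem_sup {M : Type} [AddCommGroup M] (hM : AddGroup.FG M) (N : AddSubgroup M)
    (h : ∀ n : ℕ, 0 < n → ∀ m : M, m ∈ N ⊔ (nsmulAddMonoidHom n : M →+ M).range) : N = ⊤ := by
  haveI : AddGroup.FG M := hM
  haveI : AddGroup.FG (M ⧸ N) := inferInstance
  haveI : Module.Finite ℤ (M ⧸ N) := Module.Finite.iff_addGroup_fg.2 inferInstance
  have hdiv : ∀ n : ℕ, 0 < n → ∀ x : M ⧸ N, ∃ y : M ⧸ N, x = n • y := by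
    intro n hn x
    obtain ⟨m, rfl⟩ := QuotientAddGroup.mk_surjective x
    obtain ⟨a, ha, b, ⟨m', rfl⟩, hab⟩ := AddSubgroup.mem_sup.1 (h n hn m)
    refine ⟨QuotientAddGroup.mk m', ?_⟩
    rw [← hab, QuotientAddGroup.mk_add, (QuotientAddGroup.eq_zero_iff a).2 ha, zero_add]
    rfl
  have hle : (⊤ : Submodule ℤ (M ⧸ N)) ≤ (Ideal.span {(2 : ℤ)}) • ⊤ := by
    rintro x -
    obtain ⟨y, rfl⟩ := hdiv 2 (by norm_num) x
    have : (2 : ℕ) • y = (2 : ℤ) • y := by rw [← natCast_zsmul]; rfl
    rw [this]
    exact Submodule.smul_mem_smul (Ideal.mem_span_singleton_self 2) trivial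
  obtain ⟨r, hr1, hr0⟩ := Submodule.exists_sub_one_mem_and_smul_eq_zero_of_fg_of_le_smul
    (Ideal.span {(2 : ℤ)}) (⊤ : Submodule ℤ (M ⧸ N)) Module.Finite.fg_top hle
  have hr : r ≠ 0 := by
    rintro rfl
    rw [Ideal.mem_span_singleton] at hr1
    omega
  have hn : 0 < r.natAbs := Int.natAbs_pos.2 hr
  rw [eq_top_iff]
  rintro m -
  rw [← QuotientAddGroup.eq_zero_iff]
  obtain ⟨y, hy⟩ := hdiv _ hn (QuotientAddGroup.mk m)
  rw [hy]
  have h0 := hr0 y trivial
  rcases Int.natAbs_eq r with h1 | h1
  · have : (r.natAbs : ℤ) • y = 0 := by rw [← h1]; exact h0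
    simpa using this
  · have : (r.natAbs : ℤ) • y = 0 := by
      have : (r.natAbs : ℤ) = -r := by omega
      rw [this, neg_smul, h0, neg_zero]
    simpa using this

namespace CSub

variable {A : Type u} [CommRing A] {M : Type} [AddCommGroup M] {B : Type u} [CommRing B]
  [Algebra A B] (C : CSub A M B)

/-- the characters restricting trivially -/
def Nker : AddSubgroup M where
  carrier := {m | C.g m = 1}
  zero_mem' := C.g_zero
  add_mem' := by
    intro a b ha hb
    simp only [Set.mem_setOf_eq] at *
    rw [C.g_add, ha, hb, one_mul]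
  neg_mem' := by
    intro a ha
    simp only [Set.mem_setOf_eq] at *
    have := C.g_neg_mul a
    rwa [ha, mul_one] at this

lemma mem_Nker (m : M) : m ∈ C.Nker ↔ C.g m = 1 := Iff.rfl

/-- the induced character on the quotient -/
noncomputable def gbar : Multiplicative (M ⧸ C.Nker) →* B :=
  AddMonoidHom.toMultiplicativeLeft (QuotientAddGroup.lift C.Nker
    { toFun := fun m => Additive.ofMul (C.g m)
      map_zero' := by rw [C.g_zero]; rfl
      map_add' := fun m m' => by rw [C.g_add]; rfl }
    (fun m hm => by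
      rw [AddMonoidHom.mem_ker]
      show Additive.ofMul (C.g m) = 0
      rw [(C.mem_Nker m).1 hm]
      rfl))

lemma gbar_mk (m : M) : C.gbar (Multiplicative.ofAdd (QuotientAddGroup.mk m)) = C.g m := rfl

lemma gbar_injective : Function.Injective C.gbar := by
  intro x y hxy
  obtain ⟨x', rfl⟩ := Multiplicative.ofAdd.surjective x
  obtain ⟨y', rfl⟩ := Multiplicative.ofAdd.surjective y
  obtain ⟨m, rfl⟩ := QuotientAddGroup.mk_surjective x'
  obtain ⟨m', rfl⟩ := QuotientAddGroup.mk_surjective y'
  rw [gbar_mk, gbar_mk] at hxy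
  congr 1
  rw [QuotientAddGroup.eq, mem_Nker, C.g_add, ← hxy, C.g_neg_mul]

end CSub

section stepA

variable {A : Type u} [CommRing A] {M : Type} [AddCommGroup M] {B : Type u} [CommRing B]
  [Algebra A B] (C : CSub A M B)

/-- the ideal cutting out the `n`-torsion -/
def Jn (n : ℕ) : Ideal B := Ideal.span (Set.range fun m => C.g m ^ n - 1)

theorem stepA (hM : AddGroup.FG M) (p : Ideal A)
    (hp : ∀ m, C.g m - 1 ∈ Ideal.map (algebraMap A B) p) (n : ℕ) (hn : 0 < n) :
    ∃ r : A, r - 1 ∈ p ∧ ∀ m, r • (C.g m - 1) ∈ Jn C n := by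
  classical
  obtain ⟨J, hJ⟩ : ∃ J, J = Jn C n := ⟨_, rfl⟩
  let q : B →ₐ[A] B ⧸ J := Ideal.Quotient.mkₐ A J
  have hq : ∀ b, q b = 0 ↔ b ∈ J := fun b => Ideal.Quotient.eq_zero_iff_mem
  have hJε : ∀ b ∈ J, C.ε b = 0 := by
    intro b hb
    have : J ≤ RingHom.ker (C.ε : B →+* A) := by
      rw [hJ, Jn, Ideal.span_le]
      rintro _ ⟨m, rfl⟩
      simp [RingHom.mem_ker, C.ε_g]
    exact this hb
  let εn : B ⧸ J →ₐ[A] A := Ideal.Quotient.liftₐ J C.ε hJε
  have hεn : ∀ b, εn (q b) = C.ε b := fun b => rfl
  have hpow : ∀ m, q (C.g m) ^ n = 1 := by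
    intro m
    rw [← map_pow, ← sub_eq_zero, ← map_one q, ← map_sub, hq, hJ]
    exact Ideal.subset_span ⟨m, rfl⟩
  have hfin : Module.Finite A (B ⧸ J) := by
    obtain ⟨s, hs⟩ := AddGroup.fg_def.1 hM
    let T : Set (B ⧸ J) := (fun m => q (C.g m)) '' (s : Set M)
    have hT : T.Finite := (s.finite_toSet).image _
    have hint : ∀ x ∈ T, IsIntegral A x := by
      rintro _ ⟨m, -, rfl⟩
      refine IsIntegral.of_pow hn ?_
      rw [hpow]
      exact isIntegral_one
    have hmem : ∀ m, q (C.g m) ∈ Algebra.adjoin A T := by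
      intro m
      have hm : m ∈ AddSubgroup.closure (s : Set M) := by rw [hs]; trivial
      induction hm using AddSubgroup.closure_induction with
      | mem x hx => exact Algebra.subset_adjoin ⟨x, hx, rfl⟩
      | zero => rw [C.g_zero, map_one]; exact one_mem _
      | add x y _ _ hx hy => rw [C.g_add, map_mul]; exact mul_mem hx hy
      | neg x _ hx =>
        have : q (C.g (-x)) = q (C.g x) ^ (n - 1) := by
          have h1 : q (C.g (-x)) * q (C.g x) = 1 := by rw [← map_mul, C.g_neg_mul, map_one]
          calc q (C.g (-x)) = q (C.g (-x)) * q (C.g x) ^ n := by rw [hpow, mul_one]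
            _ = q (C.g (-x)) * (q (C.g x) * q (C.g x) ^ (n - 1)) := by
                rw [← pow_succ', Nat.sub_add_cancel hn]
            _ = _ := by rw [← mul_assoc, h1, one_mul]
        rw [this]
        exact pow_mem hx _
    have htop : Algebra.adjoin A T = ⊤ := by
      rw [eq_top_iff]
      rintro x -
      obtain ⟨b, rfl⟩ := Ideal.Quotient.mkₐ_surjective A J x
      have hb : b ∈ Submodule.span A (Set.range C.g) := by rw [C.span]; trivial
      induction hb using Submodule.span_induction with
      | mem x hx => obtain ⟨m, rfl⟩ := hx; exact hmem m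
      | zero => rw [map_zero]; exact zero_mem _
      | add x y _ _ hx hy => rw [map_add]; exact add_mem hx hy
      | smul a x _ hx => rw [map_smul]; exact Subalgebra.smul_mem _ hx a
    have h := fg_adjoin_of_finite hT hint
    rw [htop] at h
    exact ⟨h⟩
  let pr : B ⧸ J →ₗ[A] B ⧸ J := LinearMap.id - (Algebra.linearMap A (B ⧸ J)).comp εn.toLinearMap
  have hpr : ∀ x, pr x = x - algebraMap A (B ⧸ J) (εn x) := fun x => rfl
  obtain ⟨N', hN'⟩ : ∃ N', N' = LinearMap.range pr := ⟨_, rfl⟩
  have hfg : N'.FG := by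
    rw [hN', LinearMap.range_eq_map]
    exact Submodule.FG.map _ hfin.fg_top
  have hprg : ∀ m, pr (q (C.g m)) = q (C.g m - 1) := by
    intro m
    rw [hpr, hεn, C.ε_g, map_one, map_sub, map_one]
  have hI : ∀ i ∈ Ideal.map (algebraMap A B) p, pr (q i) ∈ p • N' := by
    intro i hi
    have hi' : i ∈ (p • ⊤ : Submodule A B) := by
      rw [Ideal.smul_top_eq_map]
      exact hi
    refine Submodule.smul_induction_on (p := fun i => pr (q i) ∈ p • N') hi' ?_ ?_
    · intro a ha b _
      show pr (q (a • b)) ∈ _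
      rw [map_smul, map_smul]
      exact Submodule.smul_mem_smul ha (by rw [hN']; exact ⟨_, rfl⟩)
    · intro x y hx hy
      show pr (q (x + y)) ∈ _
      rw [map_add, map_add]
      exact Submodule.add_mem _ hx hy
  have hgm : ∀ m, q (C.g m - 1) ∈ p • N' := by
    intro m
    have h := hI _ (hp m)
    rwa [hpr, hεn, map_sub C.ε, C.ε_g, map_one, sub_self, map_zero, sub_zero] at h
  have hle : N' ≤ p • N' := by
    rw [hN']
    rintro _ ⟨x, rfl⟩
    rw [← hN']
    obtain ⟨b, rfl⟩ := Ideal.Quotient.mkₐ_surjective A J x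
    have hb : b ∈ Submodule.span A (Set.range C.g) := by rw [C.span]; trivial
    induction hb using Submodule.span_induction with
    | mem x hx =>
      obtain ⟨m, rfl⟩ := hx
      show pr (q (C.g m)) ∈ _
      rw [hprg]
      exact hgm m
    | zero => simp
    | add x y _ _ hx hy =>
      rw [map_add, map_add]
      exact Submodule.add_mem _ hx hy
    | smul a x _ hx =>
      rw [map_smul, map_smul]
      exact Submodule.smul_mem _ _ hx
  obtain ⟨r, hr1, hr0⟩ :=
    Submodule.exists_sub_one_mem_and_smul_eq_zero_of_fg_of_le_smul p N' hfg hle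
  refine ⟨r, hr1, fun m => ?_⟩
  rw [← hJ, ← hq, map_smul, ← hprg]
  exact hr0 _ (by rw [hN']; exact ⟨_, rfl⟩)

end stepA

section field

variable {κ : Type u} [Field κ] {M : Type} [AddCommGroup M] {B : Type u} [CommRing B]
  [Algebra κ B] (C : CSub κ M B)

include C in
lemma nontrivial_of_csub : Nontrivial B := by
  refine ⟨⟨0, 1, fun h => ?_⟩⟩
  have := congrArg C.ε h
  simp at this

open Submodule in
/-- the restricted characters are linearly independent -/
theorem linearIndepOn_range : LinearIndepOn κ id (Set.range C.g) := by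
  classical
  obtain ⟨Δ, hΔ⟩ := C.mul (B ⊗[κ] B) Algebra.TensorProduct.includeLeft
    Algebra.TensorProduct.includeRight
  haveI := nontrivial_of_csub C
  have hgl : ∀ x ∈ Set.range C.g, Δ x = x ⊗ₜ[κ] x := by
    rintro _ ⟨m, rfl⟩
    rw [hΔ]
    simp [Algebra.TensorProduct.tmul_mul_tmul]
  have hne0 : ∀ x ∈ Set.range C.g, x ≠ 0 := by
    rintro _ ⟨m, rfl⟩
    exact (C.isUnit_g m).ne_zero
  rw [linearIndepOn_iff_linearIndepOn_finset]
  rintro s hs
  induction s using Finset.cons_induction with
  | empty => simp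
  | cons a s has ih =>
  simp only [Finset.cons_eq_insert, Finset.coe_insert, Set.subset_def, Set.mem_insert_iff,
    Finset.mem_coe, forall_eq_or_imp] at hs
  obtain ⟨ha, hs⟩ := hs
  specialize ih hs
  rw [Finset.coe_cons]
  refine ih.id_insert' ?_
  simp only [mem_span_finset, forall_exists_index, and_imp]
  rintro d c - hc
  replace ih := ih.tmul_of_isDomain ih
  simp_rw [← Finset.coe_product, linearIndepOn_finset_iffₛ, id] at ih
  have key := calc
        ∑ x ∈ s, ∑ y ∈ s, (if x = y then d * c x else 0) • x ⊗ₜ[κ] y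
    _ = d • ∑ x ∈ s, c x • x ⊗ₜ[κ] x := by simp [Finset.smul_sum, mul_smul]
    _ = d • Δ (d • a) := by rw [← hc]; simp +contextual [hgl _ (hs _ _)]
    _ = (d • a) ⊗ₜ (d • a) := by simp [hgl _ ha, smul_tmul, tmul_smul, -neg_smul]
    _ = ∑ x ∈ s, ∑ y ∈ s, (c x * c y) • x ⊗ₜ[κ] y := by
      simp_rw [← hc, sum_tmul, smul_tmul, Finset.smul_sum, tmul_sum, tmul_smul, mul_smul]
  simp_rw [← Finset.sum_product'] at key
  apply ih at key
  replace key x (hx : x ∈ s) : c x = 0 := by
    by_contra! hcx
    have hcy (y) (hys : y ∈ s) (hyx : y ≠ x) : c y = 0 := by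
      simpa [*] using (key (y, x) (by simp [*])).symm
    rw [Finset.sum_eq_single x (by simp +contextual [hcy]) (by simp [hx])] at hc
    have hcxa : d = c x := mul_left_injective₀ hcx (by simpa using (key (x, x) (by simp [*])))
    obtain rfl : x = a := by rwa [hcxa, smul_right_inj hcx] at hc
    contradiction
  simp_all [hne0 _ ha, eq_comm]

/-- the coordinate ring is the group algebra of the quotient -/
theorem lift_bijective :
    Function.Bijective (MonoidAlgebra.lift κ B (Multiplicative (M ⧸ C.Nker)) C.gbar) := by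
  have hli : LinearIndependent κ C.gbar := by
    have h := linearIndepOn_range C
    have h2 : LinearIndependent κ ((↑) : Set.range C.g → B) := h
    let f : Multiplicative (M ⧸ C.Nker) → Set.range C.g := fun x => ⟨C.gbar x, by
      obtain ⟨x', rfl⟩ := Multiplicative.ofAdd.surjective x
      obtain ⟨m, rfl⟩ := QuotientAddGroup.mk_surjective x'
      exact ⟨m, rfl⟩⟩
    have hf : Function.Injective f := by
      intro x y hxy
      exact C.gbar_injective (congrArg Subtype.val hxy)
    exact h2.comp f hf
  constructor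
  · intro f f' hff
    rw [MonoidAlgebra.lift_apply, MonoidAlgebra.lift_apply] at hff
    have h1 : Finsupp.linearCombination κ C.gbar f.coeff =
        Finsupp.linearCombination κ C.gbar f'.coeff := by
      rw [Finsupp.linearCombination_apply, Finsupp.linearCombination_apply]
      exact hff
    exact MonoidAlgebra.coeff_injective (hli h1)
  · intro b
    have hb : b ∈ Submodule.span κ (Set.range C.g) := by rw [C.span]; trivial
    induction hb using Submodule.span_induction with
    | mem x hx =>
      obtain ⟨m, rfl⟩ := hx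
      exact ⟨MonoidAlgebra.single (Multiplicative.ofAdd (QuotientAddGroup.mk m)) 1, by
        rw [MonoidAlgebra.lift_single, one_smul, CSub.gbar_mk]⟩
    | zero => exact ⟨0, map_zero _⟩
    | add x y _ _ hx hy =>
      obtain ⟨a, rfl⟩ := hx
      obtain ⟨a', rfl⟩ := hy
      exact ⟨a + a', map_add _ _ _⟩
    | smul a x _ hx =>
      obtain ⟨a', rfl⟩ := hx
      exact ⟨a • a', map_smul _ _ _⟩

/-- if the `n`-torsion is trivial then every character is congruent to a trivial one mod `n` -/
theorem mem_sup_of_Jn (n : ℕ) (hJ : ∀ m, C.g m - 1 ∈ Jn C n) (m : M) :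
    m ∈ C.Nker ⊔ (nsmulAddMonoidHom n : M →+ M).range := by
  classical
  obtain ⟨Nn, hNn⟩ : ∃ Nn, Nn = C.Nker ⊔ (nsmulAddMonoidHom n : M →+ M).range := ⟨_, rfl⟩
  rw [← hNn]
  let e := AlgEquiv.ofBijective _ (lift_bijective C)
  let mp : Multiplicative (M ⧸ C.Nker) →* Multiplicative (M ⧸ Nn) :=
    AddMonoidHom.toMultiplicative (QuotientAddGroup.map C.Nker Nn (AddMonoidHom.id M) (by
      rw [hNn]; exact le_sup_left))
  let ψ : B →ₐ[κ] MonoidAlgebra κ (Multiplicative (M ⧸ Nn)) :=
    (MonoidAlgebra.mapDomainAlgHom κ κ mp).comp e.symm.toAlgHom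
  have hψ : ∀ m, ψ (C.g m) =
      MonoidAlgebra.single (Multiplicative.ofAdd (QuotientAddGroup.mk m : M ⧸ Nn)) 1 := by
    intro m
    have h1 : e.symm (C.g m) =
        MonoidAlgebra.single (Multiplicative.ofAdd (QuotientAddGroup.mk m : M ⧸ C.Nker)) 1 := by
      rw [AlgEquiv.symm_apply_eq]
      show _ = MonoidAlgebra.lift κ B _ C.gbar _
      rw [MonoidAlgebra.lift_single, one_smul, CSub.gbar_mk]
    show MonoidAlgebra.mapDomainAlgHom κ κ mp (e.symm (C.g m)) = _
    rw [h1]
    simp [mp]
  have hker : Jn C n ≤ RingHom.ker ψ.toRingHom := by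
    rw [Jn, Ideal.span_le]
    rintro _ ⟨m', rfl⟩
    rw [SetLike.mem_coe, RingHom.mem_ker]
    show ψ _ = 0
    rw [map_sub, map_one, ← CSub.g_nsmul, hψ, MonoidAlgebra.one_def]
    have : (QuotientAddGroup.mk (n • m') : M ⧸ Nn) = 0 := by
      rw [QuotientAddGroup.eq_zero_iff, hNn]
      exact AddSubgroup.mem_sup_right ⟨m', rfl⟩
    rw [this]
    simp
  have h2 := hker (hJ m)
  rw [RingHom.mem_ker] at h2
  have h3 : ψ (C.g m - 1) = 0 := h2
  rw [map_sub, map_one, hψ, MonoidAlgebra.one_def, sub_eq_zero] at h3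
  have h4 := (MonoidAlgebra.single_left_inj (one_ne_zero)).1 h3
  rw [← QuotientAddGroup.eq_zero_iff]
  exact Multiplicative.ofAdd.injective h4

/-- over a field, a closed submonoid of a diagonalizable group of finite type all of whose
torsion subschemes are trivial is trivial -/
theorem field_main (hM : AddGroup.FG M) (hJ : ∀ n : ℕ, 0 < n → ∀ m, C.g m - 1 ∈ Jn C n) (m : M) :
    C.g m = 1 := by
  have h := eq_top_of_forall_mem_sup hM C.Nker (fun n hn m => mem_sup_of_Jn C n (hJ n hn) m)
  rw [← CSub.mem_Nker, h]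
  trivial

end field

section loc

variable {A : Type u} [CommRing A] [IsLocalRing A] {M : Type} [AddCommGroup M] {B : Type u}
  [CommRing B] [Algebra A B] (C : CSub A M B)

omit [IsLocalRing A] in
lemma Jn_baseChange_le (A' : Type u) [CommRing A'] [Algebra A A'] (n : ℕ) :
    Ideal.map (Algebra.TensorProduct.includeRight : B →ₐ[A] A' ⊗[A] B) (Jn C n) ≤
      Jn (C.baseChange A') n := by
  rw [Ideal.map_le_iff_le_comap, Jn, Ideal.span_le]
  rintro _ ⟨m, rfl⟩
  rw [SetLike.mem_coe, Ideal.mem_comap, map_sub, map_pow, map_one]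
  exact Ideal.subset_span ⟨m, rfl⟩

lemma isUnit_of_sub_one_mem (r : A) (hr : r - 1 ∈ IsLocalRing.maximalIdeal A) : IsUnit r := by
  rw [← IsLocalRing.notMem_maximalIdeal]
  intro h
  have h1 : (1 : A) ∈ IsLocalRing.maximalIdeal A := by
    have := Ideal.sub_mem _ h hr
    simpa using this
  exact (IsLocalRing.maximalIdeal.isMaximal A).ne_top ((Ideal.eq_top_iff_one _).2 h1)

/-- all fibres are trivial -/
theorem fibre_trivial (hM : AddGroup.FG M)
    (hp : ∀ m, C.g m - 1 ∈ Ideal.map (algebraMap A B) (IsLocalRing.maximalIdeal A))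
    (κ : Type u) [Field κ] [Algebra A κ] (m : M) : (1 : κ) ⊗ₜ[A] C.g m = 1 := by
  have hJ : ∀ n : ℕ, 0 < n → ∀ m, C.g m - 1 ∈ Jn C n := by
    intro n hn m
    obtain ⟨r, hr1, hr⟩ := stepA C hM _ hp n hn
    obtain ⟨r', hr'⟩ := (isUnit_of_sub_one_mem r hr1).exists_left_inv
    have h3 : r' • (r • (C.g m - 1)) ∈ Jn C n := by
      rw [Algebra.smul_def]
      exact Ideal.mul_mem_left _ _ (hr m)
    rwa [smul_smul, hr', one_smul] at h3
  refine field_main (C.baseChange κ) hM ?_ m
  intro n hn m
  have h1 := Ideal.mem_map_of_mem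
    (Algebra.TensorProduct.includeRight : B →ₐ[A] κ ⊗[A] B) (hJ n hn m)
  have h2 := Jn_baseChange_le C κ n h1
  rwa [map_sub, map_one] at h2

/-- the local case: a closed submonoid of a diagonalizable group of finite type over a local ring
with trivial closed fibre is trivial -/
theorem local_main (hM : AddGroup.FG M)
    (hp : ∀ m, C.g m - 1 ∈ Ideal.map (algebraMap A B) (IsLocalRing.maximalIdeal A)) (m : M) :
    C.g m = 1 := by
  classical
  obtain ⟨I, hI⟩ : ∃ I, I = Ideal.map (algebraMap A B) (IsLocalRing.maximalIdeal A) := ⟨_, rfl⟩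
  rw [← hI] at hp
  have hnil : ∀ m, C.g m - 1 ∈ nilradical B := by
    intro m
    rw [nilradical_eq_sInf, Ideal.mem_sInf]
    intro P hP
    haveI : P.IsPrime := hP
    have h1 := fibre_trivial C hM (hI ▸ hp) P.ResidueField m
    let μ : P.ResidueField ⊗[A] B →ₐ[P.ResidueField] P.ResidueField :=
      Algebra.TensorProduct.lift (AlgHom.id _ _) (IsScalarTower.toAlgHom A B P.ResidueField)
        (fun _ _ => Commute.all _ _)
    have h2 := congrArg μ h1
    rw [Algebra.TensorProduct.lift_tmul, map_one, map_one, one_mul] at h2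
    have h3 : algebraMap B P.ResidueField (C.g m - 1) = 0 := by
      rw [map_sub, map_one, sub_eq_zero]
      exact h2
    exact Ideal.algebraMap_residueField_eq_zero.1 h3
  obtain ⟨s, hs⟩ := AddGroup.fg_def.1 hM
  obtain ⟨J', hJ'⟩ : ∃ J', J' = Ideal.span ((fun x => C.g x - 1) '' (s : Set M)) := ⟨_, rfl⟩
  have hfg : J'.FG := by
    rw [hJ']
    exact Submodule.fg_span ((s.finite_toSet).image _)
  have hgJ : ∀ m, C.g m - 1 ∈ J' := by
    intro m
    have hm : m ∈ AddSubgroup.closure (s : Set M) := by rw [hs]; trivial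
    induction hm using AddSubgroup.closure_induction with
    | mem x hx => rw [hJ']; exact Ideal.subset_span ⟨x, hx, rfl⟩
    | zero => rw [C.g_zero, sub_self]; exact zero_mem _
    | add x y _ _ hx hy =>
      have : C.g (x + y) - 1 = C.g x * (C.g y - 1) + (C.g x - 1) := by rw [C.g_add]; ring
      rw [this]
      exact add_mem (Ideal.mul_mem_left _ _ hy) hx
    | neg x _ hx =>
      have : C.g (-x) - 1 = -(C.g (-x) * (C.g x - 1)) := by
        rw [mul_sub, C.g_neg_mul]; ring
      rw [this]
      exact neg_mem (Ideal.mul_mem_left _ _ hx)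
  have hpr : ∀ b : B, b - algebraMap A B (C.ε b) ∈ J' := by
    intro b
    have hb : b ∈ Submodule.span A (Set.range C.g) := by rw [C.span]; trivial
    induction hb using Submodule.span_induction with
    | mem x hx =>
      obtain ⟨m, rfl⟩ := hx
      rw [C.ε_g, map_one]
      exact hgJ m
    | zero => simp
    | add x y _ _ hx hy =>
      have : x + y - algebraMap A B (C.ε (x + y)) =
          (x - algebraMap A B (C.ε x)) + (y - algebraMap A B (C.ε y)) := by
        rw [map_add, map_add]; ring
      rw [this]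
      exact add_mem hx hy
    | smul a x _ hx =>
      have : a • x - algebraMap A B (C.ε (a • x)) = algebraMap A B a * (x - algebraMap A B (C.ε x)) := by
        rw [map_smul, smul_eq_mul, map_mul, Algebra.smul_def]; ring
      rw [this]
      exact Ideal.mul_mem_left _ _ hx
  have hJε : ∀ j ∈ J', C.ε j = 0 := by
    intro j hj
    have : J' ≤ RingHom.ker C.ε.toRingHom := by
      rw [hJ', Ideal.span_le]
      rintro _ ⟨x, -, rfl⟩
      rw [SetLike.mem_coe, RingHom.mem_ker]
      show C.ε _ = 0
      rw [map_sub, C.ε_g, map_one, sub_self]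
    exact this hj
  have hJI : J' ≤ I := by
    rw [hJ', Ideal.span_le]
    rintro _ ⟨x, -, rfl⟩
    exact hp x
  have hJnil : J' ≤ nilradical B := by
    rw [hJ', Ideal.span_le]
    rintro _ ⟨x, -, rfl⟩
    exact hnil x
  have hle : J' ≤ I • J' := by
    intro j hj
    have h1 : j ∈ (IsLocalRing.maximalIdeal A • ⊤ : Submodule A B) := by
      rw [Ideal.smul_top_eq_map, ← hI]
      exact hJI hj
    have h2 : j - algebraMap A B (C.ε j) ∈ I • J' := by
      refine Submodule.smul_induction_on
        (p := fun x => x - algebraMap A B (C.ε x) ∈ I • J') h1 ?_ ?_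
      · intro a ha b _
        have : a • b - algebraMap A B (C.ε (a • b)) =
            algebraMap A B a • (b - algebraMap A B (C.ε b)) := by
          rw [map_smul, smul_eq_mul, map_mul, Algebra.smul_def, smul_eq_mul]; ring
        show a • b - algebraMap A B (C.ε (a • b)) ∈ _
        rw [this]
        exact Submodule.smul_mem_smul (by rw [hI]; exact Ideal.mem_map_of_mem _ ha) (hpr b)
      · intro x y hx hy
        have : x + y - algebraMap A B (C.ε (x + y)) =
            (x - algebraMap A B (C.ε x)) + (y - algebraMap A B (C.ε y)) := by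
          rw [map_add, map_add]; ring
        show x + y - algebraMap A B (C.ε (x + y)) ∈ _
        rw [this]
        exact add_mem hx hy
    rwa [hJε j hj, map_zero, sub_zero] at h2
  obtain ⟨b, hb1, hb0⟩ :=
    Submodule.exists_sub_one_mem_and_smul_eq_zero_of_fg_of_le_smul I J' hfg hle
  have hεI : ∀ i ∈ I, C.ε i ∈ IsLocalRing.maximalIdeal A := by
    intro i hi
    have : I ≤ Ideal.comap C.ε.toRingHom (IsLocalRing.maximalIdeal A) := by
      rw [hI, Ideal.map_le_iff_le_comap]
      intro a ha
      rw [Ideal.mem_comap, Ideal.mem_comap]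
      show C.ε (algebraMap A B a) ∈ _
      rw [AlgHom.commutes]
      exact ha
    exact this hi
  have hεb : IsUnit (C.ε b) := by
    apply isUnit_of_sub_one_mem
    have := hεI _ hb1
    rwa [map_sub, map_one] at this
  have hbu : IsUnit b := by
    have h1 : IsNilpotent (b - algebraMap A B (C.ε b)) := mem_nilradical.1 (hJnil (hpr b))
    have h2 := h1.isUnit_add_left_of_commute (hεb.map (algebraMap A B)) (Commute.all _ _)
    rwa [add_sub_cancel] at h2
  have h0 := hb0 _ (hgJ m)
  rw [smul_eq_mul] at h0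
  have := hbu.mul_right_eq_zero.1 h0
  exact sub_eq_zero.1 this

include C in
/-- the local case, with the hypothesis on the closed fibre in tensor form -/
theorem local_main' (hM : AddGroup.FG M)
    (hk : Function.Bijective (algebraMap (IsLocalRing.ResidueField A)
      (IsLocalRing.ResidueField A ⊗[A] B))) :
    Function.Bijective (algebraMap A B) := by
  rw [CSub.bijective_iff C]
  apply local_main C hM
  intro m
  have h1 := ((C.baseChange (IsLocalRing.ResidueField A)).bijective_iff).1 hk m
  have h2 : (1 : A ⧸ IsLocalRing.maximalIdeal A) ⊗ₜ[A] (C.g m - 1) = 0 := by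
    rw [TensorProduct.tmul_sub]
    exact sub_eq_zero.2 h1
  have h3 := congrArg (TensorProduct.quotTensorEquivQuotSMul B (IsLocalRing.maximalIdeal A)) h2
  rw [TensorProduct.quotTensorEquivQuotSMul_mk_one_tmul, map_zero,
    Submodule.Quotient.mk_eq_zero, Ideal.smul_top_eq_map] at h3
  exact h3

end loc

section spread

variable {A : Type u} [CommRing A] {M : Type} [AddCommGroup M] {B : Type u}
  [CommRing B] [Algebra A B] (C : CSub A M B)

include C in
/-- spreading out triviality from the local ring at a prime to a basic open neighbourhood -/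
theorem spread (hM : AddGroup.FG M) (p : Ideal A) [p.IsPrime]
    (hloc : Function.Bijective (algebraMap (Localization.AtPrime p)
      (Localization.AtPrime p ⊗[A] B))) :
    ∃ f : A, f ∉ p ∧ Function.Bijective (algebraMap (Localization.Away f)
      (Localization.Away f ⊗[A] B)) := by
  classical
  have h1 := ((C.baseChange (Localization.AtPrime p)).bijective_iff).1 hloc
  haveI : IsLocalizedModule p.primeCompl (TensorProduct.mk A (Localization.AtPrime p) B 1) :=
    (isLocalizedModule_iff_isBaseChange p.primeCompl (Localization.AtPrime p) _).mpr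
      (TensorProduct.isBaseChange A B (Localization.AtPrime p))
  have h2 : ∀ m, ∃ t : A, t ∉ p ∧ t • (C.g m - 1) = 0 := by
    intro m
    have h : TensorProduct.mk A (Localization.AtPrime p) B 1 (C.g m - 1) = 0 := by
      rw [map_sub]
      exact sub_eq_zero.2 (h1 m)
    obtain ⟨⟨t, ht⟩, hts⟩ := (IsLocalizedModule.eq_zero_iff p.primeCompl _).1 h
    exact ⟨t, ht, hts⟩
  choose t ht ht0 using h2
  obtain ⟨s, hs⟩ := AddGroup.fg_def.1 hM
  refine ⟨∏ x ∈ s, t x, ?_, ?_⟩
  · intro h
    obtain ⟨x, -, hx⟩ := (Ideal.IsPrime.prod_mem_iff).1 h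
    exact ht x hx
  · have h3 : ∀ m, (∏ x ∈ s, t x) • (C.g m - 1) = 0 := by
      intro m
      have hm : m ∈ AddSubgroup.closure (s : Set M) := by rw [hs]; trivial
      induction hm using AddSubgroup.closure_induction with
      | mem x hx =>
        rw [← Finset.mul_prod_erase s t hx, mul_comm, mul_smul, ht0, smul_zero]
      | zero => rw [C.g_zero, sub_self, smul_zero]
      | add x y _ _ hx hy =>
        have : C.g (x + y) - 1 = C.g x * (C.g y - 1) + (C.g x - 1) := by rw [C.g_add]; ring
        rw [this, smul_add, ← mul_smul_comm, hx, hy, mul_zero, add_zero]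
      | neg x _ hx =>
        have : C.g (-x) - 1 = -(C.g (-x) * (C.g x - 1)) := by
          rw [mul_sub, C.g_neg_mul]; ring
        rw [this, smul_neg, ← mul_smul_comm, hx, mul_zero, neg_zero]
    rw [(C.baseChange (Localization.Away (∏ x ∈ s, t x))).bijective_iff]
    intro m
    show (1 : Localization.Away (∏ x ∈ s, t x)) ⊗ₜ[A] C.g m = 1
    rw [← sub_eq_zero]
    have h4 : (1 : Localization.Away (∏ x ∈ s, t x)) ⊗ₜ[A] C.g m - 1 =
        (1 : Localization.Away (∏ x ∈ s, t x)) ⊗ₜ[A] (C.g m - 1) := by
      rw [TensorProduct.tmul_sub]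
      rfl
    rw [h4]
    obtain ⟨v, hv⟩ := IsLocalization.Away.algebraMap_isUnit (S := Localization.Away (∏ x ∈ s, t x))
      (∏ x ∈ s, t x) |>.exists_left_inv
    have h5 : (1 : Localization.Away (∏ x ∈ s, t x)) =
        (∏ x ∈ s, t x) • v := by
      rw [Algebra.smul_def, mul_comm]
      exact hv.symm
    rw [h5, TensorProduct.smul_tmul, h3, tmul_zero]

end spread

end Groth.Agent.Lib.Helper14.CSubA
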