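import Mathlib
import Groth.Prelude.Def_Red2
import Groth.Prelude.Def_SGA3x
import Groth.Agent.Lib.Helper14.KerTriv
import Groth.Agent.Lib.Helper24.HomArt.Ker
import Groth.Agent.Lib.Helper14.CSubA
import Groth.Agent.Lib.Helper14.MTHom5

/-! Triviality of the kernel of a homomorphism after base change. -/

set_option autoImplicit false

namespace Groth.Agent.Lib.Helper14.CSubB

open CategoryTheory MonoidalCategory CartesianMonoidalCategory MonObj GrpObj AlgebraicGeometry
open CategoryTheory.Limits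
open Groth.Agent.Lib.Helper14.KerTriv

universe u

section general

variable {S K : Scheme.{u}} (k : K ⟶ S)

/-- `k` becomes an isomorphism after base change along `x` -/
def TrivAt {T : Scheme.{u}} (x : T ⟶ S) : Prop := IsIso (pullback.snd k x)

lemma TrivAt.comp {T T' : Scheme.{u}} (y : T' ⟶ T) (x : T ⟶ S) (h : TrivAt k x) :
    TrivAt k (y ≫ x) := by
  unfold TrivAt at *
  have e := pullbackLeftPullbackSndIso k x y
  have h1 : pullback.snd k (y ≫ x) =
      (pullbackLeftPullbackSndIso k x y).inv ≫ pullback.snd (pullback.snd k x) y := by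
    rw [Iso.eq_inv_comp, pullbackLeftPullbackSndIso_hom_snd]
  rw [h1]
  infer_instance

lemma TrivAt.of_comp {T T' : Scheme.{u}} (y : T' ⟶ T) [Surjective y] [Flat y] [QuasiCompact y]
    (x : T ⟶ S) (h : TrivAt k (y ≫ x)) : TrivAt k x := by
  unfold TrivAt at *
  have h1 : pullback.snd (pullback.snd k x) y =
      (pullbackLeftPullbackSndIso k x y).hom ≫ pullback.snd k (y ≫ x) := by
    rw [pullbackLeftPullbackSndIso_hom_snd]
  have h2 : IsIso (pullback.snd (pullback.snd k x) y) := by
    rw [h1]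
    infer_instance
  exact MorphismProperty.of_pullback_snd_of_descendsAlong
    (P := MorphismProperty.isomorphisms Scheme.{u})
    (Q := @Surjective ⊓ @Flat ⊓ @QuasiCompact) (f := pullback.snd k x) (g := y)
    ⟨⟨inferInstance, inferInstance⟩, inferInstance⟩ h2

lemma trivAt_iff_of_isPullback {T P : Scheme.{u}} (x : T ⟶ S) (a : P ⟶ K) (b : P ⟶ T)
    (h : IsPullback a b k x) : TrivAt k x ↔ IsIso b := by
  unfold TrivAt
  rw [← h.isoPullback_hom_snd]
  constructor
  · intro h1
    infer_instance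
  · intro h1
    have : pullback.snd k x = h.isoPullback.inv ≫ (h.isoPullback.hom ≫ pullback.snd k x) := by
      rw [Iso.inv_hom_id_assoc]
    rw [this]
    infer_instance

lemma trivAt_comp_iso {T T' : Scheme.{u}} (y : T' ⟶ T) [IsIso y] (x : T ⟶ S) :
    TrivAt k (y ≫ x) ↔ TrivAt k x := by
  constructor
  · intro h
    have := TrivAt.comp k (inv y) (y ≫ x) h
    rwa [IsIso.inv_hom_id_assoc] at this
  · exact TrivAt.comp k y x

end general

section grp

variable {S : Scheme.{u}} (H G : Over S) [GrpObj H] [GrpObj G] (u : H ⟶ G) [IsMonHom u]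

/-- the structure morphism of the kernel of `u` -/
noncomputable abbrev kerStr : pullback u.left (unitSec G) ⟶ S := pullback.snd u.left (unitSec G)

/-- the unit section of the kernel -/
noncomputable def kerSec : S ⟶ pullback u.left (unitSec G) :=
  pullback.lift (unitSec H) (𝟙 S) (by rw [Category.id_comp]; exact unitSec_comp H G u)

lemma kerSec_str : kerSec H G u ≫ kerStr H G u = 𝟙 S := pullback.lift_snd _ _ _

lemma kerSec_fst : kerSec H G u ≫ pullback.fst u.left (unitSec G) = unitSec H :=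
  pullback.lift_fst _ _ _

theorem isIso_kerStr_of_mono (h : Mono u.left) : IsIso (kerStr H G u) := by
  haveI : IsSplitEpi (kerStr H G u) := ⟨⟨kerSec H G u, kerSec_str H G u⟩⟩
  haveI : Mono (kerStr H G u) := by
    constructor
    intro T a b hab
    have h1 : (a ≫ pullback.fst u.left (unitSec G)) ≫ u.left =
        (b ≫ pullback.fst u.left (unitSec G)) ≫ u.left := by
      rw [Category.assoc, Category.assoc, pullback.condition, ← Category.assoc, ← Category.assoc,
        hab]
    apply pullback.hom_ext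
    · exact h.right_cancellation _ _ h1
    · exact hab
  exact isIso_of_mono_of_isSplitEpi _

theorem mono_of_isIso_kerStr (hiso : IsIso (kerStr H G u)) : Mono u.left := by
  obtain ⟨eG, heG⟩ : ∃ eG, eG = unitSec G := ⟨_, rfl⟩
  obtain ⟨eH, heH⟩ : ∃ eH, eH = unitSec H := ⟨_, rfl⟩
  obtain ⟨k₁, hk₁⟩ : ∃ k₁, k₁ = pullback.fst u.left (unitSec G) := ⟨_, rfl⟩
  obtain ⟨k₂, hk₂⟩ : ∃ k₂, k₂ = kerStr H G u := ⟨_, rfl⟩
  obtain ⟨σ, hσd⟩ : ∃ σ, σ = kerSec H G u := ⟨_, rfl⟩
  have hσ : σ ≫ k₂ = 𝟙 S := by rw [hσd, hk₂]; exact kerSec_str H G u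
  have hσ1 : σ ≫ k₁ = eH := by rw [hσd, hk₁, heH]; exact kerSec_fst H G u
  haveI : IsIso k₂ := by rw [hk₂]; exact hiso
  constructor
  intro T a b hab
  have hstr : b ≫ H.hom = a ≫ H.hom := by
    rw [← Over.w u, ← Category.assoc, ← hab, Category.assoc]
  let T' : Over S := Over.mk (a ≫ H.hom)
  let a' : T' ⟶ H := Over.homMk a rfl
  let b' : T' ⟶ H := Over.homMk b hstr
  have hab' : a' ≫ u = b' ≫ u := Over.OverMorphism.ext hab
  obtain ⟨c, hc⟩ : ∃ c : T' ⟶ H, c = a'⁻¹ * b' := ⟨_, rfl⟩
  have hcu : c ≫ u = 1 := by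
    have h1 := (IsMonHom.monoidHom u T').map_mul a'⁻¹ b'
    have h2 := (IsMonHom.monoidHom u T').map_inv a'
    simp only [IsMonHom.monoidHom_apply] at h1 h2
    rw [hc, h1, h2, hab', inv_mul_cancel]
  have hcl : c.left ≫ u.left = T'.hom ≫ unitSec G := by
    have := congrArg (fun t : T' ⟶ G => t.left) hcu
    simp only [Over.comp_left] at this
    rw [this, one_left]
  let w : T ⟶ pullback u.left (unitSec G) := pullback.lift c.left T'.hom hcl
  have hw2 : w ≫ k₂ = T'.hom := by rw [hk₂]; exact pullback.lift_snd _ _ _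
  have hw1 : w ≫ k₁ = c.left := by rw [hk₁]; exact pullback.lift_fst _ _ _
  have hw : w = T'.hom ≫ σ := by
    rw [← cancel_mono k₂, hw2, Category.assoc, hσ, Category.comp_id]
  have hc1 : c = 1 := by
    apply Over.OverMorphism.ext
    rw [← hw1, hw, Category.assoc, hσ1, one_left, heH]
  have : a' = b' := by
    rw [hc, inv_mul_eq_one] at hc1
    exact hc1
  exact congrArg (fun t : T' ⟶ H => t.left) this

open Groth.Agent.Lib.Helper24.HomArt in
theorem trivAt_iff_mono {T : Scheme.{u}} (x : T ⟶ S) :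
    TrivAt (kerStr H G u) x ↔ Mono ((Over.pullback x).map u).left := by
  obtain ⟨φ, hφ⟩ := exists_isPullback_ker_bc x u
  have h1 := trivAt_iff_of_isPullback (kerStr H G u) x φ _ hφ
  rw [h1]
  constructor
  · intro h
    exact mono_of_isIso_kerStr (Red.bc x H) (Red.bc x G) ((Over.pullback x).map u) h
  · intro h
    exact isIso_kerStr_of_mono (Red.bc x H) (Red.bc x G) ((Over.pullback x).map u) h

end grp

section dict

open TensorProduct GrpBridge

variable {S : Scheme.{u}} (H G : Over S) [GrpObj H] [GrpObj G] (u : H ⟶ G) [IsMonHom u]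
  [IsSeparated G.hom]
  {A : Type u} [CommRing A] (k : Spec (CommRingCat.of A) ⟶ S)
  {E : Type u} [CommRing E] [Bialgebra A E] {M : Type} [AddCommGroup M] (GE : MTHom1.GLB A E M)

include GE in
open scoped Obj in
/-- the dictionary between the kernel of `u` over a chart and the algebraic data -/
theorem dict (ε : Red.bc k H ≅ (Spec (.of E)).asOver (Spec (.of A))) [IsMonHom ε.hom] :
    ∃ (B : Type u) (_ : CommRing B) (_ : Algebra A B), Nonempty (CSubA.CSub A M B) ∧
    ∀ (R : Type u) [CommRing R] [Algebra A R],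
      TrivAt (kerStr H G u) (Spec.map (CommRingCat.ofHom (algebraMap A R)) ≫ k) ↔
        Function.Bijective (algebraMap R (R ⊗[A] B)) := by
  haveI : IsMonHom ε.inv := inferInstance
  obtain ⟨uA, huA⟩ : ∃ uA, uA = (Over.pullback k).map u := ⟨_, rfl⟩
  haveI : IsMonHom uA := by rw [huA]; infer_instance
  obtain ⟨v, hv⟩ : ∃ v, v = ε.inv ≫ uA := ⟨_, rfl⟩
  haveI : IsMonHom v := by rw [hv]; infer_instance
  obtain ⟨eGA, heGA⟩ : ∃ eGA, eGA = unitSec (Red.bc k G) := ⟨_, rfl⟩
  have heGA1 : eGA ≫ (Red.bc k G).hom = 𝟙 _ := by rw [heGA]; exact unitSec_hom _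
  haveI : IsSeparated (Red.bc k G).hom := by
    show IsSeparated (pullback.snd G.hom k)
    infer_instance
  haveI : IsClosedImmersion eGA := by
    haveI : IsClosedImmersion (eGA ≫ (Red.bc k G).hom) := by rw [heGA1]; infer_instance
    exact IsClosedImmersion.of_comp eGA (Red.bc k G).hom
  obtain ⟨vl, hvl⟩ : ∃ vl : Spec (CommRingCat.of E) ⟶ (Red.bc k G).left, vl = v.left := ⟨_, rfl⟩
  have hvlstr : vl ≫ (Red.bc k G).hom = Spec.map (CommRingCat.ofHom (algebraMap A E)) := by
    rw [hvl]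
    exact Over.w v
  obtain ⟨ιA, hιA⟩ : ∃ ιA : pullback vl eGA ⟶ Spec (CommRingCat.of E),
    ιA = pullback.fst vl eGA := ⟨_, rfl⟩
  obtain ⟨κA, hκA⟩ : ∃ κA, κA = pullback.snd vl eGA := ⟨_, rfl⟩
  have hcond : ιA ≫ vl = κA ≫ eGA := by rw [hιA, hκA]; exact pullback.condition
  have hP0 : IsPullback ιA κA vl eGA := by
    rw [hιA, hκA]; exact IsPullback.of_hasPullback _ _
  haveI : IsClosedImmersion ιA := by rw [hιA]; infer_instance
  obtain ⟨I, e, he⟩ := IsClosedImmersion.Spec_iff.1 (inferInstance : IsClosedImmersion ιA)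
  have hκ1 : κA = ιA ≫ Spec.map (CommRingCat.ofHom (algebraMap A E)) := by
    have h1 := congrArg (fun t => t ≫ (Red.bc k G).hom) hcond
    simp only [Category.assoc] at h1
    rw [heGA1, Category.comp_id, hvlstr] at h1
    exact h1.symm
  have hκ : κA = e.hom ≫ Spec.map (CommRingCat.ofHom (algebraMap A (E ⧸ I))) := by
    rw [hκ1, he, Category.assoc, ← Spec.map_comp]
    rfl
  have hκ' : e.inv ≫ κA = Spec.map (CommRingCat.ofHom (algebraMap A (E ⧸ I))) := by
    rw [hκ, Iso.inv_hom_id_assoc]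
  have he' : e.inv ≫ ιA = Spec.map (CommRingCat.ofHom (Ideal.Quotient.mk I)) := by
    rw [he, Iso.inv_hom_id_assoc]
  obtain ⟨π, hπd⟩ : ∃ π : E →ₐ[A] E ⧸ I, π = Ideal.Quotient.mkₐ A I := ⟨_, rfl⟩
  have hπ : Function.Surjective π := by rw [hπd]; exact Ideal.Quotient.mkₐ_surjective A I
  have hπ0 : ∀ a, π a = 0 ↔ a ∈ I := by
    intro a; rw [hπd]; exact Ideal.Quotient.eq_zero_iff_mem
  -- the unit section
  have hunit : (η[(Spec (.of E)).asOver (Spec (.of A))]).left ≫ vl = 𝟙 _ ≫ eGA := by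
    rw [Category.id_comp, heGA, hvl]
    have := congrArg (fun t : 𝟙_ (Over (Spec (.of A))) ⟶ Red.bc k G => t.left)
      (IsMonHom.one_hom (f := v))
    exact this
  obtain ⟨σA, hσA1, hσA2⟩ : ∃ σA : Spec (.of A) ⟶ pullback vl eGA,
      σA ≫ ιA = (η[(Spec (.of E)).asOver (Spec (.of A))]).left ∧ σA ≫ κA = 𝟙 _ :=
    ⟨pullback.lift _ _ hunit, by rw [hιA]; exact pullback.lift_fst _ _ _,
      by rw [hκA]; exact pullback.lift_snd _ _ _⟩
  have hσι : σA ≫ ιA = Spec.map (CommRingCat.ofHom (Bialgebra.counitAlgHom A E).toRingHom) :=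
    hσA1
  have hI : ∀ a ∈ I, Bialgebra.counitAlgHom A E a = 0 := by
    intro a ha
    have h1 : Spec.map (CommRingCat.ofHom (Bialgebra.counitAlgHom A E).toRingHom) =
        Spec.map (CommRingCat.ofHom (Ideal.Quotient.mk I) ≫ Spec.preimage (σA ≫ e.hom)) := by
      rw [Spec.map_comp, Spec.map_preimage, Category.assoc, ← he, hσι]
    have h2 := Spec.map_injective h1
    have h3 := congrArg (fun f => f.hom a) h2
    simp only [CommRingCat.hom_comp, CommRingCat.hom_ofHom, RingHom.coe_comp,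
      Function.comp_apply] at h3
    rw [Ideal.Quotient.eq_zero_iff_mem.2 ha, map_zero] at h3
    exact h3
  have hvcomp : ∀ {T : Scheme.{u}} (a : T ⟶ pullback vl eGA) , (a ≫ ιA) ≫ vl = (a ≫ κA) ≫ eGA := by
    intro T a
    rw [Category.assoc, Category.assoc, hcond]
  have hC : Nonempty (CSubA.CSub A M (E ⧸ I)) := by
    refine ⟨{ g := fun m => π (GE.b m), g_zero := ?_, g_add := ?_, span := ?_,
              ε := Ideal.Quotient.liftₐ I (Bialgebra.counitAlgHom A E) hI, ε_g := ?_, mul := ?_ }⟩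
    · rw [GE.zero, map_one]
    · intro m m'
      rw [GE.add, map_mul]
    · have h1 : Submodule.span A (Set.range GE.b) = ⊤ := GE.b.span_eq
      have h2 : Submodule.map π.toLinearMap (Submodule.span A (Set.range GE.b)) = ⊤ := by
        rw [h1, Submodule.map_top, LinearMap.range_eq_top]
        exact hπ
      rw [Submodule.map_span, ← Set.range_comp] at h2
      exact h2
    · intro m
      rw [hπd]
      show Ideal.Quotient.liftₐ I _ hI (Ideal.Quotient.mk I (GE.b m)) = 1
      exact GE.ε m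
    · intro R _ _ χ₁ χ₂
      obtain ⟨x₁, hx₁⟩ : ∃ x₁ : E →ₐ[A] R, x₁ = χ₁.comp π := ⟨_, rfl⟩
      obtain ⟨x₂, hx₂⟩ : ∃ x₂ : E →ₐ[A] R, x₂ = χ₂.comp π := ⟨_, rfl⟩
      have hpt : ∀ χ : E ⧸ I →ₐ[A] R, specHom A E (χ.comp π) ≫ v = 1 := by
        intro χ
        apply Over.OverMorphism.ext
        rw [one_left]
        have h0 : (specHom A E (χ.comp π) ≫ v).left = (specHom A E (χ.comp π)).left ≫ vl := by
          rw [hvl]; rfl
        have h1 : (specHom A E (χ.comp π)).left =
            (Spec.map (CommRingCat.ofHom χ.toRingHom) ≫ e.inv) ≫ ιA := by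
          rw [Category.assoc, he', ← Spec.map_comp, hπd]
          rfl
        have h1' : (specHom A E (χ.comp π)).left ≫ vl =
            ((Spec.map (CommRingCat.ofHom χ.toRingHom) ≫ e.inv) ≫ ιA) ≫ vl := by
          rw [← h1]
          rfl
        have h2 : ((Spec (.of R)).asOver (Spec (.of A))).hom =
            (Spec.map (CommRingCat.ofHom χ.toRingHom) ≫ e.inv) ≫ κA := by
          rw [Category.assoc, hκ', ← Spec.map_comp]
          show Spec.map (CommRingCat.ofHom (algebraMap A R)) = _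
          congr 1
          ext a
          exact (χ.commutes a).symm
        rw [h0, h1', h2, hvcomp, ← heGA]
        rfl
      have h12 : (specHom A E x₁ * specHom A E x₂) ≫ v = 1 := by
        rw [MonObj.mul_comp, hx₁, hx₂, hpt χ₁, hpt χ₂, _root_.one_mul]
      obtain ⟨x₃, hx₃⟩ : ∃ x₃ : E →ₐ[A] R,
          x₃ = (WithConv.toConv x₁ * WithConv.toConv x₂).ofConv := ⟨_, rfl⟩
      have hprod : specHom A E x₁ * specHom A E x₂ = specHom A E x₃ := by
        rw [specHom_eq, specHom_eq, specHom_eq, ← map_mul, hx₃]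
      rw [hprod] at h12
      have h3 : Spec.map (CommRingCat.ofHom x₃.toRingHom) ≫ vl =
          Spec.map (CommRingCat.ofHom (algebraMap A R)) ≫ eGA := by
        have := congrArg (fun t => t.left) h12
        simp only [Over.comp_left] at this
        rw [one_left, ← heGA] at this
        rw [hvl]
        exact this
      obtain ⟨c, hc⟩ : ∃ c : Spec (.of R) ⟶ pullback vl eGA,
          c ≫ ιA = Spec.map (CommRingCat.ofHom x₃.toRingHom) :=
        ⟨pullback.lift _ _ h3, by rw [hιA]; exact pullback.lift_fst _ _ _⟩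
      have h4 : Spec.map (CommRingCat.ofHom x₃.toRingHom) =
          Spec.map (CommRingCat.ofHom (Ideal.Quotient.mk I) ≫ Spec.preimage (c ≫ e.hom)) := by
        rw [Spec.map_comp, Spec.map_preimage, Category.assoc, ← he, hc]
      have h5 := Spec.map_injective h4
      have h6 : ∀ a, x₃ a = (Spec.preimage (c ≫ e.hom)).hom (Ideal.Quotient.mk I a) :=
        fun a => congrArg (fun f => f.hom a) h5
      refine ⟨{ toRingHom := (Spec.preimage (c ≫ e.hom)).hom, commutes' := ?_ }, ?_⟩
      · intro a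
        show (Spec.preimage (c ≫ e.hom)).hom (Ideal.Quotient.mk I (algebraMap A E a)) = _
        rw [← h6, AlgHom.commutes]
      · intro m
        show (Spec.preimage (c ≫ e.hom)).hom (π (GE.b m)) = _
        rw [hπd]
        show (Spec.preimage (c ≫ e.hom)).hom (Ideal.Quotient.mk I (GE.b m)) = _
        rw [← h6, hx₃]
        show (WithConv.toConv x₁ * WithConv.toConv x₂) (GE.b m) = _
        rw [AlgHom.convMul_apply, GE.gl, Algebra.TensorProduct.lift_tmul, hx₁, hx₂, hπd]
        rfl
  refine ⟨E ⧸ I, inferInstance, inferInstance, hC, ?_⟩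
  intro R _ _
  have hsq : IsPullback uA.left (pullback.fst H.hom k) (pullback.fst G.hom k) u.left := by
    rw [huA]
    exact Groth.Agent.Lib.Helper24.HomogSep.isPullback_pullback_map k u
  have hη : eGA ≫ pullback.fst G.hom k = k ≫ unitSec G := by
    rw [heGA]
    exact Groth.Agent.Lib.Helper24.NFT.unitSec_bc_fst G k
  obtain ⟨εl, hεl⟩ : ∃ εl : Spec (CommRingCat.of E) ⟶ (Red.bc k H).left, εl = ε.inv.left :=
    ⟨_, rfl⟩
  haveI : IsIso εl := by
    rw [hεl]
    exact inferInstanceAs (IsIso ((Over.forget _).map ε.inv))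
  have hvl2 : εl ≫ uA.left = vl ≫ 𝟙 _ := by
    rw [Category.comp_id, hvl, hv, hεl]
    rfl
  have ht : IsPullback εl vl uA.left (𝟙 _) := IsPullback.of_horiz_isIso ⟨hvl2⟩
  have hP1 : IsPullback (ιA ≫ εl) κA uA.left eGA := by
    have := hP0.paste_horiz ht
    rwa [Category.comp_id] at this
  have hbig : IsPullback ((ιA ≫ εl) ≫ pullback.fst H.hom k) κA u.left (k ≫ unitSec G) := by
    have := hP1.paste_horiz hsq.flip
    rwa [hη] at this
  obtain ⟨ψ, hψ1, hψ2⟩ : ∃ ψ : pullback vl eGA ⟶ pullback u.left (unitSec G),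
      ψ ≫ pullback.fst u.left (unitSec G) = (ιA ≫ εl) ≫ pullback.fst H.hom k ∧
      ψ ≫ pullback.snd u.left (unitSec G) = κA ≫ k :=
    ⟨pullback.lift _ _ (by rw [Category.assoc]; exact hbig.w), pullback.lift_fst _ _ _,
      pullback.lift_snd _ _ _⟩
  have hsq2 : IsPullback ψ κA (kerStr H G u) k := by
    refine IsPullback.of_right ?_ hψ2 (IsPullback.of_hasPullback u.left (unitSec G))
    rw [hψ1]
    exact hbig
  have hsq1 : IsPullback
      (Spec.map (CommRingCat.ofHom
        (Algebra.TensorProduct.includeRight : E ⧸ I →ₐ[A] R ⊗[A] (E ⧸ I)).toRingHom))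
      (Spec.map (CommRingCat.ofHom (algebraMap R (R ⊗[A] (E ⧸ I)))))
      (Spec.map (CommRingCat.ofHom (algebraMap A (E ⧸ I))))
      (Spec.map (CommRingCat.ofHom (algebraMap A R))) :=
    (isPullback_SpecMap_of_isPushout _ _ _ _
      (CommRingCat.isPushout_tensorProduct A R (E ⧸ I))).flip
  have hsq1' : IsPullback
      (Spec.map (CommRingCat.ofHom
        (Algebra.TensorProduct.includeRight : E ⧸ I →ₐ[A] R ⊗[A] (E ⧸ I)).toRingHom) ≫ e.inv)
      (Spec.map (CommRingCat.ofHom (algebraMap R (R ⊗[A] (E ⧸ I)))))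
      κA (Spec.map (CommRingCat.ofHom (algebraMap A R))) := by
    refine IsPullback.of_iso hsq1 (Iso.refl _) e.symm (Iso.refl _) (Iso.refl _) ?_ ?_ ?_ ?_
    · simp
    · simp
    · rw [Iso.refl_hom, Category.comp_id, Iso.symm_hom, hκ']
    · simp
  have hfinal := hsq1'.paste_horiz hsq2
  rw [trivAt_iff_of_isPullback _ _ _ _ hfinal, MTHom3.isIso_specMap_iff]

end dict

end Groth.Agent.Lib.Helper14.CSubB
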