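import Mathlib
import Groth.Prelude.Def_Red2
import Groth.Prelude.Def_SGA3x
import Groth.Agent.Lib.Helper14.CSubB
import Groth.Agent.Lib.Helper14.MTLft

/-! A homomorphism from a group of multiplicative type and of finite type to a separated group
which is a monomorphism on one fibre is a monomorphism over a neighbourhood. -/

set_option autoImplicit false

namespace Groth.Agent.Lib.Helper14.CSubC

open CategoryTheory MonoidalCategory CartesianMonoidalCategory MonObj GrpObj AlgebraicGeometry
open CategoryTheory.Limits TensorProduct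
open Groth.Agent.Lib.Helper14.KerTriv Groth.Agent.Lib.Helper14.CSubB

universe u

section chart

variable {S : Scheme.{u}} (H : Over S) [GrpObj H]

open scoped Obj in
theorem exists_chart_diag (K R : Type u) [CommRing K] [CommRing R] [Algebra K R]
    (k : Spec (CommRingCat.of R) ⟶ S) (M : Type) [AddCommGroup M]
    (e : Red.bc k H ≅ Red.bc (Spec.map (CommRingCat.ofHom (algebraMap K R))) (Red.diag K M))
    [IsMonHom e.hom] :
    ∃ (E : Type u) (_ : CommRing E) (_ : Bialgebra R E) (_ : MTHom1.GLB R E M)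
      (ε : Red.bc k H ≅ (Spec (.of E)).asOver (Spec (.of R))), IsMonHom ε.hom := by
  obtain ⟨κ, hκ⟩ := MTAffine.exists_bc_spec_iso K R (MonoidAlgebra K (Multiplicative M))
  obtain ⟨GM⟩ := MTHom4.exists_glb K R M
  refine ⟨R ⊗[K] MonoidAlgebra K (Multiplicative M), inferInstance,
    inferInstance, GM, e ≪≫ κ, ?_⟩
  dsimp only [Iso.trans_hom]
  infer_instance

open scoped Obj in
theorem exists_chart (R : Type u) [CommRing R] (k : Spec (CommRingCat.of R) ⟶ S) (M : Type)
    [AddCommGroup M] (e : Red.bc k H ≅ Red.DS (Spec (CommRingCat.of R)) M) [IsMonHom e.hom] :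
    ∃ (E : Type u) (_ : CommRing E) (_ : Bialgebra R E) (_ : MTHom1.GLB R E M)
      (ε : Red.bc k H ≅ (Spec (.of E)).asOver (Spec (.of R))), IsMonHom ε.hom := by
  letI : Algebra (ULift.{u} ℤ) R :=
    RingHom.toAlgebra ((Int.castRingHom R).comp (ULift.ringEquiv : ULift.{u} ℤ ≃+* ℤ).toRingHom)
  have hterm : Limits.IsTerminal.from specULiftZIsTerminal (Spec (CommRingCat.of R)) =
      Spec.map (CommRingCat.ofHom (algebraMap (ULift.{u} ℤ) R)) :=
    specULiftZIsTerminal.hom_ext _ _
  obtain ⟨c, hc⟩ := MTHom4.exists_bc_congr _ _ hterm (Red.diag (ULift.{u} ℤ) M)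
  haveI : IsMonHom (e ≪≫ c).hom := by
    dsimp only [Iso.trans_hom]
    infer_instance
  exact exists_chart_diag H (ULift.{u} ℤ) R k M (e ≪≫ c)

end chart

section loc

variable {S : Scheme.{u}} (H G : Over S) [GrpObj H] [GrpObj G] (u : H ⟶ G) [IsMonHom u]
  [IsSeparated G.hom]

open scoped Obj in
/-- the local statement on an affine chart trivializing `H` -/
theorem exists_nhd_chart {S'' : Scheme.{u}} (p : S'' ⟶ S) (R : Type u) [CommRing R]
    (j : Spec (CommRingCat.of R) ⟶ S'') [IsOpenImmersion j] (M : Type) [AddCommGroup M]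
    (hM : AddGroup.FG M)
    (e : Red.bc (j ≫ p) H ≅ Red.DS (Spec (CommRingCat.of R)) M) [IsMonHom e.hom]
    (t : Spec (CommRingCat.of R))
    (ht : TrivAt (kerStr H G u) (S''.fromSpecResidueField (j t) ≫ p)) :
    ∃ W : S''.Opens, j t ∈ W ∧ TrivAt (kerStr H G u) (W.ι ≫ p) := by
  haveI : t.asIdeal.IsPrime := t.isPrime
  obtain ⟨l, hl⟩ : ∃ l : Spec (CommRingCat.of (Localization.AtPrime t.asIdeal)) ⟶
      Spec (CommRingCat.of R),
      l = Spec.map (CommRingCat.ofHom (algebraMap R (Localization.AtPrime t.asIdeal))) := ⟨_, rfl⟩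
  obtain ⟨ep, hep⟩ := MTHom5.triv_of_factor H (j ≫ p) M e l (l ≫ j ≫ p) rfl
  obtain ⟨EA, _, _, GA, εA, hεA⟩ := exists_chart H R (j ≫ p) M e
  obtain ⟨Ep, _, _, Gp, εp, hεp⟩ :=
    exists_chart H (Localization.AtPrime t.asIdeal) (l ≫ j ≫ p) M ep
  obtain ⟨BA, _, _, ⟨CA⟩, hdA⟩ := dict H G u (j ≫ p) GA εA
  obtain ⟨Bp, _, _, ⟨Cp⟩, hdp⟩ := dict H G u (l ≫ j ≫ p) Gp εp
  -- the closed fibre
  have hclosed : TrivAt (kerStr H G u)
      (Spec.map (CommRingCat.ofHom (algebraMap (Localization.AtPrime t.asIdeal)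
        (IsLocalRing.ResidueField (Localization.AtPrime t.asIdeal)))) ≫ l ≫ j ≫ p) := by
    have h1 : Spec.map (CommRingCat.ofHom (algebraMap (Localization.AtPrime t.asIdeal)
        (IsLocalRing.ResidueField (Localization.AtPrime t.asIdeal)))) ≫ l =
        Spec.map (CommRingCat.ofHom (algebraMap R t.asIdeal.ResidueField)) := by
      rw [hl, ← Spec.map_comp, ← CommRingCat.ofHom_comp]
      rfl
    have h2 : Spec.map (CommRingCat.ofHom (algebraMap R t.asIdeal.ResidueField)) =
        Spec.map (Scheme.Spec.residueFieldIso (CommRingCat.of R) t).hom ≫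
          (Spec (CommRingCat.of R)).fromSpecResidueField t := by
      rw [← Scheme.Spec.map_residueFieldIso_inv_eq_fromSpecResidueField, ← Spec.map_comp_assoc,
        Iso.inv_hom_id, Spec.map_id, Category.id_comp]
    have h3 := Scheme.Hom.SpecMap_residueFieldMap_fromSpecResidueField j t
    have h4 : Spec.map (CommRingCat.ofHom (algebraMap (Localization.AtPrime t.asIdeal)
        (IsLocalRing.ResidueField (Localization.AtPrime t.asIdeal)))) ≫ l ≫ j ≫ p =
        (Spec.map (Scheme.Spec.residueFieldIso (CommRingCat.of R) t).hom ≫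
          Spec.map (j.residueFieldMap t)) ≫ S''.fromSpecResidueField (j t) ≫ p := by
      rw [← Category.assoc, h1, h2, Category.assoc, ← Category.assoc _ j p, ← h3]
      simp only [Category.assoc]
    rw [h4]
    exact TrivAt.comp _ _ _ ht
  have hb1 := (hdp (IsLocalRing.ResidueField (Localization.AtPrime t.asIdeal))).1 hclosed
  have hb2 : Function.Bijective (algebraMap (Localization.AtPrime t.asIdeal) Bp) :=
    CSubA.local_main' Cp hM hb1
  have hb3 : Function.Bijective (algebraMap (Localization.AtPrime t.asIdeal)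
      (Localization.AtPrime t.asIdeal ⊗[Localization.AtPrime t.asIdeal] Bp)) := by
    rw [(Cp.baseChange (Localization.AtPrime t.asIdeal)).bijective_iff]
    intro m
    show (1 : Localization.AtPrime t.asIdeal) ⊗ₜ[Localization.AtPrime t.asIdeal] Cp.g m = 1
    rw [(Cp.bijective_iff.1 hb2) m]
    rfl
  have hb4 := (hdp (Localization.AtPrime t.asIdeal)).2 hb3
  have hid : Spec.map (CommRingCat.ofHom (algebraMap (Localization.AtPrime t.asIdeal)
      (Localization.AtPrime t.asIdeal))) = 𝟙 _ := by
    rw [Algebra.algebraMap_self]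
    exact Spec.map_id _
  rw [hid, Category.id_comp] at hb4
  have hb5 := (hdA (Localization.AtPrime t.asIdeal)).1 (by rw [← hl]; exact hb4)
  obtain ⟨f, hf, hb6⟩ := CSubA.spread CA hM t.asIdeal hb5
  have hb7 := (hdA (Localization.Away f)).2 hb6
  obtain ⟨g, hg⟩ : ∃ g : Spec (CommRingCat.of (Localization.Away f)) ⟶ S'',
      g = Spec.map (CommRingCat.ofHom (algebraMap R (Localization.Away f))) ≫ j := ⟨_, rfl⟩
  haveI : IsOpenImmersion g := by
    rw [hg]
    infer_instance
  refine ⟨g.opensRange, ?_, ?_⟩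
  · have h1 : t ∈ Set.range (Spec.map (CommRingCat.ofHom
        (algebraMap R (Localization.Away f)))) := by
      have h := PrimeSpectrum.localization_away_comap_range (Localization.Away f) f
      have h2 : t ∈ (PrimeSpectrum.basicOpen f : Set (PrimeSpectrum R)) := hf
      rw [← h] at h2
      exact h2
    obtain ⟨t', ht'⟩ := h1
    refine ⟨t', ?_⟩
    rw [hg]
    show j (Spec.map (CommRingCat.ofHom (algebraMap R (Localization.Away f))) t') = j t
    rw [ht']
  · rw [← g.isoOpensRange_inv_comp, Category.assoc]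
    apply TrivAt.comp
    rw [hg, Category.assoc]
    exact hb7

end loc

section main

variable {S : Scheme.{u}} (H G : Over S) [GrpObj H] [GrpObj G] (u : H ⟶ G) [IsMonHom u]

lemma trivAt_snd_iff {K T T' : Scheme.{u}} (k : K ⟶ S) (x : T ⟶ S) (y : T' ⟶ T) :
    TrivAt (pullback.snd k x) y ↔ TrivAt k (y ≫ x) := by
  unfold TrivAt
  have h1 : pullback.snd (pullback.snd k x) y =
      (pullbackLeftPullbackSndIso k x y).hom ≫ pullback.snd k (y ≫ x) := by
    rw [pullbackLeftPullbackSndIso_hom_snd]
  rw [h1]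
  constructor
  · intro h
    have : pullback.snd k (y ≫ x) = (pullbackLeftPullbackSndIso k x y).inv ≫
        ((pullbackLeftPullbackSndIso k x y).hom ≫ pullback.snd k (y ≫ x)) := by
      rw [Iso.inv_hom_id_assoc]
    rw [this]
    infer_instance
  · intro h
    infer_instance

lemma lft_kerStr [LocallyOfFiniteType H.hom] : LocallyOfFiniteType (kerStr H G u) := by
  have hk : pullback.fst u.left (unitSec G) ≫ H.hom = kerStr H G u := by
    rw [← Over.w u, ← Category.assoc, pullback.condition, Category.assoc, unitSec_hom,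
      Category.comp_id]
  haveI : LocallyOfFiniteType (unitSec G) := by
    haveI : LocallyOfFiniteType (unitSec G ≫ G.hom) := by rw [unitSec_hom]; infer_instance
    exact locallyOfFiniteType_of_comp (unitSec G) G.hom
  rw [← hk]
  infer_instance

/-- triviality on the points of an open subscheme gives triviality over the open subscheme -/
lemma trivAt_open [LocallyOfFiniteType H.hom] (U : S.Opens)
    (hU : ∀ t ∈ U, TrivAt (kerStr H G u) (S.fromSpecResidueField t)) :
    TrivAt (kerStr H G u) U.ι := by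
  unfold TrivAt
  haveI := lft_kerStr H G u
  let σ : (U : Scheme.{u}) ⟶ pullback (kerStr H G u) U.ι :=
    pullback.lift (U.ι ≫ kerSec H G u) (𝟙 _) (by
      rw [Category.assoc, kerSec_str, Category.comp_id, Category.id_comp])
  refine isIso_of_fibres _ σ (pullback.lift_snd _ _ _) ?_
  intro y
  show IsIso (pullback.snd (pullback.snd (kerStr H G u) U.ι)
    ((U : Scheme.{u}).fromSpecResidueField y))
  have h1 : TrivAt (kerStr H G u) ((U : Scheme.{u}).fromSpecResidueField y ≫ U.ι) := by
    rw [← Scheme.Hom.SpecMap_residueFieldMap_fromSpecResidueField]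
    exact TrivAt.comp _ _ _ (hU _ y.2)
  exact (trivAt_snd_iff _ _ _).2 h1

variable [IsSeparated G.hom]

theorem main (hH : SGA3x.IsMultTypeFT H) (s : S)
    (hs : Mono ((Over.pullback (S.fromSpecResidueField s)).map u).left) :
    ∃ U : S.Opens, s ∈ U ∧ Mono ((Over.pullback U.ι).map u).left := by
  haveI : LocallyOfFiniteType H.hom := MTLft.lft_of_multTypeFT H hH
  obtain ⟨S'', p, hp, hcharts⟩ := MTHom5.exists_common H H (fun M _ => AddGroup.FG M)
    (fun M _ => AddGroup.FG M) hH hH
  obtain ⟨Z, hZ⟩ : ∃ Z : Set S, Z = {t | TrivAt (kerStr H G u) (S.fromSpecResidueField t)} :=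
    ⟨_, rfl⟩
  have hZopen : IsOpen Z := by
    apply MTHom5.isOpen_of_isCov p hp
    rw [isOpen_iff_forall_mem_open]
    intro x hx
    obtain ⟨R, j, hj, hxj, M, iM, N, iN, hM, -, ⟨e, he⟩, -⟩ := hcharts x
    obtain ⟨t, rfl⟩ := hxj
    have hx' : TrivAt (kerStr H G u) (S.fromSpecResidueField (p (j t))) := by
      have : p (j t) ∈ Z := hx
      rw [hZ] at this
      exact this
    have h1 : TrivAt (kerStr H G u) (S''.fromSpecResidueField (j t) ≫ p) := by
      rw [← Scheme.Hom.SpecMap_residueFieldMap_fromSpecResidueField]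
      exact TrivAt.comp _ _ _ hx'
    obtain ⟨W, htW, hW⟩ := exists_nhd_chart H G u p R j M hM e t h1
    refine ⟨W, ?_, W.isOpen, htW⟩
    intro w hw
    show p w ∈ Z
    rw [hZ]
    show TrivAt (kerStr H G u) (S.fromSpecResidueField (p w))
    have h2 : TrivAt (kerStr H G u) (S''.fromSpecResidueField w ≫ p) := by
      have hr : Set.range (S''.fromSpecResidueField w) ⊆ Set.range W.ι := by
        rw [Scheme.range_fromSpecResidueField, Scheme.Opens.range_ι]
        rintro _ rfl
        exact hw
      rw [← IsOpenImmersion.lift_fac W.ι (S''.fromSpecResidueField w) hr, Category.assoc]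
      exact TrivAt.comp _ _ _ hW
    rw [← Scheme.Hom.SpecMap_residueFieldMap_fromSpecResidueField] at h2
    have hfs : Flat (Spec.map (p.residueFieldMap w)) ∧
        Surjective (Spec.map (p.residueFieldMap w)) := by
      rw [flat_and_surjective_SpecMap_iff]
      letI : Algebra (S.residueField (p w)) (S''.residueField w) :=
        (p.residueFieldMap w).hom.toAlgebra
      exact (RingHom.faithfullyFlat_algebraMap_iff).mpr inferInstance
    haveI := hfs.1
    haveI := hfs.2
    exact TrivAt.of_comp _ (Spec.map (p.residueFieldMap w)) _ h2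
  have hsZ : s ∈ Z := by
    rw [hZ]
    exact (trivAt_iff_mono H G u _).2 hs
  refine ⟨⟨Z, hZopen⟩, hsZ, ?_⟩
  rw [← trivAt_iff_mono]
  apply trivAt_open
  intro t ht
  have : t ∈ Z := ht
  rw [hZ] at this
  exact this

end main

end Groth.Agent.Lib.Helper14.CSubC
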