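import Mathlib.Tactic
import Mathlib.CategoryTheory.Sites.Sheafification
import Mathlib.CategoryTheory.Sites.LocallySurjective
import Mathlib.CategoryTheory.Sites.LocallyInjective
import Mathlib.CategoryTheory.Sites.LocallyBijective

/-!
# Extension of morphisms to a sheaf along locally bijective morphisms (any universe)
-/

set_option autoImplicit false

namespace Groth.Agent.Lib.Helper14.CanonGlue

open CategoryTheory Limits Opposite

universe v' v u

variable {C : Type u} [Category.{v} C] (J : GrothendieckTopology C)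
  {P Q H : Cᵒᵖ ⥤ Type v'} (η : P ⟶ Q)

lemma nat_apply {F G : Cᵒᵖ ⥤ Type v'} (σ : F ⟶ G) {X Y : Cᵒᵖ} (f : X ⟶ Y) (x : F.obj X) :
    σ.app Y (F.map f x) = G.map f (σ.app X x) :=
  ConcreteCategory.congr_hom (σ.naturality f) x

include J in
lemma precomp_injective [Presheaf.IsLocallySurjective J η] (hH : Presieve.IsSeparated J H)
    (g g' : Q ⟶ H) (h : η ≫ g = η ≫ g') : g = g' := by
  ext c q
  obtain ⟨c⟩ := c
  apply (hH _ (Presheaf.imageSieve_mem J η q)).ext
  rintro d a ⟨p, hp⟩
  have e1 : H.map a.op (g.app (op c) q) = (η ≫ g).app (op d) p := by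
    rw [← nat_apply, ← hp]; rfl
  have e2 : H.map a.op (g'.app (op c) q) = (η ≫ g').app (op d) p := by
    rw [← nat_apply, ← hp]; rfl
  exact (e1.trans (by rw [h])).trans e2.symm

include J in
lemma key_eq [Presheaf.IsLocallyInjective J η] (hH : Presieve.IsSeparated J H) (h : P ⟶ H)
    {c : Cᵒᵖ} (p p' : P.obj c) (hp : η.app c p = η.app c p') : h.app c p = h.app c p' := by
  apply (hH _ (Presheaf.equalizerSieve_mem J η p p' hp)).ext
  intro d a ha
  change P.map a.op p = P.map a.op p' at ha
  rw [← nat_apply, ← nat_apply, ha]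

include J in
lemma exists_extension [Presheaf.IsLocallyInjective J η] [Presheaf.IsLocallySurjective J η]
    (hH : Presieve.IsSheaf J H) (h : P ⟶ H) : ∃ g : Q ⟶ H, η ≫ g = h := by
  have hsep : Presieve.IsSeparated J H := hH.isSeparated
  -- the value at `q`
  have hval : ∀ (c : C) (q : Q.obj (op c)), ∃ t : H.obj (op c),
      ∀ ⦃d : C⦄ (a : d ⟶ c) (p : P.obj (op d)), η.app (op d) p = Q.map a.op q →
        H.map a.op t = h.app (op d) p := by
    intro c q
    let R := Presheaf.imageSieve η q
    have hR : R ∈ J c := Presheaf.imageSieve_mem J η q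
    let x : Presieve.FamilyOfElements H R.arrows := fun d a ha => h.app (op d) ha.choose
    have hx : x.SieveCompatible := by
      intro d e a b ha
      change h.app (op e) _ = H.map b.op (h.app (op d) _)
      rw [← nat_apply]
      apply key_eq J η hsep h
      rw [(R.downward_closed ha b).choose_spec, nat_apply, ha.choose_spec, op_comp,
        CategoryTheory.Functor.map_comp]
      rfl
    obtain ⟨t, ht, -⟩ := hH R hR x ((Presieve.compatible_iff_sieveCompatible _).2 hx)
    refine ⟨t, fun d a p hp => ?_⟩
    have ha : R a := ⟨p, hp⟩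
    rw [ht a ha]
    apply key_eq J η hsep h
    rw [ha.choose_spec, hp]
  choose g hg using hval
  have hnat : ∀ {c c' : C} (b : c' ⟶ c) (q : Q.obj (op c)),
      g c' (Q.map b.op q) = H.map b.op (g c q) := by
    intro c c' b q
    apply (hsep _ (Presheaf.imageSieve_mem J η (Q.map b.op q))).ext
    rintro d a ⟨p, hp⟩
    rw [hg c' (Q.map b.op q) a p hp]
    have : H.map a.op (H.map b.op (g c q)) = H.map (a ≫ b).op (g c q) := by
      rw [op_comp, CategoryTheory.Functor.map_comp]; rfl
    rw [this]
    refine (hg c q (a ≫ b) p ?_).symm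
    rw [hp, op_comp, CategoryTheory.Functor.map_comp]; rfl
  refine ⟨⟨fun c => ↾(fun q => g c.unop q), ?_⟩, ?_⟩
  · intro c c' b
    refine ConcreteCategory.hom_ext _ _ (fun q => ?_)
    exact hnat b.unop q
  · ext c p
    obtain ⟨c⟩ := c
    change g c (η.app (op c) p) = h.app (op c) p
    have := hg c (η.app (op c) p) (𝟙 c) p (by simp)
    simpa using this

include J in
theorem bijective_precomp [Presheaf.IsLocallyInjective J η] [Presheaf.IsLocallySurjective J η]
    (hH : Presieve.IsSheaf J H) : Function.Bijective (fun g : Q ⟶ H => η ≫ g) :=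
  ⟨fun g g' h => precomp_injective J η hH.isSeparated g g' h,
    fun h => exists_extension J η hH h⟩

end Groth.Agent.Lib.Helper14.CanonGlue
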