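import Groth.Prelude.Def_SGA4a
import Mathlib.Tactic
import Mathlib.CategoryTheory.Sites.Sheafification
import Mathlib.CategoryTheory.Sites.LeftExact
import Mathlib.CategoryTheory.Sites.Limits
import Mathlib.CategoryTheory.Sites.LocallySurjective
import Mathlib.CategoryTheory.Sites.LocallyInjective

/-!
# The closed complement of an open subtopos (sheaves of sets on a small site)
-/

set_option autoImplicit false

namespace Groth.Agent.Lib.Helper14.ClosedCompl

open CategoryTheory Limits Opposite

universe u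

variable {C : Type u} [SmallCategory C] (J : GrothendieckTopology C)

/-- sheafified representable -/
noncomputable abbrev rep (d : C) : Sheaf J (Type u) :=
  (presheafToSheaf J (Type u)).obj (yoneda.obj d)

/-- sections over `d` are maps from the sheafified representable -/
noncomputable def secEquiv (Z : Sheaf J (Type u)) (d : C) : (rep J d ⟶ Z) ≃ Z.obj.obj (op d) :=
  ((sheafificationAdjunction J (Type u)).homEquiv (yoneda.obj d) Z).trans yonedaEquiv

lemma secEquiv_comp {Z T : Sheaf J (Type u)} (d : C) (k : rep J d ⟶ Z) (g : Z ⟶ T) :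
    secEquiv J T d (k ≫ g) = g.hom.app (op d) (secEquiv J Z d k) := by
  unfold secEquiv
  simp only [Equiv.trans_apply]
  rw [Adjunction.homEquiv_naturality_right]
  exact yonedaEquiv_comp _ _

variable {J}

lemma exists_prod_elt (U X : Sheaf J (Type u)) (c : Cᵒᵖ) (u : U.obj.obj c) (x : X.obj.obj c) :
    ∃ w : (U ⨯ X).obj.obj c, (prod.fst : U ⨯ X ⟶ U).hom.app c w = u ∧
      (prod.snd : U ⨯ X ⟶ X).hom.app c w = x := by
  obtain ⟨d⟩ := c
  refine ⟨secEquiv J _ d (prod.lift ((secEquiv J U d).symm u) ((secEquiv J X d).symm x)), ?_, ?_⟩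
  · rw [← secEquiv_comp, prod.lift_fst, Equiv.apply_symm_apply]
  · rw [← secEquiv_comp, prod.lift_snd, Equiv.apply_symm_apply]

/-- the elementwise description of the closed complement -/
def IsCl (U Z : Sheaf J (Type u)) : Prop :=
  ∀ c : Cᵒᵖ, U.obj.obj c → Nonempty (Unique (Z.obj.obj c))

lemma IsCl.subsingleton {U Z : Sheaf J (Type u)} (h : IsCl U Z) {c : Cᵒᵖ} (u : U.obj.obj c) :
    Subsingleton (Z.obj.obj c) := by
  obtain ⟨i⟩ := h c u
  infer_instance

lemma IsCl.nonempty {U Z : Sheaf J (Type u)} (h : IsCl U Z) {c : Cᵒᵖ} (u : U.obj.obj c) :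
    Nonempty (Z.obj.obj c) := by
  obtain ⟨i⟩ := h c u
  exact ⟨default⟩

/-- two maps into a closed object from an object over `U` agree -/
lemma IsCl.hom_ext {U Z W : Sheaf J (Type u)} (h : IsCl U Z) (p : W ⟶ U) (f g : W ⟶ Z) : f = g := by
  ext c w
  have := h.subsingleton (p.hom.app c w)
  exact Subsingleton.elim _ _

/-- a closed object receives a map from `U` -/
noncomputable def IsCl.fromU {U Z : Sheaf J (Type u)} (h : IsCl U Z) : U ⟶ Z where
  hom :=
    { app := fun c => ↾fun u => (h.nonempty u).some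
      naturality := by
        intro c d f
        ext u
        have := h.subsingleton (U.obj.map f u)
        exact Subsingleton.elim _ _ }

lemma closedCompl_iff (U Z : Sheaf J (Type u)) : SGA4.closedCompl U Z ↔ IsCl U Z := by
  constructor
  · intro (h : IsIso (prod.fst : U ⨯ Z ⟶ U))
    intro c u
    have hb : ∀ c, Function.Bijective ((prod.fst : U ⨯ Z ⟶ U).hom.app c) := by
      intro c
      have : IsIso ((sheafToPresheaf J (Type u)).map (prod.fst : U ⨯ Z ⟶ U)) := inferInstance
      have : IsIso (((sheafToPresheaf J (Type u)).map (prod.fst : U ⨯ Z ⟶ U)).app c) := inferInstance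
      exact (isIso_iff_bijective _).1 this
    obtain ⟨w, hw⟩ := (hb c).2 u
    refine ⟨⟨⟨(prod.snd : U ⨯ Z ⟶ Z).hom.app c w⟩, ?_⟩⟩
    intro z
    obtain ⟨w', hw'1, hw'2⟩ := exists_prod_elt U Z c u z
    have : w' = w := (hb c).1 (hw'1.trans hw.symm)
    rw [← hw'2, this]
    rfl
  · intro h
    change IsIso (prod.fst : U ⨯ Z ⟶ U)
    refine ⟨prod.lift (𝟙 U) h.fromU, ?_, prod.lift_fst _ _⟩
    apply Limits.prod.hom_ext
    · rw [Category.assoc, prod.lift_fst, Category.id_comp, Category.comp_id]
    · rw [Category.assoc, prod.lift_snd, Category.id_comp]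
      exact h.hom_ext prod.fst _ _


section P
variable (U : Sheaf J (Type u))

/-- `U` has no section over `c` -/
def Emp (c : Cᵒᵖ) : Prop := IsEmpty (U.obj.obj c)

variable {U} in
lemma Emp.map {c d : Cᵒᵖ} (f : c ⟶ d) (h : Emp U d) : Emp U c :=
  ⟨fun x => h.false (U.obj.map f x)⟩

/-- the presheaf `c ↦ (U(c) = ∅ → X(c))` -/
def Pobj (X : Cᵒᵖ ⥤ Type u) : Cᵒᵖ ⥤ Type u where
  obj c := Emp U c → X.obj c
  map {c d} f := ↾fun φ => fun h => X.map f (φ (h.map f))
  map_id c := by
    ext φ h
    simp
  map_comp f g := by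
    ext φ h
    simp

/-- the presheaf-level closed reflection -/
def P : (Cᵒᵖ ⥤ Type u) ⥤ (Cᵒᵖ ⥤ Type u) where
  obj := Pobj U
  map {X Y} g :=
    { app := fun c => ↾fun (φ : Emp U c → X.obj c) => fun h => g.app c (φ h)
      naturality := by
        intro c d f
        ext φ
        funext h
        exact ConcreteCategory.congr_hom (g.naturality f) (φ (h.map f)) }
  map_id X := by
    ext c φ
    rfl
  map_comp f g := by
    ext c φ
    rfl

/-- the unit `X ⟶ P X` -/
def η : 𝟭 (Cᵒᵖ ⥤ Type u) ⟶ P U where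
  app X :=
    { app := fun c => ↾fun x => fun _ => x
      naturality := by
        intro c d f
        ext x
        rfl }
  naturality X Y g := by
    ext c x
    rfl

lemma P_η (X : Cᵒᵖ ⥤ Type u) : (P U).map ((η U).app X) = (η U).app ((P U).obj X) := by
  ext c φ
  rfl

lemma P_subsingleton (X : Cᵒᵖ ⥤ Type u) {c : Cᵒᵖ} (u : U.obj.obj c) :
    Nonempty (Unique (((P U).obj X).obj c)) := by
  have hne : ¬ Emp U c := fun h => h.false u
  exact ⟨⟨⟨fun h => absurd h hne⟩, fun φ => funext fun h => absurd h hne⟩⟩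

variable {U}

lemma isIso_η_of_isCl {Z : Sheaf J (Type u)} (hZ : IsCl U Z) : IsIso ((η U).app Z.obj) := by
  rw [NatTrans.isIso_iff_isIso_app]
  intro c
  rw [isIso_iff_bijective]
  constructor
  · intro x y hxy
    by_cases h : Emp U c
    · exact congrFun hxy h
    · obtain ⟨u⟩ := not_isEmpty_iff.1 (fun h' => h h')
      have := hZ.subsingleton u
      exact Subsingleton.elim (α := Z.obj.obj c) x y
  · intro φ
    by_cases h : Emp U c
    · exact ⟨φ h, funext fun h' => rfl⟩
    · obtain ⟨u⟩ := not_isEmpty_iff.1 (fun h' => h h')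
      obtain ⟨z⟩ := hZ.nonempty u
      exact ⟨z, funext fun h' => absurd h' h⟩

/-- maps out of `P X` into a closed sheaf are maps out of `X` -/
noncomputable def homEquivP (X : Cᵒᵖ ⥤ Type u) {Z : Sheaf J (Type u)} (hZ : IsCl U Z) :
    ((P U).obj X ⟶ Z.obj) ≃ (X ⟶ Z.obj) :=
  haveI := isIso_η_of_isCl hZ
  { toFun := fun k => (η U).app X ≫ k
    invFun := fun g => (P U).map g ≫ inv ((η U).app Z.obj)
    left_inv := fun k => by
      dsimp only
      rw [Functor.map_comp, P_η, Category.assoc, ← Category.assoc, IsIso.comp_inv_eq]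
      exact ((η U).naturality k).symm
    right_inv := fun g => by
      dsimp only
      rw [← Category.assoc, IsIso.comp_inv_eq]
      exact ((η U).naturality g).symm }

end P

section L
variable (U : Sheaf J (Type u))

/-- the sheafification of a presheaf with singleton values over `U` is closed -/
lemma isCl_sheafify (Q : Cᵒᵖ ⥤ Type u)
    (hQ : ∀ c : Cᵒᵖ, U.obj.obj c → Nonempty (Unique (Q.obj c))) :
    IsCl U ((presheafToSheaf J (Type u)).obj Q) := by
  intro c u
  obtain ⟨i⟩ := hQ c u
  refine ⟨⟨⟨(toSheafify J Q).app c default⟩, ?_⟩⟩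
  intro z
  obtain ⟨d⟩ := c
  have hsep := ((isSheaf_iff_isSheaf_of_type J _).1 ((presheafToSheaf J (Type u)).obj Q).property).isSeparated
  set z' := (toSheafify J Q).app (op d) default with hz'
  have h1 := Presheaf.imageSieve_mem J (toSheafify J Q) z
  refine (hsep _ h1).ext ?_
  intro e f ⟨q, hq⟩
  obtain ⟨i'⟩ := hQ (op e) (U.obj.map f.op u)
  have hq' : q = Q.map f.op default := Subsingleton.elim _ _
  rw [← hq, hq', hz']
  exact ConcreteCategory.congr_hom ((toSheafify J Q).naturality f.op) default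

/-- the closed reflection, as an endofunctor of sheaves -/
noncomputable def L₀ : Sheaf J (Type u) ⥤ Sheaf J (Type u) :=
  sheafToPresheaf J (Type u) ⋙ P U ⋙ presheafToSheaf J (Type u)

lemma isCl_L₀ (X : Sheaf J (Type u)) : IsCl U ((L₀ U).obj X) :=
  isCl_sheafify U _ (fun _ u => P_subsingleton U X.obj u)

/-- the closed reflection -/
noncomputable def Lc : Sheaf J (Type u) ⥤ (SGA4.closedCompl U).FullSubcategory :=
  ObjectProperty.lift _ (L₀ U) (fun X => (closedCompl_iff U _).2 (isCl_L₀ U X))


/-- the unit `X ⟶ L₀ X` -/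
noncomputable def unitL (X : Sheaf J (Type u)) : X ⟶ (L₀ U).obj X :=
  ⟨(η U).app X.obj ≫ toSheafify J _⟩

lemma nat_left {X' X Z : Sheaf J (Type u)} (f : X' ⟶ X)
    (k' : (presheafToSheaf J (Type u)).obj ((P U).obj X.obj) ⟶ Z) :
    (η U).app X'.obj ≫ (sheafificationAdjunction J (Type u)).homEquiv _ Z
        ((presheafToSheaf J (Type u)).map ((P U).map f.hom) ≫ k') =
      f.hom ≫ (η U).app X.obj ≫ (sheafificationAdjunction J (Type u)).homEquiv _ Z k' := by
  rw [Adjunction.homEquiv_naturality_left, ← Category.assoc, ← Category.assoc]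
  congr 1

lemma nat_right {X Z Z' : Sheaf J (Type u)}
    (k' : (presheafToSheaf J (Type u)).obj ((P U).obj X.obj) ⟶ Z) (m : Z ⟶ Z') :
    (η U).app X.obj ≫ (sheafificationAdjunction J (Type u)).homEquiv _ Z' (k' ≫ m) =
      ((η U).app X.obj ≫ (sheafificationAdjunction J (Type u)).homEquiv _ Z k') ≫ m.hom := by
  rw [Adjunction.homEquiv_naturality_right, Category.assoc]
  rfl

/-- hom-set bijection of the reflection -/
noncomputable def homEquivL (X : Sheaf J (Type u)) (Z : (SGA4.closedCompl U).FullSubcategory) :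
    ((Lc U).obj X ⟶ Z) ≃ (X ⟶ Z.obj) where
  toFun k := ⟨(homEquivP X.obj ((closedCompl_iff U _).1 Z.property))
    ((sheafificationAdjunction J (Type u)).homEquiv _ Z.obj k.hom)⟩
  invFun g := ObjectProperty.homMk (((sheafificationAdjunction J (Type u)).homEquiv _ Z.obj).symm
    ((homEquivP X.obj ((closedCompl_iff U _).1 Z.property)).symm g.hom))
  left_inv k := by
    ext1
    simp only [Equiv.symm_apply_apply]
    exact Equiv.symm_apply_apply _ _
  right_inv g := by
    ext1
    simp only
    erw [Equiv.apply_symm_apply]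
    exact Equiv.apply_symm_apply _ _

lemma homEquivL_apply (X : Sheaf J (Type u)) (Z : (SGA4.closedCompl U).FullSubcategory)
    (k : (Lc U).obj X ⟶ Z) :
    (homEquivL U X Z k).hom =
      (η U).app X.obj ≫ (sheafificationAdjunction J (Type u)).homEquiv _ Z.obj k.hom := rfl

/-- the adjunction `Lc ⊣ ι` -/
noncomputable def adjL : Lc U ⊣ (SGA4.closedCompl U).ι :=
  Adjunction.mkOfHomEquiv
    { homEquiv := homEquivL U
      homEquiv_naturality_left_symm := by
        intro X' X Z f g
        apply (homEquivL U X' Z).injective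
        rw [Equiv.apply_symm_apply]
        ext1
        have h := nat_left U (Z := Z.obj) f ((homEquivL U X Z).symm g).hom
        have h2 : (η U).app X.obj ≫ (sheafificationAdjunction J (Type u)).homEquiv _ Z.obj
            ((homEquivL U X Z).symm g).hom = g.hom :=
          congrArg (fun t : X ⟶ Z.obj => t.hom) ((homEquivL U X Z).apply_symm_apply g)
        rw [h2] at h
        exact h.symm
      homEquiv_naturality_right := by
        intro X Z Z' k m
        ext1
        exact nat_right U (X := X) k.hom m.hom }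


/-- evaluation of `P` is a coyoneda functor -/
def PevalIso (c : Cᵒᵖ) : P U ⋙ (evaluation Cᵒᵖ (Type u)).obj c ≅
    (evaluation Cᵒᵖ (Type u)).obj c ⋙ coyoneda.obj (op (ULift.{u} (PLift (Emp U c)))) :=
  NatIso.ofComponents (fun X =>
    { hom := ↾fun (φ : Emp U c → X.obj c) => ↾fun a => φ a.down.down
      inv := ↾fun (ψ : ULift.{u} (PLift (Emp U c)) ⟶ X.obj c) => fun h => ψ ⟨⟨h⟩⟩
      hom_inv_id := by
        ext φ
        rfl
      inv_hom_id := by
        ext ψ
        rfl }) (by
    intro X Y g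
    ext φ
    rfl)

instance P_preservesLimits : PreservesLimitsOfSize.{u, u} (P U) := by
  apply preservesLimits_of_evaluation
  intro c
  exact preservesLimits_of_natIso (PevalIso U c).symm

instance L₀_preservesFiniteLimits : PreservesFiniteLimits (L₀ U) := by
  unfold L₀
  have h1 : PreservesFiniteLimits (sheafToPresheaf J (Type u)) := inferInstance
  have h2 : PreservesFiniteLimits (P U) := inferInstance
  have h3 : PreservesFiniteLimits (presheafToSheaf J (Type u)) := inferInstance
  have h4 : PreservesFiniteLimits (P U ⋙ presheafToSheaf J (Type u)) := comp_preservesFiniteLimits _ _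
  exact comp_preservesFiniteLimits _ _

instance Lc_preservesFiniteLimits : PreservesFiniteLimits (Lc U) := by
  constructor
  intro K _ _
  have : PreservesLimitsOfShape K (Lc U ⋙ (SGA4.closedCompl U).ι) :=
    (inferInstance : PreservesLimitsOfShape K (L₀ U))
  exact preservesLimitsOfShape_of_reflects_of_preserves (Lc U) (SGA4.closedCompl U).ι


section Pushout
variable {U}

lemma subsingleton_of_isOpen (hU : SGA4.IsOpen U) (c : Cᵒᵖ) : Subsingleton (U.obj.obj c) := by
  obtain ⟨d⟩ := c
  constructor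
  intro a b
  have : Mono (terminal.from U) := hU
  have h : (secEquiv J U d).symm a = (secEquiv J U d).symm b := by
    rw [← cancel_mono (terminal.from U)]
    exact Subsingleton.elim _ _
  exact (secEquiv J U d).symm.injective h

/-- the presheaf map `U ⟶ P X` -/
def uP (X : Cᵒᵖ ⥤ Type u) : U.obj ⟶ (P U).obj X where
  app c := ↾fun (a : U.obj.obj c) => (fun h => (h.false a).elim : Emp U c → X.obj c)
  naturality := by
    intro c d f
    ext a
    funext h
    exact (h.false (U.obj.map f a)).elim

lemma P_eq_uP (X : Cᵒᵖ ⥤ Type u) {c : Cᵒᵖ} (a : U.obj.obj c) (φ : ((P U).obj X).obj c) :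
    φ = (uP X).app c a := by
  obtain ⟨i⟩ := P_subsingleton U X a
  exact Subsingleton.elim _ _

lemma P_eq_η (X : Cᵒᵖ ⥤ Type u) {c : Cᵒᵖ} (h : Emp U c) (φ : ((P U).obj X).obj c) :
    φ = ((η U).app X).app c (φ h) :=
  funext fun _ => rfl

lemma fromU_eq (X : Sheaf J (Type u)) :
    (isCl_L₀ U X).fromU = ⟨uP X.obj ≫ toSheafify J _⟩ :=
  (isCl_L₀ U X).hom_ext (𝟙 U) _ _

/-- two maps out of `L₀ X` agreeing on `U` and on `X` agree -/
lemma L₀_hom_ext {X T : Sheaf J (Type u)} (m₁ m₂ : (L₀ U).obj X ⟶ T)
    (h1 : (isCl_L₀ U X).fromU ≫ m₁ = (isCl_L₀ U X).fromU ≫ m₂)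
    (h2 : unitL U X ≫ m₁ = unitL U X ≫ m₂) : m₁ = m₂ := by
  ext1
  apply sheafify_hom_ext _ _ _ T.property
  ext c φ
  by_cases h : Emp U c
  · rw [P_eq_η X.obj h φ]
    have := congrArg (fun t : X ⟶ T => t.hom.app c (φ h)) h2
    exact this
  · obtain ⟨a⟩ := not_isEmpty_iff.1 (fun h' => h h')
    rw [P_eq_uP X.obj a φ]
    rw [fromU_eq] at h1
    have := congrArg (fun t : U ⟶ T => t.hom.app c a) h1
    exact this

open Classical in
/-- the presheaf-level descent map -/
noncomputable def descP (hU : SGA4.IsOpen U) {X T : Sheaf J (Type u)} (a' : U ⟶ T) (b' : X ⟶ T)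
    (w : (prod.fst : U ⨯ X ⟶ U) ≫ a' = prod.snd ≫ b') : (P U).obj X.obj ⟶ T.obj where
  app c := ↾fun (φ : Emp U c → X.obj.obj c) =>
    if h : Emp U c then b'.hom.app c (φ h) else a'.hom.app c (not_isEmpty_iff.1 (fun h' => h h')).some
  naturality := by
    intro c d f
    ext φ
    have key : ∀ (e : Cᵒᵖ) (a : U.obj.obj e) (x : X.obj.obj e), a'.hom.app e a = b'.hom.app e x := by
      intro e a x
      obtain ⟨w', hw1, hw2⟩ := exists_prod_elt U X e a x
      have := congrArg (fun t : U ⨯ X ⟶ T => t.hom.app e w') w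
      rw [← hw1, ← hw2]
      exact this
    have hsub := subsingleton_of_isOpen hU d
    show (if h : Emp U d then b'.hom.app d ((((P U).obj X.obj).map f φ) h)
        else a'.hom.app d (not_isEmpty_iff.1 (fun h' => h h')).some) =
      T.obj.map f (if h : Emp U c then b'.hom.app c (φ h)
        else a'.hom.app c (not_isEmpty_iff.1 (fun h' => h h')).some)
    by_cases hd : Emp U d
    · rw [dif_pos hd, dif_pos (hd.map f)]
      exact ConcreteCategory.congr_hom (b'.hom.naturality f) (φ (hd.map f))
    · rw [dif_neg hd]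
      by_cases hc : Emp U c
      · rw [dif_pos hc, key d _ (X.obj.map f (φ hc))]
        exact ConcreteCategory.congr_hom (b'.hom.naturality f) (φ hc)
      · rw [dif_neg hc]
        have := ConcreteCategory.congr_hom (a'.hom.naturality f)
          (not_isEmpty_iff.1 (fun h' => hc h')).some
        refine Eq.trans ?_ this
        exact congrArg (a'.hom.app d) (Subsingleton.elim _ _)

open Classical in
lemma descP_η (hU : SGA4.IsOpen U) {X T : Sheaf J (Type u)} (a' : U ⟶ T) (b' : X ⟶ T)
    (w : (prod.fst : U ⨯ X ⟶ U) ≫ a' = prod.snd ≫ b') :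
    (η U).app X.obj ≫ descP hU a' b' w = b'.hom := by
  ext c x
  show (if h : Emp U c then b'.hom.app c x
        else a'.hom.app c (not_isEmpty_iff.1 (fun h' => h h')).some) = b'.hom.app c x
  by_cases hc : Emp U c
  · rw [dif_pos hc]
  · rw [dif_neg hc]
    obtain ⟨w', hw1, hw2⟩ := exists_prod_elt U X c (not_isEmpty_iff.1 (fun h' => hc h')).some x
    have := congrArg (fun t : U ⨯ X ⟶ T => t.hom.app c w') w
    rw [← hw1, ← hw2]
    exact this

open Classical in
lemma descP_uP (hU : SGA4.IsOpen U) {X T : Sheaf J (Type u)} (a' : U ⟶ T) (b' : X ⟶ T)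
    (w : (prod.fst : U ⨯ X ⟶ U) ≫ a' = prod.snd ≫ b') :
    uP X.obj ≫ descP hU a' b' w = a'.hom := by
  ext c a
  have hc : ¬ Emp U c := fun h => h.false a
  have hsub := subsingleton_of_isOpen hU c
  show (if h : Emp U c then b'.hom.app c (((uP X.obj).app c a) h)
        else a'.hom.app c (not_isEmpty_iff.1 (fun h' => h h')).some) = a'.hom.app c a
  rw [dif_neg hc]
  exact congrArg (a'.hom.app c) (Subsingleton.elim _ _)

lemma isPushout_L₀ (hU : SGA4.IsOpen U) (X : Sheaf J (Type u)) :
    IsPushout (prod.fst : U ⨯ X ⟶ U) (prod.snd : U ⨯ X ⟶ X) (isCl_L₀ U X).fromU (unitL U X) := by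
  refine ⟨⟨(isCl_L₀ U X).hom_ext prod.fst _ _⟩, ⟨PushoutCocone.IsColimit.mk _
    (fun s => ⟨sheafifyLift J (descP hU s.inl s.inr s.condition) s.pt.property⟩) ?_ ?_ ?_⟩⟩
  · intro s
    rw [fromU_eq]
    ext1
    show (uP X.obj ≫ toSheafify J _) ≫ sheafifyLift J _ _ = s.inl.hom
    rw [Category.assoc, toSheafify_sheafifyLift, descP_uP]
  · intro s
    ext1
    show ((η U).app X.obj ≫ toSheafify J _) ≫ sheafifyLift J _ _ = s.inr.hom
    rw [Category.assoc, toSheafify_sheafifyLift, descP_η]
  · intro s m h1 h2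
    apply L₀_hom_ext
    · rw [h1, fromU_eq]
      ext1
      show _ = (uP X.obj ≫ toSheafify J _) ≫ sheafifyLift J _ _
      rw [Category.assoc, toSheafify_sheafifyLift, descP_uP]
    · rw [h2]
      ext1
      show _ = ((η U).app X.obj ≫ toSheafify J _) ≫ sheafifyLift J _ _
      rw [Category.assoc, toSheafify_sheafifyLift, descP_η]

end Pushout

end L

end Groth.Agent.Lib.Helper14.ClosedCompl
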