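import Groth.Agent.Lib.Helper14.CanonGlue
import Groth.Agent.Lib.Helper14.ClosedCompl
import Mathlib.CategoryTheory.Sites.Canonical
import Mathlib.CategoryTheory.Sites.Subsheaf

/-!
# The canonical topology of a sheaf topos: covering sieves are the locally surjective ones
-/

set_option autoImplicit false

namespace Groth.Agent.Lib.Helper14.CanonTopos

open CategoryTheory Limits Opposite
open Groth.Agent.Lib.Helper14.ClosedCompl (rep secEquiv secEquiv_comp)
open Groth.Agent.Lib.Helper14.CanonGlue

universe w u

variable {C : Type u} [SmallCategory C] (J : GrothendieckTopology C)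

/-- the functor of sheafified representables -/
noncomputable abbrev repF : C ⥤ Sheaf J (Type u) := yoneda ⋙ presheafToSheaf J (Type u)

/-- the morphism from a sheafified representable attached to a section -/
noncomputable def tilde {Y : Sheaf J (Type u)} {c : C} (y : Y.obj.obj (op c)) :
    (repF J).obj c ⟶ Y :=
  (secEquiv J Y c).symm y

variable {J}

@[simp]
lemma sec_tilde {Y : Sheaf J (Type u)} {c : C} (y : Y.obj.obj (op c)) :
    secEquiv J Y c (tilde J y) = y :=
  (secEquiv J Y c).apply_symm_apply y

@[simp]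
lemma tilde_sec {Y : Sheaf J (Type u)} {c : C} (h : (repF J).obj c ⟶ Y) :
    tilde J (secEquiv J Y c h) = h :=
  (secEquiv J Y c).symm_apply_apply h

lemma secEquiv_map {Y : Sheaf J (Type u)} {c d : C} (a : d ⟶ c) (k : (repF J).obj c ⟶ Y) :
    secEquiv J Y d ((repF J).map a ≫ k) = Y.obj.map a.op (secEquiv J Y c k) := by
  unfold secEquiv
  simp only [Equiv.trans_apply]
  have := Adjunction.homEquiv_naturality_left (sheafificationAdjunction J (Type u))
    (X' := yoneda.obj d) (X := yoneda.obj c) (Y := Y) (yoneda.map a) k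
  erw [this]
  exact (yonedaEquiv_naturality (C := C) _ a).symm

lemma tilde_map {Y : Sheaf J (Type u)} {c d : C} (a : d ⟶ c) (y : Y.obj.obj (op c)) :
    tilde J (Y.obj.map a.op y) = (repF J).map a ≫ tilde J y := by
  apply (secEquiv J Y d).injective
  rw [sec_tilde, secEquiv_map, sec_tilde]

lemma tilde_comp {Y Z : Sheaf J (Type u)} {c : C} (y : Y.obj.obj (op c)) (g : Y ⟶ Z) :
    tilde J y ≫ g = tilde J (g.hom.app (op c) y) := by
  apply (secEquiv J Z c).injective
  rw [sec_tilde, secEquiv_comp, sec_tilde]

lemma hom_ext_sections {Y Z : Sheaf J (Type u)} (f g : Y ⟶ Z)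
    (h : ∀ (c : C) (y : Y.obj.obj (op c)), f.hom.app (op c) y = g.hom.app (op c) y) : f = g := by
  apply Sheaf.hom_ext
  ext c y
  obtain ⟨c⟩ := c
  exact h c y

section Dense

variable {X : Sheaf J (Type u)} (S : Sieve X)

/-- the subpresheaf of sections of `X` which, as morphisms from representables, lie in `S` -/
def XS : Subfunctor X.obj where
  obj c := {x | S (tilde J (c := c.unop) x)}
  map := by
    intro c c' b x hx
    change S (tilde J (X.obj.map b x))
    have := tilde_map (J := J) b.unop x
    rw [show X.obj.map b x = X.obj.map b.unop.op x from rfl, this]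
    exact S.downward_closed hx _

variable (J) in
/-- `S` is dense: every section lies locally in `S` -/
def Dense : Prop := ∀ (c : Cᵒᵖ) (x : X.obj.obj c), (XS S).sieveOfSection x ∈ J c.unop

lemma dense_iff : Dense J S ↔ (XS S).sheafify J = ⊤ := by
  constructor
  · intro h
    rw [eq_top_iff]
    intro c x _
    exact h c x
  · intro h c x
    have : x ∈ ((XS S).sheafify J).obj c := by rw [h]; trivial
    exact this

lemma Dense.pullback (h : Dense J S) {Y : Sheaf J (Type u)} (f : Y ⟶ X) :
    Dense J (S.pullback f) := by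
  intro c y
  refine J.superset_covering ?_ (h c (f.hom.app c y))
  intro d a ha
  change S (tilde J _) at ha
  change S (tilde J _ ≫ f)
  rw [tilde_comp]
  have e : f.hom.app (op d) (Y.obj.map a.op y) = X.obj.map a.op (f.hom.app c y) :=
    nat_apply f.hom a.op y
  rw [e]
  exact ha

lemma Dense.isLocallySurjective (h : Dense J S) : Presheaf.IsLocallySurjective J (XS S).ι where
  imageSieve_mem {c} x := by
    refine J.superset_covering ?_ (h (op c) x)
    intro d a ha
    exact ⟨⟨X.obj.map a.op x, ha⟩, rfl⟩

lemma fam_congr {Z : Sheaf J (Type u)} (x : Presieve.FamilyOfElements (yoneda.obj Z) S.arrows)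
    {Y : Sheaf J (Type u)} {f f' : Y ⟶ X} (e : f = f') (hf : S f) (hf' : S f') :
    x f hf = x f' hf' := by
  subst e; rfl

lemma isSheafFor_yoneda_of_dense (h : Dense J S) (Z : Sheaf J (Type u)) :
    Presieve.IsSheafFor (yoneda.obj Z) S.arrows := by
  have hZ : Presieve.IsSheaf J Z.obj := (isSheaf_iff_isSheaf_of_type _ _).1 Z.property
  have := h.isLocallySurjective
  intro x hx
  have hx' := (Presieve.compatible_iff_sieveCompatible _).1 hx
  have hcomp : ∀ {Y Y' : Sheaf J (Type u)} (f : Y ⟶ X) (g : Y' ⟶ Y) (hf : S f),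
      x (g ≫ f) (S.downward_closed hf g) = g ≫ x f hf := fun f g hf => hx' f g hf
  -- the morphism on `XS`
  let ψ : (XS S).toFunctor ⟶ Z.obj :=
    { app := fun c => ↾(fun t => secEquiv J Z c.unop (x (tilde J t.1) t.2))
      naturality := by
        intro c c' b
        refine ConcreteCategory.hom_ext _ _ (fun t => ?_)
        change secEquiv J Z c'.unop (x (tilde J (X.obj.map b t.1)) _) =
          Z.obj.map b (secEquiv J Z c.unop (x (tilde J t.1) t.2))
        have e1 : tilde J (X.obj.map b t.1) = (repF J).map b.unop ≫ tilde J t.1 :=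
          tilde_map (J := J) b.unop t.1
        have e2 : x (tilde J (X.obj.map b t.1)) ((XS S).map b t.2) =
            (repF J).map b.unop ≫ x (tilde J t.1) t.2 :=
          (fam_congr S x e1 _ (S.downward_closed t.2 _)).trans (hcomp _ _ t.2)
        exact (congrArg (secEquiv J Z c'.unop) e2).trans (secEquiv_map b.unop _) }
  obtain ⟨φ', hφ'⟩ := exists_extension J (XS S).ι hZ ψ
  have hφ'' : ∀ (c : C) (t : X.obj.obj (op c)) (ht : S (tilde J t)),
      φ'.app (op c) t = secEquiv J Z c (x (tilde J t) ht) := fun c t ht =>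
    ConcreteCategory.congr_hom (NatTrans.congr_app hφ' (op c)) ⟨t, ht⟩
  refine ⟨ObjectProperty.homMk φ', ?_, ?_⟩
  · intro Y f hf
    change f ≫ ObjectProperty.homMk φ' = x f hf
    apply hom_ext_sections
    intro c y
    change φ'.app (op c) (f.hom.app (op c) y) = (x f hf).hom.app (op c) y
    have hy : S (tilde J (f.hom.app (op c) y)) := by
      rw [← tilde_comp]; exact S.downward_closed hf _
    have e2 : x (tilde J (f.hom.app (op c) y)) hy = tilde J y ≫ x f hf :=
      (fam_congr S x (tilde_comp y f).symm hy (S.downward_closed hf _)).trans (hcomp _ _ hf)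
    rw [hφ'' c _ hy]
    exact (congrArg (secEquiv J Z c) e2).trans
      ((secEquiv_comp J c _ _).trans (by rw [sec_tilde]))
  · intro φ₂ hφ₂
    apply Sheaf.hom_ext
    apply precomp_injective J (XS S).ι hZ.isSeparated
    ext c t
    obtain ⟨c⟩ := c
    obtain ⟨t, ht⟩ := t
    change φ₂.hom.app (op c) t = φ'.app (op c) t
    rw [hφ'' c t ht, ← hφ₂ (tilde J t) ht]
    change _ = secEquiv J Z c (tilde J t ≫ φ₂)
    rw [secEquiv_comp, sec_tilde]

theorem mem_canonical_of_dense (h : Dense J S) :
    S ∈ Sheaf.canonicalTopology (Sheaf J (Type u)) X := by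
  apply Sheaf.mem_finestTopology_of_forall_isSheafFor
  rintro P ⟨Z, rfl⟩ Y f
  exact isSheafFor_yoneda_of_dense _ (h.pullback S f) Z

/-- the closure of `XS S` as a sheaf -/
noncomputable def closure : Sheaf J (Type u) :=
  ⟨((XS S).sheafify J).toFunctor,
    (isSheaf_iff_isSheaf_of_type _ _).2
      (Subfunctor.sheafify_isSheaf _ ((isSheaf_iff_isSheaf_of_type _ _).1 X.property))⟩

/-- the inclusion of the closure -/
noncomputable def closureι : closure S ⟶ X := ObjectProperty.homMk ((XS S).sheafify J).ι

/-- arrows of `S` factor through the closure -/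
noncomputable def toClosure {Y : Sheaf J (Type u)} (f : Y ⟶ X) (hf : S f) : Y ⟶ closure S :=
  ObjectProperty.homMk
    { app := fun c => ↾(fun y => ⟨f.hom.app c y, (XS S).le_sheafify J c (by
        change S (tilde J _)
        rw [← tilde_comp]
        exact S.downward_closed hf _)⟩)
      naturality := by
        intro c c' b
        refine ConcreteCategory.hom_ext _ _ (fun y => ?_)
        apply Subtype.ext
        exact nat_apply f.hom b y }

lemma toClosure_ι {Y : Sheaf J (Type u)} (f : Y ⟶ X) (hf : S f) :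
    toClosure S f hf ≫ closureι S = f := by
  apply hom_ext_sections
  intro c y
  rfl

theorem dense_of_mem_canonical (h : S ∈ Sheaf.canonicalTopology (Sheaf J (Type u)) X) :
    Dense J S := by
  have h1 := Sheaf.isSheaf_yoneda_obj (closure S) S h
  have h2 := Sheaf.isSheaf_yoneda_obj X S h
  let x : Presieve.FamilyOfElements (yoneda.obj (closure S)) S.arrows :=
    fun Y f hf => toClosure S f hf
  have hx : x.Compatible := by
    rw [Presieve.compatible_iff_sieveCompatible]
    intro Y Y' f g hf
    change toClosure S (g ≫ f) _ = g ≫ toClosure S f hf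
    apply hom_ext_sections
    intro c y
    rfl
  obtain ⟨r, hr, -⟩ := h1 x hx
  have hrι : r ≫ closureι S = 𝟙 X := by
    apply h2.isSeparatedFor.ext
    intro Y f hf
    change f ≫ r ≫ closureι S = f ≫ 𝟙 X
    have : f ≫ r = toClosure S f hf := hr f hf
    rw [← Category.assoc, this, toClosure_ι, Category.comp_id]
  intro c t
  have e : (closureι S).hom.app c (r.hom.app c t) = t :=
    congrArg (fun (k : X ⟶ X) => k.hom.app c t) hrι
  have := (r.hom.app c t).2
  rw [← e]
  exact this

theorem mem_canonical_iff : S ∈ Sheaf.canonicalTopology (Sheaf J (Type u)) X ↔ Dense J S :=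
  ⟨dense_of_mem_canonical S, mem_canonical_of_dense S⟩

end Dense

section LocFull

lemma secEquiv_repF_map {d d' : C} (b : d' ⟶ d) :
    secEquiv J ((repF J).obj d) d' ((repF J).map b) =
      (toSheafify J (yoneda.obj d)).app (op d') b := by
  unfold secEquiv
  simp only [Equiv.trans_apply]
  have h1 : ((sheafificationAdjunction J (Type u)).homEquiv (yoneda.obj d') ((repF J).obj d))
      ((repF J).map b) = yoneda.map b ≫ toSheafify J (yoneda.obj d) := by
    rw [Adjunction.homEquiv_unit]
    exact ((sheafificationAdjunction J (Type u)).unit.naturality (yoneda.map b)).symm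
  erw [h1]
  rw [yonedaEquiv_comp, yonedaEquiv_yoneda_map]

lemma locallyFull {d d' : C} (g : (repF J).obj d' ⟶ (repF J).obj d) :
    ∃ R ∈ J d', ∀ ⦃d'' : C⦄ (a : d'' ⟶ d'), R a → ∃ b : d'' ⟶ d,
      (repF J).map a ≫ g = (repF J).map b := by
  refine ⟨_, Presheaf.imageSieve_mem J (toSheafify J (yoneda.obj d))
    (secEquiv J ((repF J).obj d) d' g), ?_⟩
  rintro d'' a ⟨b, hb⟩
  refine ⟨b, ?_⟩
  apply (secEquiv J _ d'').injective
  rw [secEquiv_map, secEquiv_repF_map]
  exact hb.symm

lemma locallyFaithful {d d' : C} (b b' : d' ⟶ d) (h : (repF J).map b = (repF J).map b') :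
    ∃ R ∈ J d', ∀ ⦃d'' : C⦄ (a : d'' ⟶ d'), R a → a ≫ b = a ≫ b' := by
  have h' : (toSheafify J (yoneda.obj d)).app (op d') b =
      (toSheafify J (yoneda.obj d)).app (op d') b' := by
    rw [← secEquiv_repF_map, ← secEquiv_repF_map, h]
  refine ⟨_, Presheaf.equalizerSieve_mem J (toSheafify J (yoneda.obj d)) b b' h', ?_⟩
  intro d'' a ha
  exact ha

end LocFull

section Colim

variable {P : Cᵒᵖ ⥤ Type u} {X : Sheaf J (Type u)} (ι : P ⟶ X.obj)

/-- the morphism from a representable attached to an element of `P` -/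
noncomputable def leg (k : P.Elements) : (repF J).obj k.1.unop ⟶ X :=
  tilde J (c := k.1.unop) (ι.app k.1 k.2)

lemma leg_map {k k' : P.Elements} (φ : k ⟶ k') :
    (repF J).map φ.1.unop ≫ leg ι k = leg ι k' := by
  unfold leg
  rw [← tilde_map]
  congr 1
  have := nat_apply ι φ.1 k.2
  rw [φ.2] at this
  exact this.symm

include ι in
lemma existsUnique_desc [Presheaf.IsLocallyInjective J ι] [Presheaf.IsLocallySurjective J ι]
    (Z : Sheaf J (Type u)) (κ : ∀ k : P.Elements, (repF J).obj k.1.unop ⟶ Z)
    (hκ : ∀ {k k' : P.Elements} (φ : k ⟶ k'), (repF J).map φ.1.unop ≫ κ k = κ k') :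
    ∃! φ : X ⟶ Z, ∀ k, leg ι k ≫ φ = κ k := by
  have hZ : Presieve.IsSheaf J Z.obj := (isSheaf_iff_isSheaf_of_type _ _).1 Z.property
  let ψ : P ⟶ Z.obj :=
    { app := fun c => ↾(fun p => secEquiv J Z c.unop (κ (P.elementsMk c p)))
      naturality := by
        intro c c' b
        refine ConcreteCategory.hom_ext _ _ (fun p => ?_)
        change secEquiv J Z c'.unop (κ (P.elementsMk c' (P.map b p))) =
          Z.obj.map b (secEquiv J Z c.unop (κ (P.elementsMk c p)))
        let φ : P.elementsMk c p ⟶ P.elementsMk c' (P.map b p) :=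
          CategoryOfElements.homMk _ _ b rfl
        rw [← hκ φ]
        exact secEquiv_map b.unop _ }
  obtain ⟨φ', hφ'⟩ := exists_extension J ι hZ ψ
  have hφ'' : ∀ (k : P.Elements), φ'.app k.1 (ι.app k.1 k.2) = secEquiv J Z k.1.unop (κ k) :=
    fun k => ConcreteCategory.congr_hom (NatTrans.congr_app hφ' k.1) k.2
  refine ⟨ObjectProperty.homMk φ', ?_, ?_⟩
  · intro k
    unfold leg
    rw [tilde_comp]
    change tilde J (φ'.app k.1 (ι.app k.1 k.2)) = _
    rw [hφ'' k, tilde_sec]
  · intro φ₂ hφ₂
    apply Sheaf.hom_ext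
    apply precomp_injective J ι hZ.isSeparated
    ext c p
    change φ₂.hom.app c (ι.app c p) = φ'.app c (ι.app c p)
    rw [hφ'' (P.elementsMk c p), ← hφ₂ (P.elementsMk c p)]
    unfold leg
    rw [tilde_comp, sec_tilde]

/-- the diagram of representables indexed by the elements of `P` -/
noncomputable abbrev diag (J : GrothendieckTopology C) (P : Cᵒᵖ ⥤ Type u) :
    P.Elements ⥤ (Sheaf J (Type u))ᵒᵖ :=
  CategoryOfElements.π P ⋙ (repF J).op

/-- the cone exhibiting `X` as a colimit of representables -/
noncomputable def cone : Cone (diag J P) where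
  pt := op X
  π :=
    { app := fun k => (leg ι k).op
      naturality := by
        intro k k' φ
        simp only [Functor.const_obj_obj, Functor.const_obj_map]
        rw [← leg_map ι φ]
        rfl }

/-- `X` is the colimit of the representables over the elements of `P` when `P ⟶ X` is
locally bijective -/
noncomputable def isLimitCone [Presheaf.IsLocallyInjective J ι]
    [Presheaf.IsLocallySurjective J ι] : IsLimit (cone ι) :=
  IsLimit.ofExistsUnique (fun t => by
    obtain ⟨φ, hφ, hu⟩ := existsUnique_desc ι t.pt.unop (fun k => (t.π.app k).unop) (by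
      intro k k' f
      have := t.w f
      exact congrArg Quiver.Hom.unop this)
    refine ⟨φ.op, fun k => ?_, fun m hm => ?_⟩
    · exact congrArg Quiver.Hom.op (hφ k)
    · have : m.unop = φ := hu m.unop (fun k => congrArg Quiver.Hom.unop (hm k))
      exact congrArg Quiver.Hom.op this)

end Colim

section Backward

variable (G : (Sheaf J (Type u))ᵒᵖ ⥤ Type w)

lemma fam_congr' {X : Sheaf J (Type u)} (S : Sieve X)
    (x : Presieve.FamilyOfElements G S.arrows)
    {Y : Sheaf J (Type u)} {f f' : Y ⟶ X} (e : f = f') (hf : S f) (hf' : S f') :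
    x f hf = x f' hf' := by
  subst e; rfl

lemma map_congr' {X Y : Sheaf J (Type u)} {f f' : Y ⟶ X} (e : f = f') (z : G.obj (op X)) :
    G.map f.op z = G.map f'.op z := by
  subst e; rfl

lemma map_comp' {X Y Y' : Sheaf J (Type u)} (g : Y' ⟶ Y) (f : Y ⟶ X) (z : G.obj (op X)) :
    G.map (g ≫ f).op z = G.map g.op (G.map f.op z) := by
  rw [op_comp, CategoryTheory.Functor.map_comp]
  rfl

lemma G_ext [PreservesLimitsOfSize.{u, u} G] (Y : Sheaf J (Type u)) (z z' : G.obj (op Y))
    (h : ∀ (c : C) (y : Y.obj.obj (op c)), G.map (tilde J y).op z = G.map (tilde J y).op z') :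
    z = z' := by
  have hlim := isLimitOfPreserves G (isLimitCone (J := J) (X := Y) (𝟙 Y.obj))
  apply (Types.isLimitEquivSections hlim).injective
  apply Subtype.ext
  funext k
  exact h k.1.unop k.2

theorem isSheaf_of_preservesLimits [PreservesLimitsOfSize.{u, u} G] :
    Presieve.IsSheaf (Sheaf.canonicalTopology (Sheaf J (Type u))) G := by
  intro X S hS
  have hd := dense_of_mem_canonical S hS
  have := hd.isLocallySurjective
  have hlimX := isLimitOfPreserves G (isLimitCone (J := J) (XS S).ι)
  have hX := (Types.isLimit_iff _).1 ⟨hlimX⟩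
  intro x hx
  have hx' := (Presieve.compatible_iff_sieveCompatible _).1 hx
  have hcomp : ∀ {Y Y' : Sheaf J (Type u)} (f : Y ⟶ X) (g : Y' ⟶ Y) (hf : S f),
      x (g ≫ f) (S.downward_closed hf g) = G.map g.op (x f hf) := fun f g hf => hx' f g hf
  have hleg : ∀ k : (XS S).toFunctor.Elements, S (leg (XS S).ι k) := fun k => k.2.2
  obtain ⟨z, hz, hzu⟩ := hX (fun k => x (leg (XS S).ι k) (hleg k)) (by
    intro k k' φ
    change G.map ((repF J).map φ.1.unop).op (x (leg (XS S).ι k) (hleg k)) = _
    rw [← hcomp]
    exact fam_congr' G S x (leg_map _ φ) _ _)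
  obtain ⟨z₀, hz₀⟩ : ∃ z₀ : G.obj (op X), z₀ = z := ⟨z, rfl⟩
  have hz' : ∀ k : (XS S).toFunctor.Elements,
      G.map (leg (XS S).ι k).op z₀ = x (leg (XS S).ι k) (hleg k) := by
    intro k; rw [hz₀]; exact hz k
  refine ⟨z₀, ?_, ?_⟩
  · intro Y f hf
    apply G_ext G Y
    intro c y
    have hfy : S (tilde J (f.hom.app (op c) y)) := by
      rw [← tilde_comp]; exact S.downward_closed hf _
    let k : (XS S).toFunctor.Elements :=
      (XS S).toFunctor.elementsMk (op c) ⟨f.hom.app (op c) y, hfy⟩
    have e : tilde J y ≫ f = leg (XS S).ι k := tilde_comp y f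
    calc G.map (tilde J y).op (G.map f.op z₀) = G.map (tilde J y ≫ f).op z₀ :=
          (map_comp' G _ _ z₀).symm
      _ = G.map (leg (XS S).ι k).op z₀ := map_congr' G e z₀
      _ = x (leg (XS S).ι k) (hleg k) := hz' k
      _ = x (tilde J y ≫ f) (S.downward_closed hf _) := fam_congr' G S x e.symm _ _
      _ = G.map (tilde J y).op (x f hf) := hcomp f _ hf
  · intro z' hz''
    rw [hz₀]
    exact hzu z' (fun k => hz'' _ (hleg k))

end Backward


end Groth.Agent.Lib.Helper14.CanonTopos
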