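import Groth.Agent.Lib.Helper14.CanonTopos
import Mathlib.CategoryTheory.Limits.Preserves.Ulift
import Mathlib.CategoryTheory.Limits.Preserves.FunctorCategory
import Mathlib.CategoryTheory.Sites.Limits

/-!
# Sheaves for the canonical topology of a sheaf topos turn colimits into limits
-/

set_option autoImplicit false

namespace Groth.Agent.Lib.Helper14.CanonTopos

open CategoryTheory Limits Opposite
open Groth.Agent.Lib.Helper14.ClosedCompl (rep secEquiv secEquiv_comp)
open Groth.Agent.Lib.Helper14.CanonGlue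

universe w u

variable {C : Type u} [SmallCategory C] {J : GrothendieckTopology C}

section Forward

variable (G : (Sheaf J (Type u))ᵒᵖ ⥤ Type w)
  (hG : Presieve.IsSheaf (Sheaf.canonicalTopology (Sheaf J (Type u))) G)

section AA

variable {P : Cᵒᵖ ⥤ Type u} {X : Sheaf J (Type u)} (ι : P ⟶ X.obj)

/-- the sieve generated by the legs -/
noncomputable def legSieve : Sieve X :=
  Sieve.generate (Presieve.ofArrows (fun k : P.Elements => (repF J).obj k.1.unop)
    (fun k => leg ι k))

lemma legSieve_dense [Presheaf.IsLocallySurjective J ι] : Dense J (legSieve ι) := by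
  intro c x
  refine J.superset_covering ?_ (Presheaf.imageSieve_mem J ι x)
  rintro d a ⟨p, hp⟩
  change (legSieve ι) (tilde J (X.obj.map a.op x))
  rw [← hp]
  exact Sieve.le_generate _ _ _ (Presieve.ofArrows.mk (P.elementsMk (op d) p))

include hG in
lemma G_sep [Presheaf.IsLocallySurjective J ι] (z z' : G.obj (op X))
    (h : ∀ k : P.Elements, G.map (leg ι k).op z = G.map (leg ι k).op z') : z = z' := by
  have hS := mem_canonical_of_dense _ (legSieve_dense ι)
  apply (hG _ hS).isSeparatedFor.ext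
  rintro Y f ⟨W, g, l, ⟨k⟩, rfl⟩
  rw [map_comp', map_comp', h k]

end AA

include hG in
lemma G_sep_sections {Y : Sheaf J (Type u)} (z z' : G.obj (op Y))
    (h : ∀ (c : C) (y : Y.obj.obj (op c)), G.map (tilde J y).op z = G.map (tilde J y).op z') :
    z = z' :=
  G_sep G hG (𝟙 Y.obj) z z' (fun k => h k.1.unop k.2)

lemma isLocallySurjective_functorInclusion {d : C} (R : Sieve d) (hR : R ∈ J d) :
    Presheaf.IsLocallySurjective J R.functorInclusion where
  imageSieve_mem {e} b := by
    refine J.superset_covering ?_ (J.pullback_stable b hR)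
    intro e' a ha
    exact ⟨⟨a ≫ b, ha⟩, rfl⟩

include hG in
lemma H_sep {d : C} (R : Sieve d) (hR : R ∈ J d) (z z' : G.obj (op ((repF J).obj d)))
    (h : ∀ ⦃e : C⦄ (a : e ⟶ d), R a → G.map ((repF J).map a).op z = G.map ((repF J).map a).op z') :
    z = z' := by
  have := isLocallySurjective_functorInclusion R hR
  let ι : R.functor ⟶ ((repF J).obj d).obj := R.functorInclusion ≫ toSheafify J (yoneda.obj d)
  have hleg : ∀ k : R.functor.Elements, leg ι k = (repF J).map k.2.1 := by
    intro k
    apply (secEquiv J _ _).injective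
    unfold leg
    rw [sec_tilde, secEquiv_repF_map]
    rfl
  apply G_sep G hG ι z z'
  intro k
  rw [map_congr' G (hleg k), map_congr' G (hleg k)]
  exact h k.2.1 k.2.2

section AA2

variable {P : Cᵒᵖ ⥤ Type u} {X : Sheaf J (Type u)} (ι : P ⟶ X.obj)

/-- restriction of an element -/
def res (k : P.Elements) {e : C} (b : e ⟶ k.1.unop) : P.Elements :=
  P.elementsMk (op e) (P.map b.op k.2)

/-- the restriction morphism in the category of elements -/
def resHom (k : P.Elements) {e : C} (b : e ⟶ k.1.unop) : k ⟶ res k b :=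
  CategoryOfElements.homMk _ _ b.op rfl

lemma leg_res (k : P.Elements) {e : C} (b : e ⟶ k.1.unop) :
    (repF J).map b ≫ leg ι k = leg ι (res k b) :=
  leg_map ι (resHom k b)

variable (t : ∀ k : P.Elements, G.obj (op ((repF J).obj k.1.unop)))
  (ht : ∀ {k k' : P.Elements} (φ : k ⟶ k'), G.map ((repF J).map φ.1.unop).op (t k) = t k')

include ht in
lemma t_res (k : P.Elements) {e : C} (b : e ⟶ k.1.unop) :
    G.map ((repF J).map b).op (t k) = t (res k b) :=
  ht (resHom k b)

include hG ht in
lemma claim [Presheaf.IsLocallyInjective J ι] {Z : Sheaf J (Type u)} (k₁ k₂ : P.Elements)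
    (g₁ : Z ⟶ (repF J).obj k₁.1.unop) (g₂ : Z ⟶ (repF J).obj k₂.1.unop)
    (h : g₁ ≫ leg ι k₁ = g₂ ≫ leg ι k₂) : G.map g₁.op (t k₁) = G.map g₂.op (t k₂) := by
  apply G_sep_sections G hG
  intro d y
  rw [← map_comp', ← map_comp']
  obtain ⟨R₁, hR₁, h₁⟩ := locallyFull (tilde J y ≫ g₁)
  obtain ⟨R₂, hR₂, h₂⟩ := locallyFull (tilde J y ≫ g₂)
  apply H_sep G hG (R₁ ⊓ R₂) (J.intersection_covering hR₁ hR₂)
  rintro e a ⟨ha₁, ha₂⟩
  obtain ⟨b₁, hb₁⟩ := h₁ a ha₁
  obtain ⟨b₂, hb₂⟩ := h₂ a ha₂
  rw [← map_comp', ← map_comp', map_congr' G hb₁, map_congr' G hb₂, t_res G t ht, t_res G t ht]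
  have hleg : leg ι (res k₁ b₁) = leg ι (res k₂ b₂) := by
    rw [← leg_res, ← leg_res, ← hb₁, ← hb₂, Category.assoc, Category.assoc, Category.assoc,
      Category.assoc, h]
  have hι : ι.app (op e) (P.map b₁.op k₁.2) = ι.app (op e) (P.map b₂.op k₂.2) := by
    have e1 : secEquiv J X e (leg ι (res k₁ b₁)) = ι.app (op e) (P.map b₁.op k₁.2) :=
      sec_tilde _
    have e2 : secEquiv J X e (leg ι (res k₂ b₂)) = ι.app (op e) (P.map b₂.op k₂.2) :=
      sec_tilde _
    rw [← e1, ← e2, hleg]
  apply H_sep G hG _ (Presheaf.equalizerSieve_mem J ι _ _ hι)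
  intro e' a' ha'
  change P.map a'.op (P.map b₁.op k₁.2) = P.map a'.op (P.map b₂.op k₂.2) at ha'
  have e3 := t_res G t ht (res k₁ b₁) (e := e') a'
  have e4 := t_res G t ht (res k₂ b₂) (e := e') a'
  let tt : P.obj (op e') → G.obj (op ((repF J).obj e')) := fun p => t (P.elementsMk (op e') p)
  have e5 : tt (P.map a'.op (P.map b₁.op k₁.2)) = tt (P.map a'.op (P.map b₂.op k₂.2)) :=
    congrArg tt ha'
  exact e3.trans (e5.trans e4.symm)

include hG ht in
theorem existsUnique_amalg [Presheaf.IsLocallyInjective J ι] [Presheaf.IsLocallySurjective J ι] :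
    ∃! z : G.obj (op X), ∀ k, G.map (leg ι k).op z = t k := by
  have hS := mem_canonical_of_dense _ (legSieve_dense ι)
  have h1 : Presieve.IsSheafFor G (Presieve.ofArrows (fun k : P.Elements => (repF J).obj k.1.unop)
      (fun k => leg ι k)) :=
    (Presieve.isSheafFor_iff_generate _).2 (hG _ hS)
  exact (Presieve.isSheafFor_arrows_iff _ _).1 h1 t
    (fun k₁ k₂ Z g₁ g₂ h => claim G hG ι t ht k₁ k₂ g₁ g₂ h)

end AA2

section Preserves

include hG in
theorem preservesLimit_of_isSheaf {𝒥 : Type u} [Category.{u} 𝒥]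
    (K : 𝒥 ⥤ (Sheaf J (Type u))ᵒᵖ) : PreservesLimit K G := by
  let D : 𝒥ᵒᵖ ⥤ Sheaf J (Type u) := K.leftOp
  let E : Cocone (D ⋙ sheafToPresheaf J (Type u)) := colimit.cocone _
  have hE : IsColimit E := colimit.isColimit _
  let X : Sheaf J (Type u) := (presheafToSheaf J (Type u)).obj E.pt
  let η : E.pt ⟶ X.obj := toSheafify J E.pt
  let c' : Cone K := coneOfCoconeLeftOp (Sheaf.sheafifyCocone E)
  have hc' : IsLimit c' := isLimitConeOfCoconeLeftOp K (Sheaf.isColimitSheafifyCocone E hE)
  apply preservesLimit_of_preserves_limit_cone hc'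
  apply Nonempty.some
  rw [Types.isLimit_iff]
  intro s hs
  let ιj : ∀ j : 𝒥, (K.obj j).unop ⟶ X := fun j => (Sheaf.sheafifyCocone E).ι.app (op j)
  have hιj : ∀ j, (ιj j).hom = E.ι.app (op j) ≫ η :=
    fun j => Sheaf.sheafifyCocone_ι_app_val E (op j)
  have hleg : ∀ (j : 𝒥) (c : C) (y : (K.obj j).unop.obj.obj (op c)),
      tilde J y ≫ ιj j = leg η (E.pt.elementsMk (op c) ((E.ι.app (op j)).app (op c) y)) := by
    intro j c y
    rw [tilde_comp]
    unfold leg
    congr 1
    exact ConcreteCategory.congr_hom (NatTrans.congr_app (hιj j) (op c)) y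
  have hEc : ∀ c : Cᵒᵖ, (((D ⋙ sheafToPresheaf J (Type u)) ⋙
      (evaluation Cᵒᵖ (Type u)).obj c).coconeTypesEquiv.symm
        (((evaluation Cᵒᵖ (Type u)).obj c).mapCocone E)).IsColimit := fun c =>
    (Types.isColimit_iff_coconeTypesIsColimit _).1 ⟨isColimitOfPreserves _ hE⟩
  have hs' : ∀ {j j' : 𝒥} (f : j ⟶ j'), G.map (K.map f) (s j) = s j' := fun f => hs f
  let c'' : ∀ c : Cᵒᵖ, Functor.CoconeTypes.{w} ((D ⋙ sheafToPresheaf J (Type u)) ⋙
      (evaluation Cᵒᵖ (Type u)).obj c) := fun c =>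
    { pt := G.obj (op ((repF J).obj c.unop))
      ι := fun jop y => G.map (tilde J (c := c.unop) y).op (s jop.unop)
      ι_naturality := by
        intro jop jop' f
        funext y
        change G.map (tilde J (c := c.unop) ((K.map f.unop).unop.hom.app c y)).op (s jop'.unop) =
          G.map (tilde J (c := c.unop) y).op (s jop.unop)
        rw [← tilde_comp, map_comp', ← hs' f.unop]
        rfl }
  let t : ∀ k : E.pt.Elements, G.obj (op ((repF J).obj k.1.unop)) :=
    fun k => (hEc k.1).desc (c'' k.1) k.2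
  have htfac : ∀ (j : 𝒥) (c : C) (y : (K.obj j).unop.obj.obj (op c)),
      t (E.pt.elementsMk (op c) ((E.ι.app (op j)).app (op c) y)) =
        G.map (tilde J y).op (s j) := fun j c y =>
    (hEc (op c)).fac_apply (c'' (op c)) (op j) y
  have ht0 : ∀ (c c' : Cᵒᵖ) (b : c ⟶ c') (p : E.pt.obj c),
      G.map ((repF J).map b.unop).op ((hEc c).desc (c'' c) p) =
        (hEc c').desc (c'' c') (E.pt.map b p) := by
    intro c c' b p
    have key : (fun p => G.map ((repF J).map b.unop).op ((hEc c).desc (c'' c) p)) =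
        (fun p => (hEc c').desc (c'' c') (E.pt.map b p)) := by
      apply (hEc c).funext
      intro jop
      funext y
      change G.map ((repF J).map b.unop).op ((hEc c).desc (c'' c) ((E.ι.app jop).app c y)) =
        (hEc c').desc (c'' c') (E.pt.map b ((E.ι.app jop).app c y))
      have e1 : E.pt.map b ((E.ι.app jop).app c y) =
          (E.ι.app jop).app c' ((D.obj jop).obj.map b y) :=
        (nat_apply (E.ι.app jop) b y).symm
      rw [e1]
      have e2 := (hEc c).fac_apply (c'' c) jop y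
      have e3 := (hEc c').fac_apply (c'' c') jop ((D.obj jop).obj.map b y)
      refine (congrArg (G.map ((repF J).map b.unop).op) e2).trans (Eq.trans ?_ e3.symm)
      change G.map ((repF J).map b.unop).op (G.map (tilde J (c := c.unop) y).op (s jop.unop)) =
        G.map (tilde J (c := c'.unop) ((D.obj jop).obj.map b y)).op (s jop.unop)
      rw [← map_comp']
      exact map_congr' G (tilde_map b.unop y).symm _
    exact congrFun key p
  have ht : ∀ {k k' : E.pt.Elements} (φ : k ⟶ k'),
      G.map ((repF J).map φ.1.unop).op (t k) = t k' := by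
    intro k k' φ
    exact (ht0 k.1 k'.1 φ.1 k.2).trans (congrArg ((hEc k'.1).desc (c'' k'.1)) φ.2)
  obtain ⟨z, hz, hzu⟩ := existsUnique_amalg G hG η t ht
  refine ⟨z, fun j => ?_, fun z' hz' => ?_⟩
  · change G.map (ιj j).op z = s j
    apply G_sep_sections G hG
    intro c y
    rw [← map_comp', map_congr' G (hleg j c y), hz, htfac]
  · obtain ⟨z₀, hz₀⟩ : ∃ z₀ : G.obj (op X), z₀ = z' := ⟨z', rfl⟩
    rw [← hz₀]
    apply hzu
    intro k
    obtain ⟨c, p⟩ := k
    obtain ⟨jop, y, rfl⟩ := (hEc c).ι_jointly_surjective p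
    obtain ⟨c⟩ := c
    obtain ⟨j⟩ := jop
    have hz'' : G.map (ιj j).op z₀ = s j := by rw [hz₀]; exact hz' j
    calc G.map (leg η (E.pt.elementsMk (op c) ((E.ι.app (op j)).app (op c) y))).op z₀
        = G.map (tilde J y ≫ ιj j).op z₀ := (map_congr' G (hleg j c y) z₀).symm
      _ = G.map (tilde J y).op (G.map (ιj j).op z₀) := map_comp' G _ _ z₀
      _ = G.map (tilde J y).op (s j) := by rw [hz'']
      _ = t (E.pt.elementsMk (op c) ((E.ι.app (op j)).app (op c) y)) := (htfac j c y).symm

end Preserves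

end Forward

/-- a presheaf of types (any universe) on a sheaf topos is a sheaf for the canonical topology iff
it turns small colimits into limits -/
theorem core_iff (J : GrothendieckTopology C) (G : (Sheaf J (Type u))ᵒᵖ ⥤ Type w) :
    Presieve.IsSheaf (Sheaf.canonicalTopology (Sheaf J (Type u))) G ↔
      PreservesLimitsOfSize.{u, u} G :=
  ⟨fun hG => ⟨fun {_} _ => ⟨fun {K} => preservesLimit_of_isSheaf G hG K⟩⟩,
    fun _ => isSheaf_of_preservesLimits G⟩

end Groth.Agent.Lib.Helper14.CanonTopos
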