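import Groth.Agent.Lib.Helper14.CechPsh3
import Groth.Prelude.Def_CechEdge
import Groth.Agent.Lib.Helper6.CohPresheafDelta
import Groth.Agent.S6773

universe u

set_option linter.unusedSectionVars false

open CategoryTheory Limits Opposite Simplicial

namespace Groth.Agent.Lib.Helper14.CechEdgeLib

open Groth.Agent.Lib.Helper14.CechPsh

variable {C : Type u} [SmallCategory C] [HasPullbacks C] (J : GrothendieckTopology C) {U : C}
  {ι : Type u} (Y : ι → Over U)

lemma π_toCech₀ (P : Cᵒᵖ ⥤ AddCommGrpCat.{u}) (s : P.obj (op U)) (x : Fin 1 → ι) :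
    Pi.π (fam P ((E Y).obj (op ⦋0⦌))) x (CechEdge.toCech₀ P Y s) = P.map (∏ᶜ (Y ∘ x)).hom.op s := by
  have h : CechEdge.toCech₀ P Y ≫ Pi.π (fam P ((E Y).obj (op ⦋0⦌))) x = P.map (∏ᶜ (Y ∘ x)).hom.op :=
    Pi.lift_π _ _
  exact ConcreteCategory.congr_hom h s

lemma toCech_apply (P : Cᵒᵖ ⥤ AddCommGrpCat.{u}) (s : P.obj (op U)) :
    CechEdge.toCech Y P s = (CechEdge.cx P Y).homologyπ 0 (CechEdge.toCycles P Y s) := rfl

lemma iCycles_toCycles (P : Cᵒᵖ ⥤ AddCommGrpCat.{u}) (s : P.obj (op U)) :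
    (CechEdge.cx P Y).iCycles 0 (CechEdge.toCycles P Y s) = CechEdge.toCech₀ P Y s :=
  ConcreteCategory.congr_hom (CechEdge.toCycles_i P Y) s

variable (hY : Sieve.ofArrows (fun i => (Y i).left) (fun i => (Y i).hom) ∈ J U)

include hY in
theorem toCech_bijective (P : Cᵒᵖ ⥤ AddCommGrpCat.{u}) (hP : Presheaf.IsSheaf J P) :
    Function.Bijective (CechEdge.toCech Y P) := by
  have hπ : Function.Bijective ((CechEdge.cx P Y).homologyπ 0) :=
    (ConcreteCategory.isIso_iff_bijective _).1 inferInstance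
  have hi : Function.Injective ((CechEdge.cx P Y).iCycles 0) :=
    (AddCommGrpCat.mono_iff_injective _).1 inferInstance
  constructor
  · rw [injective_iff_map_eq_zero]
    intro s hs
    rw [toCech_apply] at hs
    have h1 : CechEdge.toCycles P Y s = 0 := hπ.1 (hs.trans (map_zero _).symm)
    have h2 : CechEdge.toCech₀ P Y s = 0 := by
      rw [← iCycles_toCycles, h1, map_zero]
    apply eq_zero_of_restrict Y J P hP hY s
    intro x
    refine (π_toCech₀ Y P s x).symm.trans ?_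
    refine (congrArg (Pi.π (fam P ((E Y).obj (op ⦋0⦌))) x) h2).trans ?_
    exact map_zero (Pi.π (fam P ((E Y).obj (op ⦋0⦌))) x).hom
  · intro c
    obtain ⟨z, rfl⟩ := hπ.2 c
    have hd : (cech Y P).d 0 1 ((CechEdge.cx P Y).iCycles 0 z) = 0 :=
      ConcreteCategory.congr_hom ((CechEdge.cx P Y).iCycles_d 0 1) z
    obtain ⟨s, hs⟩ := exists_section_of_cocycle Y J P hP hY _ hd
    refine ⟨s, ?_⟩
    rw [toCech_apply]
    congr 1
    apply hi
    rw [iCycles_toCycles]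
    refine ev_ext P (𝒱 := (E Y).obj (op ⦋0⦌)) _ _ (fun x => ?_)
    exact (π_toCech₀ Y P s x).trans (hs x)


section Nat

/-- naturality of `toCech` -/
lemma cechHMap_toCech {P Q : Cᵒᵖ ⥤ AddCommGrpCat.{u}} (φ : P ⟶ Q) (s : P.obj (op U)) :
    CechEdge.cechHMap Y φ 0 (CechEdge.toCech Y P s) = CechEdge.toCech Y Q (φ.app (op U) s) := by
  have hi : Function.Injective ((CechEdge.cx Q Y).iCycles 0) :=
    (AddCommGrpCat.mono_iff_injective _).1 inferInstance
  have h1 : HomologicalComplex.homologyMap ((CechEdge.cxFunctor Y).map φ) 0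
      ((CechEdge.cx P Y).homologyπ 0 (CechEdge.toCycles P Y s)) =
      (CechEdge.cx Q Y).homologyπ 0
        (HomologicalComplex.cyclesMap ((CechEdge.cxFunctor Y).map φ) 0 (CechEdge.toCycles P Y s)) :=
    ConcreteCategory.congr_hom
      (HomologicalComplex.homologyπ_naturality ((CechEdge.cxFunctor Y).map φ) 0) _
  refine h1.trans ?_
  refine congrArg ((CechEdge.cx Q Y).homologyπ 0) ?_
  apply hi
  have h2 : (CechEdge.cx Q Y).iCycles 0
      (HomologicalComplex.cyclesMap ((CechEdge.cxFunctor Y).map φ) 0 (CechEdge.toCycles P Y s)) =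
      ((CechEdge.cxFunctor Y).map φ).f 0 ((CechEdge.cx P Y).iCycles 0 (CechEdge.toCycles P Y s)) :=
    ConcreteCategory.congr_hom
      (HomologicalComplex.cyclesMap_i ((CechEdge.cxFunctor Y).map φ) 0) _
  refine h2.trans ?_
  rw [iCycles_toCycles]
  refine Eq.trans ?_ (iCycles_toCycles Y Q (φ.app (op U) s)).symm
  refine ev_ext Q (𝒱 := (E Y).obj (op ⦋0⦌)) _ _ (fun x => ?_)
  refine Eq.trans ?_ (π_toCech₀ Y Q (φ.app (op U) s) x).symm
  have h3 : ((CechEdge.cxFunctor Y).map φ).f 0 ≫ Pi.π (fam Q ((E Y).obj (op ⦋0⦌))) x =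
      Pi.π (fam P ((E Y).obj (op ⦋0⦌))) x ≫ φ.app (op (∏ᶜ (Y ∘ x)).left) :=
    (congrArg (fun z => z ≫ Pi.π (fam Q ((E Y).obj (op ⦋0⦌))) x) (cxF_map_f Y φ 0)).trans
      (Limits.Pi.map_π (fun i : Fin 1 → ι => φ.app (op (∏ᶜ (Y ∘ i)).left)) x)
  refine (ConcreteCategory.congr_hom h3 (CechEdge.toCech₀ P Y s)).trans ?_
  change φ.app _ (Pi.π (fam P ((E Y).obj (op ⦋0⦌))) x (CechEdge.toCech₀ P Y s)) = _
  refine (congrArg (φ.app (op (∏ᶜ (Y ∘ x)).left)) (π_toCech₀ Y P s x)).trans ?_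
  exact NatTrans.naturality_apply φ (∏ᶜ (Y ∘ x)).hom.op s

variable {J}

/-- naturality of `sectH0` -/
lemma HUmap_sectH0 {F G : Sheaf J AddCommGrpCat.{u}} (ψ : F ⟶ G) (s : F.obj.obj (op U)) :
    CechEdge.HUmap ψ 0 U (CechEdge.sectH0 J U F s) =
      CechEdge.sectH0 J U G (ψ.hom.app (op U) s) := by
  have h1 : CechEdge.sectH0 J U F s = Abelian.Ext.mk₀ (CohFree.ofSect J U F s) := by
    change (Abelian.Ext.addEquiv₀).symm ((CohFree.homEquivSect J U F).symm s) = _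
    rw [Abelian.Ext.addEquiv₀_symm_apply]
    rfl
  have h2 : CechEdge.sectH0 J U G (ψ.hom.app (op U) s) =
      Abelian.Ext.mk₀ (CohFree.ofSect J U G (ψ.hom.app (op U) s)) := by
    change (Abelian.Ext.addEquiv₀).symm ((CohFree.homEquivSect J U G).symm _) = _
    rw [Abelian.Ext.addEquiv₀_symm_apply]
    rfl
  rw [h1, h2]
  change (Abelian.Ext.mk₀ (CohFree.ofSect J U F s)).comp (Abelian.Ext.mk₀ ψ) (add_zero 0) = _
  rw [Abelian.Ext.mk₀_comp_mk₀]
  congr 1
  apply (CohFree.homEquivSect J U G).injective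
  rw [CohFree.homEquivSect_apply, CohFree.homEquivSect_apply, CohFree.evalGen_ofSect]
  change ψ.hom.app (op U) (CohFree.evalGen J U F (CohFree.ofSect J U F s)) = _
  rw [CohFree.evalGen_ofSect]

end Nat


section Precomp

variable {𝒜 : Type*} [Category 𝒜] [Abelian 𝒜] {𝒜' : Type*} [Category 𝒜'] [Abelian 𝒜']
  {ℬ : Type*} [Category ℬ] [Abelian ℬ]

/-- precomposition of a delta-functor with an exact functor -/
def precomp (G : 𝒜 ⥤ 𝒜') [G.Additive] [PreservesFiniteLimits G] [PreservesFiniteColimits G]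
    (T : DeltaF.CohDeltaFunctor 𝒜' ℬ ℕ) : DeltaF.CohDeltaFunctor 𝒜 ℬ ℕ where
  F n := G ⋙ T.F n
  additive n := inferInstance
  δ S hS n₀ n₁ h := T.δ (S.map G) (hS.map_of_exact G) n₀ n₁ h
  δ_natural {S S'} hS hS' φ n₀ n₁ h :=
    T.δ_natural (hS.map_of_exact G) (hS'.map_of_exact G) (G.mapShortComplex.map φ) n₀ n₁ h
  exact₂ S hS n := T.exact₂ (S.map G) (hS.map_of_exact G) n
  comp_δ S hS n₀ n₁ h := T.comp_δ (S.map G) (hS.map_of_exact G) n₀ n₁ h
  exact₃ S hS n₀ n₁ h := T.exact₃ (S.map G) (hS.map_of_exact G) n₀ n₁ h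
  δ_comp S hS n₀ n₁ h := T.δ_comp (S.map G) (hS.map_of_exact G) n₀ n₁ h
  exact₁ S hS n₀ n₁ h := T.exact₁ (S.map G) (hS.map_of_exact G) n₀ n₁ h

end Precomp

section Target

open Groth.Agent.Lib.Helper6

/-- `F ↦ H^p(U, F)` as a delta-functor on abelian sheaves -/
noncomputable def Tsh (U : C) : DeltaF.CohDeltaFunctor (Sheaf J AddCommGrpCat.{u}) AddCommGrpCat.{u} ℕ :=
  CohPresheafDelta.deltaFunctor J ((evaluation Cᵒᵖ AddCommGrpCat.{u}).obj (op U))

/-- `P ↦ H^p(U, P^#)` as a delta-functor on abelian presheaves -/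
noncomputable def Tt (U : C) : DeltaF.CohDeltaFunctor (Cᵒᵖ ⥤ AddCommGrpCat.{u}) AddCommGrpCat.{u} ℕ :=
  precomp (presheafToSheaf J AddCommGrpCat.{u}) (Tsh J U)

lemma Tt_F_obj (U : C) (p : ℕ) (P : Cᵒᵖ ⥤ AddCommGrpCat.{u}) :
    ((Tt J U).F p).obj P = AddCommGrpCat.of (CohSite.HU (CechEdge.shf J P) p U) := rfl

lemma Tt_F_map (U : C) (p : ℕ) {P Q : Cᵒᵖ ⥤ AddCommGrpCat.{u}} (φ : P ⟶ Q) :
    ((Tt J U).F p).map φ = AddCommGrpCat.ofHom (CechEdge.HUmap (CechEdge.shfMap J φ) p U) := rfl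

lemma Tt_δ (U : C) (S : ShortComplex (Cᵒᵖ ⥤ AddCommGrpCat.{u})) (hS : S.ShortExact) (p : ℕ) :
    (Tt J U).δ S hS p (p + 1) rfl =
      AddCommGrpCat.ofHom (CechEdge.extδ (hS.map_of_exact (presheafToSheaf J AddCommGrpCat.{u})) U p) :=
  rfl

end Target


section Edge

variable (hY : Sieve.ofArrows (fun i => (Y i).left) (fun i => (Y i).hom) ∈ J U)

/-- sections over `U` of a sheaf are its Čech `H⁰` for a covering family -/
noncomputable def toCechEquiv (F : Sheaf J AddCommGrpCat.{u}) :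
    F.obj.obj (op U) ≃+ CohCx.cechH F.obj Y 0 :=
  AddEquiv.ofBijective (CechEdge.toCech Y F.obj) (toCech_bijective J Y hY F.obj F.property)

lemma toCechEquiv_apply (F : Sheaf J AddCommGrpCat.{u}) (s : F.obj.obj (op U)) :
    toCechEquiv J Y hY F s = CechEdge.toCech Y F.obj s := rfl

lemma toCechEquiv_symm_toCech (F : Sheaf J AddCommGrpCat.{u}) (s : F.obj.obj (op U)) :
    (toCechEquiv J Y hY F).symm (CechEdge.toCech Y F.obj s) = s :=
  (toCechEquiv J Y hY F).symm_apply_apply s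

/-- the degree-zero edge map -/
noncomputable def t0fun (P : Cᵒᵖ ⥤ AddCommGrpCat.{u}) :
    CohCx.cechH P Y 0 →+ CohSite.HU (CechEdge.shf J P) 0 U :=
  ((CechEdge.sectH0 J U (CechEdge.shf J P)).toAddMonoidHom.comp
    (toCechEquiv J Y hY (CechEdge.shf J P)).symm.toAddMonoidHom).comp
      (CechEdge.cechHMap Y (toSheafify J P) 0)

lemma t0fun_apply (P : Cᵒᵖ ⥤ AddCommGrpCat.{u}) (c : CohCx.cechH P Y 0) :
    t0fun J Y hY P c = CechEdge.sectH0 J U (CechEdge.shf J P)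
      ((toCechEquiv J Y hY (CechEdge.shf J P)).symm (CechEdge.cechHMap Y (toSheafify J P) 0 c)) := rfl

lemma t0fun_toCech (P : Cᵒᵖ ⥤ AddCommGrpCat.{u}) (s : P.obj (op U)) :
    t0fun J Y hY P (CechEdge.toCech Y P s) =
      CechEdge.sectH0 J U (CechEdge.shf J P) (((toSheafify J P).app (op U)).hom s) := by
  rw [t0fun_apply, cechHMap_toCech]
  exact congrArg _ (toCechEquiv_symm_toCech J Y hY (CechEdge.shf J P) _)

lemma cechHMap_comp {P Q R : Cᵒᵖ ⥤ AddCommGrpCat.{u}} (φ : P ⟶ Q) (ψ : Q ⟶ R) (p : ℕ)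
    (c : CohCx.cechH P Y p) :
    CechEdge.cechHMap Y (φ ≫ ψ) p c = CechEdge.cechHMap Y ψ p (CechEdge.cechHMap Y φ p c) := by
  change (HomologicalComplex.homologyMap ((CechEdge.cxFunctor Y).map (φ ≫ ψ)) p) c = _
  rw [Functor.map_comp, HomologicalComplex.homologyMap_comp]
  rfl

lemma t0fun_natural {P Q : Cᵒᵖ ⥤ AddCommGrpCat.{u}} (φ : P ⟶ Q) (c : CohCx.cechH P Y 0) :
    t0fun J Y hY Q (CechEdge.cechHMap Y φ 0 c) =
      CechEdge.HUmap (CechEdge.shfMap J φ) 0 U (t0fun J Y hY P c) := by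
  rw [t0fun_apply, t0fun_apply, HUmap_sectH0]
  congr 1
  apply (toCechEquiv J Y hY (CechEdge.shf J Q)).injective
  rw [AddEquiv.apply_symm_apply, toCechEquiv_apply]
  have hnat : toSheafify J P ≫ (CechEdge.shfMap J φ).hom = φ ≫ toSheafify J Q :=
    ((sheafificationAdjunction J AddCommGrpCat.{u}).unit.naturality φ).symm
  rw [← cechHMap_comp, ← hnat, cechHMap_comp]
  obtain ⟨s, hs⟩ := (toCechEquiv J Y hY (CechEdge.shf J P)).surjective
    (CechEdge.cechHMap Y (toSheafify J P) 0 c)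
  rw [← hs, AddEquiv.symm_apply_apply, toCechEquiv_apply, cechHMap_toCech]

instance enoughInjectives_psh (D : Type u) [SmallCategory D] :
    EnoughInjectives (Dᵒᵖ ⥤ AddCommGrpCat.{u}) := by
  have : IsGrothendieckAbelian.{u} (Dᵒᵖ ⥤ AddCommGrpCat.{u}) :=
    IsGrothendieckAbelian.of_equivalence (sheafBotEquivalence (C := D) AddCommGrpCat.{u})
  infer_instance

lemma Tc_isUniversal : (Tc Y).IsUniversal :=
  Groth.Agent.S6773.result (Tc Y) (Tc_isEffaceable Y)

/-- the degree-zero natural transformation -/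
noncomputable def t0 : (Tc Y).F 0 ⟶ (Tt J U).F 0 where
  app P := AddCommGrpCat.ofHom (t0fun J Y hY P)
  naturality P Q φ := by
    ext c
    exact t0fun_natural J Y hY φ c

/-- the morphism of delta-functors extending `t0` -/
noncomputable def τ : Tc Y ⟶ Tt J U := (Tc_isUniversal Y (Tt J U) (t0 J Y hY)).exists.choose

lemma τ_zero : (τ J Y hY).app 0 = t0 J Y hY := (Tc_isUniversal Y (Tt J U) (t0 J Y hY)).exists.choose_spec

/-- the edge family -/
noncomputable def edge (P : Cᵒᵖ ⥤ AddCommGrpCat.{u}) (p : ℕ) :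
    CohCx.cechH P Y p →+ CohSite.HU (CechEdge.shf J P) p U :=
  (((τ J Y hY).app p).app P).hom

theorem isEdge_edge : CechEdge.IsEdge J Y (edge J Y hY) where
  cover := hY
  zero P s := by
    have h : ((τ J Y hY).app 0).app P = (t0 J Y hY).app P := by rw [τ_zero]
    change (((τ J Y hY).app 0).app P).hom (CechEdge.toCech Y P s) = _
    rw [h]
    exact t0fun_toCech J Y hY P s
  natural P Q φ p x := by
    have h := ((τ J Y hY).app p).naturality φ
    exact ConcreteCategory.congr_hom h x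
  delta S hS hC p x := by
    have h := (τ J Y hY).comm S hS p (p + 1) rfl
    exact ConcreteCategory.congr_hom h x

end Edge

end Groth.Agent.Lib.Helper14.CechEdgeLib
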