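import Groth.Agent.Lib.Helper14.CechEdge1

universe u

set_option linter.unusedSectionVars false

open CategoryTheory Limits Opposite Simplicial

namespace Groth.Agent.Lib.Helper14.CechEdgeLib

open Groth.Agent.Lib.Helper14.CechPsh

variable {C : Type u} [SmallCategory C] [HasPullbacks C] (J : GrothendieckTopology C) {U : C}
  {ι : Type u} (Y : ι → Over U)

section HUmap

lemma HUmap_id (F : Sheaf J AddCommGrpCat.{u}) (p : ℕ) (x : CohSite.HU F p U) :
    CechEdge.HUmap (𝟙 F) p U x = x := by
  change ((((Sheaf.cohomologyPresheafFunctor J p).map (𝟙 F)).app (op U))) x = x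
  rw [CategoryTheory.Functor.map_id]
  rfl

lemma HUmap_comp {F G H : Sheaf J AddCommGrpCat.{u}} (a : F ⟶ G) (b : G ⟶ H) (p : ℕ)
    (x : CohSite.HU F p U) :
    CechEdge.HUmap (a ≫ b) p U x = CechEdge.HUmap b p U (CechEdge.HUmap a p U x) := by
  change ((((Sheaf.cohomologyPresheafFunctor J p).map (a ≫ b)).app (op U))) x = _
  rw [CategoryTheory.Functor.map_comp]
  rfl

lemma HUmap_injective_of_isIso {F G : Sheaf J AddCommGrpCat.{u}} (a : F ⟶ G) [IsIso a] (p : ℕ) :
    Function.Injective (CechEdge.HUmap a p U) := by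
  intro x y hxy
  have := congrArg (CechEdge.HUmap (inv a) p U) hxy
  rw [← HUmap_comp, ← HUmap_comp, IsIso.hom_inv_id, HUmap_id, HUmap_id] at this
  exact this

lemma HUmap_bijective_of_isIso {F G : Sheaf J AddCommGrpCat.{u}} (a : F ⟶ G) [IsIso a] (p : ℕ) :
    Function.Bijective (CechEdge.HUmap a p U) := by
  refine ⟨HUmap_injective_of_isIso J a p, fun y => ⟨CechEdge.HUmap (inv a) p U y, ?_⟩⟩
  rw [← HUmap_comp, IsIso.inv_hom_id, HUmap_id]

instance isIso_shfMap_toSheafify (P : Cᵒᵖ ⥤ AddCommGrpCat.{u}) :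
    IsIso (CechEdge.shfMap J (toSheafify J P)) := by
  have h := (sheafificationAdjunction J AddCommGrpCat.{u}).left_triangle_components P
  have : IsIso ((sheafificationAdjunction J AddCommGrpCat.{u}).counit.app
    ((presheafToSheaf J AddCommGrpCat.{u}).obj P)) := inferInstance
  exact IsIso.of_isIso_fac_right h

end HUmap

section Unique

variable {J Y}
variable {e : ∀ (P : Cᵒᵖ ⥤ AddCommGrpCat.{u}) (p : ℕ),
  CohCx.cechH P Y p →+ CohSite.HU (CechEdge.shf J P) p U}

/-- the morphism of delta-functors attached to an edge family -/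
noncomputable def ofEdge (he : CechEdge.IsEdge J Y e) : Tc Y ⟶ Tt J U where
  app p :=
    { app := fun P => AddCommGrpCat.ofHom (e P p)
      naturality := fun P Q φ => by
        ext x
        exact he.natural P Q φ p x }
  comm S hS n₀ n₁ h := by
    subst h
    ext x
    exact he.delta S hS (shortExact_cxF Y S hS) n₀ x

lemma ofEdge_app (he : CechEdge.IsEdge J Y e) (p : ℕ) (P : Cᵒᵖ ⥤ AddCommGrpCat.{u}) :
    ((ofEdge he).app p).app P = AddCommGrpCat.ofHom (e P p) := rfl

/-- an edge family is determined in degree zero -/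
lemma edge_zero_eq (he : CechEdge.IsEdge J Y e) (P : Cᵒᵖ ⥤ AddCommGrpCat.{u})
    (c : CohCx.cechH P Y 0) : e P 0 c = t0fun J Y he.cover P c := by
  apply HUmap_injective_of_isIso J (CechEdge.shfMap J (toSheafify J P)) 0
  rw [← he.natural, ← t0fun_natural]
  obtain ⟨s, hs⟩ := (toCechEquiv J Y he.cover (CechEdge.shf J P)).surjective
    (CechEdge.cechHMap Y (toSheafify J P) 0 c)
  rw [← hs, toCechEquiv_apply, he.zero, t0fun_toCech]

lemma ofEdge_zero (he : CechEdge.IsEdge J Y e) : (ofEdge he).app 0 = t0 J Y he.cover := by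
  ext P c
  exact edge_zero_eq he P c

lemma ofEdge_eq (he : CechEdge.IsEdge J Y e) : ofEdge he = τ J Y he.cover :=
  (Tc_isUniversal Y (Tt J U) (t0 J Y he.cover)).unique (ofEdge_zero he) (τ_zero J Y he.cover)

/-- every edge family is the canonical one -/
theorem isEdge_eq_edge (he : CechEdge.IsEdge J Y e) : e = edge J Y he.cover := by
  funext P p
  have h := congrArg (fun t : Tc Y ⟶ Tt J U => ((t.app p).app P).hom) (ofEdge_eq he)
  exact h

theorem isEdge_unique {e' : ∀ (P : Cᵒᵖ ⥤ AddCommGrpCat.{u}) (p : ℕ),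
    CohCx.cechH P Y p →+ CohSite.HU (CechEdge.shf J P) p U}
    (he : CechEdge.IsEdge J Y e) (he' : CechEdge.IsEdge J Y e') : e = e' :=
  (isEdge_eq_edge he).trans (isEdge_eq_edge he').symm

end Unique

end Groth.Agent.Lib.Helper14.CechEdgeLib
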