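import Groth.Agent.Lib.Helper14.CechEdge2

universe u

set_option linter.unusedSectionVars false
set_option linter.unusedVariables false

open CategoryTheory Limits Opposite Simplicial

namespace Groth.Agent.Lib.Helper14.CechEdgeLib

open Groth.Agent.Lib.Helper14.CechPsh

variable {C : Type u} [SmallCategory C] [HasPullbacks C] (J : GrothendieckTopology C) {U : C}
  {ι : Type u} (Y : ι → Over U)

section Refine
variable {κ : Type u} (Y' : κ → Over U) (f : FormalCoproduct.mk ι Y ⟶ FormalCoproduct.mk κ Y')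

/-- the cosimplicial refinement map -/
noncomputable abbrev refCos (P : Cᵒᵖ ⥤ AddCommGrpCat.{u}) :
    (FormalCoproduct.cosimplicialObjectFunctor (FormalCoproduct.mk κ Y').cech).obj ((Over.forget U).op ⋙ P) ⟶
    (FormalCoproduct.cosimplicialObjectFunctor (FormalCoproduct.mk ι Y).cech).obj ((Over.forget U).op ⋙ P) :=
  ((Functor.whiskeringLeft _ _ _).map (NatTrans.rightOp (FormalCoproduct.cechFunctor.map f))).app
      ((FormalCoproduct.evalOp.{u} (Over U) AddCommGrpCat.{u}).obj ((Over.forget U).op ⋙ P))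

lemma refCos_natural {P Q : Cᵒᵖ ⥤ AddCommGrpCat.{u}} (φ : P ⟶ Q) :
    (FormalCoproduct.cosimplicialObjectFunctor (FormalCoproduct.mk κ Y').cech).map
      (((Functor.whiskeringLeft (Over U)ᵒᵖ Cᵒᵖ AddCommGrpCat.{u}).obj (Over.forget U).op).map φ) ≫
      refCos Y Y' f Q =
    refCos Y Y' f P ≫
      (FormalCoproduct.cosimplicialObjectFunctor (FormalCoproduct.mk ι Y).cech).map
      (((Functor.whiskeringLeft (Over U)ᵒᵖ Cᵒᵖ AddCommGrpCat.{u}).obj (Over.forget U).op).map φ) := by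
  apply NatTrans.ext
  funext n
  exact (((FormalCoproduct.evalOp.{u} (Over U) AddCommGrpCat.{u}).map
      (((Functor.whiskeringLeft (Over U)ᵒᵖ Cᵒᵖ AddCommGrpCat.{u}).obj (Over.forget U).op).map φ)).naturality _).symm

/-- the refinement map of Čech complexes, typed on `CechEdge.cx` -/
noncomputable def refC (P : Cᵒᵖ ⥤ AddCommGrpCat.{u}) : CechEdge.cx P Y' ⟶ CechEdge.cx P Y :=
  CohCx.cechRefine P f

lemma refC_natural {P Q : Cᵒᵖ ⥤ AddCommGrpCat.{u}} (φ : P ⟶ Q) :
    (CechEdge.cxFunctor Y').map φ ≫ refC Y Y' f Q = refC Y Y' f P ≫ (CechEdge.cxFunctor Y).map φ :=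
  ((AlgebraicTopology.alternatingCofaceMapComplex AddCommGrpCat.{u}).map_comp _ _).symm.trans
      ((congrArg (AlgebraicTopology.alternatingCofaceMapComplex AddCommGrpCat.{u}).map
        (refCos_natural Y Y' f φ)).trans
        ((AlgebraicTopology.alternatingCofaceMapComplex AddCommGrpCat.{u}).map_comp _ _))

noncomputable def refineNat : CechEdge.cxFunctor Y' ⟶ CechEdge.cxFunctor Y where
  app P := refC Y Y' f P
  naturality P Q φ := refC_natural Y Y' f φ

lemma refC_f_π (P : Cᵒᵖ ⥤ AddCommGrpCat.{u}) (n : ℕ) (i : Fin (n + 1) → ι) :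
    (refC Y Y' f P).f n ≫ Pi.π (fam P ((E Y).obj (op ⦋n⦌))) i =
      Pi.π (fam P ((E Y').obj (op ⦋n⦌))) (f.f ∘ i) ≫
        P.map (Limits.Pi.map (fun a => f.φ (i a))).left.op :=
  Pi.lift_π _ _

/-- the refinement map on Čech cohomology -/
noncomputable def refH (P : Cᵒᵖ ⥤ AddCommGrpCat.{u}) (p : ℕ) :
    CohCx.cechH P Y' p →+ CohCx.cechH P Y p :=
  (HomologicalComplex.homologyMap (refC Y Y' f P) p).hom

lemma refH_eq (P : Cᵒᵖ ⥤ AddCommGrpCat.{u}) (p : ℕ) :
    refH Y Y' f P p = (HomologicalComplex.homologyMap (CohCx.cechRefine P f) p).hom := rfl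

lemma refH_natural {P Q : Cᵒᵖ ⥤ AddCommGrpCat.{u}} (φ : P ⟶ Q) (p : ℕ) (x : CohCx.cechH P Y' p) :
    CechEdge.cechHMap Y φ p (refH Y Y' f P p x) = refH Y Y' f Q p (CechEdge.cechHMap Y' φ p x) := by
  have h := refC_natural Y Y' f φ
  have h2 := congrArg (fun t => HomologicalComplex.homologyMap t p) h
  simp only [HomologicalComplex.homologyMap_comp] at h2
  exact (ConcreteCategory.congr_hom h2 x).symm

lemma π_toCech₀' (P : Cᵒᵖ ⥤ AddCommGrpCat.{u}) (x : Fin 1 → ι) :
    CechEdge.toCech₀ P Y ≫ Pi.π (fam P ((E Y).obj (op ⦋0⦌))) x = P.map (∏ᶜ (Y ∘ x)).hom.op :=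
  Pi.lift_π _ _

lemma toCech₀_refC (P : Cᵒᵖ ⥤ AddCommGrpCat.{u}) :
    CechEdge.toCech₀ P Y' ≫ (refC Y Y' f P).f 0 = CechEdge.toCech₀ P Y := by
  refine Limits.Pi.hom_ext (f := fam P ((E Y).obj (op ⦋0⦌))) _ _ (fun i => ?_)
  refine (Category.assoc _ _ _).trans ?_
  refine (congrArg (fun t => CechEdge.toCech₀ P Y' ≫ t) (refC_f_π Y Y' f P 0 i)).trans ?_
  refine (Category.assoc _ _ _).symm.trans ?_
  refine (congrArg (fun t => t ≫ P.map (Limits.Pi.map (fun a => f.φ (i a))).left.op)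
    (π_toCech₀' Y' P (f.f ∘ i))).trans ?_
  refine Eq.trans ?_ (π_toCech₀' Y P i).symm
  refine (P.map_comp _ _).symm.trans ?_
  congr 1
  exact congrArg Quiver.Hom.op (Over.w (Limits.Pi.map (fun a => f.φ (i a))))

lemma refH_toCech (P : Cᵒᵖ ⥤ AddCommGrpCat.{u}) (s : P.obj (op U)) :
    refH Y Y' f P 0 (CechEdge.toCech Y' P s) = CechEdge.toCech Y P s := by
  have h1 : CechEdge.toCycles P Y' ≫ HomologicalComplex.cyclesMap (refC Y Y' f P) 0 =
      CechEdge.toCycles P Y := by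
    rw [← cancel_mono ((CechEdge.cx P Y).iCycles 0), Category.assoc,
      HomologicalComplex.cyclesMap_i, CechEdge.toCycles_i, ← Category.assoc, CechEdge.toCycles_i]
    exact toCech₀_refC Y Y' f P
  have h2 : (CechEdge.toCycles P Y' ≫ (CechEdge.cx P Y').homologyπ 0) ≫
      HomologicalComplex.homologyMap (refC Y Y' f P) 0 =
      CechEdge.toCycles P Y ≫ (CechEdge.cx P Y).homologyπ 0 := by
    rw [Category.assoc, HomologicalComplex.homologyπ_naturality, ← Category.assoc, h1]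
  exact ConcreteCategory.congr_hom h2 s

lemma refH_δ (S : ShortComplex (Cᵒᵖ ⥤ AddCommGrpCat.{u}))
    (hC' : (S.map (CechEdge.cxFunctor Y')).ShortExact) (hC : (S.map (CechEdge.cxFunctor Y)).ShortExact)
    (p : ℕ) (x : CohCx.cechH S.X₃ Y' p) :
    refH Y Y' f S.X₁ (p + 1) ((hC'.δ p (p + 1) rfl).hom x) =
      (hC.δ p (p + 1) rfl).hom (refH Y Y' f S.X₃ p x) := by
  have h := HomologicalComplex.HomologySequence.δ_naturality (S.mapNatTrans (refineNat Y Y' f))
    hC' hC p (p + 1) rfl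
  exact (ConcreteCategory.congr_hom h x)


variable {J}

theorem isEdge_refine {e : ∀ (P : Cᵒᵖ ⥤ AddCommGrpCat.{u}) (p : ℕ),
      CohCx.cechH P Y p →+ CohSite.HU (CechEdge.shf J P) p U} (he : CechEdge.IsEdge J Y e)
    (hY' : Sieve.ofArrows (fun i => (Y' i).left) (fun i => (Y' i).hom) ∈ J U) :
    CechEdge.IsEdge J Y' (fun P p => (e P p).comp (refH Y Y' f P p)) where
  cover := hY'
  zero P s := by
    change e P 0 (refH Y Y' f P 0 (CechEdge.toCech Y' P s)) = _
    rw [refH_toCech]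
    exact he.zero P s
  natural P Q φ p x := by
    change e Q p (refH Y Y' f Q p (CechEdge.cechHMap Y' φ p x)) =
      CechEdge.HUmap _ p U (e P p (refH Y Y' f P p x))
    rw [← refH_natural]
    exact he.natural P Q φ p _
  delta S hS hC p x := by
    refine Eq.trans (congrArg (e S.X₁ (p + 1))
      (refH_δ Y Y' f S hC (shortExact_cxF Y S hS) p x)) ?_
    exact he.delta S hS (shortExact_cxF Y S hS) p _

theorem edgeSh_refine {e : ∀ (P : Cᵒᵖ ⥤ AddCommGrpCat.{u}) (p : ℕ),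
      CohCx.cechH P Y p →+ CohSite.HU (CechEdge.shf J P) p U}
    {e' : ∀ (P : Cᵒᵖ ⥤ AddCommGrpCat.{u}) (p : ℕ),
      CohCx.cechH P Y' p →+ CohSite.HU (CechEdge.shf J P) p U}
    (he : CechEdge.IsEdge J Y e) (he' : CechEdge.IsEdge J Y' e')
    (F : Sheaf J AddCommGrpCat.{u}) (p : ℕ) (x : CohCx.cechH F.obj Y' p) :
    CechEdge.edgeSh e F p ((HomologicalComplex.homologyMap (CohCx.cechRefine F.obj f) p).hom x) =
      CechEdge.edgeSh e' F p x := by
  have h := isEdge_unique (isEdge_refine Y Y' f he he'.cover) he'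
  have h2 := congrFun (congrFun h F.obj) p
  change CechEdge.HUmap _ p U (e F.obj p (refH Y Y' f F.obj p x)) =
    CechEdge.HUmap _ p U (e' F.obj p x)
  congr 1
  exact DFunLike.congr_fun h2 x

end Refine

end Groth.Agent.Lib.Helper14.CechEdgeLib
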