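import Groth.Agent.Lib.Helper14.CechEdge2

universe u

set_option linter.unusedSectionVars false
set_option linter.unusedVariables false

open CategoryTheory Limits Opposite Simplicial

namespace Groth.Agent.Lib.Helper14.CechEdgeLib

open Groth.Agent.Lib.Helper14.CechPsh

variable {C : Type u} [SmallCategory C] [HasPullbacks C] (J : GrothendieckTopology C) {U : C}
  {ι : Type u} (Y : ι → Over U)

section Exactness

variable (T : ShortComplex (Cᵒᵖ ⥤ AddCommGrpCat.{u})) (hT : T.ShortExact)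
include hT

lemma Tt_exact₂ (V : C) (n : ℕ) (y : CohSite.HU (CechEdge.shf J T.X₂) n V)
    (hy : CechEdge.HUmap (CechEdge.shfMap J T.g) n V y = 0) :
    ∃ x, CechEdge.HUmap (CechEdge.shfMap J T.f) n V x = y :=
  (ShortComplex.ab_exact_iff _).1 ((Tt J V).exact₂ T hT n) y hy

lemma Tt_exact₃ (V : C) (n : ℕ) (y : CohSite.HU (CechEdge.shf J T.X₃) n V)
    (hy : CechEdge.extδ (hT.map_of_exact (presheafToSheaf J AddCommGrpCat.{u})) V n y = 0) :
    ∃ x, CechEdge.HUmap (CechEdge.shfMap J T.g) n V x = y :=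
  (ShortComplex.ab_exact_iff _).1 ((Tt J V).exact₃ T hT n (n + 1) rfl) y hy

lemma Tt_exact₁ (V : C) (n : ℕ) (y : CohSite.HU (CechEdge.shf J T.X₁) (n + 1) V)
    (hy : CechEdge.HUmap (CechEdge.shfMap J T.f) (n + 1) V y = 0) :
    ∃ x, CechEdge.extδ (hT.map_of_exact (presheafToSheaf J AddCommGrpCat.{u})) V n x = y :=
  (ShortComplex.ab_exact_iff _).1 ((Tt J V).exact₁ T hT n (n + 1) rfl) y hy

lemma Tc_exact₁ (n : ℕ) (y : CohCx.cechH T.X₁ Y (n + 1))
    (hy : CechEdge.cechHMap Y T.f (n + 1) y = 0) :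
    ∃ x, ((shortExact_cxF Y T hT).δ n (n + 1) rfl).hom x = y :=
  (ShortComplex.ab_exact_iff _).1 ((Tc Y).exact₁ T hT n (n + 1) rfl) y hy

lemma Tc_comp_δ (n : ℕ) (x : CohCx.cechH T.X₂ Y n) :
    ((shortExact_cxF Y T hT).δ n (n + 1) rfl).hom (CechEdge.cechHMap Y T.g n x) = 0 :=
  ConcreteCategory.congr_hom ((Tc Y).comp_δ T hT n (n + 1) rfl) x

end Exactness

section Sections

variable {J}

lemma shfMap_toSheafify_app {P Q : Cᵒᵖ ⥤ AddCommGrpCat.{u}} (φ : P ⟶ Q) (V : C)
    (s : P.obj (op V)) :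
    (CechEdge.shfMap J φ).hom.app (op V) ((toSheafify J P).app (op V) s) =
      (toSheafify J Q).app (op V) (φ.app (op V) s) := by
  have hnat : toSheafify J P ≫ (CechEdge.shfMap J φ).hom = φ ≫ toSheafify J Q :=
    ((sheafificationAdjunction J AddCommGrpCat.{u}).unit.naturality φ).symm
  exact ConcreteCategory.congr_hom (NatTrans.congr_app hnat (op V)) s

lemma toSheafify_app_bijective (G : Cᵒᵖ ⥤ AddCommGrpCat.{u}) (hG : Presheaf.IsSheaf J G) (V : C) :
    Function.Bijective ((toSheafify J G).app (op V)) := by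
  have : IsIso (toSheafify J G) := isIso_toSheafify J hG
  exact (ConcreteCategory.isIso_iff_bijective _).1 inferInstance

variable (J) in
/-- sections of a presheaf to degree-zero cohomology of its sheafification -/
noncomputable def secH (P : Cᵒᵖ ⥤ AddCommGrpCat.{u}) (V : C) :
    P.obj (op V) →+ CohSite.HU (CechEdge.shf J P) 0 V :=
  (CechEdge.sectH0 J V (CechEdge.shf J P)).toAddMonoidHom.comp ((toSheafify J P).app (op V)).hom

lemma secH_apply (P : Cᵒᵖ ⥤ AddCommGrpCat.{u}) (V : C) (s : P.obj (op V)) :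
    secH J P V s = CechEdge.sectH0 J V (CechEdge.shf J P) (((toSheafify J P).app (op V)).hom s) := rfl

lemma HUmap_secH {P Q : Cᵒᵖ ⥤ AddCommGrpCat.{u}} (φ : P ⟶ Q) (V : C) (s : P.obj (op V)) :
    CechEdge.HUmap (CechEdge.shfMap J φ) 0 V (secH J P V s) = secH J Q V (φ.app (op V) s) := by
  rw [secH_apply, HUmap_sectH0, secH_apply]
  exact congrArg _ (shfMap_toSheafify_app φ V s)

lemma secH_bijective (G : Cᵒᵖ ⥤ AddCommGrpCat.{u}) (hG : Presheaf.IsSheaf J G) (V : C) :
    Function.Bijective (secH J G V) :=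
  (CechEdge.sectH0 J V _).bijective.comp (toSheafify_app_bijective G hG V)

end Sections

section CechH

lemma cechHMap_id (P : Cᵒᵖ ⥤ AddCommGrpCat.{u}) (p : ℕ) (c : CohCx.cechH P Y p) :
    CechEdge.cechHMap Y (𝟙 P) p c = c := by
  change (HomologicalComplex.homologyMap ((CechEdge.cxFunctor Y).map (𝟙 P)) p) c = _
  rw [CategoryTheory.Functor.map_id, HomologicalComplex.homologyMap_id]
  rfl

lemma cechHMap_bijective_of_isIso {P Q : Cᵒᵖ ⥤ AddCommGrpCat.{u}} (φ : P ⟶ Q) [IsIso φ] (p : ℕ) :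
    Function.Bijective (CechEdge.cechHMap Y φ p) := by
  refine ⟨fun x y hxy => ?_, fun y => ⟨CechEdge.cechHMap Y (inv φ) p y, ?_⟩⟩
  · have := congrArg (CechEdge.cechHMap Y (inv φ) p) hxy
    rw [← cechHMap_comp, ← cechHMap_comp, IsIso.hom_inv_id, cechHMap_id, cechHMap_id] at this
    exact this
  · rw [← cechHMap_comp, IsIso.inv_hom_id, cechHMap_id]

lemma cechHMap_zero_injective_of_mono {P Q : Cᵒᵖ ⥤ AddCommGrpCat.{u}} (φ : P ⟶ Q) [Mono φ] :
    Function.Injective (CechEdge.cechHMap Y φ 0) := by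
  have : Mono ((HF Y 0).map φ) := inferInstance
  exact (AddCommGrpCat.mono_iff_injective _).1 this

end CechH

section EdgeZero

variable {J Y}
variable {e : ∀ (P : Cᵒᵖ ⥤ AddCommGrpCat.{u}) (p : ℕ),
  CohCx.cechH P Y p →+ CohSite.HU (CechEdge.shf J P) p U}

lemma edge_zero_bijective_of_isSheaf (he : CechEdge.IsEdge J Y e) (G : Cᵒᵖ ⥤ AddCommGrpCat.{u})
    (hG : Presheaf.IsSheaf J G) : Function.Bijective (e G 0) := by
  have hcomp : (e G 0) ∘ (CechEdge.toCech Y G) = secH J G U := funext (fun s => he.zero G s)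
  refine (Function.Bijective.of_comp_iff (e G 0) (toCech_bijective J Y he.cover G hG)).1 ?_
  rw [hcomp]
  exact secH_bijective G hG U

lemma edge_zero_injective_of_mono (he : CechEdge.IsEdge J Y e) (P : Cᵒᵖ ⥤ AddCommGrpCat.{u})
    [Mono (toSheafify J P)] : Function.Injective (e P 0) := by
  have h1 : Function.Injective
      ((e (CechEdge.shf J P).obj 0) ∘ (CechEdge.cechHMap Y (toSheafify J P) 0)) :=
    (edge_zero_bijective_of_isSheaf he _ (CechEdge.shf J P).property).1.comp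
      (cechHMap_zero_injective_of_mono Y (toSheafify J P))
  have h2 : (e (CechEdge.shf J P).obj 0) ∘ (CechEdge.cechHMap Y (toSheafify J P) 0) =
      (CechEdge.HUmap (CechEdge.shfMap J (toSheafify J P)) 0 U) ∘ (e P 0) :=
    funext (fun x => he.natural _ _ (toSheafify J P) 0 x)
  rw [h2] at h1
  exact Function.Injective.of_comp h1

end EdgeZero

section Chase

variable {J Y}
variable {e : ∀ (P : Cᵒᵖ ⥤ AddCommGrpCat.{u}) (p : ℕ),
  CohCx.cechH P Y p →+ CohSite.HU (CechEdge.shf J P) p U}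

/-- dimension shifting, injectivity part -/
lemma edge_succ_injective (he : CechEdge.IsEdge J Y e)
    (T : ShortComplex (Cᵒᵖ ⥤ AddCommGrpCat.{u})) (hT : T.ShortExact) (p : ℕ)
    (h0 : ∀ y : CohCx.cechH T.X₂ Y (p + 1), y = 0)
    (ha : Function.Surjective (e T.X₂ p)) (hb : Function.Injective (e T.X₃ p)) :
    Function.Injective (e T.X₁ (p + 1)) := by
  rw [injective_iff_map_eq_zero]
  intro x hx
  obtain ⟨w, rfl⟩ := Tc_exact₁ Y T hT p x (h0 _)
  have h1 := he.delta T hT (shortExact_cxF Y T hT) p w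
  rw [hx] at h1
  obtain ⟨t, ht⟩ := Tt_exact₃ J T hT U p _ h1.symm
  obtain ⟨s, rfl⟩ := ha t
  rw [← he.natural] at ht
  rw [← hb ht]
  exact Tc_comp_δ Y T hT p s

/-- dimension shifting, surjectivity part -/
lemma edge_succ_surjective (he : CechEdge.IsEdge J Y e)
    (T : ShortComplex (Cᵒᵖ ⥤ AddCommGrpCat.{u})) (hT : T.ShortExact) (p : ℕ)
    (h0 : ∀ y : CohSite.HU (CechEdge.shf J T.X₂) (p + 1) U, y = 0)
    (hb : Function.Surjective (e T.X₃ p)) :
    Function.Surjective (e T.X₁ (p + 1)) := by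
  intro y
  obtain ⟨z, rfl⟩ := Tt_exact₁ J T hT U p y (h0 _)
  obtain ⟨w, rfl⟩ := hb z
  exact ⟨_, he.delta T hT (shortExact_cxF Y T hT) p w⟩

end Chase

end Groth.Agent.Lib.Helper14.CechEdgeLib
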