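import Groth.Agent.Lib.Helper14.CechEdge4

universe u

set_option linter.unusedSectionVars false
set_option linter.unusedVariables false

open CategoryTheory Limits Opposite Simplicial

namespace Groth.Agent.Lib.Helper14.CechEdgeLib

open Groth.Agent.Lib.Helper14.CechPsh

variable {C : Type u} [SmallCategory C] [HasPullbacks C] (J : GrothendieckTopology C) {U : C}
  {ι : Type u} (Y : ι → Over U)

section Setup

variable (F : Sheaf J AddCommGrpCat.{u})

/-- an injective abelian sheaf containing `F` -/
noncomputable abbrev Ish : Sheaf J AddCommGrpCat.{u} := Injective.under F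

/-- the inclusion of `F` into an injective sheaf -/
noncomputable abbrev incl : F ⟶ Ish J F := Injective.ι F

instance : Mono (incl J F).hom :=
  inferInstanceAs (Mono ((sheafToPresheaf J AddCommGrpCat.{u}).map (incl J F)))

instance : Injective (Ish J F).obj :=
  Injective.injective_of_adjoint (sheafificationAdjunction J AddCommGrpCat.{u}) (Ish J F)

/-- the presheaf short exact sequence `0 → F → I → I/F → 0` -/
noncomputable def sesP : ShortComplex (Cᵒᵖ ⥤ AddCommGrpCat.{u}) :=
  ShortComplex.mk (incl J F).hom (cokernel.π (incl J F).hom) (cokernel.condition _)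

lemma sesP_shortExact : (sesP J F).ShortExact :=
  ShortComplex.ShortExact.mk' (ShortComplex.exact_cokernel _)
    (inferInstanceAs (Mono (incl J F).hom)) (inferInstanceAs (Epi (cokernel.π (incl J F).hom)))

lemma sesP_X₁ : (sesP J F).X₁ = F.obj := rfl
lemma sesP_X₂ : (sesP J F).X₂ = (Ish J F).obj := rfl

/-- the presheaf quotient `I/F` -/
noncomputable abbrev Qp : Cᵒᵖ ⥤ AddCommGrpCat.{u} := (sesP J F).X₃

lemma cech_injective_zero (p : ℕ) (y : CohCx.cechH (Ish J F).obj Y (p + 1)) : y = 0 :=
  (AddCommGrpCat.isZero_iff_subsingleton.1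
    (isZero_cech_homology_of_injective Y (Ish J F).obj p)).elim _ _

lemma HU_injective_zero (V : C) (q : ℕ)
    (y : CohSite.HU (CechEdge.shf J (Ish J F).obj) (q + 1) V) : y = 0 := by
  have : Injective (CechEdge.shf J (Ish J F).obj) :=
    Injective.of_iso (asIso ((sheafificationAdjunction J AddCommGrpCat.{u}).counit.app (Ish J F))).symm
      (show Injective (Ish J F) from inferInstance)
  exact Abelian.Ext.eq_zero_of_injective y

/-- the presheaf quotient of an injective sheaf by a subsheaf is separated -/
lemma toSheafify_Qp_injective (W : C) :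
    Function.Injective ((toSheafify J (Qp J F)).app (op W)) := by
  rw [injective_iff_map_eq_zero]
  intro x hx
  have hepi : Epi ((sesP J F).g.app (op W)) := by
    have : Epi (sesP J F).g := (sesP_shortExact J F).epi_g
    infer_instance
  obtain ⟨s, rfl⟩ := (AddCommGrpCat.epi_iff_surjective _).1 hepi x
  have h1 : CechEdge.HUmap (CechEdge.shfMap J (sesP J F).g) 0 W (secH J (sesP J F).X₂ W s) = 0 := by
    rw [HUmap_secH, secH_apply]
    refine (congrArg _ hx).trans (map_zero _)
  obtain ⟨z, hz⟩ := Tt_exact₂ J (sesP J F) (sesP_shortExact J F) W 0 _ h1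
  obtain ⟨w, rfl⟩ := (secH_bijective (sesP J F).X₁ F.property W).2 z
  have h2 := (HUmap_secH (J := J) (sesP J F).f W w).symm.trans hz
  have h3 : (sesP J F).f.app (op W) w = s :=
    (secH_bijective (sesP J F).X₂ (Ish J F).property W).1 h2
  rw [← h3]
  exact ConcreteCategory.congr_hom (NatTrans.congr_app (sesP J F).zero (op W)) w

instance mono_toSheafify_Qp : Mono (toSheafify J (Qp J F)) := by
  rw [NatTrans.mono_iff_mono_app]
  intro V
  rw [AddCommGrpCat.mono_iff_injective]
  exact toSheafify_Qp_injective J F V.unop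

end Setup

section Main

variable {J Y}
variable {e : ∀ (P : Cᵒᵖ ⥤ AddCommGrpCat.{u}) (p : ℕ),
  CohCx.cechH P Y p →+ CohSite.HU (CechEdge.shf J P) p U}

lemma edgeSh_eq (F : Sheaf J AddCommGrpCat.{u}) (p : ℕ) :
    ⇑(CechEdge.edgeSh e F p) =
      (CechEdge.HUmap ((sheafificationAdjunction J AddCommGrpCat.{u}).counit.app F) p U) ∘
        (e F.obj p) := rfl

lemma edgeSh_bijective_iff (F : Sheaf J AddCommGrpCat.{u}) (p : ℕ) :
    Function.Bijective (CechEdge.edgeSh e F p) ↔ Function.Bijective (e F.obj p) := by
  rw [edgeSh_eq]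
  exact Function.Bijective.of_comp_iff' (HUmap_bijective_of_isIso J _ p) _

lemma edgeSh_injective_iff (F : Sheaf J AddCommGrpCat.{u}) (p : ℕ) :
    Function.Injective (CechEdge.edgeSh e F p) ↔ Function.Injective (e F.obj p) := by
  rw [edgeSh_eq]
  exact Function.Injective.of_comp_iff (HUmap_injective_of_isIso J _ p) _

theorem edgeSh_one_injective (he : CechEdge.IsEdge J Y e) (F : Sheaf J AddCommGrpCat.{u}) :
    Function.Injective (CechEdge.edgeSh e F 1) := by
  rw [edgeSh_injective_iff]
  exact edge_succ_injective he (sesP J F) (sesP_shortExact J F) 0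
    (cech_injective_zero J Y F 0)
    (edge_zero_bijective_of_isSheaf he _ (Ish J F).property).2
    (edge_zero_injective_of_mono he (Qp J F))

end Main

end Groth.Agent.Lib.Helper14.CechEdgeLib
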