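import Groth.Agent.Lib.Helper14.CechEdge5

universe u

set_option linter.unusedSectionVars false
set_option linter.unusedVariables false

open CategoryTheory Limits Opposite Simplicial

namespace Groth.Agent.Lib.Helper14.CechEdgeLib

open Groth.Agent.Lib.Helper14.CechPsh

variable {C : Type u} [SmallCategory C] [HasPullbacks C] (J : GrothendieckTopology C) {U : C}
  {ι : Type u} (Y : ι → Over U)

section Acyclic

variable (F : Sheaf J AddCommGrpCat.{u})

lemma subsingleton_HU_shf (W : C) (n : ℕ) (hF : Subsingleton (CohSite.HU F n W)) :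
    Subsingleton (CohSite.HU (CechEdge.shf J F.obj) n W) :=
  @Function.Injective.subsingleton _ _ _ (HUmap_injective_of_isIso J
    ((sheafificationAdjunction J AddCommGrpCat.{u}).counit.app F) n) hF

lemma toSheafify_Qp_surjective (W : C) (hF : Subsingleton (CohSite.HU F 1 W)) :
    Function.Surjective ((toSheafify J (Qp J F)).app (op W)) := by
  intro x
  have : Subsingleton (CohSite.HU (CechEdge.shf J (sesP J F).X₁) (0 + 1) W) :=
    subsingleton_HU_shf J F W 1 hF
  obtain ⟨t, ht⟩ := Tt_exact₃ J (sesP J F) (sesP_shortExact J F) W 0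
    (CechEdge.sectH0 J W (CechEdge.shf J (Qp J F)) x) (@Subsingleton.elim _ this _ _)
  obtain ⟨s, rfl⟩ := (secH_bijective (sesP J F).X₂ (Ish J F).property W).2 t
  rw [HUmap_secH, secH_apply] at ht
  exact ⟨_, (CechEdge.sectH0 J W (CechEdge.shf J (Qp J F))).injective ht⟩

lemma HU_shf_Qp_zero (W : C) (q : ℕ) (hF : Subsingleton (CohSite.HU F (q + 2) W))
    (y : CohSite.HU (CechEdge.shf J (Qp J F)) (q + 1) W) : y = 0 := by
  have : Subsingleton (CohSite.HU (CechEdge.shf J (sesP J F).X₁) (q + 1 + 1) W) :=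
    subsingleton_HU_shf J F W (q + 2) hF
  obtain ⟨t, ht⟩ := Tt_exact₃ J (sesP J F) (sesP_shortExact J F) W (q + 1) y
    (@Subsingleton.elim _ this _ _)
  rw [← ht]
  exact (congrArg _ (HU_injective_zero J F W q t)).trans (map_zero _)

end Acyclic

section CechIso

lemma cechHMap_bijective_of_app {P Q : Cᵒᵖ ⥤ AddCommGrpCat.{u}} (φ : P ⟶ Q)
    (hφ : ∀ (n : ℕ) (a : Fin (n + 1) → ι), IsIso (φ.app (op (∏ᶜ (Y ∘ a)).left))) (p : ℕ) :
    Function.Bijective (CechEdge.cechHMap Y φ p) := by
  have h1 : ∀ n, IsIso (((cxF Y).map φ).f n) := by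
    intro n
    rw [cxF_map_f]
    have : ∀ i : Fin (n + 1) → ι, IsIso (φ.app (op (∏ᶜ (Y ∘ i)).left)) := hφ n
    exact Limits.Pi.map_isIso _
  have h2 : IsIso ((cxF Y).map φ) := HomologicalComplex.Hom.isIso_of_components _
  have h3 : IsIso (HomologicalComplex.homologyMap ((cxF Y).map φ) p) := inferInstance
  exact (ConcreteCategory.isIso_iff_bijective _).1 h3

end CechIso

section Main

variable {J Y}
variable {e : ∀ (P : Cᵒᵖ ⥤ AddCommGrpCat.{u}) (p : ℕ),
  CohCx.cechH P Y p →+ CohSite.HU (CechEdge.shf J P) p U}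

theorem edge_bijective_of_acyclic (he : CechEdge.IsEdge J Y e) :
    ∀ (p : ℕ) (F : Sheaf J AddCommGrpCat.{u})
      (h : ∀ (n : ℕ) (a : Fin (n + 1) → ι) (q : ℕ),
        Subsingleton (CohSite.HU F (q + 1) (∏ᶜ fun k => Y (a k)).left)),
      Function.Bijective (e F.obj p)
  | 0, F, h => edge_zero_bijective_of_isSheaf he F.obj F.property
  | p + 1, F, h => by
    have hQ : ∀ (n : ℕ) (a : Fin (n + 1) → ι) (q : ℕ),
        Subsingleton (CohSite.HU (CechEdge.shf J (Qp J F)) (q + 1) (∏ᶜ fun k => Y (a k)).left) :=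
      fun n a q => ⟨fun y y' => (HU_shf_Qp_zero J F _ q (h n a (q + 1)) y).trans
        (HU_shf_Qp_zero J F _ q (h n a (q + 1)) y').symm⟩
    have IH := edge_bijective_of_acyclic he p (CechEdge.shf J (Qp J F)) hQ
    have hη : ∀ (n : ℕ) (a : Fin (n + 1) → ι),
        IsIso ((toSheafify J (Qp J F)).app (op (∏ᶜ (Y ∘ a)).left)) := by
      intro n a
      rw [ConcreteCategory.isIso_iff_bijective]
      exact ⟨toSheafify_Qp_injective J F _, toSheafify_Qp_surjective J F _ (h n a 0)⟩
    have hb : Function.Bijective (e (Qp J F) p) := by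
      have h1 : (e (CechEdge.shf J (Qp J F)).obj p) ∘ (CechEdge.cechHMap Y (toSheafify J (Qp J F)) p) =
          (CechEdge.HUmap (CechEdge.shfMap J (toSheafify J (Qp J F))) p U) ∘ (e (Qp J F) p) :=
        funext (fun x => he.natural _ _ (toSheafify J (Qp J F)) p x)
      have h2 : Function.Bijective
          ((CechEdge.HUmap (CechEdge.shfMap J (toSheafify J (Qp J F))) p U) ∘ (e (Qp J F) p)) := by
        rw [← h1]
        exact IH.comp (cechHMap_bijective_of_app Y _ hη p)
      exact (Function.Bijective.of_comp_iff' (HUmap_bijective_of_isIso J _ p) _).1 h2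
    have ha : Function.Surjective (e (sesP J F).X₂ p) := by
      cases p with
      | zero => exact (edge_zero_bijective_of_isSheaf he _ (Ish J F).property).2
      | succ p =>
        intro y
        exact ⟨0, (map_zero _).trans (HU_injective_zero J F U p y).symm⟩
    exact ⟨edge_succ_injective he (sesP J F) (sesP_shortExact J F) p (cech_injective_zero J Y F p)
        ha hb.1,
      edge_succ_surjective he (sesP J F) (sesP_shortExact J F) p (HU_injective_zero J F U p) hb.2⟩

theorem edgeSh_bijective_of_acyclic (he : CechEdge.IsEdge J Y e) (F : Sheaf J AddCommGrpCat.{u})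
    (h : ∀ (n : ℕ) (a : Fin (n + 1) → ι) (q : ℕ),
      Subsingleton (CohSite.HU F (q + 1) (∏ᶜ fun k => Y (a k)).left)) (p : ℕ) :
    Function.Bijective (CechEdge.edgeSh e F p) :=
  (edgeSh_bijective_iff F p).2 (edge_bijective_of_acyclic he p F h)

end Main

end Groth.Agent.Lib.Helper14.CechEdgeLib
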