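import Groth.Agent.Lib.Helper14.CechEdge3

universe u

set_option linter.unusedSectionVars false
set_option linter.unusedVariables false

open CategoryTheory Limits Opposite Simplicial

namespace Groth.Agent.Lib.Helper14.CechEdgeLib

open Groth.Agent.Lib.Helper14.CechPsh

variable {C : Type u} [SmallCategory C] [HasPullbacks C] {U : C}
  {ι : Type u} (Y : ι → Over U)

section RefineIndep
variable {κ : Type u} (Y' : κ → Over U) (f g : FormalCoproduct.mk ι Y ⟶ FormalCoproduct.mk κ Y')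

/-- refinement as a morphism of delta-functors -/
noncomputable def refδ : Tc Y' ⟶ Tc Y where
  app p :=
    { app := fun P => AddCommGrpCat.ofHom (refH Y Y' f P p)
      naturality := fun P Q φ => by
        ext x
        exact (refH_natural Y Y' f φ p x).symm }
  comm T hT n₀ n₁ h := by
    subst h
    ext x
    exact refH_δ Y Y' f T (shortExact_cxF Y' T hT) (shortExact_cxF Y T hT) n₀ x

/-- the value of a refined `0`-cochain, in the points model -/
lemma π_refC_toEv (P : Cᵒᵖ ⥤ AddCommGrpCat.{u}) (a : (K Y').X 0 ⟶ P) (i : Fin 1 → ι) :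
    Pi.π (fam P ((E Y).obj (op ⦋0⦌))) i ((refC Y Y' f P).f 0 (toEv P ((E Y').obj (op ⦋0⦌)) a)) =
      av Y' P a (∏ᶜ (Y ∘ i)).left (p0 Y' _ (preV Y' (Limits.Pi.map (fun b => f.φ (i b))).left
        ⟨f.f (i 0), (Pi.π (Y' ∘ (f.f ∘ i)) 0).left⟩)) := by
  refine (ConcreteCategory.congr_hom (refC_f_π Y Y' f P 0 i) _).trans ?_
  change P.map (Limits.Pi.map (fun b => f.φ (i b))).left.op
    (Pi.π (fam P ((E Y').obj (op ⦋0⦌))) (f.f ∘ i) (toEv P ((E Y').obj (op ⦋0⦌)) a)) = _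
  rw [π_toEv_zero]
  exact map_av_p0 Y' P a _ _

lemma refC_zero_eq_of_cocycle (P : Cᵒᵖ ⥤ AddCommGrpCat.{u}) (y : (cech Y' P).X 0)
    (hy : (cech Y' P).d 0 1 y = 0) :
    (refC Y Y' f P).f 0 y = (refC Y Y' g P).f 0 y := by
  obtain ⟨a, rfl⟩ := toEv_surjective P ((E Y').obj (op ⦋0⦌)) y
  have ha : (K Y').d 1 0 ≫ a = 0 := by
    apply toEv_injective P ((E Y').obj (op ⦋1⦌))
    rw [toEv_d, toEv_zero]
    exact hy
  refine ev_ext P (𝒱 := (E Y).obj (op ⦋0⦌)) _ _ (fun i => ?_)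
  refine (π_refC_toEv Y Y' f P a i).trans (Eq.trans ?_ (π_refC_toEv Y Y' g P a i).symm)
  apply av_p0_eq Y' P a ha
  rw [bs_preV, bs_preV]
  have h1 : ∀ h : FormalCoproduct.mk ι Y ⟶ FormalCoproduct.mk κ Y',
      (Limits.Pi.map (fun b => h.φ (i b))).left ≫
        bs Y' _ (⟨h.f (i 0), (Pi.π (Y' ∘ (h.f ∘ i)) 0).left⟩ : Vx Y' _) = (∏ᶜ (Y ∘ i)).hom := by
    intro h
    change (Limits.Pi.map (fun b => h.φ (i b))).left ≫
      (Pi.π (Y' ∘ (h.f ∘ i)) 0).left ≫ (Y' (h.f (i 0))).hom = _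
    have e1 : (Pi.π (Y' ∘ (h.f ∘ i)) 0).left ≫ (Y' (h.f (i 0))).hom = (∏ᶜ (Y' ∘ (h.f ∘ i))).hom :=
      Over.w (Pi.π (Y' ∘ (h.f ∘ i)) 0)
    refine (congrArg (fun t => (Limits.Pi.map (fun b => h.φ (i b))).left ≫ t) e1).trans ?_
    exact Over.w (Limits.Pi.map (fun b => h.φ (i b)))
  rw [h1 f, h1 g]

lemma refH_zero_eq (P : Cᵒᵖ ⥤ AddCommGrpCat.{u}) (z : CohCx.cechH P Y' 0) :
    refH Y Y' f P 0 z = refH Y Y' g P 0 z := by
  have hπ : Function.Surjective ((CechEdge.cx P Y').homologyπ 0) :=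
    (AddCommGrpCat.epi_iff_surjective _).1 inferInstance
  have hi : Function.Injective ((CechEdge.cx P Y).iCycles 0) :=
    (AddCommGrpCat.mono_iff_injective _).1 inferInstance
  obtain ⟨c, rfl⟩ := hπ z
  have hd : (cech Y' P).d 0 1 ((CechEdge.cx P Y').iCycles 0 c) = 0 :=
    ConcreteCategory.congr_hom ((CechEdge.cx P Y').iCycles_d 0 1) c
  have key : ∀ h : FormalCoproduct.mk ι Y ⟶ FormalCoproduct.mk κ Y',
      refH Y Y' h P 0 ((CechEdge.cx P Y').homologyπ 0 c) =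
        (CechEdge.cx P Y).homologyπ 0 (HomologicalComplex.cyclesMap (refC Y Y' h P) 0 c) := fun h =>
    ConcreteCategory.congr_hom (HomologicalComplex.homologyπ_naturality (refC Y Y' h P) 0) c
  rw [key f, key g]
  congr 1
  apply hi
  have k2 : ∀ h : FormalCoproduct.mk ι Y ⟶ FormalCoproduct.mk κ Y',
      (CechEdge.cx P Y).iCycles 0 (HomologicalComplex.cyclesMap (refC Y Y' h P) 0 c) =
        (refC Y Y' h P).f 0 ((CechEdge.cx P Y').iCycles 0 c) := fun h =>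
    ConcreteCategory.congr_hom (HomologicalComplex.cyclesMap_i (refC Y Y' h P) 0) c
  rw [k2 f, k2 g]
  exact refC_zero_eq_of_cocycle Y Y' f g P _ hd

lemma refδ_eq : refδ Y Y' f = refδ Y Y' g := by
  refine (Tc_isUniversal Y' (Tc Y) ((refδ Y Y' g).app 0)).unique ?_ rfl
  ext P z
  exact refH_zero_eq Y Y' f g P z

theorem refH_eq_of_two (P : Cᵒᵖ ⥤ AddCommGrpCat.{u}) (q : ℕ) :
    refH Y Y' f P q = refH Y Y' g P q := by
  have h := congrArg (fun t : Tc Y' ⟶ Tc Y => ((t.app q).app P).hom) (refδ_eq Y Y' f g)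
  exact h

theorem homologyMap_cechRefine_eq (P : Cᵒᵖ ⥤ AddCommGrpCat.{u}) (q : ℕ) :
    HomologicalComplex.homologyMap (CohCx.cechRefine P f) q =
      HomologicalComplex.homologyMap (CohCx.cechRefine P g) q := by
  apply AddCommGrpCat.hom_ext
  exact refH_eq_of_two Y Y' f g P q

end RefineIndep

end Groth.Agent.Lib.Helper14.CechEdgeLib
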