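import Groth.Agent.Lib.Helper14.CechEdge1

universe u

set_option linter.unusedSectionVars false
set_option linter.unusedVariables false

open CategoryTheory Limits Opposite Simplicial

namespace Groth.Agent.Lib.Helper14.CechEdgeLib

open Groth.Agent.Lib.Helper14.CechPsh

variable {C : Type u} [SmallCategory C] [HasPullbacks C] (J : GrothendieckTopology C) {U : C}
  {ι : Type u} (Y : ι → Over U)

section Converse

variable (P : Cᵒᵖ ⥤ AddCommGrpCat.{u})

lemma face_π (j : Fin 2) (b : Fin 2 → ι) :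
    CechEdge.face P Y j ≫ Pi.π (fam P ((E Y).obj (op ⦋1⦌))) b =
      Pi.π (fam P ((E Y).obj (op ⦋0⦌))) (((E Y).map (SimplexCategory.δ j).op).f b) ≫
        P.map (((E Y).map (SimplexCategory.δ j).op).φ b).left.op :=
  Pi.lift_π _ _

variable (x : ∀ i, P.obj (op (Y i).left))

/-- the `0`-cochain attached to a family of sections -/
noncomputable def cochainOf : (cech Y P).X 0 :=
  (Concrete.productEquiv (fam P ((E Y).obj (op ⦋0⦌)))).symm
    (fun a => P.map (Pi.π (Y ∘ a) 0).left.op (x (a 0)))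

lemma π_cochainOf (a : Fin 1 → ι) :
    Pi.π (fam P ((E Y).obj (op ⦋0⦌))) a (cochainOf Y P x) =
      P.map (Pi.π (Y ∘ a) 0).left.op (x (a 0)) :=
  Concrete.productEquiv_symm_apply_π (fam P ((E Y).obj (op ⦋0⦌))) _ a

variable (hx : ∀ (i j : ι) (W : C) (gi : W ⟶ (Y i).left) (gj : W ⟶ (Y j).left),
  gi ≫ (Y i).hom = gj ≫ (Y j).hom → P.map gi.op (x i) = P.map gj.op (x j))

include hx in
lemma π_face_cochainOf (j : Fin 2) (b : Fin 2 → ι) :
    Pi.π (fam P ((E Y).obj (op ⦋1⦌))) b (CechEdge.face P Y j (cochainOf Y P x)) =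
      P.map (Pi.π (Y ∘ b) 0).left.op (x (b 0)) := by
  refine (ConcreteCategory.congr_hom (face_π Y P j b) (cochainOf Y P x)).trans ?_
  change P.map (((E Y).map (SimplexCategory.δ j).op).φ b).left.op
    (Pi.π (fam P ((E Y).obj (op ⦋0⦌))) (((E Y).map (SimplexCategory.δ j).op).f b)
      (cochainOf Y P x)) = _
  refine (congrArg (P.map (((E Y).map (SimplexCategory.δ j).op).φ b).left.op)
    (π_cochainOf Y P x (((E Y).map (SimplexCategory.δ j).op).f b))).trans ?_
  refine (ConcreteCategory.congr_hom (P.map_comp _ _).symm _).trans ?_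
  apply hx
  rw [Category.assoc]
  have e1 := Over.w (Pi.π (Y ∘ (((E Y).map (SimplexCategory.δ j).op).f b)) 0)
  have e2 := Over.w (((E Y).map (SimplexCategory.δ j).op).φ b)
  have e3 := Over.w (Pi.π (Y ∘ b) 0)
  exact (congrArg (fun t => (((E Y).map (SimplexCategory.δ j).op).φ b).left ≫ t) e1).trans
    (e2.trans e3.symm)

include hx in
lemma d_cochainOf : (cech Y P).d 0 1 (cochainOf Y P x) = 0 := by
  have h01 : CechEdge.face P Y 0 (cochainOf Y P x) = CechEdge.face P Y 1 (cochainOf Y P x) := by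
    refine ev_ext P (𝒱 := (E Y).obj (op ⦋1⦌)) _ _ (fun b => ?_)
    exact (π_face_cochainOf Y P x hx 0 b).trans (π_face_cochainOf Y P x hx 1 b).symm
  have hd : (CechEdge.cx P Y).d 0 1 (cochainOf Y P x) =
      (∑ j : Fin 2, (-1 : ℤ) ^ (j : ℕ) • CechEdge.face P Y j) (cochainOf Y P x) :=
    congrArg (fun f : (CechEdge.cx P Y).X 0 ⟶ (CechEdge.cx P Y).X 1 => f (cochainOf Y P x))
      (CechEdge.cx_d_zero_one P Y)
  refine hd.trans ?_
  rw [sum_hom_apply, Fin.sum_univ_two]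
  simp only [Fin.val_zero, pow_zero, one_smul, Fin.val_one, pow_one, neg_smul]
  change CechEdge.face P Y 0 (cochainOf Y P x) + -(CechEdge.face P Y 1 (cochainOf Y P x)) = 0
  rw [h01, add_neg_cancel]

lemma exists_cycle_of_d_eq_zero (y : (cech Y P).X 0) (hy : (cech Y P).d 0 1 y = 0) :
    ∃ c : (CechEdge.cx P Y).cycles 0, (CechEdge.cx P Y).iCycles 0 c = y := by
  let Kr : AddCommGrpCat.{u} := AddCommGrpCat.of (AddMonoidHom.ker ((CechEdge.cx P Y).d 0 1).hom)
  let k : Kr ⟶ (CechEdge.cx P Y).X 0 :=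
    AddCommGrpCat.ofHom (AddMonoidHom.ker ((CechEdge.cx P Y).d 0 1).hom).subtype
  have hk : k ≫ (CechEdge.cx P Y).d 0 1 = 0 := by
    ext z
    exact z.2
  refine ⟨(CechEdge.cx P Y).liftCycles k 1 (by simp) hk ⟨y, hy⟩, ?_⟩
  exact ConcreteCategory.congr_hom ((CechEdge.cx P Y).liftCycles_i k 1 (by simp) hk) ⟨y, hy⟩

lemma π_toCech₀_eq (s : P.obj (op U)) (a : Fin 1 → ι) :
    Pi.π (fam P ((E Y).obj (op ⦋0⦌))) a (CechEdge.toCech₀ P Y s) =
      P.map (Pi.π (Y ∘ a) 0).left.op (P.map (Y (a 0)).hom.op s) := by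
  refine (π_toCech₀ Y P s a).trans ?_
  refine Eq.trans ?_ (ConcreteCategory.congr_hom (P.map_comp _ _) s)
  have hw : (Pi.π (Y ∘ a) 0).left ≫ (Y (a 0)).hom = (∏ᶜ (Y ∘ a)).hom := Over.w (Pi.π (Y ∘ a) 0)
  have hw' : (∏ᶜ (Y ∘ a)).hom.op = (Y (a 0)).hom.op ≫ (Pi.π (Y ∘ a) 0).left.op := by
    rw [← op_comp, hw]
  exact congrArg (fun m => P.map m s) hw'

include hx in
theorem existsUnique_of_toCech_bijective (hb : Function.Bijective (CechEdge.toCech Y P)) :
    ∃! t : P.obj (op U), ∀ i, P.map (Y i).hom.op t = x i := by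
  have hπ : Function.Bijective ((CechEdge.cx P Y).homologyπ 0) :=
    (ConcreteCategory.isIso_iff_bijective _).1 inferInstance
  have hi : Function.Injective ((CechEdge.cx P Y).iCycles 0) :=
    (AddCommGrpCat.mono_iff_injective _).1 inferInstance
  obtain ⟨c, hc⟩ := exists_cycle_of_d_eq_zero Y P _ (d_cochainOf Y P x hx)
  obtain ⟨s, hs⟩ := hb.2 ((CechEdge.cx P Y).homologyπ 0 c)
  have h1 : CechEdge.toCycles P Y s = c := hπ.1 hs
  have h2 : CechEdge.toCech₀ P Y s = cochainOf Y P x := by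
    rw [← iCycles_toCycles, h1, hc]
  have hs' : ∀ i, P.map (Y i).hom.op s = x i := by
    intro i
    let a : Fin 1 → ι := fun _ => i
    have h3 := (π_toCech₀_eq Y P s a).symm.trans
      ((congrArg (Pi.π (fam P ((E Y).obj (op ⦋0⦌))) a) h2).trans (π_cochainOf Y P x a))
    let ℓ : Y i ⟶ ∏ᶜ (Y ∘ a) := Pi.lift (fun _ => 𝟙 (Y i))
    have hℓ : ℓ ≫ Pi.π (Y ∘ a) 0 = 𝟙 (Y i) := Pi.lift_π _ _
    have hℓ' : ℓ.left ≫ (Pi.π (Y ∘ a) 0).left = 𝟙 (Y i).left := by
      rw [← Over.comp_left, hℓ]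
      rfl
    have key : ∀ z : P.obj (op (Y i).left),
        P.map ℓ.left.op (P.map (Pi.π (Y ∘ a) 0).left.op z) = z := by
      intro z
      refine (ConcreteCategory.congr_hom (P.map_comp _ _).symm z).trans ?_
      rw [← op_comp, hℓ', op_id, P.map_id]
      rfl
    have h4 := congrArg (P.map ℓ.left.op) h3
    rw [key, key] at h4
    exact h4
  refine ⟨s, hs', fun t ht => ?_⟩
  apply hb.1
  rw [toCech_apply, toCech_apply]
  congr 1
  apply hi
  rw [iCycles_toCycles, iCycles_toCycles]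
  refine ev_ext P (𝒱 := (E Y).obj (op ⦋0⦌)) _ _ (fun a => ?_)
  refine (π_toCech₀_eq Y P t a).trans (Eq.trans ?_ (π_toCech₀_eq Y P s a).symm)
  rw [ht, hs']

end Converse

section Iff

theorem isSheaf_of_forall_toCech_bijective (P : Cᵒᵖ ⥤ AddCommGrpCat.{u})
    (h : ∀ (U : C) (ι : Type u) (Y : ι → Over U),
      Sieve.ofArrows (fun i => (Y i).left) (fun i => (Y i).hom) ∈ J U →
        Function.Bijective (CechEdge.toCech Y P)) : Presheaf.IsSheaf J P := by
  rw [Presheaf.isSheaf_iff_isSheaf_forget J P (forget AddCommGrpCat.{u}),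
    isSheaf_iff_isSheaf_of_type]
  intro U S hS
  let ι : Type u := Σ V : C, {f : V ⟶ U // S.arrows f}
  let Y : ι → Over U := fun i => Over.mk i.2.1
  have hgen : Sieve.ofArrows (fun i => (Y i).left) (fun i => (Y i).hom) = S := by
    apply le_antisymm
    · rw [Sieve.ofArrows, Sieve.generate_le_iff]
      rintro V f ⟨i⟩
      exact i.2.2
    · intro V f hf
      exact Sieve.ofArrows_mk _ _ (⟨V, f, hf⟩ : ι)
  have hb := h U ι Y (hgen ▸ hS)
  have h1 : Presieve.IsSheafFor (P ⋙ forget AddCommGrpCat.{u})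
      (Presieve.ofArrows (fun i => (Y i).left) (fun i => (Y i).hom)) := by
    rw [Presieve.isSheafFor_arrows_iff]
    intro x hx
    exact existsUnique_of_toCech_bijective Y P x (fun i j W gi gj hg => hx i j W gi gj hg) hb
  rw [Presieve.isSheafFor_iff_generate] at h1
  have h2 : Sieve.generate (Presieve.ofArrows (fun i => (Y i).left) (fun i => (Y i).hom)) = S := hgen
  rw [h2] at h1
  exact h1

theorem isSheaf_iff_forall_toCech_bijective (P : Cᵒᵖ ⥤ AddCommGrpCat.{u}) :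
    Presheaf.IsSheaf J P ↔ ∀ (U : C) (ι : Type u) (Y : ι → Over U),
      Sieve.ofArrows (fun i => (Y i).left) (fun i => (Y i).hom) ∈ J U →
        Function.Bijective (CechEdge.toCech Y P) :=
  ⟨fun hP U ι Y hY => toCech_bijective J Y hY P hP, isSheaf_of_forall_toCech_bijective J P⟩

end Iff

end Groth.Agent.Lib.Helper14.CechEdgeLib
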