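import Groth.Agent.Lib.Helper14.CechPsh3

/-!
# Čech `0`-cocycles of sheaves on a (possibly large) site: gluing, cocycles from families

Universe-general versions of the `SheafZero` section of `CechPsh3` and of the `cochainOf` API of `CechEdge8`,
so that they apply to the small étale site of a scheme.
-/

universe v u

set_option linter.unusedSectionVars false
set_option linter.unusedVariables false

open CategoryTheory Limits Opposite Simplicial

namespace Groth.Agent.Lib.Helper14.CechGlue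

open Groth.Agent.Lib.Helper14.CechPsh

section SheafZero

variable {C : Type u} [Category.{v} C] [LocallySmall.{max v u} C] {U : C} [HasFiniteProducts (Over U)]
  {ι : Type (max v u)} (Uf : ι → Over U) (J : GrothendieckTopology C)
  (P : Cᵒᵖ ⥤ AddCommGrpCat.{max v u}) (hP : Presheaf.IsSheaf J P)
  (hY : Sieve.ofArrows (fun i => (Uf i).left) (fun i => (Uf i).hom) ∈ J U)

include hP hY in
lemma sheafFor : ∀ (x : ∀ i, (P ⋙ forget AddCommGrpCat.{max v u}).obj (op (Uf i).left)),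
    Presieve.Arrows.Compatible (P ⋙ forget AddCommGrpCat.{max v u}) (fun i => (Uf i).hom) x →
      ∃! t, ∀ i, (P ⋙ forget AddCommGrpCat.{max v u}).map (Uf i).hom.op t = x i := by
  have h1 : Presheaf.IsSheaf J (P ⋙ forget AddCommGrpCat.{max v u}) :=
    (Presheaf.isSheaf_iff_isSheaf_forget J P (forget AddCommGrpCat.{max v u})).1 hP
  have h2 : Presieve.IsSheaf J (P ⋙ forget AddCommGrpCat.{max v u}) :=
    (isSheaf_iff_isSheaf_of_type J _).1 h1
  have h3 := h2 _ hY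
  have h4 : Presieve.IsSheafFor (P ⋙ forget AddCommGrpCat.{max v u})
      (Presieve.ofArrows (fun i => (Uf i).left) (fun i => (Uf i).hom)) :=
    (Presieve.isSheafFor_iff_generate _).2 h3
  exact (Presieve.isSheafFor_arrows_iff _ _).1 h4

include hP hY in
/-- separatedness: a section vanishing on all one-fold products vanishes -/
lemma eq_zero_of_restrict (s : P.obj (op U))
    (hs : ∀ x : Fin 1 → ι, P.map (∏ᶜ (Uf ∘ x)).hom.op s = 0) : s = 0 := by
  have hi : ∀ i, P.map (Uf i).hom.op s = 0 := by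
    intro i
    let ℓ : Uf i ⟶ ∏ᶜ (Uf ∘ fun _ : Fin 1 => i) := Pi.lift (fun _ => 𝟙 (Uf i))
    have hw : ℓ.left ≫ (∏ᶜ (Uf ∘ fun _ : Fin 1 => i)).hom = (Uf i).hom := Over.w ℓ
    rw [← hw, op_comp, Functor.map_comp]
    change P.map ℓ.left.op (P.map (∏ᶜ (Uf ∘ fun _ : Fin 1 => i)).hom.op s) = 0
    rw [hs, map_zero]
  obtain ⟨t, -, ht⟩ := sheafFor Uf J P hP hY (fun i => (0 : P.obj (op (Uf i).left)))
    (fun i j Z gi gj _ => by
      change P.map gi.op 0 = P.map gj.op 0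
      rw [map_zero, map_zero])
  have e1 : s = t := ht s (fun i => hi i)
  have e2 : (0 : P.obj (op U)) = t := ht 0 (fun i => by
    change P.map (Uf i).hom.op 0 = 0
    exact map_zero _)
  exact e1.trans e2.symm

include hP hY in
/-- gluing: a Čech `0`-cocycle of a sheaf for a covering family comes from a section -/
lemma exists_section_of_cocycle (y : (cech Uf P).X 0) (hy : (cech Uf P).d 0 1 y = 0) :
    ∃ s : P.obj (op U), ∀ x : Fin 1 → ι,
      P.map (∏ᶜ (Uf ∘ x)).hom.op s = Pi.π (fam P ((E Uf).obj (op ⦋0⦌))) x y := by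
  obtain ⟨a, rfl⟩ := toEv_surjective P ((E Uf).obj (op ⦋0⦌)) y
  have ha : (K Uf).d 1 0 ≫ a = 0 := by
    apply toEv_injective P ((E Uf).obj (op ⦋1⦌))
    rw [toEv_d, toEv_zero]
    exact hy
  obtain ⟨s, hs, -⟩ := sheafFor Uf J P hP hY
    (fun i => av Uf P a (Uf i).left (p0 Uf _ ⟨i, 𝟙 _⟩))
    (fun i j Z gi gj hg => by
      change P.map gi.op (av Uf P a (Uf i).left (p0 Uf _ ⟨i, 𝟙 _⟩)) =
        P.map gj.op (av Uf P a (Uf j).left (p0 Uf _ ⟨j, 𝟙 _⟩))
      rw [map_av_p0, map_av_p0]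
      apply av_p0_eq Uf P a ha
      rw [bs_preV, bs_preV]
      change gi ≫ 𝟙 _ ≫ (Uf i).hom = gj ≫ 𝟙 _ ≫ (Uf j).hom
      rw [Category.id_comp, Category.id_comp]
      exact hg)
  refine ⟨s, fun x => ?_⟩
  rw [π_toEv_zero]
  have hw : (Pi.π (Uf ∘ x) 0).left ≫ (Uf (x 0)).hom = (∏ᶜ (Uf ∘ x)).hom := Over.w (Pi.π (Uf ∘ x) 0)
  rw [← hw, op_comp, Functor.map_comp]
  change P.map (Pi.π (Uf ∘ x) 0).left.op (P.map (Uf (x 0)).hom.op s) = _
  have h1 : P.map (Uf (x 0)).hom.op s = av Uf P a (Uf (x 0)).left (p0 Uf _ ⟨x 0, 𝟙 _⟩) := hs (x 0)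
  rw [h1]
  refine (map_av_p0 Uf P a (Pi.π (Uf ∘ x) 0).left ⟨x 0, 𝟙 _⟩).trans ?_
  refine congrArg (fun v => av Uf P a (∏ᶜ (Uf ∘ x)).left (p0 Uf _ v)) ?_
  change (⟨x 0, (Pi.π (Uf ∘ x) 0).left ≫ 𝟙 _⟩ : Vx Uf _) = ⟨x 0, (Pi.π (Uf ∘ x) 0).left⟩
  rw [Category.comp_id]

end SheafZero

section Cochain

universe w

variable {C : Type u} [Category.{v} C] [LocallySmall.{w} C] {U : C} [HasFiniteProducts (Over U)]
  {ι : Type w} (Uf : ι → Over U) (P : Cᵒᵖ ⥤ AddCommGrpCat.{w})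

/-- a Čech cochain from its components -/
noncomputable def mkCochain (n : ℕ) (c : ∀ x : Fin (n + 1) → ι, P.obj (op (∏ᶜ (Uf ∘ x)).left)) :
    (cech Uf P).X n :=
  (Concrete.productEquiv (fam P ((E Uf).obj (op ⦋n⦌)))).symm c

lemma π_mkCochain (n : ℕ) (c : ∀ x : Fin (n + 1) → ι, P.obj (op (∏ᶜ (Uf ∘ x)).left))
    (x : Fin (n + 1) → ι) :
    Pi.π (fam P ((E Uf).obj (op ⦋n⦌))) x (mkCochain Uf P n c) = c x :=
  Concrete.productEquiv_symm_apply_π (fam P ((E Uf).obj (op ⦋n⦌))) _ x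

/-- the coface maps of the Čech complex -/
noncomputable abbrev face (n : ℕ) (k : Fin (n + 2)) : (cech Uf P).X n ⟶ (cech Uf P).X (n + 1) :=
  ((FormalCoproduct.evalOp.{w} (Over U) AddCommGrpCat.{w}).obj (res (U := U) P)).map
    ((E Uf).δ k).op

lemma face_π (n : ℕ) (k : Fin (n + 2)) (b : Fin (n + 2) → ι) :
    face Uf P n k ≫ Pi.π (fam P ((E Uf).obj (op ⦋n + 1⦌))) b =
      Pi.π (fam P ((E Uf).obj (op ⦋n⦌))) (((E Uf).δ k).f b) ≫
        P.map (((E Uf).δ k).φ b).left.op :=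
  Pi.lift_π _ _

variable (x : ∀ i, P.obj (op (Uf i).left))

/-- the `0`-cochain attached to a family of sections -/
noncomputable def cochainOf : (cech Uf P).X 0 :=
  mkCochain Uf P 0 (fun a => P.map (Pi.π (Uf ∘ a) 0).left.op (x (a 0)))

lemma π_cochainOf (a : Fin 1 → ι) :
    Pi.π (fam P ((E Uf).obj (op ⦋0⦌))) a (cochainOf Uf P x) =
      P.map (Pi.π (Uf ∘ a) 0).left.op (x (a 0)) :=
  π_mkCochain Uf P 0 _ a

variable (hx : ∀ (i j : ι) (W : C) (gi : W ⟶ (Uf i).left) (gj : W ⟶ (Uf j).left),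
  gi ≫ (Uf i).hom = gj ≫ (Uf j).hom → P.map gi.op (x i) = P.map gj.op (x j))

include hx in
lemma π_face_cochainOf (j : Fin 2) (b : Fin 2 → ι) :
    Pi.π (fam P ((E Uf).obj (op ⦋1⦌))) b (face Uf P 0 j (cochainOf Uf P x)) =
      P.map (Pi.π (Uf ∘ b) 0).left.op (x (b 0)) := by
  refine (ConcreteCategory.congr_hom (face_π Uf P 0 j b) (cochainOf Uf P x)).trans ?_
  change P.map (((E Uf).δ j).φ b).left.op
    (Pi.π (fam P ((E Uf).obj (op ⦋0⦌))) (((E Uf).δ j).f b) (cochainOf Uf P x)) = _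
  refine (congrArg (P.map (((E Uf).δ j).φ b).left.op)
    (π_cochainOf Uf P x (((E Uf).δ j).f b))).trans ?_
  refine (ConcreteCategory.congr_hom (P.map_comp _ _).symm _).trans ?_
  apply hx
  rw [Category.assoc]
  have e1 := Over.w (Pi.π (Uf ∘ (((E Uf).δ j).f b)) 0)
  have e2 := Over.w (((E Uf).δ j).φ b)
  have e3 := Over.w (Pi.π (Uf ∘ b) 0)
  exact (congrArg (fun t => (((E Uf).δ j).φ b).left ≫ t) e1).trans (e2.trans e3.symm)

include hx in
lemma d_cochainOf : (cech Uf P).d 0 1 (cochainOf Uf P x) = 0 := by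
  have h01 : face Uf P 0 0 (cochainOf Uf P x) = face Uf P 0 1 (cochainOf Uf P x) := by
    refine ev_ext P (𝒱 := (E Uf).obj (op ⦋1⦌)) _ _ (fun b => ?_)
    exact (π_face_cochainOf Uf P x hx 0 b).trans (π_face_cochainOf Uf P x hx 1 b).symm
  have hd : (cech Uf P).d 0 1 (cochainOf Uf P x) =
      (∑ j : Fin 2, (-1 : ℤ) ^ (j : ℕ) • face Uf P 0 j) (cochainOf Uf P x) :=
    congrArg (fun f : (cech Uf P).X 0 ⟶ (cech Uf P).X 1 => f (cochainOf Uf P x)) (cech_d Uf P 0)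
  refine hd.trans ?_
  rw [sum_hom_apply, Fin.sum_univ_two]
  simp only [Fin.val_zero, pow_zero, one_smul, Fin.val_one, pow_one, neg_smul]
  change face Uf P 0 0 (cochainOf Uf P x) + -(face Uf P 0 1 (cochainOf Uf P x)) = 0
  rw [h01, add_neg_cancel]

end Cochain

section Chase

variable {C : Type u} [Category.{v} C] [LocallySmall.{max v u} C] {U : C} [HasFiniteProducts (Over U)]
  {ι : Type (max v u)} (Uf : ι → Over U) (J : GrothendieckTopology C)
  {P₁ P₂ P₃ : Cᵒᵖ ⥤ AddCommGrpCat.{max v u}} (f : P₁ ⟶ P₂) (g : P₂ ⟶ P₃)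

/-- componentwise description of the maps of Čech complexes -/
lemma π_cxF_map {P P' : Cᵒᵖ ⥤ AddCommGrpCat.{max v u}} (φ : P ⟶ P') (n : ℕ)
    (y : (cech Uf P).X n) (x : Fin (n + 1) → ι) :
    Pi.π (fam P' ((E Uf).obj (op ⦋n⦌))) x (((cxF Uf).map φ).f n y) =
      φ.app (op (∏ᶜ (Uf ∘ x)).left) (Pi.π (fam P ((E Uf).obj (op ⦋n⦌))) x y) :=
  ConcreteCategory.congr_hom
    (Limits.Pi.map_π (fun i : Fin (n + 1) → ι => φ.app (op (∏ᶜ (Uf ∘ i)).left)) x) y

lemma cxF_map_injective (hinj : ∀ W : C, Function.Injective (f.app (op W))) (n : ℕ) :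
    Function.Injective (((cxF Uf).map f).f n) := by
  intro y y' h
  refine ev_ext P₁ (𝒱 := (E Uf).obj (op ⦋n⦌)) _ _ (fun x => ?_)
  apply hinj
  exact (π_cxF_map Uf f n y x).symm.trans
    ((congrArg (fun w => Pi.π (fam P₂ ((E Uf).obj (op ⦋n⦌))) x w) h).trans (π_cxF_map Uf f n y' x))

lemma cxF_map_exact (hex : ∀ (W : C) (z : P₂.obj (op W)), g.app (op W) z = 0 →
      ∃ c, f.app (op W) c = z) (n : ℕ)
    (z : (cech Uf P₂).X n) (hz : ((cxF Uf).map g).f n z = 0) :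
    ∃ c : (cech Uf P₁).X n, ((cxF Uf).map f).f n c = z := by
  have h1 : ∀ x : Fin (n + 1) → ι,
      g.app (op (∏ᶜ (Uf ∘ x)).left) (Pi.π (fam P₂ ((E Uf).obj (op ⦋n⦌))) x z) = 0 := by
    intro x
    exact (π_cxF_map Uf g n z x).symm.trans
      ((congrArg (fun w => Pi.π (fam P₃ ((E Uf).obj (op ⦋n⦌))) x w) hz).trans (map_zero _))
  choose c hc using fun x => hex _ _ (h1 x)
  refine ⟨mkCochain Uf P₁ n c, ?_⟩
  refine ev_ext P₂ (𝒱 := (E Uf).obj (op ⦋n⦌)) _ _ (fun x => ?_)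
  exact (π_cxF_map Uf f n _ x).trans
    ((congrArg (fun w => f.app (op (∏ᶜ (Uf ∘ x)).left) w) (π_mkCochain Uf P₁ n c x)).trans (hc x))

lemma exists_of_isZero_homology_one (P : Cᵒᵖ ⥤ AddCommGrpCat.{max v u})
    (hH : IsZero ((cech Uf P).homology 1)) (c : (cech Uf P).X 1) (hc : (cech Uf P).d 1 2 c = 0) :
    ∃ a : (cech Uf P).X 0, (cech Uf P).d 0 1 a = c := by
  have h1 : (cech Uf P).ExactAt 1 := (HomologicalComplex.exactAt_iff_isZero_homology _ _).2 hH
  have h2 : ((cech Uf P).sc' 0 1 2).Exact :=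
    (HomologicalComplex.exactAt_iff' (cech Uf P) 0 1 2 (by simp) (by simp)).1 h1
  exact (ShortComplex.ab_exact_iff _).1 h2 c hc

/-- The key lifting statement: if `0 → P₁ → P₂ → P₃` is left exact on sections, `P₂`, `P₃` are sheaves,
`Ȟ¹(Uf, P₁) = 0` for a covering family `Uf` of `U`, then a section of `P₃` over `U` which lifts to `P₂`
on every member of the family lifts to `P₂` over `U`. -/
theorem exists_lift_of_cechH1 (hP₂ : Presheaf.IsSheaf J P₂) (hP₃ : Presheaf.IsSheaf J P₃)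
    (hfg : f ≫ g = 0)
    (hinj : ∀ W : C, Function.Injective (f.app (op W)))
    (hex : ∀ (W : C) (z : P₂.obj (op W)), g.app (op W) z = 0 → ∃ c, f.app (op W) c = z)
    (hY : Sieve.ofArrows (fun i => (Uf i).left) (fun i => (Uf i).hom) ∈ J U)
    (hH : IsZero ((cech Uf P₁).homology 1))
    (s : P₃.obj (op U)) (t : ∀ i, P₂.obj (op (Uf i).left))
    (ht : ∀ i, g.app (op (Uf i).left) (t i) = P₃.map (Uf i).hom.op s) :
    ∃ t' : P₂.obj (op U), g.app (op U) t' = s := by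
  -- the cochains
  let y₀ : (cech Uf P₂).X 0 := cochainOf Uf P₂ t
  let aug : (cech Uf P₃).X 0 := cochainOf Uf P₃ (fun i => P₃.map (Uf i).hom.op s)
  have haug : (cech Uf P₃).d 0 1 aug = 0 := by
    apply d_cochainOf
    intro i j W gi gj hg
    refine (ConcreteCategory.congr_hom (P₃.map_comp _ _).symm s).trans ?_
    refine Eq.trans ?_ (ConcreteCategory.congr_hom (P₃.map_comp _ _) s)
    rw [← op_comp, ← op_comp, hg]
  have hg0 : ((cxF Uf).map g).f 0 y₀ = aug := by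
    refine ev_ext P₃ (𝒱 := (E Uf).obj (op ⦋0⦌)) _ _ (fun a => ?_)
    refine (π_cxF_map Uf g 0 y₀ a).trans ?_
    refine (congrArg (fun w => g.app (op (∏ᶜ (Uf ∘ a)).left) w) (π_cochainOf Uf P₂ t a)).trans ?_
    refine Eq.trans ?_ (π_cochainOf Uf P₃ _ a).symm
    refine (NatTrans.naturality_apply g (Pi.π (Uf ∘ a) 0).left.op (t (a 0))).trans ?_
    exact congrArg (fun w => P₃.map (Pi.π (Uf ∘ a) 0).left.op w) (ht (a 0))
  let z : (cech Uf P₂).X 1 := (cech Uf P₂).d 0 1 y₀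
  have hz : ((cxF Uf).map g).f 1 z = 0 := by
    have h1 := ConcreteCategory.congr_hom (((cxF Uf).map g).comm 0 1) y₀
    exact h1.symm.trans ((congrArg (fun w => (cech Uf P₃).d 0 1 w) hg0).trans haug)
  obtain ⟨c, hc⟩ := cxF_map_exact Uf f g hex 1 z hz
  have hdc : (cech Uf P₁).d 1 2 c = 0 := by
    apply cxF_map_injective Uf f hinj 2
    have h1 := ConcreteCategory.congr_hom (((cxF Uf).map f).comm 1 2) c
    refine h1.symm.trans ?_
    refine (congrArg (fun w => (cech Uf P₂).d 1 2 w) hc).trans ?_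
    refine (ConcreteCategory.congr_hom ((cech Uf P₂).d_comp_d 0 1 2) y₀).trans ?_
    exact (map_zero _).symm
  obtain ⟨a, ha⟩ := exists_of_isZero_homology_one Uf P₁ hH c hdc
  let fa : (cech Uf P₂).X 0 := ((cxF Uf).map f).f 0 a
  let y : (cech Uf P₂).X 0 := y₀ - fa
  have hy : (cech Uf P₂).d 0 1 y = 0 := by
    have h1 : (cech Uf P₂).d 0 1 fa = z := by
      have h2 := ConcreteCategory.congr_hom (((cxF Uf).map f).comm 0 1) a
      exact h2.trans ((congrArg (fun w => ((cxF Uf).map f).f 1 w) ha).trans hc)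
    refine (map_sub (ConcreteCategory.hom ((cech Uf P₂).d 0 1)) y₀ fa).trans ?_
    exact (congrArg (fun w => z - w) h1).trans (sub_self z)
  obtain ⟨t', ht'⟩ := exists_section_of_cocycle Uf J P₂ hP₂ hY y hy
  refine ⟨t', ?_⟩
  have hsub : g.app (op U) t' - s = 0 := by
    apply eq_zero_of_restrict Uf J P₃ hP₃ hY
    intro x
    have e1 : P₃.map (∏ᶜ (Uf ∘ x)).hom.op (g.app (op U) t') =
        g.app (op (∏ᶜ (Uf ∘ x)).left) (Pi.π (fam P₂ ((E Uf).obj (op ⦋0⦌))) x y) :=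
      (NatTrans.naturality_apply g (∏ᶜ (Uf ∘ x)).hom.op t').symm.trans
        (congrArg (fun w => g.app (op (∏ᶜ (Uf ∘ x)).left) w) (ht' x))
    have e2 : g.app (op (∏ᶜ (Uf ∘ x)).left) (Pi.π (fam P₂ ((E Uf).obj (op ⦋0⦌))) x y) =
        Pi.π (fam P₃ ((E Uf).obj (op ⦋0⦌))) x (((cxF Uf).map g).f 0 y) :=
      (π_cxF_map Uf g 0 y x).symm
    have e3 : ((cxF Uf).map g).f 0 y = aug := by
      have h1 : ((cxF Uf).map g).f 0 fa = 0 := by
        have h2 : ((cxF Uf).map f).f 0 ≫ ((cxF Uf).map g).f 0 = 0 := by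
          rw [← HomologicalComplex.comp_f, ← Functor.map_comp, hfg, Functor.map_zero]
          rfl
        exact ConcreteCategory.congr_hom h2 a
      refine (map_sub (ConcreteCategory.hom (((cxF Uf).map g).f 0)) y₀ fa).trans ?_
      exact (congrArg₂ (fun p q => p - q) hg0 h1).trans (sub_zero aug)
    have e4 : Pi.π (fam P₃ ((E Uf).obj (op ⦋0⦌))) x aug = P₃.map (∏ᶜ (Uf ∘ x)).hom.op s := by
      refine (π_cochainOf Uf P₃ _ x).trans ?_
      refine (ConcreteCategory.congr_hom (P₃.map_comp _ _).symm s).trans ?_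
      have hw : (Pi.π (Uf ∘ x) 0).left ≫ (Uf (x 0)).hom = (∏ᶜ (Uf ∘ x)).hom :=
        Over.w (Pi.π (Uf ∘ x) 0)
      rw [← op_comp, hw]
    refine (map_sub (ConcreteCategory.hom (P₃.map (∏ᶜ (Uf ∘ x)).hom.op)) _ _).trans ?_
    have e5 : P₃.map (∏ᶜ (Uf ∘ x)).hom.op (g.app (op U) t') = P₃.map (∏ᶜ (Uf ∘ x)).hom.op s :=
      e1.trans (e2.trans ((congrArg (fun w => Pi.π (fam P₃ ((E Uf).obj (op ⦋0⦌))) x w) e3).trans e4))
    exact sub_eq_zero.2 e5
  exact sub_eq_zero.1 hsub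

end Chase

end Groth.Agent.Lib.Helper14.CechGlue
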