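import Mathlib

/-!
# The Čech complex of a single object: a plain model, and the extra codegeneracy after base change
-/

set_option linter.unusedSectionVars false
universe w v v' u u'

namespace Groth.Agent.Lib.Helper14.CechPlain

open CategoryTheory Limits Opposite Simplicial

variable {D : Type u} [Category.{v} D] [HasFiniteProducts D] (X : D)
  {A : Type u'} [Category.{v'} A] (Q : Dᵒᵖ ⥤ A)

/-- the power of `X` indexed by the vertices of a simplex -/
noncomputable abbrev pw (n : SimplexCategory) : D := ∏ᶜ (fun _ : ToType n => X)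

/-- reindexing of powers -/
noncomputable abbrev reidx {n m : SimplexCategory} (θ : n ⟶ m) : pw X m ⟶ pw X n :=
  Pi.lift (fun a => Pi.π (fun _ : ToType m => X) (θ.toOrderHom a))

lemma reidx_id (n : SimplexCategory) : reidx X (𝟙 n) = 𝟙 _ := by
  apply Pi.hom_ext; intro a
  simp [reidx]

lemma reidx_comp {n m k : SimplexCategory} (θ : n ⟶ m) (θ' : m ⟶ k) :
    reidx X (θ ≫ θ') = reidx X θ' ≫ reidx X θ := by
  apply Pi.hom_ext; intro a
  simp [reidx]

/-- the plain cosimplicial object `n ↦ Q(X^{n+1})` -/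
noncomputable def Pl : CosimplicialObject A where
  obj n := Q.obj (op (pw X n))
  map θ := Q.map (reidx X θ).op
  map_id n := by rw [reidx_id, op_id, Q.map_id]
  map_comp θ θ' := by rw [reidx_comp, op_comp, Q.map_comp]


section Compare

variable [HasProducts.{w} A]

/-- Mathlib's cosimplicial object for the one-member family -/
noncomputable abbrev Ym : CosimplicialObject A :=
  (FormalCoproduct.cosimplicialObjectFunctor
    (FormalCoproduct.mk PUnit.{w + 1} (fun _ => X)).cech).obj Q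

/-- the unique index -/
abbrev i0 (n : SimplexCategory) : ToType n → PUnit.{w + 1} := fun _ => PUnit.unit

noncomputable def cmpHom (n : SimplexCategory) : (Ym.{w} X Q).obj n ⟶ (Pl X Q).obj n :=
  Pi.π (fun i : ToType n → PUnit.{w + 1} => Q.obj (op (∏ᶜ ((fun _ : PUnit.{w + 1} => X) ∘ i)))) (i0 n)

noncomputable def cmpInv (n : SimplexCategory) : (Pl X Q).obj n ⟶ (Ym.{w} X Q).obj n :=
  Pi.lift (fun i : ToType n → PUnit.{w + 1} =>
    (𝟙 _ : Q.obj (op (pw X n)) ⟶ Q.obj (op (∏ᶜ ((fun _ : PUnit.{w + 1} => X) ∘ i)))))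

lemma cmpInv_hom (n : SimplexCategory) : cmpInv.{w} X Q n ≫ cmpHom.{w} X Q n = 𝟙 _ :=
  Pi.lift_π _ _

lemma cmpHom_inv (n : SimplexCategory) : cmpHom.{w} X Q n ≫ cmpInv.{w} X Q n = 𝟙 _ := by
  refine Pi.hom_ext (f := fun i : ToType n → PUnit.{w + 1} =>
    Q.obj (op (∏ᶜ ((fun _ : PUnit.{w + 1} => X) ∘ i)))) _ _ (fun i => ?_)
  obtain rfl : i = i0 n := Subsingleton.elim _ _
  refine (Category.assoc _ _ _).trans ?_
  refine (congrArg (fun t => cmpHom.{w} X Q n ≫ t) (Pi.lift_π _ _)).trans ?_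
  exact (Category.comp_id _).trans (Category.id_comp _).symm

lemma cmpHom_naturality {n m : SimplexCategory} (θ : n ⟶ m) :
    (Ym.{w} X Q).map θ ≫ cmpHom.{w} X Q m = cmpHom.{w} X Q n ≫ (Pl X Q).map θ :=
  Pi.lift_π _ _

/-- the comparison isomorphism of cosimplicial objects -/
noncomputable def cmpIso : Ym.{w} X Q ≅ Pl X Q :=
  NatIso.ofComponents
    (fun n => ⟨cmpHom.{w} X Q n, cmpInv.{w} X Q n, cmpHom_inv.{w} X Q n, cmpInv_hom.{w} X Q n⟩)
    (fun θ => cmpHom_naturality.{w} X Q θ)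

/-- the Čech complex of the one-member family is the alternating coface complex of the plain model -/
noncomputable def cechIsoPl [Preadditive A] :
    (cechComplexFunctor (fun _ : PUnit.{w + 1} => X)).obj Q ≅
      (AlgebraicTopology.alternatingCofaceMapComplex A).obj (Pl X Q) :=
  (AlgebraicTopology.alternatingCofaceMapComplex A).mapIso (cmpIso.{w} X Q)

end Compare


section Extra

open MonoidalCategory CartesianMonoidalCategory

variable [CartesianMonoidalCategory D]

/-- the base-changed presheaf `W ↦ Q(W ⊗ X)` -/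
noncomputable abbrev QT : Dᵒᵖ ⥤ A := (tensorRight X).op ⋙ Q

/-- the plain cosimplicial object of the base-changed presheaf -/
noncomputable abbrev PlT : CosimplicialObject A := Pl X (QT X Q)

/-- components of the extra degeneracy -/
noncomputable def τc (n : ℕ) (a : Fin (n + 2)) : pw X ⦋n⦌ ⊗ X ⟶ X :=
  Fin.cases (motive := fun _ => (pw X ⦋n⦌ ⊗ X ⟶ X)) (snd _ _)
    (fun j => fst _ _ ≫ Pi.π (fun _ : ToType ⦋n⦌ => X) j) a

lemma τc_zero (n : ℕ) : τc X n 0 = snd _ _ := rfl

lemma τc_succ (n : ℕ) (j : Fin (n + 1)) :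
    τc X n j.succ = fst _ _ ≫ Pi.π (fun _ : ToType ⦋n⦌ => X) j := rfl

/-- the extra degeneracy `(w, x) ↦ ((x, w), x)` -/
noncomputable def τ (n : ℕ) : pw X ⦋n⦌ ⊗ X ⟶ pw X ⦋n + 1⦌ ⊗ X :=
  lift (Pi.lift (fun a : ToType ⦋n + 1⦌ => τc X n a)) (snd _ _)

lemma τ_snd (n : ℕ) : τ X n ≫ snd _ _ = snd _ _ := lift_snd _ _

lemma τ_fst_π (n : ℕ) (a : Fin (n + 2)) :
    τ X n ≫ fst _ _ ≫ Pi.π (fun _ : ToType ⦋n + 1⦌ => X) a = τc X n a := by
  rw [τ, lift_fst_assoc]
  exact Pi.lift_π _ _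

lemma reidx_δ_π (n : ℕ) (i : Fin (n + 2)) (a : Fin (n + 1)) :
    reidx X (SimplexCategory.δ i) ≫ Pi.π (fun _ : ToType ⦋n⦌ => X) a =
      Pi.π (fun _ : ToType ⦋n + 1⦌ => X) (i.succAbove a) :=
  Pi.lift_π _ _

lemma τ_δ₀ (n : ℕ) :
    τ X n ≫ (reidx X (SimplexCategory.δ (0 : Fin (n + 2))) ▷ X) = 𝟙 _ := by
  apply CartesianMonoidalCategory.hom_ext
  · rw [Category.assoc, whiskerRight_fst, Category.id_comp]
    apply Pi.hom_ext; intro a
    rw [Category.assoc, Category.assoc, reidx_δ_π, τ_fst_π, Fin.succAbove_zero, τc_succ]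
  · rw [Category.assoc, whiskerRight_snd, Category.id_comp, τ_snd]

lemma τ_δ (n : ℕ) (i : Fin (n + 2)) :
    τ X (n + 1) ≫ (reidx X (SimplexCategory.δ i.succ) ▷ X) =
      (reidx X (SimplexCategory.δ i) ▷ X) ≫ τ X n := by
  apply CartesianMonoidalCategory.hom_ext
  · rw [Category.assoc, whiskerRight_fst]
    apply Pi.hom_ext; intro a
    rw [Category.assoc, Category.assoc, reidx_δ_π, τ_fst_π, Category.assoc, Category.assoc, τ_fst_π]
    induction a using Fin.cases with
    | zero =>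
      rw [Fin.succ_succAbove_zero, τc_zero, τc_zero, whiskerRight_snd]
    | succ j =>
      rw [Fin.succ_succAbove_succ, τc_succ, τc_succ, whiskerRight_fst_assoc, reidx_δ_π]
  · rw [Category.assoc, whiskerRight_snd, τ_snd, Category.assoc, τ_snd, whiskerRight_snd]

/-- the extra codegeneracy on the base-changed plain model -/
noncomputable def sdeg (n : ℕ) : (PlT X Q).obj ⦋n + 1⦌ ⟶ (PlT X Q).obj ⦋n⦌ := Q.map (τ X n).op

lemma PlT_δ (n : ℕ) (i : Fin (n + 2)) :
    (PlT X Q).δ i = Q.map (reidx X (SimplexCategory.δ i) ▷ X).op := rfl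

lemma δ₀_sdeg (n : ℕ) : (PlT X Q).δ (0 : Fin (n + 2)) ≫ sdeg X Q n = 𝟙 _ := by
  have h := congrArg (fun f => Q.map f.op) (τ_δ₀ X n)
  simp only [op_comp, Q.map_comp, op_id, Q.map_id] at h
  exact h

lemma δ_sdeg (n : ℕ) (i : Fin (n + 2)) :
    (PlT X Q).δ i.succ ≫ sdeg X Q (n + 1) = sdeg X Q n ≫ (PlT X Q).δ i := by
  have h := congrArg (fun f => Q.map f.op) (τ_δ X n i)
  simp only [op_comp, Q.map_comp] at h
  exact h

/-- the comparison from the plain model to its base change (induced by the projections `W ⊗ X → W`) -/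
noncomputable def ρ : Pl X Q ⟶ PlT X Q where
  app n := Q.map (fst (pw X n) X).op
  naturality n m θ := by
    change Q.map (reidx X θ).op ≫ Q.map (fst (pw X m) X).op =
      Q.map (fst (pw X n) X).op ≫ Q.map (reidx X θ ▷ X).op
    rw [← Q.map_comp, ← Q.map_comp, ← op_comp, ← op_comp, whiskerRight_fst]

end Extra


section Homotopy

open MonoidalCategory CartesianMonoidalCategory

variable [Preadditive A] [CartesianMonoidalCategory D]

open AlgebraicTopology

/-- the alternating coface map complex -/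
noncomputable abbrev K (Y : CosimplicialObject A) : CochainComplex A ℕ :=
  AlternatingCofaceMapComplex.obj Y

lemma K_d (Y : CosimplicialObject A) (n : ℕ) :
    (K Y).d n (n + 1) = ∑ i : Fin (n + 2), (-1 : ℤ) ^ (i : ℕ) • Y.δ i :=
  CochainComplex.of_d (fun n => Y.obj ⦋n⦌) (AlternatingCofaceMapComplex.objD Y) n

/-- typed version of the extra codegeneracy -/
noncomputable def sK (n : ℕ) : (K (PlT X Q)).X (n + 1) ⟶ (K (PlT X Q)).X n := sdeg X Q n

lemma sK_homotopy (n : ℕ) :
    (K (PlT X Q)).d (n + 1) (n + 2) ≫ sK X Q (n + 1) + sK X Q n ≫ (K (PlT X Q)).d n (n + 1) = 𝟙 _ := by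
  rw [K_d (PlT X Q) (n + 1), K_d (PlT X Q) n]
  have : (∑ i : Fin (n + 1 + 2), (-1 : ℤ) ^ (i : ℕ) • (PlT X Q).δ i) ≫ sdeg X Q (n + 1) +
      sdeg X Q n ≫ ∑ i : Fin (n + 2), (-1 : ℤ) ^ (i : ℕ) • (PlT X Q).δ i = 𝟙 _ := by
    simp [Fin.sum_univ_succ (n := n + 2), δ₀_sdeg, Preadditive.sum_comp,
      Preadditive.comp_sum, δ_sdeg, pow_succ]
  exact this

/-- the comparison as a morphism of complexes -/
noncomputable def ρK : K (Pl X Q) ⟶ K (PlT X Q) := AlternatingCofaceMapComplex.map (ρ X Q)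

lemma ρK_f (n : ℕ) : (ρK X Q).f n = (ρ X Q).app ⦋n⦌ := by
  simp [ρK, AlternatingCofaceMapComplex.map] <;> rfl

end Homotopy

end Groth.Agent.Lib.Helper14.CechPlain
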