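import Mathlib.CategoryTheory.Sites.SheafCohomology.Cech
import Mathlib.CategoryTheory.Limits.Shapes.ConcreteCategory
import Mathlib.Algebra.Category.Grp.Adjunctions
import Mathlib.Algebra.Category.Grp.Limits
import Mathlib.Algebra.Homology.ShortComplex.Ab
import Mathlib.Algebra.Homology.ShortComplex.HomologicalComplex
import Mathlib.CategoryTheory.Preadditive.Injective.Basic
import Mathlib.CategoryTheory.EssentiallySmall
import Mathlib.CategoryTheory.Comma.Over.Basic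
import Mathlib.AlgebraicTopology.AlternatingFaceMapComplex
import Mathlib.CategoryTheory.Preadditive.FunctorCategory
import Mathlib.CategoryTheory.Abelian.FunctorCategory
import Mathlib.Algebra.Homology.ShortComplex.ExactFunctor
import Mathlib.Algebra.Category.Grp.Abelian

universe w v u

set_option linter.unusedSectionVars false

open CategoryTheory Limits Opposite

namespace Groth.Agent.Lib.Helper14.CechPsh

variable {C : Type u} [Category.{v} C] [LocallySmall.{w} C] {U : C}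

/-- shrink a morphism -/
noncomputable abbrev sh {W V : C} (f : W ⟶ V) : Shrink.{w} (W ⟶ V) := equivShrink _ f
/-- unshrink -/
noncomputable abbrev un {W V : C} (s : Shrink.{w} (W ⟶ V)) : W ⟶ V := (equivShrink _).symm s

@[simp] lemma un_sh {W V : C} (f : W ⟶ V) : un (sh.{w} f) = f := Equiv.symm_apply_apply _ _
@[simp] lemma sh_un {W V : C} (s : Shrink.{w} (W ⟶ V)) : sh (un s) = s := Equiv.apply_symm_apply _ _

/-- the presheaf of points of a formal coproduct over `U`, on `C` -/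
noncomputable def pts (𝒱 : FormalCoproduct.{w} (Over U)) : Cᵒᵖ ⥤ Type w where
  obj W := Σ i : 𝒱.I, Shrink.{w} (W.unop ⟶ (𝒱.obj i).left)
  map g := ↾fun p => ⟨p.1, sh (g.unop ≫ un p.2)⟩
  map_id W := by
    refine ConcreteCategory.hom_ext _ _ (fun p => ?_)
    change (⟨p.1, sh ((𝟙 W).unop ≫ un p.2)⟩ : Σ i : 𝒱.I, Shrink.{w} (W.unop ⟶ (𝒱.obj i).left)) = p
    rw [unop_id, Category.id_comp, sh_un]
  map_comp {W₁ W₂ W₃} f g := by
    refine ConcreteCategory.hom_ext _ _ (fun p => ?_)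
    change (⟨p.1, sh ((f ≫ g).unop ≫ un p.2)⟩ : Σ i : 𝒱.I, Shrink.{w} (W₃.unop ⟶ (𝒱.obj i).left)) =
      ⟨p.1, sh (g.unop ≫ un (sh (f.unop ≫ un p.2)))⟩
    rw [un_sh, unop_comp, Category.assoc]

lemma pts_map_apply (𝒱 : FormalCoproduct.{w} (Over U)) {W W' : Cᵒᵖ} (g : W ⟶ W')
    (p : (pts 𝒱).obj W) : (pts 𝒱).map g p = ⟨p.1, sh (g.unop ≫ un p.2)⟩ := rfl

/-- functoriality of points -/
noncomputable def ptsMap {𝒱 𝒱' : FormalCoproduct.{w} (Over U)} (f : 𝒱 ⟶ 𝒱') : pts 𝒱 ⟶ pts 𝒱' where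
  app W := ↾fun p => ⟨f.f p.1, sh (un p.2 ≫ (f.φ p.1).left)⟩
  naturality W W' g := by
    refine ConcreteCategory.hom_ext _ _ (fun p => ?_)
    change (⟨f.f p.1, sh (un (sh (g.unop ≫ un p.2)) ≫ (f.φ p.1).left)⟩ :
      Σ i : 𝒱'.I, Shrink.{w} (W'.unop ⟶ (𝒱'.obj i).left)) =
      ⟨f.f p.1, sh (g.unop ≫ un (sh (un p.2 ≫ (f.φ p.1).left)))⟩
    rw [un_sh, un_sh, Category.assoc]

lemma ptsMap_app_apply {𝒱 𝒱' : FormalCoproduct.{w} (Over U)} (f : 𝒱 ⟶ 𝒱') (W : Cᵒᵖ)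
    (p : (pts 𝒱).obj W) : (ptsMap f).app W p = ⟨f.f p.1, sh (un p.2 ≫ (f.φ p.1).left)⟩ := rfl

/-- the points functor -/
noncomputable def ptsF : FormalCoproduct.{w} (Over U) ⥤ (Cᵒᵖ ⥤ Type w) where
  obj 𝒱 := pts 𝒱
  map f := ptsMap f
  map_id 𝒱 := by
    ext W p
    change (⟨p.1, sh (un p.2 ≫ (𝟙 (𝒱.obj p.1) : 𝒱.obj p.1 ⟶ 𝒱.obj p.1).left)⟩ :
      Σ i : 𝒱.I, Shrink.{w} (W.unop ⟶ (𝒱.obj i).left)) = p
    rw [Over.id_left, Category.comp_id, sh_un]
    rfl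
  map_comp {𝒱₁ 𝒱₂ 𝒱₃} f g := by
    ext W p
    change (⟨g.f (f.f p.1), sh (un p.2 ≫ (f.φ p.1 ≫ g.φ (f.f p.1)).left)⟩ :
      Σ i : 𝒱₃.I, Shrink.{w} (W.unop ⟶ (𝒱₃.obj i).left)) =
      ⟨g.f (f.f p.1), sh (un (sh (un p.2 ≫ (f.φ p.1).left)) ≫ (g.φ (f.f p.1)).left)⟩
    rw [un_sh, Over.comp_left, Category.assoc]

/-- the free abelian presheaf on the points -/
noncomputable abbrev Q : FormalCoproduct.{w} (Over U) ⥤ (Cᵒᵖ ⥤ AddCommGrpCat.{w}) :=
  ptsF ⋙ (Functor.whiskeringRight _ _ _).obj AddCommGrpCat.free.{w}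

/-- the tautological point -/
noncomputable abbrev tpt (𝒱 : FormalCoproduct.{w} (Over U)) (i : 𝒱.I) :
    (pts 𝒱).obj (op (𝒱.obj i).left) := ⟨i, sh (𝟙 _)⟩

lemma Q_map_of (𝒱 : FormalCoproduct.{w} (Over U)) {W W' : Cᵒᵖ} (g : W ⟶ W')
    (p : (pts 𝒱).obj W) :
    ((Q.obj 𝒱).map g) (FreeAbelianGroup.of p) = FreeAbelianGroup.of ((pts 𝒱).map g p) := by
  change FreeAbelianGroup.map _ (FreeAbelianGroup.of p) = _
  exact FreeAbelianGroup.map_of_apply _

lemma Q_map_app_of {𝒱 𝒱' : FormalCoproduct.{w} (Over U)} (f : 𝒱 ⟶ 𝒱') (W : Cᵒᵖ)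
    (p : (pts 𝒱).obj W) :
    ((Q.map f).app W) (FreeAbelianGroup.of p) = FreeAbelianGroup.of ((ptsMap f).app W p) := by
  change FreeAbelianGroup.map _ (FreeAbelianGroup.of p) = _
  exact FreeAbelianGroup.map_of_apply _


section Rep

variable (P : Cᵒᵖ ⥤ AddCommGrpCat.{w}) (𝒱 : FormalCoproduct.{w} (Over U))

/-- two morphisms out of a free abelian group agree if they agree on generators -/
lemma free_hom_ext {α : Type w} {A : AddCommGrpCat.{w}} (f g : AddCommGrpCat.free.obj α ⟶ A)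
    (h : ∀ a : α, f (FreeAbelianGroup.of a) = g (FreeAbelianGroup.of a)) : f = g := by
  apply AddCommGrpCat.hom_ext
  exact FreeAbelianGroup.lift_ext _ _ h

/-- evaluation at the tautological points -/
noncomputable def toPi : (Q.obj 𝒱 ⟶ P) →+ (∀ i : 𝒱.I, P.obj (op (𝒱.obj i).left)) where
  toFun α i := α.app (op (𝒱.obj i).left) (FreeAbelianGroup.of (tpt 𝒱 i))
  map_zero' := rfl
  map_add' _ _ := rfl

/-- the morphism with given values at the tautological points -/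
noncomputable def ofPi (t : ∀ i : 𝒱.I, P.obj (op (𝒱.obj i).left)) : Q.obj 𝒱 ⟶ P where
  app W := AddCommGrpCat.ofHom (FreeAbelianGroup.lift
    (fun p : (pts 𝒱).obj W => P.map (un p.2).op (t p.1)))
  naturality W W' g := by
    refine free_hom_ext _ _ (fun p => ?_)
    have h1 : ((Q.obj 𝒱).map g) (FreeAbelianGroup.of p) =
        FreeAbelianGroup.of ((pts 𝒱).map g p) := Q_map_of 𝒱 g p
    change (FreeAbelianGroup.lift (fun p : (pts 𝒱).obj W' => P.map (un p.2).op (t p.1)))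
        (((Q.obj 𝒱).map g) (FreeAbelianGroup.of p)) =
      P.map g ((FreeAbelianGroup.lift (fun p : (pts 𝒱).obj W => P.map (un p.2).op (t p.1)))
        (FreeAbelianGroup.of p))
    refine (congrArg (FreeAbelianGroup.lift (fun p : (pts 𝒱).obj W' => P.map (un p.2).op (t p.1))) h1).trans ?_
    refine (FreeAbelianGroup.lift_apply_of _ _).trans ?_
    refine Eq.trans ?_ (congrArg (P.map g) (FreeAbelianGroup.lift_apply_of
      (fun p : (pts 𝒱).obj W => P.map (un p.2).op (t p.1)) p)).symm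
    change P.map (un (sh (g.unop ≫ un p.2))).op (t p.1) = P.map g (P.map (un p.2).op (t p.1))
    rw [un_sh, op_comp, Quiver.Hom.op_unop, Functor.map_comp]
    rfl

lemma ofPi_app_of (t : ∀ i : 𝒱.I, P.obj (op (𝒱.obj i).left)) (W : Cᵒᵖ) (p : (pts 𝒱).obj W) :
    (ofPi P 𝒱 t).app W (FreeAbelianGroup.of p) = P.map (un p.2).op (t p.1) :=
  FreeAbelianGroup.lift_apply_of _ _

lemma toPi_ofPi (t : ∀ i : 𝒱.I, P.obj (op (𝒱.obj i).left)) : toPi P 𝒱 (ofPi P 𝒱 t) = t := by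
  funext i
  change (ofPi P 𝒱 t).app _ (FreeAbelianGroup.of (tpt 𝒱 i)) = t i
  rw [ofPi_app_of]
  change P.map (un (sh (𝟙 _))).op (t i) = t i
  rw [un_sh, op_id, P.map_id]
  rfl

lemma app_of_eq (α : Q.obj 𝒱 ⟶ P) (W : Cᵒᵖ) (p : (pts 𝒱).obj W) :
    α.app W (FreeAbelianGroup.of p) = P.map (un p.2).op (toPi P 𝒱 α p.1) := by
  have h := NatTrans.naturality_apply α (un p.2).op (FreeAbelianGroup.of (tpt 𝒱 p.1))
  refine Eq.trans ?_ h
  refine congrArg (α.app W) ?_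
  refine Eq.trans ?_ (Q_map_of 𝒱 (un p.2).op (tpt 𝒱 p.1)).symm
  refine congrArg FreeAbelianGroup.of ?_
  change p = ⟨p.1, sh (un p.2 ≫ un (sh (𝟙 _)))⟩
  rw [un_sh, Category.comp_id, sh_un]
  rfl

lemma toPi_injective : Function.Injective (toPi P 𝒱) := by
  intro α β h
  ext W : 2
  refine free_hom_ext _ _ (fun p => ?_)
  exact (app_of_eq P 𝒱 α W p).trans
    ((congrArg (fun t => P.map (un p.2).op (t p.1)) h).trans (app_of_eq P 𝒱 β W p).symm)

end Rep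


section Prod

variable (P : Cᵒᵖ ⥤ AddCommGrpCat.{w})

/-- restriction of a presheaf to `Over U` -/
abbrev res : (Over U)ᵒᵖ ⥤ AddCommGrpCat.{w} := (Over.forget U).op ⋙ P

/-- the family of factors -/
abbrev fam (𝒱 : FormalCoproduct.{w} (Over U)) : 𝒱.I → AddCommGrpCat.{w} :=
  fun i => (res (U := U) P).obj (op (𝒱.obj i))

/-- the value of `P` on a formal coproduct -/
noncomputable abbrev ev (𝒱 : FormalCoproduct.{w} (Over U)) : AddCommGrpCat.{w} := ∏ᶜ fam P 𝒱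

lemma ev_eq (𝒱 : FormalCoproduct.{w} (Over U)) :
    ((FormalCoproduct.evalOp.{w} (Over U) AddCommGrpCat.{w}).obj (res (U := U) P)).obj (op 𝒱) = ev P 𝒱 :=
  rfl

lemma ev_ext {𝒱 : FormalCoproduct.{w} (Over U)} (x y : ev P 𝒱)
    (h : ∀ i, Pi.π (fam P 𝒱) i x = Pi.π (fam P 𝒱) i y) : x = y := by
  apply (Concrete.productEquiv (fam P 𝒱)).injective
  funext i
  exact (Concrete.productEquiv_apply_apply (fam P 𝒱) x i).trans
    ((h i).trans (Concrete.productEquiv_apply_apply (fam P 𝒱) y i).symm)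

/-- evaluation at the tautological points, with values in the categorical product -/
noncomputable def toEv (𝒱 : FormalCoproduct.{w} (Over U)) : (Q.obj 𝒱 ⟶ P) → ev P 𝒱 :=
  fun α => (Concrete.productEquiv (fam P 𝒱)).symm (toPi P 𝒱 α)

lemma π_toEv (𝒱 : FormalCoproduct.{w} (Over U)) (α : Q.obj 𝒱 ⟶ P) (i : 𝒱.I) :
    Pi.π (fam P 𝒱) i (toEv P 𝒱 α) = α.app (op (𝒱.obj i).left) (FreeAbelianGroup.of (tpt 𝒱 i)) :=
  Concrete.productEquiv_symm_apply_π (fam P 𝒱) (toPi P 𝒱 α) i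

lemma toEv_injective (𝒱 : FormalCoproduct.{w} (Over U)) : Function.Injective (toEv P 𝒱) :=
  (Equiv.injective _).comp (toPi_injective P 𝒱)

lemma toEv_surjective (𝒱 : FormalCoproduct.{w} (Over U)) : Function.Surjective (toEv P 𝒱) := by
  intro x
  refine ⟨ofPi P 𝒱 (Concrete.productEquiv (fam P 𝒱) x), ?_⟩
  change (Concrete.productEquiv (fam P 𝒱)).symm (toPi P 𝒱 (ofPi P 𝒱 _)) = x
  exact (congrArg (Concrete.productEquiv (fam P 𝒱)).symm (toPi_ofPi P 𝒱 _)).trans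
    (Equiv.symm_apply_apply _ _)

lemma toEv_zero (𝒱 : FormalCoproduct.{w} (Over U)) : toEv P 𝒱 0 = 0 := by
  apply ev_ext
  intro i
  refine (π_toEv P 𝒱 0 i).trans ?_
  exact (map_zero (Pi.π (fam P 𝒱) i).hom).symm

lemma toEv_add (𝒱 : FormalCoproduct.{w} (Over U)) (α β : Q.obj 𝒱 ⟶ P) :
    toEv P 𝒱 (α + β) = toEv P 𝒱 α + toEv P 𝒱 β := by
  apply ev_ext
  intro i
  refine (π_toEv P 𝒱 (α + β) i).trans ?_
  refine Eq.trans ?_ (map_add (Pi.π (fam P 𝒱) i).hom _ _).symm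
  exact (congrArg₂ (· + ·) (π_toEv P 𝒱 α i) (π_toEv P 𝒱 β i)).symm

/-- `toEv` as an additive map -/
noncomputable def toEvHom (𝒱 : FormalCoproduct.{w} (Over U)) : (Q.obj 𝒱 ⟶ P) →+ ev P 𝒱 where
  toFun := toEv P 𝒱
  map_zero' := toEv_zero P 𝒱
  map_add' := toEv_add P 𝒱

lemma toEvHom_apply (𝒱 : FormalCoproduct.{w} (Over U)) (α : Q.obj 𝒱 ⟶ P) :
    toEvHom P 𝒱 α = toEv P 𝒱 α := rfl

lemma toEv_map {𝒱 𝒱' : FormalCoproduct.{w} (Over U)} (f : 𝒱 ⟶ 𝒱') (a : Q.obj 𝒱' ⟶ P) :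
    toEv P 𝒱 (Q.map f ≫ a) =
      ((FormalCoproduct.evalOp.{w} (Over U) AddCommGrpCat.{w}).obj (res (U := U) P)).map f.op
        (toEv P 𝒱' a) := by
  apply ev_ext
  intro i
  refine (π_toEv P 𝒱 _ i).trans ?_
  have h2 : ((FormalCoproduct.evalOp.{w} (Over U) AddCommGrpCat.{w}).obj (res (U := U) P)).map f.op ≫
      Pi.π (fam P 𝒱) i = Pi.π (fam P 𝒱') (f.f i) ≫ (res (U := U) P).map (f.φ i).op :=
    Pi.lift_π _ _
  refine Eq.trans ?_ (ConcreteCategory.congr_hom h2 (toEv P 𝒱' a)).symm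
  change a.app _ ((Q.map f).app _ (FreeAbelianGroup.of (tpt 𝒱 i))) =
    P.map (f.φ i).left.op (Pi.π (fam P 𝒱') (f.f i) (toEv P 𝒱' a))
  refine (congrArg (a.app _) (Q_map_app_of f _ (tpt 𝒱 i))).trans ?_
  refine (app_of_eq P 𝒱' a _ _).trans ?_
  refine Eq.trans ?_ (congrArg (P.map (f.φ i).left.op) (π_toEv P 𝒱' a (f.f i))).symm
  change P.map (un (sh (un (sh (𝟙 _)) ≫ (f.φ i).left))).op _ = _
  rw [un_sh, un_sh, Category.id_comp]
  rfl

end Prod


section Cx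

open Simplicial AlgebraicTopology

variable [HasFiniteProducts (Over U)] {ι : Type w} (Uf : ι → Over U)

/-- the Čech simplicial formal coproduct -/
noncomputable abbrev E : SimplicialObject (FormalCoproduct.{w} (Over U)) :=
  (FormalCoproduct.mk _ Uf).cech

/-- the simplicial abelian presheaf `ℤ[Čech nerve]` on `C` -/
noncomputable abbrev X : SimplicialObject (Cᵒᵖ ⥤ AddCommGrpCat.{w}) := E Uf ⋙ Q

/-- its chain complex -/
noncomputable abbrev K : ChainComplex (Cᵒᵖ ⥤ AddCommGrpCat.{w}) ℕ :=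
  (alternatingFaceMapComplex _).obj (X Uf)

/-- the Čech complex -/
noncomputable abbrev cech (P : Cᵒᵖ ⥤ AddCommGrpCat.{w}) : CochainComplex AddCommGrpCat.{w} ℕ :=
  (cechComplexFunctor Uf).obj (res (U := U) P)

lemma cech_X (P : Cᵒᵖ ⥤ AddCommGrpCat.{w}) (n : ℕ) :
    (cech Uf P).X n = ev P ((E Uf).obj (op ⦋n⦌)) := rfl

lemma K_d (n : ℕ) : (K Uf).d (n + 1) n =
    ∑ k : Fin (n + 2), (-1 : ℤ) ^ (k : ℕ) • (X Uf).δ k := by
  rw [alternatingFaceMapComplex_obj_d]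
  rfl

lemma cech_d (P : Cᵒᵖ ⥤ AddCommGrpCat.{w}) (n : ℕ) : (cech Uf P).d n (n + 1) =
    ∑ k : Fin (n + 2), (-1 : ℤ) ^ (k : ℕ) •
      ((FormalCoproduct.evalOp.{w} (Over U) AddCommGrpCat.{w}).obj (res (U := U) P)).map
        ((E Uf).δ k).op := by
  have : (cech Uf P).d n (n + 1) = AlternatingCofaceMapComplex.objD
      ((FormalCoproduct.cosimplicialObjectFunctor (E Uf)).obj (res (U := U) P)) n := by
    apply CochainComplex.of_d
  rw [this]
  rfl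

lemma sum_hom_apply {A B : AddCommGrpCat.{w}} {J : Type*} (s : Finset J) (f : J → (A ⟶ B)) (a : A) :
    (∑ j ∈ s, f j) a = ∑ j ∈ s, f j a :=
  map_sum (⟨⟨fun ψ : A ⟶ B => ψ a, rfl⟩, fun _ _ => rfl⟩ : (A ⟶ B) →+ B) f s

lemma toEv_d (P : Cᵒᵖ ⥤ AddCommGrpCat.{w}) (n : ℕ) (a : (K Uf).X n ⟶ P) :
    toEv P ((E Uf).obj (op ⦋n + 1⦌)) ((K Uf).d (n + 1) n ≫ a) =
      (cech Uf P).d n (n + 1) (toEv P ((E Uf).obj (op ⦋n⦌)) a) := by
  rw [K_d, cech_d, Preadditive.sum_comp]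
  refine (map_sum (toEvHom P ((E Uf).obj (op ⦋n + 1⦌))) _ _).trans ?_
  refine Eq.trans ?_ (sum_hom_apply _ _ _).symm
  refine Finset.sum_congr rfl (fun k _ => ?_)
  rw [Preadditive.zsmul_comp]
  refine (map_zsmul (toEvHom P ((E Uf).obj (op ⦋n + 1⦌))) _ _).trans ?_
  exact congrArg (fun z => ((-1 : ℤ) ^ (k : ℕ)) • z) (toEv_map P ((E Uf).δ k) a)


section Model

variable (W : C)

/-- vertices of the abstract model -/
abbrev Vx := Σ i : ι, (W ⟶ (Uf i).left)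

/-- the base morphism of a vertex -/
abbrev bs (b : Vx Uf W) : W ⟶ U := b.2 ≫ (Uf b.1).hom

/-- simplices of the abstract model -/
abbrev M (n : ℕ) := {t : Fin (n + 1) → Vx Uf W // ∀ a b, bs Uf W (t a) = bs Uf W (t b)}

/-- simplices of the points presheaf -/
abbrev S (n : ℕ) := Σ x : Fin (n + 1) → ι, Shrink.{w} (W ⟶ (∏ᶜ (Uf ∘ x)).left)

lemma S_eq (n : ℕ) : (pts ((E Uf).obj (op ⦋n⦌))).obj (op W) = S Uf W n := rfl

/-- from the points presheaf to the model -/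
noncomputable def e (n : ℕ) (p : S Uf W n) : M Uf W n :=
  ⟨fun a => ⟨p.1 a, un p.2 ≫ (Pi.π (Uf ∘ p.1) a).left⟩, fun a b => by
    change (un p.2 ≫ (Pi.π (Uf ∘ p.1) a).left) ≫ (Uf (p.1 a)).hom =
      (un p.2 ≫ (Pi.π (Uf ∘ p.1) b).left) ≫ (Uf (p.1 b)).hom
    rw [Category.assoc, Category.assoc]
    exact (congrArg (fun z => un p.2 ≫ z) (Over.w (Pi.π (Uf ∘ p.1) a))).trans
      (congrArg (fun z => un p.2 ≫ z) (Over.w (Pi.π (Uf ∘ p.1) b))).symm⟩

/-- from the model to the points presheaf -/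
noncomputable def r (n : ℕ) (m : M Uf W n) : S Uf W n :=
  ⟨fun a => (m.1 a).1, sh (Pi.lift (fun a => (Over.homMk (m.1 a).2 (m.2 a 0) :
    Over.mk (bs Uf W (m.1 0)) ⟶ Uf (m.1 a).1))).left⟩


lemma r_e (n : ℕ) (p : S Uf W n) : r Uf W n (e Uf W n p) = p := by
  obtain ⟨x, s⟩ := p
  have h0 : un s ≫ (∏ᶜ (Uf ∘ x)).hom = bs Uf W ((e Uf W n ⟨x, s⟩).1 0) := by
    change _ = (un s ≫ (Pi.π (Uf ∘ x) 0).left) ≫ (Uf (x 0)).hom
    rw [Category.assoc]
    exact (congrArg (fun z => un s ≫ z) (Over.w (Pi.π (Uf ∘ x) 0))).symm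
  have h1 : (Pi.lift (fun a => (Over.homMk ((e Uf W n ⟨x, s⟩).1 a).2 ((e Uf W n ⟨x, s⟩).2 a 0) :
      Over.mk (bs Uf W ((e Uf W n ⟨x, s⟩).1 0)) ⟶ Uf ((e Uf W n ⟨x, s⟩).1 a).1))) =
      (Over.homMk (un s) h0 : Over.mk (bs Uf W ((e Uf W n ⟨x, s⟩).1 0)) ⟶ ∏ᶜ (Uf ∘ x)) := by
    apply Pi.hom_ext
    intro a
    rw [Pi.lift_π]
    apply Over.OverMorphism.ext
    rfl
  refine congrArg (Sigma.mk x) ?_
  exact (congrArg (fun f => sh (Over.Hom.left f)) h1).trans (sh_un s)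

lemma e_r (n : ℕ) (m : M Uf W n) : e Uf W n (r Uf W n m) = m := by
  apply Subtype.ext
  funext a
  have h : Pi.lift (fun a => (Over.homMk (m.1 a).2 (m.2 a 0) :
      Over.mk (bs Uf W (m.1 0)) ⟶ Uf (m.1 a).1)) ≫ Pi.π (fun a => Uf (m.1 a).1) a =
      Over.homMk (m.1 a).2 (m.2 a 0) := Pi.lift_π _ _
  change (⟨(m.1 a).1, un (sh (Pi.lift (fun a => (Over.homMk (m.1 a).2 (m.2 a 0) :
    Over.mk (bs Uf W (m.1 0)) ⟶ Uf (m.1 a).1))).left) ≫
      (Pi.π (fun a => Uf (m.1 a).1) a).left⟩ : Vx Uf W) = m.1 a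
  rw [un_sh]
  exact congrArg (Sigma.mk (m.1 a).1) (congrArg Over.Hom.left h)

/-- faces on the points presheaf -/
noncomputable def dS (n : ℕ) (k : Fin (n + 2)) (p : S Uf W (n + 1)) : S Uf W n :=
  (ptsMap ((E Uf).δ k)).app (op W) p

/-- faces on the model -/
def dM (n : ℕ) (k : Fin (n + 2)) (m : M Uf W (n + 1)) : M Uf W n :=
  ⟨m.1 ∘ Fin.succAbove k, fun _ _ => m.2 _ _⟩

lemma dS_eq (n : ℕ) (k : Fin (n + 2)) (p : S Uf W (n + 1)) :
    dS Uf W n k p = ⟨p.1 ∘ Fin.succAbove k,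
      sh (un p.2 ≫ (Pi.lift (fun a => Pi.π (Uf ∘ p.1) (Fin.succAbove k a)) :
        ∏ᶜ (Uf ∘ p.1) ⟶ ∏ᶜ (Uf ∘ (p.1 ∘ Fin.succAbove k))).left)⟩ := rfl

lemma e_dS (n : ℕ) (k : Fin (n + 2)) (p : S Uf W (n + 1)) :
    e Uf W n (dS Uf W n k p) = dM Uf W n k (e Uf W (n + 1) p) := by
  apply Subtype.ext
  funext a
  rw [dS_eq]
  change (⟨p.1 (Fin.succAbove k a), un (sh (un p.2 ≫ (Pi.lift (fun a => Pi.π (Uf ∘ p.1) (Fin.succAbove k a)) :
        ∏ᶜ (Uf ∘ p.1) ⟶ ∏ᶜ (Uf ∘ (p.1 ∘ Fin.succAbove k))).left)) ≫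
      (Pi.π (Uf ∘ (p.1 ∘ Fin.succAbove k)) a).left⟩ : Vx Uf W) =
    ⟨p.1 (Fin.succAbove k a), un p.2 ≫ (Pi.π (Uf ∘ p.1) (Fin.succAbove k a)).left⟩
  rw [un_sh, Category.assoc, ← Over.comp_left, Pi.lift_π]

/-- a chosen vertex over a base morphism -/
noncomputable def bp (φ : W ⟶ U) (h : ∃ b : Vx Uf W, bs Uf W b = φ) : Vx Uf W := h.choose

lemma bs_bp (φ : W ⟶ U) (h : ∃ b : Vx Uf W, bs Uf W b = φ) : bs Uf W (bp Uf W φ h) = φ :=
  h.choose_spec

lemma bp_congr {φ φ' : W ⟶ U} (hφ : φ = φ') (h : ∃ b : Vx Uf W, bs Uf W b = φ)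
    (h' : ∃ b : Vx Uf W, bs Uf W b = φ') : bp Uf W φ h = bp Uf W φ' h' := by
  subst hφ
  rfl

/-- the cone on the model -/
noncomputable def hM (n : ℕ) (m : M Uf W n) : M Uf W (n + 1) :=
  ⟨Fin.cons (bp Uf W (bs Uf W (m.1 0)) ⟨m.1 0, rfl⟩) m.1, by
    have key : ∀ a : Fin (n + 2),
        bs Uf W (Fin.cons (α := fun _ => Vx Uf W) (bp Uf W (bs Uf W (m.1 0)) ⟨m.1 0, rfl⟩) m.1 a) =
          bs Uf W (m.1 0) := by
      intro a
      refine Fin.cases ?_ (fun a' => ?_) a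
      · rw [Fin.cons_zero]
        exact bs_bp Uf W _ _
      · rw [Fin.cons_succ]
        exact m.2 _ _
    intro a b
    exact (key a).trans (key b).symm⟩

lemma dM_zero_hM (n : ℕ) (m : M Uf W n) : dM Uf W n 0 (hM Uf W n m) = m := by
  apply Subtype.ext
  funext a
  change Fin.cons (α := fun _ => Vx Uf W) (bp Uf W (bs Uf W (m.1 0)) ⟨m.1 0, rfl⟩) m.1
    (Fin.succAbove 0 a) = m.1 a
  rw [Fin.succAbove_zero, Fin.cons_succ]

lemma dM_succ_hM (n : ℕ) (k : Fin (n + 2)) (m : M Uf W (n + 1)) :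
    dM Uf W (n + 1) k.succ (hM Uf W (n + 1) m) = hM Uf W n (dM Uf W n k m) := by
  apply Subtype.ext
  funext a
  change Fin.cons (α := fun _ => Vx Uf W) (bp Uf W (bs Uf W (m.1 0)) ⟨m.1 0, rfl⟩) m.1
      (Fin.succAbove k.succ a) =
    Fin.cons (α := fun _ => Vx Uf W) (bp Uf W (bs Uf W (m.1 (Fin.succAbove k 0))) ⟨_, rfl⟩)
      (m.1 ∘ Fin.succAbove k) a
  refine Fin.cases ?_ (fun a' => ?_) a
  · rw [Fin.succ_succAbove_zero, Fin.cons_zero, Fin.cons_zero]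
    exact bp_congr Uf W (m.2 _ _) _ _
  · rw [Fin.succ_succAbove_succ, Fin.cons_succ, Fin.cons_succ]
    rfl

/-- the cone on the points presheaf -/
noncomputable def hS (n : ℕ) (p : S Uf W n) : S Uf W (n + 1) :=
  r Uf W (n + 1) (hM Uf W n (e Uf W n p))

lemma e_injective (n : ℕ) : Function.Injective (e Uf W n) :=
  Function.LeftInverse.injective (r_e Uf W n)

lemma dS_zero_hS (n : ℕ) (p : S Uf W n) : dS Uf W n 0 (hS Uf W n p) = p := by
  apply e_injective Uf W n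
  rw [e_dS, hS, e_r, dM_zero_hM]

lemma dS_succ_hS (n : ℕ) (k : Fin (n + 2)) (p : S Uf W (n + 1)) :
    dS Uf W (n + 1) k.succ (hS Uf W (n + 1) p) = hS Uf W n (dS Uf W n k p) := by
  apply e_injective Uf W (n + 1)
  rw [e_dS, hS, e_r, dM_succ_hM, hS, e_r, e_dS]

/-- the differential on free abelian groups -/
noncomputable def D (n : ℕ) : FreeAbelianGroup (S Uf W (n + 1)) →+ FreeAbelianGroup (S Uf W n) :=
  ∑ k : Fin (n + 2), ((-1 : ℤ) ^ (k : ℕ)) • FreeAbelianGroup.map (dS Uf W n k)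

/-- the homotopy on free abelian groups -/
noncomputable def Hh (n : ℕ) : FreeAbelianGroup (S Uf W n) →+ FreeAbelianGroup (S Uf W (n + 1)) :=
  FreeAbelianGroup.map (hS Uf W n)

lemma D_of (n : ℕ) (p : S Uf W (n + 1)) : D Uf W n (FreeAbelianGroup.of p) =
    ∑ k : Fin (n + 2), ((-1 : ℤ) ^ (k : ℕ)) • FreeAbelianGroup.of (dS Uf W n k p) := by
  unfold D
  rw [AddMonoidHom.finsetSum_apply]
  refine Finset.sum_congr rfl (fun k _ => ?_)
  rw [AddMonoidHom.smul_apply, FreeAbelianGroup.map_of_apply]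

lemma D_Hh (n : ℕ) (z : FreeAbelianGroup (S Uf W (n + 1))) :
    D Uf W (n + 1) (Hh Uf W (n + 1) z) = z - Hh Uf W n (D Uf W n z) := by
  have : (D Uf W (n + 1)).comp (Hh Uf W (n + 1)) =
      AddMonoidHom.id _ - (Hh Uf W n).comp (D Uf W n) := by
    refine FreeAbelianGroup.lift_ext _ _ (fun p => ?_)
    rw [AddMonoidHom.comp_apply, AddMonoidHom.sub_apply, AddMonoidHom.comp_apply,
      AddMonoidHom.id_apply]
    unfold Hh
    rw [FreeAbelianGroup.map_of_apply, D_of, D_of, Fin.sum_univ_succ, map_sum]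
    rw [Fin.val_zero, pow_zero, one_smul, dS_zero_hS]
    rw [sub_eq_add_neg, ← Finset.sum_neg_distrib]
    congr 1
    refine Finset.sum_congr rfl (fun k _ => ?_)
    rw [dS_succ_hS, Fin.val_succ, pow_succ, map_zsmul, FreeAbelianGroup.map_of_apply]
    simp
  exact DFunLike.congr_fun this z

lemma exact_D (n : ℕ) (z : FreeAbelianGroup (S Uf W (n + 1))) (hz : D Uf W n z = 0) :
    ∃ y, D Uf W (n + 1) y = z := by
  refine ⟨Hh Uf W (n + 1) z, ?_⟩
  rw [D_Hh, hz, map_zero, sub_zero]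

end Model


/-- Exactness of a short complex of functors can be checked objectwise. -/
lemma exact_of_evaluation {J : Type*} [Category J] {A : Type*} [Category A] [Abelian A]
    (T : ShortComplex (J ⥤ A))
    (h : ∀ j, (T.map ((evaluation J A).obj j)).Exact) : T.Exact := by
  rw [ShortComplex.exact_iff_isZero_homology, Functor.isZero_iff]
  intro j
  have hj := h j
  rw [ShortComplex.exact_iff_isZero_homology] at hj
  exact hj.of_iso (T.mapHomologyIso ((evaluation J A).obj j)).symm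

lemma K_d_app (n : ℕ) (W : Cᵒᵖ) (z : FreeAbelianGroup (S Uf W.unop (n + 1))) :
    ((K Uf).d (n + 1) n).app W z = D Uf W.unop n z := by
  rw [K_d, NatTrans.app_sum]
  refine (sum_hom_apply _ _ _).trans ?_
  unfold D
  rw [AddMonoidHom.finsetSum_apply]
  refine Finset.sum_congr rfl (fun k _ => ?_)
  rw [NatTrans.app_zsmul]
  rfl

lemma exact_K (q : ℕ) : (ShortComplex.mk ((K Uf).d (q + 2) (q + 1)) ((K Uf).d (q + 1) q)
    ((K Uf).d_comp_d _ _ _)).Exact := by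
  apply exact_of_evaluation
  intro W
  rw [ShortComplex.ab_exact_iff]
  intro z hz
  have hz' : D Uf W.unop q z = 0 := (K_d_app Uf q W z).symm.trans hz
  obtain ⟨y, hy⟩ := exact_D Uf W.unop q z hz'
  exact ⟨y, (K_d_app Uf (q + 1) W y).trans hy⟩

/-- **Čech cohomology of an injective abelian presheaf vanishes in positive degrees**
(general universes). -/
theorem isZero_cech_homology_of_injective (I : Cᵒᵖ ⥤ AddCommGrpCat.{w}) [Injective I] (q : ℕ) :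
    IsZero ((cech Uf I).homology (q + 1)) := by
  rw [← HomologicalComplex.exactAt_iff_isZero_homology,
    HomologicalComplex.exactAt_iff' _ q (q + 1) (q + 2) (by simp) (by simp),
    ShortComplex.ab_exact_iff]
  intro x hx
  obtain ⟨a, rfl⟩ := toEv_surjective I ((E Uf).obj (op ⦋q + 1⦌)) x
  have ha : (K Uf).d (q + 2) (q + 1) ≫ a = 0 := by
    apply toEv_injective I ((E Uf).obj (op ⦋q + 2⦌))
    rw [toEv_d, toEv_zero]
    exact hx
  let b := (exact_K Uf q).descToInjective a ha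
  have hb : (K Uf).d (q + 1) q ≫ b = a := (exact_K Uf q).comp_descToInjective a ha
  refine ⟨toEv I ((E Uf).obj (op ⦋q⦌)) b, ?_⟩
  refine (toEv_d Uf I q b).symm.trans ?_
  rw [hb]

end Cx

end Groth.Agent.Lib.Helper14.CechPsh
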