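import Groth.Agent.Lib.Helper14.CechPsh1
import Groth.Prelude.Def_DeltaF
import Mathlib.Algebra.Homology.HomologySequence
import Mathlib.Algebra.Homology.HomologySequenceLemmas
import Mathlib.Algebra.Homology.HomologicalComplexAbelian
import Mathlib.Algebra.Homology.ShortComplex.ExactFunctor

universe w v u

set_option linter.unusedSectionVars false

open CategoryTheory Limits Opposite Simplicial

namespace Groth.Agent.Lib.Helper14.CechPsh

section Pi

variable {J : Type w} {A B D : J → AddCommGrpCat.{w}}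

lemma piMap_apply (f : ∀ j, A j ⟶ B j) (x : (∏ᶜ A : AddCommGrpCat.{w})) (j : J) :
    Concrete.productEquiv B (Limits.Pi.map f x) j = f j (Concrete.productEquiv A x j) := by
  rw [Concrete.productEquiv_apply_apply, Concrete.productEquiv_apply_apply]
  exact ConcreteCategory.congr_hom (Limits.Pi.map_π f j) x

lemma piMap_zero (f : ∀ j, A j ⟶ B j) (g : ∀ j, B j ⟶ D j) (w : ∀ j, f j ≫ g j = 0) :
    Limits.Pi.map f ≫ Limits.Pi.map g = 0 := by
  apply Limits.Pi.hom_ext
  intro j
  simp [w]

lemma piMap_add (f g : ∀ j, A j ⟶ B j) :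
    Limits.Pi.map (fun j => f j + g j) = Limits.Pi.map f + Limits.Pi.map g := by
  apply Limits.Pi.hom_ext
  intro j
  rw [Preadditive.add_comp, Limits.Pi.map_π, Limits.Pi.map_π, Limits.Pi.map_π, Preadditive.comp_add]

/-- products of short exact sequences of abelian groups are short exact -/
lemma shortExact_piMap (f : ∀ j, A j ⟶ B j)
    (g : ∀ j, B j ⟶ D j) (w : ∀ j, f j ≫ g j = 0)
    (h : ∀ j, (ShortComplex.mk (f j) (g j) (w j)).ShortExact) :
    (ShortComplex.mk (Limits.Pi.map f) (Limits.Pi.map g) (piMap_zero f g w)).ShortExact := by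
  have hmono : ∀ j, Function.Injective (f j) := fun j =>
    (AddCommGrpCat.mono_iff_injective _).1 (h j).mono_f
  have hepi : ∀ j, Function.Surjective (g j) := fun j =>
    (AddCommGrpCat.epi_iff_surjective _).1 (h j).epi_g
  have hex : ∀ j (y : B j), g j y = 0 → ∃ x : A j, f j x = y := fun j =>
    (ShortComplex.ab_exact_iff _).1 (h j).exact
  refine ShortComplex.ShortExact.mk' ?_ ?_ ?_
  · rw [ShortComplex.ab_exact_iff]
    intro y hy
    have hy' : ∀ j, g j (Concrete.productEquiv B y j) = 0 := by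
      intro j
      rw [← piMap_apply g y j]
      have : (Limits.Pi.map g) y = 0 := hy
      rw [this]
      rw [Concrete.productEquiv_apply_apply]
      exact map_zero _
    choose x hx using fun j => hex j _ (hy' j)
    refine ⟨(Concrete.productEquiv A).symm x, ?_⟩
    apply (Concrete.productEquiv B).injective
    funext j
    change Concrete.productEquiv B (Limits.Pi.map f ((Concrete.productEquiv A).symm x)) j = _
    rw [piMap_apply, Equiv.apply_symm_apply, hx]
  · change Mono (Limits.Pi.map f)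
    rw [AddCommGrpCat.mono_iff_injective]
    intro x x' hxx
    apply (Concrete.productEquiv A).injective
    funext j
    apply hmono j
    rw [← piMap_apply, ← piMap_apply, hxx]
  · change Epi (Limits.Pi.map g)
    rw [AddCommGrpCat.epi_iff_surjective]
    intro z
    choose y hy using fun j => hepi j (Concrete.productEquiv D z j)
    refine ⟨(Concrete.productEquiv B).symm y, ?_⟩
    apply (Concrete.productEquiv D).injective
    funext j
    rw [piMap_apply, Equiv.apply_symm_apply, hy]

end Pi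

section Delta

variable {C : Type u} [Category.{v} C] {U : C} [HasFiniteProducts (Over U)] {ι : Type w}
  (Uf : ι → Over U)

/-- the Čech complex functor on abelian presheaves on `C` -/
noncomputable abbrev cxF : (Cᵒᵖ ⥤ AddCommGrpCat.{w}) ⥤ CochainComplex AddCommGrpCat.{w} ℕ :=
  (Functor.whiskeringLeft (Over U)ᵒᵖ Cᵒᵖ AddCommGrpCat.{w}).obj (Over.forget U).op ⋙
    cechComplexFunctor Uf

lemma cxF_map_f {P P' : Cᵒᵖ ⥤ AddCommGrpCat.{w}} (φ : P ⟶ P') (n : ℕ) :
    ((cxF Uf).map φ).f n =
      Limits.Pi.map (fun i : Fin (n + 1) → ι => φ.app (op (∏ᶜ (Uf ∘ i)).left)) := by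
  rfl

instance : (cxF Uf).Additive where
  map_add {P P' φ ψ} := by
    ext n : 1
    exact piMap_add (fun i : Fin (n + 1) → ι => φ.app (op (∏ᶜ (Uf ∘ i)).left))
      (fun i => ψ.app (op (∏ᶜ (Uf ∘ i)).left))

theorem shortExact_cxF (T : ShortComplex (Cᵒᵖ ⥤ AddCommGrpCat.{w})) (hT : T.ShortExact) :
    (T.map (cxF Uf)).ShortExact := by
  apply HomologicalComplex.shortExact_of_degreewise_shortExact
  intro n
  exact shortExact_piMap (fun i : Fin (n + 1) → ι => T.f.app (op (∏ᶜ (Uf ∘ i)).left))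
    (fun i => T.g.app _)
    (fun i => (T.map ((evaluation _ _).obj (op (∏ᶜ (Uf ∘ i)).left))).zero)
    (fun i => hT.map_of_exact ((evaluation _ _).obj (op (∏ᶜ (Uf ∘ i)).left)))

/-- the `p`-th Čech cohomology functor -/
noncomputable abbrev HF (p : ℕ) : (Cᵒᵖ ⥤ AddCommGrpCat.{w}) ⥤ AddCommGrpCat.{w} :=
  (Functor.whiskeringLeft (Over U)ᵒᵖ Cᵒᵖ AddCommGrpCat.{w}).obj (Over.forget U).op ⋙
    cechComplexFunctor Uf ⋙ HomologicalComplex.homologyFunctor _ _ p

instance (p : ℕ) : (HF Uf p).Additive :=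
  inferInstanceAs ((cxF Uf ⋙ HomologicalComplex.homologyFunctor _ _ p).Additive)

/-- Čech cohomology as a cohomological delta-functor on abelian presheaves -/
noncomputable def Tc : DeltaF.CohDeltaFunctor (Cᵒᵖ ⥤ AddCommGrpCat.{w}) AddCommGrpCat.{w} ℕ where
  F p := HF Uf p
  additive p := inferInstance
  δ T hT n₀ n₁ h := (shortExact_cxF Uf T hT).δ n₀ n₁ h
  δ_natural {T T'} hT hT' φ n₀ n₁ h :=
    (HomologicalComplex.HomologySequence.δ_naturality ((cxF Uf).mapShortComplex.map φ)
      (shortExact_cxF Uf T hT) (shortExact_cxF Uf T' hT') n₀ n₁ h).symm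
  exact₂ T hT n := (shortExact_cxF Uf T hT).homology_exact₂ n
  comp_δ T hT n₀ n₁ h := (shortExact_cxF Uf T hT).comp_δ n₀ n₁ h
  exact₃ T hT n₀ n₁ h := (shortExact_cxF Uf T hT).homology_exact₃ n₀ n₁ h
  δ_comp T hT n₀ n₁ h := (shortExact_cxF Uf T hT).δ_comp n₀ n₁ h
  exact₁ T hT n₀ n₁ h := (shortExact_cxF Uf T hT).homology_exact₁ n₀ n₁ h

lemma Tc_F (p : ℕ) : (Tc Uf).F p = HF Uf p := rfl

lemma Tc_zeroMono : (Tc Uf).ZeroMono := by
  intro T hT
  have := (shortExact_cxF Uf T hT).mono_f
  have : Mono (((T.map (cxF Uf)).f).f 0) :=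
    inferInstanceAs (Mono ((HomologicalComplex.eval _ _ 0).map (T.map (cxF Uf)).f))
  exact HomologicalComplex.mono_homologyMap_of_mono_of_not_rel (T.map (cxF Uf)).f 0
    (fun i => by simp)

instance : PreservesFiniteLimits (HF Uf 0) := by
  rw [Functor.preservesFiniteLimits_iff_forall_exact_map_and_mono]
  intro T hT
  exact ⟨(Tc Uf).exact₂ T hT 0, Tc_zeroMono Uf T hT⟩

end Delta

section Eff

variable {C : Type u} [Category.{v} C] [LocallySmall.{w} C] {U : C} [HasFiniteProducts (Over U)]
  {ι : Type w} (Uf : ι → Over U)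

lemma Tc_isEffaceable [EnoughInjectives (Cᵒᵖ ⥤ AddCommGrpCat.{w})] : (Tc Uf).IsEffaceable := by
  intro n P
  refine ⟨Injective.under P, Injective.ι P, inferInstance, ?_⟩
  exact (isZero_cech_homology_of_injective Uf (Injective.under P) n).eq_of_tgt _ _

end Eff

end Groth.Agent.Lib.Helper14.CechPsh
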