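import Groth.Agent.Lib.Helper14.CechPsh2
import Mathlib.CategoryTheory.Sites.Sheaf
import Mathlib.CategoryTheory.Sites.SheafOfTypes
import Mathlib.CategoryTheory.Sites.IsSheafFor

universe w v u

set_option linter.unusedSectionVars false

open CategoryTheory Limits Opposite Simplicial

namespace Groth.Agent.Lib.Helper14.CechPsh

section Zero

variable {C : Type u} [Category.{v} C] [LocallySmall.{w} C] {U : C} [HasFiniteProducts (Over U)]
  {ι : Type w} (Uf : ι → Over U)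

/-- the `0`-simplex of the model attached to a vertex -/
def m0 (W : C) (v : Vx Uf W) : M Uf W 0 := ⟨fun _ => v, fun _ _ => rfl⟩

/-- the `1`-simplex of the model attached to two vertices over the same base -/
def m1 (W : C) (v v' : Vx Uf W) (h : bs Uf W v = bs Uf W v') : M Uf W 1 :=
  ⟨![v, v'], by
    intro a b
    fin_cases a <;> fin_cases b
    · rfl
    · exact h
    · exact h.symm
    · rfl⟩

lemma dM_zero_m1 (W : C) (v v' : Vx Uf W) (h : bs Uf W v = bs Uf W v') :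
    dM Uf W 0 0 (m1 Uf W v v' h) = m0 Uf W v' := by
  apply Subtype.ext
  funext a
  fin_cases a
  rfl

lemma dM_one_m1 (W : C) (v v' : Vx Uf W) (h : bs Uf W v = bs Uf W v') :
    dM Uf W 0 1 (m1 Uf W v v' h) = m0 Uf W v := by
  apply Subtype.ext
  funext a
  fin_cases a
  rfl

/-- the point of the points presheaf attached to a vertex -/
noncomputable def p0 (W : C) (v : Vx Uf W) : S Uf W 0 := r Uf W 0 (m0 Uf W v)

lemma dS_zero_r_m1 (W : C) (v v' : Vx Uf W) (h : bs Uf W v = bs Uf W v') :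
    dS Uf W 0 0 (r Uf W 1 (m1 Uf W v v' h)) = p0 Uf W v' := by
  apply e_injective Uf W 0
  rw [e_dS, e_r, dM_zero_m1, p0, e_r]

lemma dS_one_r_m1 (W : C) (v v' : Vx Uf W) (h : bs Uf W v = bs Uf W v') :
    dS Uf W 0 1 (r Uf W 1 (m1 Uf W v v' h)) = p0 Uf W v := by
  apply e_injective Uf W 0
  rw [e_dS, e_r, dM_one_m1, p0, e_r]

/-- precomposition on vertices -/
def preV {W W' : C} (g : W' ⟶ W) (v : Vx Uf W) : Vx Uf W' := ⟨v.1, g ≫ v.2⟩

lemma bs_preV {W W' : C} (g : W' ⟶ W) (v : Vx Uf W) : bs Uf W' (preV Uf g v) = g ≫ bs Uf W v :=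
  Category.assoc _ _ _

/-- precomposition on the model -/
def preM {W W' : C} (g : W' ⟶ W) (n : ℕ) (m : M Uf W n) : M Uf W' n :=
  ⟨fun a => preV Uf g (m.1 a), fun a b => by
    rw [bs_preV, bs_preV, m.2 a b]⟩

lemma e_map {W W' : C} (g : W' ⟶ W) (n : ℕ) (q : S Uf W n) :
    e Uf W' n ((pts ((E Uf).obj (op ⦋n⦌))).map g.op q) = preM Uf g n (e Uf W n q) := by
  apply Subtype.ext
  funext a
  change (⟨q.1 a, un (sh (g ≫ un q.2)) ≫ (Pi.π (Uf ∘ q.1) a).left⟩ : Vx Uf W') =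
    ⟨q.1 a, g ≫ un q.2 ≫ (Pi.π (Uf ∘ q.1) a).left⟩
  rw [un_sh, Category.assoc]

lemma map_p0 {W W' : C} (g : W' ⟶ W) (v : Vx Uf W) :
    (pts ((E Uf).obj (op ⦋0⦌))).map g.op (p0 Uf W v) = p0 Uf W' (preV Uf g v) := by
  apply e_injective Uf W' 0
  rw [e_map, p0, e_r, p0, e_r]
  rfl

section Cocycle

variable (P : Cᵒᵖ ⥤ AddCommGrpCat.{w}) (a : (K Uf).X 0 ⟶ P) (ha : (K Uf).d 1 0 ≫ a = 0)

/-- a morphism out of `ℤ[points]`, evaluated on an object, as an additive map -/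
noncomputable def aHom (W : C) : FreeAbelianGroup (S Uf W 0) →+ P.obj (op W) :=
  (a.app (op W)).hom

/-- evaluation of a morphism out of `ℤ[points]` at a point -/
noncomputable def av (W : C) (q : S Uf W 0) : P.obj (op W) :=
  aHom Uf P a W (FreeAbelianGroup.of q)

include ha in
lemma av_dS (W : C) (q : S Uf W 1) : av Uf P a W (dS Uf W 0 0 q) = av Uf P a W (dS Uf W 0 1 q) := by
  have h1 : aHom Uf P a W (D Uf W 0 (FreeAbelianGroup.of q)) = 0 := by
    have h2 : ((K Uf).d 1 0).app (op W) (FreeAbelianGroup.of q) =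
        D Uf W 0 (FreeAbelianGroup.of q) := K_d_app Uf 0 (op W) (FreeAbelianGroup.of q)
    have h3 : a.app (op W) (((K Uf).d 1 0).app (op W) (FreeAbelianGroup.of q)) = 0 := by
      have := congrArg (fun f => f.app (op W) (FreeAbelianGroup.of q)) ha
      exact this
    exact (congrArg (aHom Uf P a W) h2).symm.trans h3
  rw [D_of, Fin.sum_univ_two] at h1
  simp only [Fin.val_zero, pow_zero, one_smul, Fin.val_one, pow_one, neg_smul] at h1
  rw [map_add, map_neg, add_neg_eq_zero] at h1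
  exact h1

include ha in
lemma av_p0_eq (W : C) (v v' : Vx Uf W) (h : bs Uf W v = bs Uf W v') :
    av Uf P a W (p0 Uf W v) = av Uf P a W (p0 Uf W v') := by
  rw [← dS_one_r_m1 Uf W v v' h, ← dS_zero_r_m1 Uf W v v' h]
  exact (av_dS Uf P a ha W _).symm

lemma map_av {W W' : C} (g : W' ⟶ W) (q : S Uf W 0) :
    P.map g.op (av Uf P a W q) =
      av Uf P a W' ((pts ((E Uf).obj (op ⦋0⦌))).map g.op q) := by
  have h := NatTrans.naturality_apply a g.op (FreeAbelianGroup.of q)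
  refine h.symm.trans ?_
  exact congrArg (a.app (op W')) (Q_map_of ((E Uf).obj (op ⦋0⦌)) g.op q)

lemma map_av_p0 {W W' : C} (g : W' ⟶ W) (v : Vx Uf W) :
    P.map g.op (av Uf P a W (p0 Uf W v)) = av Uf P a W' (p0 Uf W' (preV Uf g v)) := by
  rw [map_av, map_p0]

/-- the tautological point, as a simplex -/
noncomputable def tp (x : Fin 1 → ι) : S Uf (∏ᶜ (Uf ∘ x)).left 0 := ⟨x, sh (𝟙 _)⟩

/-- the tautological point is the point of the vertex given by the first projection -/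
lemma tp_eq_p0 (x : Fin 1 → ι) :
    tp Uf x = p0 Uf (∏ᶜ (Uf ∘ x)).left ⟨x 0, (Pi.π (Uf ∘ x) 0).left⟩ := by
  apply e_injective Uf (∏ᶜ (Uf ∘ x)).left 0
  refine Eq.trans ?_ (e_r Uf _ 0 _).symm
  apply Subtype.ext
  funext b
  obtain rfl : b = 0 := Fin.eq_zero b
  change (⟨x 0, un (sh (𝟙 _)) ≫ (Pi.π (Uf ∘ x) 0).left⟩ : Vx Uf _) = ⟨x 0, (Pi.π (Uf ∘ x) 0).left⟩
  rw [un_sh, Category.id_comp]

lemma π_toEv_zero (x : Fin 1 → ι) :
    Pi.π (fam P ((E Uf).obj (op ⦋0⦌))) x (toEv P ((E Uf).obj (op ⦋0⦌)) a) =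
      av Uf P a (∏ᶜ (Uf ∘ x)).left (p0 Uf _ ⟨x 0, (Pi.π (Uf ∘ x) 0).left⟩) := by
  refine (π_toEv P _ a x).trans ?_
  exact congrArg (av Uf P a (∏ᶜ (Uf ∘ x)).left) (tp_eq_p0 Uf x)

end Cocycle

end Zero

section SheafZero

variable {C : Type u} [SmallCategory C] {U : C} [HasFiniteProducts (Over U)]
  {ι : Type u} (Uf : ι → Over U) (J : GrothendieckTopology C)
  (P : Cᵒᵖ ⥤ AddCommGrpCat.{u}) (hP : Presheaf.IsSheaf J P)
  (hY : Sieve.ofArrows (fun i => (Uf i).left) (fun i => (Uf i).hom) ∈ J U)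

include hP hY in
lemma sheafFor : ∀ (x : ∀ i, (P ⋙ forget AddCommGrpCat.{u}).obj (op (Uf i).left)),
    Presieve.Arrows.Compatible (P ⋙ forget AddCommGrpCat.{u}) (fun i => (Uf i).hom) x →
      ∃! t, ∀ i, (P ⋙ forget AddCommGrpCat.{u}).map (Uf i).hom.op t = x i := by
  have h1 : Presheaf.IsSheaf J (P ⋙ forget AddCommGrpCat.{u}) :=
    (Presheaf.isSheaf_iff_isSheaf_forget J P (forget AddCommGrpCat.{u})).1 hP
  have h2 : Presieve.IsSheaf J (P ⋙ forget AddCommGrpCat.{u}) :=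
    (isSheaf_iff_isSheaf_of_type J _).1 h1
  have h3 := h2 _ hY
  have h4 : Presieve.IsSheafFor (P ⋙ forget AddCommGrpCat.{u})
      (Presieve.ofArrows (fun i => (Uf i).left) (fun i => (Uf i).hom)) :=
    (Presieve.isSheafFor_iff_generate _).2 h3
  exact (Presieve.isSheafFor_arrows_iff _ _).1 h4

include hP hY in
/-- separatedness: a section vanishing on all one-fold products vanishes -/
lemma eq_zero_of_restrict (s : P.obj (op U))
    (hs : ∀ x : Fin 1 → ι, P.map (∏ᶜ (Uf ∘ x)).hom.op s = 0) : s = 0 := by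
  have hi : ∀ i, P.map (Uf i).hom.op s = 0 := by
    intro i
    let ℓ : Uf i ⟶ ∏ᶜ (Uf ∘ fun _ : Fin 1 => i) := Pi.lift (fun _ => 𝟙 (Uf i))
    have hw : ℓ.left ≫ (∏ᶜ (Uf ∘ fun _ : Fin 1 => i)).hom = (Uf i).hom := Over.w ℓ
    rw [← hw, op_comp, Functor.map_comp]
    change P.map ℓ.left.op (P.map (∏ᶜ (Uf ∘ fun _ : Fin 1 => i)).hom.op s) = 0
    rw [hs, map_zero]
  obtain ⟨t, -, ht⟩ := sheafFor Uf J P hP hY (fun i => (0 : P.obj (op (Uf i).left)))
    (fun i j Z gi gj _ => by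
      change P.map gi.op 0 = P.map gj.op 0
      rw [map_zero, map_zero])
  have e1 : s = t := ht s (fun i => hi i)
  have e2 : (0 : P.obj (op U)) = t := ht 0 (fun i => by
    change P.map (Uf i).hom.op 0 = 0
    exact map_zero _)
  exact e1.trans e2.symm

include hP hY in
/-- gluing: a Čech `0`-cocycle of a sheaf for a covering family comes from a section -/
lemma exists_section_of_cocycle (y : (cech Uf P).X 0) (hy : (cech Uf P).d 0 1 y = 0) :
    ∃ s : P.obj (op U), ∀ x : Fin 1 → ι,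
      P.map (∏ᶜ (Uf ∘ x)).hom.op s = Pi.π (fam P ((E Uf).obj (op ⦋0⦌))) x y := by
  obtain ⟨a, rfl⟩ := toEv_surjective P ((E Uf).obj (op ⦋0⦌)) y
  have ha : (K Uf).d 1 0 ≫ a = 0 := by
    apply toEv_injective P ((E Uf).obj (op ⦋1⦌))
    rw [toEv_d, toEv_zero]
    exact hy
  obtain ⟨s, hs, -⟩ := sheafFor Uf J P hP hY
    (fun i => av Uf P a (Uf i).left (p0 Uf _ ⟨i, 𝟙 _⟩))
    (fun i j Z gi gj hg => by
      change P.map gi.op (av Uf P a (Uf i).left (p0 Uf _ ⟨i, 𝟙 _⟩)) =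
        P.map gj.op (av Uf P a (Uf j).left (p0 Uf _ ⟨j, 𝟙 _⟩))
      rw [map_av_p0, map_av_p0]
      apply av_p0_eq Uf P a ha
      rw [bs_preV, bs_preV]
      change gi ≫ 𝟙 _ ≫ (Uf i).hom = gj ≫ 𝟙 _ ≫ (Uf j).hom
      rw [Category.id_comp, Category.id_comp]
      exact hg)
  refine ⟨s, fun x => ?_⟩
  rw [π_toEv_zero]
  have hw : (Pi.π (Uf ∘ x) 0).left ≫ (Uf (x 0)).hom = (∏ᶜ (Uf ∘ x)).hom := Over.w (Pi.π (Uf ∘ x) 0)
  rw [← hw, op_comp, Functor.map_comp]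
  change P.map (Pi.π (Uf ∘ x) 0).left.op (P.map (Uf (x 0)).hom.op s) = _
  have h1 : P.map (Uf (x 0)).hom.op s = av Uf P a (Uf (x 0)).left (p0 Uf _ ⟨x 0, 𝟙 _⟩) := hs (x 0)
  rw [h1]
  refine (map_av_p0 Uf P a (Pi.π (Uf ∘ x) 0).left ⟨x 0, 𝟙 _⟩).trans ?_
  refine congrArg (fun v => av Uf P a (∏ᶜ (Uf ∘ x)).left (p0 Uf _ v)) ?_
  change (⟨x 0, (Pi.π (Uf ∘ x) 0).left ≫ 𝟙 _⟩ : Vx Uf _) = ⟨x 0, (Pi.π (Uf ∘ x) 0).left⟩
  rw [Category.comp_id]

end SheafZero

end Groth.Agent.Lib.Helper14.CechPsh
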