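import Groth.Agent.Lib.Helper14.TorsH1
import Groth.Agent.Lib.Helper8.ConstH1

/-!
# Helper14: `H¹` of a torsion-free constant sheaf has no torsion for locally nonzero integers
-/

set_option autoImplicit false
universe u
open CategoryTheory CategoryTheory.Limits Opposite

namespace Groth.Agent.Lib.Helper14.ConstTorsion

open Groth.Agent.Lib.Helper14.TorsH1
open Groth.Agent.Lib.Helper8

variable {C : Type u} [SmallCategory C] (J : GrothendieckTopology C)
  (A : Type u) [AddCommGroup A]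

/-- the constant sheaf with value `A` -/
noncomputable abbrev As : Sheaf J AddCommGrpCat.{u} :=
  (constantSheaf J AddCommGrpCat.{u}).obj (AddCommGrpCat.of A)

section Mult

/-- multiplication by `m` on `A` -/
noncomputable def fm (m : ℤ) : AddCommGrpCat.of A ⟶ AddCommGrpCat.of A :=
  AddCommGrpCat.ofHom (zsmulAddGroupHom m)

variable {A}

lemma fm_apply (m : ℤ) (a : A) : fm A m a = m • a := rfl

lemma mono_fm (hA : ∀ (m : ℤ) (a : A), m ≠ 0 → m • a = 0 → a = 0) (m : ℤ) (hm : m ≠ 0) :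
    Mono (fm A m) := by
  rw [AddCommGrpCat.mono_iff_injective, injective_iff_map_eq_zero]
  intro a ha
  exact hA m a hm ha

variable (A)

/-- the quotient `A / m A` -/
noncomputable abbrev Qm (m : ℤ) : AddCommGrpCat.{u} := cokernel (fm A m)

/-- the projection `A → A / m A` -/
noncomputable abbrev pm (m : ℤ) : AddCommGrpCat.of A ⟶ Qm A m := cokernel.π (fm A m)

/-- the short exact sequence `0 → A → A → A/m → 0` -/
noncomputable def Sm (m : ℤ) : ShortComplex AddCommGrpCat.{u} :=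
  ShortComplex.mk (fm A m) (pm A m) (cokernel.condition _)

variable {A}

lemma Sm_shortExact (hA : ∀ (m : ℤ) (a : A), m ≠ 0 → m • a = 0 → a = 0) (m : ℤ) (hm : m ≠ 0) :
    (Sm A m).ShortExact :=
  have := mono_fm hA m hm
  { exact := ShortComplex.exact_cokernel _
    mono_f := inferInstanceAs (Mono (fm A m))
    epi_g := inferInstanceAs (Epi (cokernel.π (fm A m))) }

lemma sect_shortExact (hA : ∀ (m : ℤ) (a : A), m ≠ 0 → m • a = 0 → a = 0) (m : ℤ) (hm : m ≠ 0)
    (V : C) : ((Sm A m).map (ConstSect.G J V)).ShortExact := by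
  have : (ConstSect.G J V).PreservesZeroMorphisms := by
    have : (ConstSect.G J V).Additive := Functor.additive_of_preserves_binary_products _
    infer_instance
  exact ConstSect.main J V (Sm A m) (Sm_shortExact hA m hm)

end Mult

section Sectionwise

variable {A}

lemma zsmul_hom_app (F : Sheaf J AddCommGrpCat.{u}) (m : ℤ) (V : Cᵒᵖ) (a : F.obj.obj V) :
    (m • 𝟙 F : F ⟶ F).hom.app V a = m • a := by
  have h1 : (m • 𝟙 F : F ⟶ F).hom = m • 𝟙 F.obj :=
    (sheafToPresheaf J AddCommGrpCat.{u}).map_zsmul (f := 𝟙 F) (r := m)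
  rw [h1, NatTrans.app_zsmul]
  rfl

instance : (constantSheaf J AddCommGrpCat.{u}).Additive := by
  unfold constantSheaf
  infer_instance

lemma cs_fm_apply (m : ℤ) (V : Cᵒᵖ) (a : (As J A).obj.obj V) :
    ((constantSheaf J AddCommGrpCat.{u}).map (fm A m)).hom.app V a = m • a := by
  have h0 : fm A m = m • 𝟙 _ := by
    ext a
    rfl
  rw [h0, Functor.map_zsmul, CategoryTheory.Functor.map_id]
  exact zsmul_hom_app J _ m V a

/-- the projection of constant sheaves `A → A/m` -/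
noncomputable abbrev pS (m : ℤ) :
    As J A ⟶ (constantSheaf J AddCommGrpCat.{u}).obj (Qm A m) :=
  (constantSheaf J AddCommGrpCat.{u}).map (pm A m)

variable (hA : ∀ (m : ℤ) (a : A), m ≠ 0 → m • a = 0 → a = 0) (m : ℤ) (hm : m ≠ 0)
include hA hm

lemma zsmul_injective (V : C) (a : (As J A).obj.obj (op V)) (h : m • a = 0) : a = 0 := by
  have hS := sect_shortExact J hA m hm V
  have := hS.mono_f
  have hinj : Function.Injective ((ConstSect.G J V).map (fm A m)) :=
    (AddCommGrpCat.mono_iff_injective _).1 this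
  apply hinj
  rw [map_zero]
  exact (cs_fm_apply J m (op V) a).trans h

lemma exists_zsmul_eq (V : C) (a : (As J A).obj.obj (op V))
    (h : (pS J m).hom.app (op V) a = 0) : ∃ a' : (As J A).obj.obj (op V), m • a' = a := by
  have hS := sect_shortExact J hA m hm V
  obtain ⟨a', ha'⟩ := (ShortComplex.ab_exact_iff _).1 hS.exact a h
  exact ⟨a', (cs_fm_apply J m (op V) a').symm.trans ha'⟩

omit hA hm in
lemma pS_zsmul (V : Cᵒᵖ) (a : (As J A).obj.obj V) : (pS J m).hom.app V (m • a) = 0 := by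
  rw [← cs_fm_apply J m V a]
  have h : (constantSheaf J AddCommGrpCat.{u}).map (fm A m) ≫ pS J m = 0 := by
    rw [← CategoryTheory.Functor.map_comp]
    have : fm A m ≫ pm A m = 0 := cokernel.condition _
    rw [this, Functor.map_zero]
  exact congrArg (fun t : As J A ⟶ _ => t.hom.app V a) h

end Sectionwise

section SetSection

variable {A}

/-- a set-theoretic section of `A → A/m` -/
noncomputable def σm (m : ℤ) : Qm A m → A :=
  Function.surjInv ((AddCommGrpCat.epi_iff_surjective (pm A m)).1 inferInstance)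

lemma σm_spec (m : ℤ) : Function.RightInverse (σm (A := A) m) (pm A m) :=
  Function.rightInverse_surjInv _

/-- the induced section on sections of constant sheaves -/
noncomputable def sS (m : ℤ) (V : Cᵒᵖ)
    (ρ : ((constantSheaf J AddCommGrpCat.{u}).obj (Qm A m)).obj.obj V) : (As J A).obj.obj V :=
  (ConstH1.sec J (pm A m) (σm m)).hom.app V ρ

lemma pS_sS (m : ℤ) (V : Cᵒᵖ)
    (ρ : ((constantSheaf J AddCommGrpCat.{u}).obj (Qm A m)).obj.obj V) :
    (pS J m).hom.app V (sS J m V ρ) = ρ := by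
  have h := ConstH1.sec_comp J (pm A m) (σm m) (σm_spec m)
  exact congrArg (fun t : (sheafCompose J (forget AddCommGrpCat.{u})).obj
    ((constantSheaf J AddCommGrpCat.{u}).obj (Qm A m)) ⟶ _ => t.hom.app V ρ) h

lemma sS_map (m : ℤ) {V V' : Cᵒᵖ} (f : V ⟶ V')
    (ρ : ((constantSheaf J AddCommGrpCat.{u}).obj (Qm A m)).obj.obj V) :
    (As J A).obj.map f (sS J m V ρ) =
      sS J m V' (((constantSheaf J AddCommGrpCat.{u}).obj (Qm A m)).obj.map f ρ) :=
  (ConcreteCategory.congr_hom ((ConstH1.sec J (pm A m) (σm m)).hom.naturality f) ρ).symm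

end SetSection

section Unit

variable {J}

/-- the unit section of the constant sheaf `ℤ` -/
noncomputable def one (V : Cᵒᵖ) : (Zs J).obj.obj V :=
  (toSheafify J (cZ (C := C))).app V ⟨1⟩

lemma secOfHom_eq (F : Sheaf J AddCommGrpCat.{u}) (c : Zs J ⟶ F) (V : Cᵒᵖ) :
    secOfHom F c V = c.hom.app V (one V) := by
  unfold secOfHom one
  rw [Adjunction.homEquiv_unit]
  rfl

lemma subsingleton_of_bot (F : Sheaf J AddCommGrpCat.{u}) (V : C) (h : ⊥ ∈ J V) :
    Subsingleton (F.obj.obj (op V)) :=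
  ⟨fun g g' => F_ext F ⊥ h g g' (fun _ _ ha => ha.elim)⟩

lemma bot_mem_of_zsmul_one_eq (V : C) (m m' : ℤ) (hne : m ≠ m')
    (h : m • one (J := J) (op V) = m' • one (op V)) : ⊥ ∈ J V := by
  have hW : J.W (toSheafify J (cZ (C := C))) := J.W_toSheafify _
  obtain ⟨hi, -⟩ := (J.W_iff_isLocallyBijective _).1 hW
  have h' : (toSheafify J (cZ (C := C))).app (op V) (⟨m⟩ : ULift.{u} ℤ) =
      (toSheafify J (cZ (C := C))).app (op V) (⟨m'⟩ : ULift.{u} ℤ) := by
    have e1 : (⟨m⟩ : ULift.{u} ℤ) = m • (⟨1⟩ : ULift.{u} ℤ) := by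
      apply ULift.ext; simp
    have e2 : (⟨m'⟩ : ULift.{u} ℤ) = m' • (⟨1⟩ : ULift.{u} ℤ) := by
      apply ULift.ext; simp
    rw [e1, e2, map_zsmul, map_zsmul]
    exact h
  have hmem := Presheaf.equalizerSieve_mem J (toSheafify J (cZ (C := C))) _ _ h'
  refine J.superset_covering ?_ hmem
  intro W f hf
  exfalso
  have : (⟨m⟩ : ULift.{u} ℤ) = ⟨m'⟩ := hf
  exact hne (congrArg ULift.down this)

end Unit

section Main

variable {J} {A}
variable (hA : ∀ (m : ℤ) (a : A), m ≠ 0 → m • a = 0 → a = 0)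
  {I Q : Sheaf J AddCommGrpCat.{u}} (ιI : As J A ⟶ I) (π : I ⟶ Q) (w : ιI ≫ π = 0)
  (hS : (ShortComplex.mk ιI π w).ShortExact)
  (φ : Zs J ⟶ Zs J) (c : Zs J ⟶ Q) (b : Zs J ⟶ I) (hb : b ≫ π = φ ≫ c)

/-- `φ` is multiplication by the nonzero integer `m` over `V` -/
def Good (V : C) (m : ℤ) : Prop :=
  m ≠ 0 ∧ ∀ (V' : C) (_ : V' ⟶ V), φ.hom.app (op V') = m • 𝟙 _

variable {φ} in
lemma Good.of_hom {V V' : C} {m : ℤ} (h : Good φ V m) (a : V' ⟶ V) : Good φ V' m :=
  ⟨h.1, fun V'' a' => h.2 V'' (a' ≫ a)⟩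

variable {φ} in
lemma Good.eq_or_bot {V : C} {m m' : ℤ} (h : Good φ V m) (h' : Good φ V m') :
    m = m' ∨ ⊥ ∈ J V := by
  by_cases hne : m = m'
  · exact Or.inl hne
  · refine Or.inr (bot_mem_of_zsmul_one_eq V m m' hne ?_)
    have e1 := h.2 V (𝟙 V)
    have e2 := h'.2 V (𝟙 V)
    have e3 := congrArg (fun t : (Zs J).obj.obj (op V) ⟶ (Zs J).obj.obj (op V) =>
      t (one (op V))) (e1.symm.trans e2)
    exact e3

variable {φ} in
lemma sec_φc {V : C} {m : ℤ} (h : Good φ V m) :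
    secOfHom Q (φ ≫ c) (op V) = m • secOfHom Q c (op V) := by
  rw [secOfHom_eq, secOfHom_eq]
  change c.hom.app (op V) (φ.hom.app (op V) (one (op V))) = _
  rw [h.2 V (𝟙 V)]
  change c.hom.app (op V) (m • one (op V)) = _
  rw [map_zsmul]

/-- the normalisation condition on a lifting -/
def NI (V : Cᵒᵖ) (e : I.obj.obj V) : Prop :=
  ∀ (V' : C) (a : V' ⟶ V.unop) (m : ℤ), Good φ V' m →
    ∃ ρ : ((constantSheaf J AddCommGrpCat.{u}).obj (Qm A m)).obj.obj (op V'),
      m • I.obj.map a.op e - secOfHom I b (op V') = ιI.hom.app (op V') (sS J m (op V') ρ)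

lemma NI_map {V V₁ : Cᵒᵖ} (f : V ⟶ V₁) (e : I.obj.obj V) (h : NI ιI φ b V e) :
    NI ιI φ b V₁ (I.obj.map f e) := by
  intro V' a m hg
  obtain ⟨ρ, hρ⟩ := h V' (a ≫ f.unop) m hg
  refine ⟨ρ, ?_⟩
  rw [← hρ]
  congr 2
  rw [op_comp, CategoryTheory.Functor.map_comp]
  rfl

include hA hS in
lemma NI_unique (hgood : ∀ V : C, ∃ R ∈ J V, ∀ ⦃W : C⦄ (g : W ⟶ V), R g → ∃ m, Good φ W m)
    (V : Cᵒᵖ) (e e' : I.obj.obj V)
    (he : π.hom.app V e = secOfHom Q c V) (he' : π.hom.app V e' = secOfHom Q c V)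
    (h : NI ιI φ b V e) (h' : NI ιI φ b V e') : e = e' := by
  obtain ⟨a₀, ha₀⟩ := sec_exact (ShortComplex.mk ιI π w) hS V (e - e')
    (by change π.hom.app V (e - e') = 0; rw [map_sub, he, he', sub_self])
  change ιI.hom.app V a₀ = e - e' at ha₀
  suffices a₀ = 0 by
    rw [this, map_zero] at ha₀
    exact sub_eq_zero.1 ha₀.symm
  obtain ⟨V⟩ := V
  obtain ⟨R, hR, hRm⟩ := hgood V
  apply F_ext (As J A) R hR
  intro V' a ha
  obtain ⟨m, hg⟩ := hRm a ha
  obtain ⟨ρ, hρ⟩ := h V' a m hg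
  obtain ⟨ρ', hρ'⟩ := h' V' a m hg
  have h1 : ιI.hom.app (op V') (m • (As J A).obj.map a.op a₀) =
      ιI.hom.app (op V') (sS J m (op V') ρ - sS J m (op V') ρ') := by
    rw [map_zsmul, f_naturality (ShortComplex.mk ιI π w) a.op a₀]
    change m • I.obj.map a.op (ιI.hom.app (op V) a₀) = _
    rw [ha₀, map_sub, map_sub, ← hρ, ← hρ', smul_sub]
    abel
  have h2 := sec_inj (ShortComplex.mk ιI π w) hS (op V') h1
  have h3 := congrArg ((pS J m).hom.app (op V')) h2
  rw [pS_zsmul, map_sub, pS_sS, pS_sS] at h3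
  have h4 : ρ = ρ' := (sub_eq_zero.1 h3.symm)
  rw [h4, sub_self] at h2
  rw [map_zero]
  exact zsmul_injective J hA m hg.1 V' _ h2

include hA hS hb in
lemma exists_NI (V : C) (m : ℤ) (hg : Good φ V m) (e₀ : I.obj.obj (op V))
    (he₀ : π.hom.app (op V) e₀ = secOfHom Q c (op V)) :
    ∃ e : I.obj.obj (op V), π.hom.app (op V) e = secOfHom Q c (op V) ∧ NI ιI φ b (op V) e := by
  have hπb : π.hom.app (op V) (secOfHom I b (op V)) = m • secOfHom Q c (op V) := by
    rw [← secOfHom_comp, hb, sec_φc c hg]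
  obtain ⟨a₁, ha₁⟩ := sec_exact (ShortComplex.mk ιI π w) hS (op V)
    (m • e₀ - secOfHom I b (op V))
    (by change π.hom.app (op V) (m • e₀ - secOfHom I b (op V)) = 0
        rw [map_sub, map_zsmul, he₀, hπb, sub_self])
  change ιI.hom.app (op V) a₁ = m • e₀ - secOfHom I b (op V) at ha₁
  let ρ := (pS J m).hom.app (op V) a₁
  obtain ⟨a₃, ha₃⟩ := exists_zsmul_eq J hA m hg.1 V (a₁ - sS J m (op V) ρ)
    (by rw [map_sub, pS_sS, sub_self])
  have hzero : π.hom.app (op V) (ιI.hom.app (op V) a₃) = 0 :=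
    sec_zero (ShortComplex.mk ιI π w) (op V) a₃
  refine ⟨e₀ - ιI.hom.app (op V) a₃, by rw [map_sub, he₀, hzero, sub_zero], ?_⟩
  have key : m • (e₀ - ιI.hom.app (op V) a₃) - secOfHom I b (op V) =
      ιI.hom.app (op V) (sS J m (op V) ρ) := by
    have e1 : ιI.hom.app (op V) (sS J m (op V) ρ) =
        ιI.hom.app (op V) a₁ - m • ιI.hom.app (op V) a₃ := by
      rw [← map_zsmul, ha₃, map_sub]
      abel
    rw [e1, ha₁, smul_sub]
    abel
  intro V' a m' hg'
  rcases (hg.of_hom a).eq_or_bot hg' with hmm | hbot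
  · subst hmm
    refine ⟨((constantSheaf J AddCommGrpCat.{u}).obj (Qm A m)).obj.map a.op ρ, ?_⟩
    rw [← sS_map, f_naturality (ShortComplex.mk ιI π w) a.op]
    change _ = I.obj.map a.op (ιI.hom.app (op V) (sS J m (op V) ρ))
    have key' := congrArg (I.obj.map a.op) key
    rw [← key']
    have e5 : I.obj.map a.op (m • (e₀ - ιI.hom.app (op V) a₃) - secOfHom I b (op V)) =
        m • I.obj.map a.op (e₀ - ιI.hom.app (op V) a₃) - I.obj.map a.op (secOfHom I b (op V)) := by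
      rw [map_sub, map_zsmul]
    rw [e5, secOfHom_map I b a.op]
  · have := subsingleton_of_bot I V' hbot
    exact ⟨0, Subsingleton.elim _ _⟩

include hA hS hb in
lemma hasSection_liftTorsor
    (hgood : ∀ V : C, ∃ R ∈ J V, ∀ ⦃W : C⦄ (g : W ⟶ V), R g → ∃ m, Good φ W m) :
    (liftTorsor (ShortComplex.mk ιI π w) hS c).HasSection := by
  apply hasSection_of_sub _ (fun V =>
    {e : {e : I.obj.obj V // π.hom.app V e = secOfHom Q c V} | NI ιI φ b V e.1})
  · intro V p q hp hq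
    exact Subtype.ext (NI_unique hA ιI π w hS φ c b hgood V p.1 q.1 p.2 q.2 hp hq)
  · intro V V' f p hp
    exact NI_map ιI φ b f p.1 hp
  · intro V
    obtain ⟨R₁, hR₁, h₁⟩ := hgood V
    have hls : Sheaf.IsLocallySurjective π := (Sheaf.isLocallySurjective_iff_epi' _ π).2 hS.epi_g
    have hR₂ := Presheaf.imageSieve_mem J π.hom (secOfHom Q c (op V))
    refine ⟨R₁ ⊓ Presheaf.imageSieve π.hom (secOfHom Q c (op V)),
      J.intersection_covering hR₁ hR₂, ?_⟩
    rintro V' a ⟨ha1, t, ht⟩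
    obtain ⟨m, hg⟩ := h₁ a ha1
    obtain ⟨e, he, hN⟩ := exists_NI hA ιI π w hS φ c b hb V' m hg t
      (ht.trans (secOfHom_map Q c a.op))
    exact ⟨⟨e, he⟩, hN⟩

end Main

end Groth.Agent.Lib.Helper14.ConstTorsion
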