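import Mathlib
import Groth.Agent.Lib.Helper14.ConvLemmas

set_option autoImplicit false

/-!
# Translations of a commutative Hopf algebra over a ring by rational points (helper14)
-/

namespace Groth.Agent.Lib.Helper14.HopfTranslateRing

open TensorProduct WithConv
open Groth.Agent.Lib.Helper14.ConvLemmas

variable {k : Type*} [CommRing k] {A : Type*} [CommRing A] [HopfAlgebra k A]

/-- inclusion of `k`-points into `R`-points -/
noncomputable def ι (R : Type*) [CommRing R] [Algebra k R] :
    WithConv (A →ₐ[k] k) →* WithConv (A →ₐ[k] R) := postComp (Algebra.ofId k R)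

lemma ι_apply (R : Type*) [CommRing R] [Algebra k R] (γ : WithConv (A →ₐ[k] k)) :
    ι R γ = toConv ((Algebra.ofId k R).comp γ.ofConv) := rfl

omit [HopfAlgebra k A] in
lemma comp_ofId {R S : Type*} [CommRing R] [Algebra k R] [CommRing S] [Algebra k S]
    (f : R →ₐ[k] S) : f.comp (Algebra.ofId k R) = Algebra.ofId k S := by
  apply AlgHom.ext
  intro r
  simp [Algebra.ofId_apply]

lemma postComp_ι {R S : Type*} [CommRing R] [Algebra k R] [CommRing S] [Algebra k S]
    (f : R →ₐ[k] S) (γ : WithConv (A →ₐ[k] k)) : postComp f (ι R γ) = ι S γ := by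
  rw [ι_apply, ι_apply, postComp_apply]
  rw [← AlgHom.comp_assoc, comp_ofId]

/-- left translation by a rational point -/
noncomputable def L (γ : WithConv (A →ₐ[k] k)) : A →ₐ[k] A :=
  (ι A γ * toConv (AlgHom.id k A)).ofConv

/-- composing an algebra map with a translation -/
lemma comp_L {R : Type*} [CommRing R] [Algebra k R] (f : A →ₐ[k] R) (γ : WithConv (A →ₐ[k] k)) :
    toConv (f.comp (L γ)) = ι R γ * toConv f := by
  have := map_mul (postComp (A := A) f) (ι A γ) (toConv (AlgHom.id k A))
  rw [postComp_ι] at this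
  simpa [L] using this

lemma L_comp (γ δ : WithConv (A →ₐ[k] k)) : (L δ).comp (L γ) = L (γ * δ) := by
  apply WithConv.toConv_injective
  rw [comp_L]
  show ι A γ * (ι A δ * toConv (AlgHom.id k A)) = ι A (γ * δ) * toConv (AlgHom.id k A)
  rw [map_mul, mul_assoc]

lemma L_one : L (1 : WithConv (A →ₐ[k] k)) = AlgHom.id k A := by
  apply WithConv.toConv_injective
  show ι A 1 * toConv (AlgHom.id k A) = _
  rw [map_one, one_mul]

/-- translation as an algebra automorphism -/
noncomputable def Lequiv (γ : WithConv (A →ₐ[k] k)) : A ≃ₐ[k] A :=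
  AlgEquiv.ofAlgHom (L γ) (L γ⁻¹)
    (by rw [L_comp, inv_mul_cancel, L_one]) (by rw [L_comp, mul_inv_cancel, L_one])

@[simp] lemma Lequiv_apply (γ : WithConv (A →ₐ[k] k)) (a : A) : Lequiv γ a = L γ a := rfl

end Groth.Agent.Lib.Helper14.HopfTranslateRing
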