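import Mathlib
import Groth.Agent.Lib.Helper14.HopfTranslateRing
import Groth.Agent.Lib.Helper14.HopfBaseChange

set_option autoImplicit false

namespace Groth.Agent.Lib.Helper14.Deligne

open TensorProduct WithConv Coalgebra
open Groth.Agent.Lib.Helper14.HopfTranslateRing

variable {R : Type*} [CommRing R] {A : Type*} [CommRing A] [HopfAlgebra R A]
  [Coalgebra.IsCocomm R A]

/-- the ring hom from the dual algebra `Hom(A,R)` to `Hom(A,A)` (both with convolution) -/
noncomputable def ρ : WithConv (A →ₗ[R] R) →+* WithConv (A →ₗ[R] A) where
  toFun f := toConv ((Algebra.linearMap R A) ∘ₗ f.ofConv)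
  map_one' := by
    apply WithConv.ofConv_injective
    ext a
    simp [LinearMap.convOne_def]
  map_mul' f g := by
    apply WithConv.ofConv_injective
    exact LinearMap.algHom_comp_convMul_distrib (Algebra.ofId R A) f g
  map_zero' := by
    apply WithConv.ofConv_injective
    ext a
    simp
  map_add' f g := by
    apply WithConv.ofConv_injective
    ext a
    simp

omit [IsCocomm R A] in
lemma ρ_apply (f : WithConv (A →ₗ[R] R)) (a : A) : (ρ f) a = algebraMap R A (f a) := rfl

/-- `Hom(A,A)` as an algebra over the dual algebra -/
@[reducible] noncomputable def algBM : Algebra (WithConv (A →ₗ[R] R)) (WithConv (A →ₗ[R] A)) := ρ.toAlgebra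

attribute [local instance] algBM

lemma smul_def' (c : WithConv (A →ₗ[R] R)) (φ : WithConv (A →ₗ[R] A)) : c • φ = ρ c * φ := rfl

lemma algebraMap_def' (c : WithConv (A →ₗ[R] R)) :
    algebraMap (WithConv (A →ₗ[R] R)) (WithConv (A →ₗ[R] A)) c = ρ c := rfl

variable {κ : Type*} [Fintype κ] [DecidableEq κ] (b : Module.Basis κ R A)

/-- coordinates of `Hom(A,A)` over the dual algebra -/
noncomputable def coordEquiv :
    WithConv (A →ₗ[R] A) ≃ₗ[WithConv (A →ₗ[R] R)] (κ → WithConv (A →ₗ[R] R)) where
  toFun φ i := toConv ((b.coord i) ∘ₗ φ.ofConv)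
  map_add' φ ψ := by
    funext i
    apply WithConv.ofConv_injective
    ext a
    simp
  map_smul' c φ := by
    funext i
    apply WithConv.ofConv_injective
    ext a
    have h1 := (Coalgebra.Repr.arbitrary R a).convMul_apply (ρ c) φ
    have h2 := (Coalgebra.Repr.arbitrary R a).convMul_apply c (toConv ((b.coord i) ∘ₗ φ.ofConv))
    simp only [RingHom.id_apply, Pi.smul_apply, smul_eq_mul]
    show (b.coord i) ((c • φ) a) = (c * toConv ((b.coord i) ∘ₗ φ.ofConv)) a
    rw [smul_def', h1, h2, map_sum]
    refine Finset.sum_congr rfl fun j _ => ?_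
    rw [ρ_apply, ← Algebra.smul_def, map_smul, smul_eq_mul]
    rfl
  invFun f := toConv (∑ i, (f i).ofConv.smulRight (b i))
  left_inv φ := by
    apply WithConv.ofConv_injective
    ext a
    simp only [LinearMap.coe_sum, Finset.sum_apply, LinearMap.smulRight_apply,
      LinearMap.comp_apply]
    exact b.sum_repr (φ.ofConv a)
  right_inv f := by
    funext i
    apply WithConv.ofConv_injective
    ext a
    simp only [LinearMap.comp_apply, LinearMap.coe_sum, Finset.sum_apply,
      LinearMap.smulRight_apply, map_sum, map_smul]
    simp [Module.Basis.coord_apply, Finsupp.single_apply]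

/-- the basis of `Hom(A,A)` over the dual algebra induced by a basis of `A` -/
noncomputable def basisM : Module.Basis κ (WithConv (A →ₗ[R] R)) (WithConv (A →ₗ[R] A)) :=
  Module.Basis.ofEquivFun (coordEquiv b)


/-- post-composition with an algebra automorphism of `A`, as an automorphism of `Hom(A,A)` over the
dual algebra -/
noncomputable def postEquiv (τ : A ≃ₐ[R] A) :
    WithConv (A →ₗ[R] A) ≃ₐ[WithConv (A →ₗ[R] R)] WithConv (A →ₗ[R] A) :=
  AlgEquiv.ofAlgHom
    { toFun := fun φ => toConv (τ.toLinearMap ∘ₗ φ.ofConv)
      map_one' := by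
        apply WithConv.ofConv_injective
        ext a
        simp [LinearMap.convOne_def]
      map_mul' := fun f g => by
        apply WithConv.ofConv_injective
        exact LinearMap.algHom_comp_convMul_distrib (τ : A →ₐ[R] A) f g
      map_zero' := by
        apply WithConv.ofConv_injective
        ext a
        simp
      map_add' := fun f g => by
        apply WithConv.ofConv_injective
        ext a
        simp
      commutes' := fun c => by
        apply WithConv.ofConv_injective
        ext a
        simp [algebraMap_def', ρ_apply] }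
    { toFun := fun φ => toConv (τ.symm.toLinearMap ∘ₗ φ.ofConv)
      map_one' := by
        apply WithConv.ofConv_injective
        ext a
        simp [LinearMap.convOne_def]
      map_mul' := fun f g => by
        apply WithConv.ofConv_injective
        exact LinearMap.algHom_comp_convMul_distrib (τ.symm : A →ₐ[R] A) f g
      map_zero' := by
        apply WithConv.ofConv_injective
        ext a
        simp
      map_add' := fun f g => by
        apply WithConv.ofConv_injective
        ext a
        simp
      commutes' := fun c => by
        apply WithConv.ofConv_injective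
        ext a
        simp [algebraMap_def', ρ_apply] }
    (by
      apply AlgHom.ext
      intro φ
      apply WithConv.ofConv_injective
      ext a
      simp)
    (by
      apply AlgHom.ext
      intro φ
      apply WithConv.ofConv_injective
      ext a
      simp)

lemma postEquiv_apply (τ : A ≃ₐ[R] A) (φ : WithConv (A →ₗ[R] A)) :
    postEquiv τ φ = toConv (τ.toLinearMap ∘ₗ φ.ofConv) := rfl


include b in
/-- **Deligne's theorem, free case, rational points**: a rational point of a commutative finite free
group scheme of order `n` is killed by `n`. -/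
theorem pow_card_eq_one (u : WithConv (A →ₐ[R] R)) : u ^ Fintype.card κ = 1 := by
  classical
  let idM : WithConv (A →ₗ[R] A) := toConv LinearMap.id
  let uB : WithConv (A →ₗ[R] R) := toConv u.ofConv.toLinearMap
  have hunit : IsUnit idM :=
    ⟨⟨idM, toConv (HopfAlgebra.antipode R), LinearMap.id_mul_antipode, LinearMap.antipode_mul_id⟩,
      rfl⟩
  have hσ : postEquiv (Lequiv u) idM = ρ uB * idM := by
    rw [postEquiv_apply]
    have h1 := AlgHom.toLinearMap_convMul (HopfTranslateRing.ι A u) (toConv (AlgHom.id R A))
    apply WithConv.ofConv_injective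
    ext a
    have h2 := congrArg (fun f : WithConv (A →ₗ[R] A) => f a) h1
    exact h2
  have hN : Algebra.norm (WithConv (A →ₗ[R] R)) idM =
      uB ^ Fintype.card κ * Algebra.norm (WithConv (A →ₗ[R] R)) idM := by
    conv_lhs =>
      rw [← Algebra.norm_eq_of_algEquiv (postEquiv (Lequiv u)) idM, hσ, map_mul, ← algebraMap_def',
        Algebra.norm_algebraMap_of_basis (basisM b)]
  have hNu : IsUnit (Algebra.norm (WithConv (A →ₗ[R] R)) idM) := hunit.map _
  have h1 : uB ^ Fintype.card κ = 1 := by
    have h3 : uB ^ Fintype.card κ * Algebra.norm (WithConv (A →ₗ[R] R)) idM =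
        1 * Algebra.norm (WithConv (A →ₗ[R] R)) idM := by rw [one_mul]; exact hN.symm
    exact hNu.mul_left_injective h3
  apply WithConv.ofConv_injective
  apply AlgHom.toLinearMap_injective
  apply WithConv.toConv_injective
  rw [AlgHom.toLinearMap_convPow, AlgHom.toLinearMap_convOne]
  exact h1


open Groth.Agent.Lib.Helper14.HopfBaseChange in
include b in
/-- **Deligne's theorem, free case**: the identity of a commutative finite free group scheme of
order `n` is killed by `n`. -/
theorem id_pow_card_eq_one : (toConv (AlgHom.id R A)) ^ Fintype.card κ = 1 := by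
  classical
  let u' : A ⊗[R] A →ₐ[A] A :=
    Algebra.TensorProduct.lift (Algebra.ofId A A) (AlgHom.id R A) (fun _ _ => .all _ _)
  have hres : res A (toConv u') = toConv (AlgHom.id R A) := by
    apply WithConv.ofConv_injective
    apply AlgHom.ext
    intro a
    show u' ((1 : A) ⊗ₜ[R] a) = a
    simp [u']
  have hpow := pow_card_eq_one (Algebra.TensorProduct.basis A b) (toConv u')
  rw [← hres, ← map_pow, hpow, map_one]


end Groth.Agent.Lib.Helper14.Deligne

namespace Groth.Agent.Lib.Helper14.Deligne

open TensorProduct WithConv Coalgebra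
open Groth.Agent.Lib.Helper14.HopfBaseChange Groth.Agent.Lib.Helper14.ConvLemmas

universe u v

/-- **Deligne's theorem**: a commutative finite locally free group scheme of constant order `n`
is killed by `n`. -/
theorem id_pow_eq_one_of_rankAtStalk (R : Type u) [CommRing R] (A : Type v) [CommRing A]
    [HopfAlgebra R A] [Coalgebra.IsCocomm R A] [Module.Finite R A] [Module.Projective R A] (n : ℕ)
    (hn : ∀ p : PrimeSpectrum R, Module.rankAtStalk A p = n) :
    (WithConv.toConv (AlgHom.id R A)) ^ n = 1 := by
  classical
  apply WithConv.ofConv_injective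
  apply AlgHom.ext
  intro a
  have hloc : ∀ (P : Ideal R) [P.IsMaximal], IsLocalizedModule P.primeCompl
      (TensorProduct.mk R (Localization.AtPrime P) A 1) := fun P _ =>
    (isLocalizedModule_iff_isBaseChange P.primeCompl (Localization.AtPrime P) _).mpr
      (TensorProduct.isBaseChange R A (Localization.AtPrime P))
  refine Module.eq_of_localization_maximal (fun P _ => Localization.AtPrime P ⊗[R] A)
    (fun P _ => TensorProduct.mk R (Localization.AtPrime P) A 1) _ _ (fun P hP => ?_)
  have hfree : Module.Free (Localization.AtPrime P) (Localization.AtPrime P ⊗[R] A) :=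
    Module.free_of_flat_of_isLocalRing
  have hcard : Fintype.card (Module.Free.ChooseBasisIndex (Localization.AtPrime P)
      (Localization.AtPrime P ⊗[R] A)) = n := by
    rw [← Module.finrank_eq_card_chooseBasisIndex, ← hn ⟨P, hP.isPrime⟩,
      Module.rankAtStalk_eq_finrank_tensorProduct]
  have key := id_pow_card_eq_one (Module.Free.chooseBasis (Localization.AtPrime P)
    (Localization.AtPrime P ⊗[R] A))
  rw [hcard] at key
  let j : A →ₐ[R] Localization.AtPrime P ⊗[R] A := Algebra.TensorProduct.includeRight
  have hj : toConv j = res (Localization.AtPrime P)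
      (toConv (AlgHom.id (Localization.AtPrime P) (Localization.AtPrime P ⊗[R] A))) := by
    apply WithConv.ofConv_injective
    apply AlgHom.ext
    intro x
    rfl
  have h1 := comp_pow j (toConv (AlgHom.id R A)) n
  have h2 : toConv (j.comp (toConv (AlgHom.id R A)).ofConv) = toConv j := rfl
  have h4 := map_pow (res (R := Localization.AtPrime P ⊗[R] A) (Localization.AtPrime P))
    (toConv (AlgHom.id (Localization.AtPrime P) (Localization.AtPrime P ⊗[R] A))) n
  rw [key, map_one] at h4
  rw [h2, hj, ← h4] at h1
  have h3 := congrArg (fun f : WithConv (A →ₐ[R] Localization.AtPrime P ⊗[R] A) => f.ofConv a) h1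
  simp only [AlgHom.comp_apply] at h3
  show j (((toConv (AlgHom.id R A)) ^ n).ofConv a) = j ((1 : WithConv (A →ₐ[R] A)).ofConv a)
  rw [h3]
  simp [AlgHom.convOne_def, j]

end Groth.Agent.Lib.Helper14.Deligne
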