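import Groth.Agent.Lib.Helper14.BCTheta
import Groth.Agent.Lib.Helper14.AmitsurMod

/-!
# Faithfully flat descent of sections along one covering map (helper14)

Pure algebra: for a faithfully flat `φ : A → B` with `C = B ⊗_A B`, an `A`-module `N` with base changes
`N' = B ⊗_A N` and `N'' = C ⊗_B N'`, the sequence `N → N' ⇉ N''` is an equalizer.
-/

set_option autoImplicit false
set_option linter.unusedSectionVars false

universe u

open CategoryTheory CategoryTheory.Limits TensorProduct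

namespace Groth.Agent.Lib.Helper14.DescSingle

open Groth.Agent.Lib.Helper17.PullbackBC

theorem descent_single {A B C : Type u} [CommRing A] [CommRing B] [CommRing C]
    (φ : A →+* B) (p₁ p₂ : B →+* C)
    (hpo : IsPushout (CommRingCat.ofHom φ) (CommRingCat.ofHom φ) (CommRingCat.ofHom p₂)
      (CommRingCat.ofHom p₁))
    (hff : φ.FaithfullyFlat)
    {N N' N'' : Type u} [AddCommGroup N] [Module A N] [AddCommGroup N'] [Module B N']
    [AddCommGroup N''] [Module C N'']
    (c : N →+ N') (hbc : IsBC φ (fun n => c n))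
    (c₁ c₂ : N' →+ N'') (hc₁ : ∀ (b : B) (y : N'), c₁ (b • y) = p₁ b • c₁ y)
    (hc₂ : ∀ (b : B) (y : N'), c₂ (b • y) = p₂ b • c₂ y)
    (hbc₁ : IsBC p₁ (fun y => c₁ y))
    (h12 : ∀ n, c₁ (c n) = c₂ (c n)) :
    Function.Injective c ∧ ∀ y, c₁ y = c₂ y → ∃ n, c n = y := by
  letI := φ.toAlgebra
  haveI : Module.FaithfullyFlat A B := hff
  obtain ⟨e, he⟩ := (isBC_iff φ _).mp hbc
  letI : Module A N' := Module.compHom N' φ
  haveI : IsScalarTower A B N' := ⟨fun a b y => by
    change (φ a * b) • y = φ a • (b • y)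
    rw [mul_smul]⟩
  obtain ⟨θ, hθ⟩ := Groth.Agent.Lib.Helper14.BCTheta.exists_theta_of_isBC φ φ p₁ p₂ hpo c₁ hc₁ hbc₁
  have hesymm : ∀ (b : B) (n : N), e.symm (b ⊗ₜ[A] n) = b • c n := by
    intro b n
    apply e.injective
    rw [LinearEquiv.apply_symm_apply, map_smul, he, TensorProduct.smul_tmul', smul_eq_mul, mul_one]
  refine ⟨?_, ?_⟩
  · intro n n' h
    have h1 : (1 : B) ⊗ₜ[A] n = (1 : B) ⊗ₜ[A] n' := by rw [← he, ← he, h]
    exact Module.FaithfullyFlat.tensorProduct_mk_injective (A := A) (B := B) N h1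
  · intro y hy
    -- the comparison map
    let ε : (B ⊗[A] N) ≃ₗ[A] N' := e.symm.restrictScalars A
    let G : ((B ⊗[A] B) ⊗[A] N) ≃ₗ[A] (B ⊗[A] N') :=
      (TensorProduct.assoc A B B N) ≪≫ₗ (LinearEquiv.lTensor B ε)
    have hG : ∀ (b₁ b₂ : B) (n : N), G ((b₁ ⊗ₜ b₂) ⊗ₜ n) = b₁ ⊗ₜ (b₂ • c n) := by
      intro b₁ b₂ n
      change (LinearEquiv.lTensor B ε) ((TensorProduct.assoc A B B N) ((b₁ ⊗ₜ b₂) ⊗ₜ n)) = _
      rw [TensorProduct.assoc_tmul, LinearEquiv.lTensor_tmul]
      exact congrArg (fun t => b₁ ⊗ₜ[A] t) (hesymm b₂ n)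
    let Ψ : ((B ⊗[A] B) ⊗[A] N) →+ N'' := θ.toAddMonoidHom.comp G.toAddEquiv.toAddMonoidHom
    have hΨinj : Function.Injective Ψ := θ.injective.comp G.injective
    have hΨ : ∀ (b₁ b₂ : B) (n : N), Ψ ((b₁ ⊗ₜ b₂) ⊗ₜ n) = p₂ b₁ • p₁ b₂ • c₁ (c n) := by
      intro b₁ b₂ n
      change θ (G ((b₁ ⊗ₜ b₂) ⊗ₜ n)) = _
      rw [hG, hθ, hc₁]
    let iL : B ⊗[A] N →ₗ[A] (B ⊗[A] B) ⊗[A] N :=
      (Algebra.TensorProduct.includeLeft : B →ₐ[A] B ⊗[A] B).toLinearMap.rTensor N
    let iR : B ⊗[A] N →ₗ[A] (B ⊗[A] B) ⊗[A] N :=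
      (Algebra.TensorProduct.includeRight : B →ₐ[A] B ⊗[A] B).toLinearMap.rTensor N
    have hL : ∀ w : B ⊗[A] N, Ψ (iL w) = c₂ (e.symm w) := by
      intro w
      induction w using TensorProduct.induction_on with
      | zero => simp
      | add x y hx hy => rw [map_add, map_add, map_add, map_add, hx, hy]
      | tmul b n =>
        have h1 : iL (b ⊗ₜ n) = (b ⊗ₜ (1 : B)) ⊗ₜ n := rfl
        rw [h1, hΨ, hesymm, hc₂, map_one, one_smul, h12]
    have hR : ∀ w : B ⊗[A] N, Ψ (iR w) = c₁ (e.symm w) := by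
      intro w
      induction w using TensorProduct.induction_on with
      | zero => simp
      | add x y hx hy => rw [map_add, map_add, map_add, map_add, hx, hy]
      | tmul b n =>
        have h1 : iR (b ⊗ₜ n) = ((1 : B) ⊗ₜ b) ⊗ₜ n := rfl
        rw [h1, hΨ, hesymm, hc₁, map_one, one_smul]
    have hw : iL (e y) = iR (e y) := by
      apply hΨinj
      rw [hL, hR, LinearEquiv.symm_apply_apply, hy]
    obtain ⟨x, hx⟩ := Groth.Agent.Lib.Helper14.AmitsurMod.mem_range_of_eq A B N (e y) hw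
    refine ⟨TensorProduct.lid A N x, ?_⟩
    apply e.injective
    rw [he, ← hx]
    clear hx
    induction x using TensorProduct.induction_on with
    | zero => simp
    | add x y hx hy =>
      have h1 : (TensorProduct.lid A N) (x + y) = (TensorProduct.lid A N) x + (TensorProduct.lid A N) y :=
        map_add _ _ _
      have h2 : (LinearMap.rTensor N (Algebra.linearMap A B)) (x + y) =
          (LinearMap.rTensor N (Algebra.linearMap A B)) x +
            (LinearMap.rTensor N (Algebra.linearMap A B)) y := map_add _ _ _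
      rw [h1, h2, TensorProduct.tmul_add, hx, hy]
    | tmul a n =>
      rw [TensorProduct.lid_tmul, LinearMap.rTensor_tmul, Algebra.linearMap_apply,
        TensorProduct.tmul_smul, TensorProduct.smul_tmul', Algebra.smul_def, mul_one]

end Groth.Agent.Lib.Helper14.DescSingle
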