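import Mathlib
import Groth.Agent.S3815

set_option autoImplicit false
universe u
set_option linter.unusedSectionVars false

namespace Groth.Agent.Lib.Helper14.DiffUnram

open TensorProduct Diff16 Groth.Agent.Lib.helper11.DiffOp

section Ring

variable (R S S' : Type u) [CommRing R] [CommRing S] [CommRing S'] [Algebra R S] [Algebra R S']
  [Algebra S S'] [IsScalarTower R S S']

/-- the `R`-span of the `a ⊗ s` with `s` coming from `S` -/
def U : Submodule R (S' ⊗[R] S') :=
  Submodule.span R {y | ∃ (a : S') (s : S), y = a ⊗ₜ[R] algebraMap S S' s}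

variable {R S S'}

theorem tmul_mem_U (a : S') (s : S) : a ⊗ₜ[R] algebraMap S S' s ∈ U R S S' :=
  Submodule.subset_span ⟨a, s, rfl⟩

theorem tmul_one_mem_U (a : S') : a ⊗ₜ[R] (1 : S') ∈ U R S S' := by
  have := tmul_mem_U (R := R) (S := S) a 1
  rwa [map_one] at this

theorem U_mul {y z : S' ⊗[R] S'} (hy : y ∈ U R S S') (hz : z ∈ U R S S') : y * z ∈ U R S S' := by
  induction hy using Submodule.span_induction with
  | mem y hy =>
    obtain ⟨a, s, rfl⟩ := hy
    induction hz using Submodule.span_induction with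
    | mem z hz =>
      obtain ⟨a', s', rfl⟩ := hz
      rw [Algebra.TensorProduct.tmul_mul_tmul, ← map_mul]
      exact tmul_mem_U _ _
    | zero => rw [mul_zero]; exact zero_mem _
    | add z z' _ _ h h' => rw [mul_add]; exact add_mem h h'
    | smul r z _ h => rw [mul_smul_comm]; exact Submodule.smul_mem _ _ h
  | zero => rw [zero_mul]; exact zero_mem _
  | add y y' _ _ h h' => rw [add_mul]; exact add_mem h h'
  | smul r y _ h => rw [smul_mul_assoc]; exact Submodule.smul_mem _ _ h

/-- differentials of `S'` over `R` are spanned by those of elements of `S` when `S → S'` is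
formally unramified -/
theorem span_D_eq_top [Algebra.FormallyUnramified S S'] :
    Submodule.span S' (Set.range fun s : S => KaehlerDifferential.D R S' (algebraMap S S' s)) = ⊤ := by
  have h1 : LinearMap.range (KaehlerDifferential.mapBaseChange R S S') = ⊤ := by
    rw [KaehlerDifferential.range_mapBaseChange, eq_top_iff]
    intro x _
    rw [LinearMap.mem_ker]
    exact Subsingleton.elim _ _
  rw [eq_top_iff, ← h1]
  rintro _ ⟨x, rfl⟩
  induction x using TensorProduct.induction_on with
  | zero => rw [map_zero]; exact zero_mem _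
  | tmul b ω =>
    rw [KaehlerDifferential.mapBaseChange_tmul]
    apply Submodule.smul_mem
    have hω : ω ∈ Submodule.span S (Set.range (KaehlerDifferential.D R S)) := by
      rw [KaehlerDifferential.span_range_derivation]; trivial
    induction hω using Submodule.span_induction with
    | mem ω hω =>
      obtain ⟨s, rfl⟩ := hω
      rw [KaehlerDifferential.map_D]
      exact Submodule.subset_span ⟨s, rfl⟩
    | zero => rw [map_zero]; exact zero_mem _
    | add ω ω' _ _ h h' => rw [map_add]; exact add_mem h h'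
    | smul c ω _ h =>
      rw [LinearMap.map_smul_of_tower]
      rw [← algebraMap_smul S' c]
      exact Submodule.smul_mem _ _ h
  | add x y hx hy => rw [map_add]; exact add_mem hx hy

theorem smul_toCotangent (c : S') (u : KaehlerDifferential.ideal R S') :
    c • (KaehlerDifferential.ideal R S').toCotangent u =
      (KaehlerDifferential.ideal R S').toCotangent
        ⟨(c ⊗ₜ[R] (1 : S')) * (u : S' ⊗[R] S'), Ideal.mul_mem_left _ _ u.2⟩ := by
  rw [← algebraMap_smul (S' ⊗[R] S') c, ← map_smul]
  congr 1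

theorem key1 [Algebra.FormallyUnramified S S'] (y : S' ⊗[R] S')
    (hy : y ∈ KaehlerDifferential.ideal R S') :
    ∃ u ∈ U R S S', u ∈ KaehlerDifferential.ideal R S' ∧
      y - u ∈ (KaehlerDifferential.ideal R S') ^ 2 := by
  let Good : Submodule S' (Ω[S'⁄R]) :=
    { carrier := {ω | ∃ u : KaehlerDifferential.ideal R S', (u : S' ⊗[R] S') ∈ U R S S' ∧
        (KaehlerDifferential.ideal R S').toCotangent u = ω}
      add_mem' := by
        rintro _ _ ⟨u, hu, rfl⟩ ⟨v, hv, rfl⟩
        exact ⟨u + v, add_mem hu hv, map_add _ _ _⟩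
      zero_mem' := ⟨0, zero_mem _, map_zero _⟩
      smul_mem' := by
        rintro c _ ⟨u, hu, rfl⟩
        refine ⟨⟨(c ⊗ₜ[R] (1 : S')) * (u : S' ⊗[R] S'), Ideal.mul_mem_left _ _ u.2⟩, ?_, ?_⟩
        · exact U_mul (tmul_one_mem_U c) hu
        · exact (smul_toCotangent c u).symm }
  have hGood : Good = ⊤ := by
    rw [eq_top_iff, ← span_D_eq_top (R := R) (S := S) (S' := S'), Submodule.span_le]
    rintro _ ⟨s, rfl⟩
    refine ⟨⟨1 ⊗ₜ algebraMap S S' s - algebraMap S S' s ⊗ₜ 1,
      KaehlerDifferential.one_smul_sub_smul_one_mem_ideal R _⟩, ?_, ?_⟩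
    · exact sub_mem (tmul_mem_U _ _) (tmul_one_mem_U _)
    · exact (KaehlerDifferential.D_apply R S' (algebraMap S S' s)).symm
  have : (KaehlerDifferential.ideal R S').toCotangent ⟨y, hy⟩ ∈ Good := by rw [hGood]; trivial
  obtain ⟨u, hu, hcot⟩ := this
  refine ⟨u, hu, u.2, ?_⟩
  have := (Ideal.toCotangent_eq (I := KaehlerDifferential.ideal R S')).mp hcot.symm
  exact this

theorem keyP [Algebra.FormallyUnramified S S'] : ∀ (j : ℕ) (y : S' ⊗[R] S'),
    y ∈ (KaehlerDifferential.ideal R S') ^ j →
    ∃ u ∈ U R S S', u ∈ (KaehlerDifferential.ideal R S') ^ j ∧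
      y - u ∈ (KaehlerDifferential.ideal R S') ^ (j + 1) := by
  intro j
  induction j with
  | zero =>
    intro y _
    refine ⟨(Algebra.TensorProduct.lmul' R y) ⊗ₜ[R] (1 : S'), tmul_one_mem_U _, ?_, ?_⟩
    · rw [pow_zero, Ideal.one_eq_top]; trivial
    · rw [zero_add, pow_one]
      change _ ∈ RingHom.ker _
      rw [RingHom.mem_ker, map_sub]
      change (Algebra.TensorProduct.lmul' R) y - (Algebra.TensorProduct.lmul' R) (_ ⊗ₜ[R] (1 : S')) = 0
      rw [Algebra.TensorProduct.lmul'_apply_tmul, mul_one, sub_self]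
  | succ j ih =>
    intro y hy
    rw [pow_succ] at hy
    refine Submodule.mul_induction_on hy ?_ ?_
    · intro m hm n hn
      obtain ⟨u, hu, hu', hmu⟩ := ih m hm
      obtain ⟨v, hv, hv', hnv⟩ := key1 (S := S) n hn
      refine ⟨u * v, U_mul hu hv, ?_, ?_⟩
      · rw [pow_succ]; exact Ideal.mul_mem_mul hu' hv'
      · have e : m * n - u * v = (m - u) * n + u * (n - v) := by ring
        rw [e]
        apply add_mem
        · have : (m - u) * n ∈ (KaehlerDifferential.ideal R S') ^ (j + 1) *
              KaehlerDifferential.ideal R S' := Ideal.mul_mem_mul hmu hn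
          rwa [← pow_succ] at this
        · have : u * (n - v) ∈ (KaehlerDifferential.ideal R S') ^ j *
              (KaehlerDifferential.ideal R S') ^ 2 := Ideal.mul_mem_mul hu' hnv
          rwa [← pow_add] at this
    · intro a b ha hb
      obtain ⟨u, hu, hu', hau⟩ := ha
      obtain ⟨v, hv, hv', hbv⟩ := hb
      refine ⟨u + v, add_mem hu hv, add_mem hu' hv', ?_⟩
      have e : a + b - (u + v) = (a - u) + (b - v) := by ring
      rw [e]
      exact add_mem hau hbv

theorem keyQ [Algebra.FormallyUnramified S S'] : ∀ (j : ℕ) (y : S' ⊗[R] S'),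
    ∃ u ∈ U R S S', y - u ∈ (KaehlerDifferential.ideal R S') ^ j := by
  intro j
  induction j with
  | zero =>
    intro y
    exact ⟨0, zero_mem _, by rw [pow_zero, Ideal.one_eq_top]; trivial⟩
  | succ j ih =>
    intro y
    obtain ⟨u, hu, hyu⟩ := ih y
    obtain ⟨v, hv, -, hv'⟩ := keyP (S := S) j (y - u) hyu
    refine ⟨u + v, add_mem hu hv, ?_⟩
    have e : y - (u + v) = y - u - v := by ring
    rw [e]
    exact hv'

end Ring

section Vanish

open Groth.Agent.S3815

variable {R S S' : Type u} [CommRing R] [CommRing S] [CommRing S'] [Algebra R S] [Algebra R S']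
  [Algebra S S'] [IsScalarTower R S S'] [Algebra.FormallyUnramified S S']
variable {M : Type u} [AddCommGroup M] [Module S M] [Module R M] [IsScalarTower R S M]
variable {N' : Type u} [AddCommGroup N'] [Module S' N'] [Module R N'] [IsScalarTower R S' N']

/-- a differential operator on `S' ⊗[S] M` (relative to `R → S'`) that vanishes on `1 ⊗ M`
vanishes, when `S → S'` is formally unramified -/
theorem eq_zero_of_vanish (k : ℕ) (E : S' ⊗[S] M →ₗ[R] N')
    (hE : IsDiffOpLE R S' (S' ⊗[S] M) N' k E) (h0 : ∀ m : M, E ((1 : S') ⊗ₜ[S] m) = 0) : E = 0 := by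
  have h3 : ∀ u ∈ U R S S', ∀ m : M, Λ E u ((1 : S') ⊗ₜ[S] m) = 0 := by
    intro u hu m
    induction hu using Submodule.span_induction with
    | mem u hu =>
      obtain ⟨a, s, rfl⟩ := hu
      rw [Λ_tmul]
      have : (algebraMap S S' s) • ((1 : S') ⊗ₜ[S] m) = (1 : S') ⊗ₜ[S] (s • m) := by
        rw [TensorProduct.smul_tmul', smul_eq_mul, mul_one, Algebra.algebraMap_eq_smul_one,
          TensorProduct.smul_tmul]
      rw [this, h0, smul_zero]
    | zero => rw [map_zero]; rfl
    | add u v _ _ hu hv => rw [map_add, LinearMap.add_apply, hu, hv, add_zero]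
    | smul r u _ hu => rw [map_smul, LinearMap.smul_apply, hu, smul_zero]
  have key : ∀ (b : S') (m : M), E (b ⊗ₜ[S] m) = 0 := by
    intro b m
    obtain ⟨u, hu, hd⟩ := keyQ (S := S) (k + 1) ((1 : S') ⊗ₜ[R] b)
    have h1 : Λ E ((1 : S') ⊗ₜ[R] b) ((1 : S') ⊗ₜ[S] m) = E (b ⊗ₜ[S] m) := by
      rw [Λ_tmul, one_smul, TensorProduct.smul_tmul', smul_eq_mul, mul_one]
    have h2 : Λ E ((1 : S') ⊗ₜ[R] b - u) = 0 := Λ_vanish k E hE _ hd
    rw [map_sub, sub_eq_zero] at h2
    rw [← h1, h2]
    exact h3 u hu m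
  ext x
  induction x using TensorProduct.induction_on with
  | zero => simp
  | tmul b m => rw [key]; rfl
  | add x y hx hy => rw [map_add, hx, hy]; simp

end Vanish

end Groth.Agent.Lib.Helper14.DiffUnram
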