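import Mathlib
import Groth.Agent.Lib.Helper14.DiffUnram

set_option autoImplicit false
universe u
set_option linter.unusedSectionVars false

namespace Groth.Agent.Lib.Helper14.DiffEtale

open TensorProduct Diff16 Groth.Agent.Lib.helper11.DiffOp Groth.Agent.S3815

noncomputable section Ring

variable (R S S' : Type u) [CommRing R] [CommRing S] [CommRing S'] [Algebra R S] [Algebra R S']
  [Algebra S S'] [IsScalarTower R S S'] (k : ℕ)

/-- principal parts of order `k` -/
abbrev Pk : Type u := (S ⊗[R] S) ⧸ (KaehlerDifferential.ideal R S) ^ (k + 1)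

/-- the base change `S' ⊗[S] P^k` (left structure) -/
abbrev Bk : Type u := S' ⊗[S] Pk R S k

/-- a copy of `Bk` carrying only its ring structure -/
def Bρ : Type u := Bk R S S' k

instance : CommRing (Bρ R S S' k) := inferInstanceAs (CommRing (S' ⊗[S] Pk R S k))

/-- the identity ring isomorphism -/
def toB : Bk R S S' k ≃+* Bρ R S S' k := RingEquiv.refl _

/-- the augmentation ideal of `P^k` -/
def Ibar : Ideal (Pk R S k) :=
  (KaehlerDifferential.ideal R S).map (Ideal.Quotient.mk ((KaehlerDifferential.ideal R S) ^ (k + 1)))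

theorem Ibar_pow : (Ibar R S k) ^ (k + 1) = ⊥ := by
  rw [Ibar, ← Ideal.map_pow, Ideal.map_quotient_self]

/-- inclusion of `P^k` -/
def incR : Pk R S k →+* Bρ R S S' k :=
  (toB R S S' k).toRingHom.comp
    (Algebra.TensorProduct.includeRight : Pk R S k →ₐ[S] S' ⊗[S] Pk R S k).toRingHom

/-- inclusion of `S'` -/
def incL : S' →+* Bρ R S S' k :=
  (toB R S S' k).toRingHom.comp
    (Algebra.TensorProduct.includeLeftRingHom : S' →+* S' ⊗[S] Pk R S k)

/-- the nilpotent ideal -/
def J : Ideal (Bρ R S S' k) := (Ibar R S k).map (incR R S S' k)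

theorem J_pow : (J R S S' k) ^ (k + 1) = ⊥ := by
  rw [J, ← Ideal.map_pow, Ibar_pow, Ideal.map_bot]

/-- the right structure map `s ↦ 1 ⊗ [1 ⊗ s]` -/
def rho : S →+* Bρ R S S' k :=
  (incR R S S' k).comp ((Ideal.Quotient.mk _).comp
    (Algebra.TensorProduct.includeRight : S →ₐ[R] S ⊗[R] S).toRingHom)

theorem incL_alg_sub_rho_mem (s : S) :
    incL R S S' k (algebraMap S S' s) - rho R S S' k s ∈ J R S S' k := by
  have h1 : incL R S S' k (algebraMap S S' s) = incR R S S' k
      (Ideal.Quotient.mk ((KaehlerDifferential.ideal R S) ^ (k + 1)) (s ⊗ₜ[R] (1 : S))) := by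
    change toB R S S' k ((algebraMap S S' s) ⊗ₜ[S] (1 : Pk R S k)) = toB R S S' k ((1 : S') ⊗ₜ[S] _)
    congr 1
    rw [Algebra.algebraMap_eq_smul_one, TensorProduct.smul_tmul]
    congr 1
    rw [Algebra.smul_def, mul_one]
    rfl
  rw [h1]
  change incR R S S' k _ - incR R S S' k _ ∈ _
  rw [← map_sub]
  apply Ideal.mem_map_of_mem (incR R S S' k)
  change Ideal.Quotient.mk _ (s ⊗ₜ[R] (1 : S)) - Ideal.Quotient.mk _ ((1 : S) ⊗ₜ[R] s) ∈ _
  rw [← map_sub]
  apply Ideal.mem_map_of_mem
  have := KaehlerDifferential.one_smul_sub_smul_one_mem_ideal R s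
  rw [← neg_sub]
  exact neg_mem this

theorem exists_theta [Algebra.FormallySmooth S S'] :
    ∃ θ : S' →+* Bρ R S S' k,
      (∀ (s : S) (b : S'), θ (algebraMap S S' s * b) = rho R S S' k s * θ b) ∧
      ∀ b : S', θ b - incL R S S' k b ∈ J R S S' k := by
  letI algρ : Algebra S (Bρ R S S' k) := (rho R S S' k).toAlgebra
  let g : S' →ₐ[S] (Bρ R S S' k ⧸ J R S S' k) :=
    { toRingHom := (Ideal.Quotient.mk (J R S S' k)).comp (incL R S S' k)
      commutes' := fun s => by
        change Ideal.Quotient.mk (J R S S' k) (incL R S S' k (algebraMap S S' s)) =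
          Ideal.Quotient.mk (J R S S' k) (rho R S S' k s)
        exact Ideal.Quotient.eq.mpr (incL_alg_sub_rho_mem R S S' k s) }
  have hJ : IsNilpotent (J R S S' k) := ⟨k + 1, J_pow R S S' k⟩
  let θ : S' →ₐ[S] Bρ R S S' k := Algebra.FormallySmooth.lift (J R S S' k) hJ g
  refine ⟨θ.toRingHom, ?_, ?_⟩
  · intro s b
    have h1 : algebraMap S S' s * b = s • b := (Algebra.smul_def s b).symm
    change θ (algebraMap S S' s * b) = rho R S S' k s * θ b
    rw [h1, map_smul]
    rfl
  · intro b
    have := Algebra.FormallySmooth.mk_lift (J R S S' k) hJ g b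
    exact Ideal.Quotient.eq.mp this

end Ring

noncomputable section Mod

variable {R S S' : Type u} [CommRing R] [CommRing S] [CommRing S'] [Algebra R S] [Algebra R S']
  [Algebra S S'] [IsScalarTower R S S'] {k : ℕ}
variable {M N : Type u} [AddCommGroup M] [Module S M] [Module R M] [IsScalarTower R S M]
  [AddCommGroup N] [Module S N] [Module R N] [IsScalarTower R S N]
variable (D : M →ₗ[R] N)

/-- `y ↦ Λ D y m` as an `S`-linear map (left structure) -/
def lin (m : M) : S ⊗[R] S →ₗ[S] N where
  toFun y := Λ D y m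
  map_add' y z := by rw [map_add, LinearMap.add_apply]
  map_smul' s y := by
    have : s • y = ((s ⊗ₜ[R] (1 : S)) : S ⊗[R] S) * y := by
      rw [Algebra.smul_def]; rfl
    rw [this, Λ_mul_left]
    rfl

variable {D} in
theorem lin_vanish (hD : IsDiffOpLE R S M N k D) (m : M) :
    ((KaehlerDifferential.ideal R S) ^ (k + 1)).restrictScalars S ≤ LinearMap.ker (lin D m) := by
  intro y hy
  rw [LinearMap.mem_ker]
  change Λ D y m = 0
  rw [Λ_vanish k D hD y hy]
  rfl

/-- the induced map on `P^k` -/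
def ell (hD : IsDiffOpLE R S M N k D) (m : M) : Pk R S k →ₗ[S] N :=
  (Submodule.liftQ _ (lin D m) (lin_vanish hD m)) ∘ₗ
    (Submodule.Quotient.restrictScalarsEquiv S ((KaehlerDifferential.ideal R S) ^ (k + 1))).symm.toLinearMap

theorem ell_mk (hD : IsDiffOpLE R S M N k D) (m : M) (y : S ⊗[R] S) :
    ell D hD m (Ideal.Quotient.mk _ y) = Λ D y m := rfl

variable {D} (hD : IsDiffOpLE R S M N k D)

theorem ell_add (m m' : M) : ell D hD (m + m') = ell D hD m + ell D hD m' := by
  apply LinearMap.ext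
  intro x
  obtain ⟨y, rfl⟩ := Ideal.Quotient.mk_surjective x
  rw [LinearMap.add_apply, ell_mk, ell_mk, ell_mk, map_add]

theorem ell_zero : ell D hD (0 : M) = 0 := by
  apply LinearMap.ext
  intro x
  obtain ⟨y, rfl⟩ := Ideal.Quotient.mk_surjective x
  rw [ell_mk, map_zero, LinearMap.zero_apply]

theorem ell_smulR (r : R) (m : M) : ell D hD (r • m) = r • ell D hD m := by
  apply LinearMap.ext
  intro x
  obtain ⟨y, rfl⟩ := Ideal.Quotient.mk_surjective x
  rw [LinearMap.smul_apply, ell_mk, ell_mk, map_smul]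

theorem ell_smulS (s : S) (m : M) (x : Pk R S k) :
    ell D hD (s • m) x = ell D hD m (x * Ideal.Quotient.mk _ ((1 : S) ⊗ₜ[R] s)) := by
  obtain ⟨y, rfl⟩ := Ideal.Quotient.mk_surjective x
  rw [← map_mul, ell_mk, ell_mk, Λ_mul_right]

/-- base change of `ell` -/
def w (m : M) : Bk R S S' k →ₗ[S'] S' ⊗[S] N := (ell D hD m).baseChange S'

theorem w_tmul (m : M) (a : S') (x : Pk R S k) : w (S' := S') hD m (a ⊗ₜ[S] x) = a ⊗ₜ[S] ell D hD m x :=
  LinearMap.baseChange_tmul _ _ _

theorem w_add (m m' : M) : w (S' := S') hD (m + m') = w hD m + w hD m' := by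
  unfold w
  rw [ell_add, LinearMap.baseChange_add]

theorem w_zero : w (S' := S') hD (0 : M) = 0 := by
  unfold w
  rw [ell_zero, LinearMap.baseChange_zero]

theorem w_smulR (r : R) (m : M) (z : Bk R S S' k) : w (S' := S') hD (r • m) z = r • w hD m z := by
  induction z using TensorProduct.induction_on with
  | zero => simp
  | tmul a x => rw [w_tmul, w_tmul, ell_smulR, LinearMap.smul_apply, TensorProduct.tmul_smul]
  | add z z' h h' => rw [map_add, map_add, h, h', smul_add]

theorem w_smulS (s : S) (m : M) (z : Bk R S S' k) :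
    w (S' := S') hD (s • m) z =
      w hD m (z * ((1 : S') ⊗ₜ[S] (Ideal.Quotient.mk _ ((1 : S) ⊗ₜ[R] s) : Pk R S k))) := by
  induction z using TensorProduct.induction_on with
  | zero => simp
  | tmul a x =>
    rw [Algebra.TensorProduct.tmul_mul_tmul, mul_one, w_tmul, w_tmul, ell_smulS]
  | add z z' h h' => rw [add_mul, map_add, map_add, h, h']

variable (θ : S' →+* Bρ R S S' k)
  (hθ1 : ∀ (s : S) (b : S'), θ (algebraMap S S' s * b) = rho R S S' k s * θ b)

/-- the value `w_m (β θ(b))` -/
def val (β : Bρ R S S' k) (b : S') (m : M) : S' ⊗[S] N :=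
  w hD m ((toB R S S' k).symm (β * θ b))

theorem val_add_left (β : Bρ R S S' k) (b b' : S') (m : M) :
    val hD θ β (b + b') m = val hD θ β b m + val hD θ β b' m := by
  unfold val
  rw [map_add, mul_add, map_add, map_add]

theorem val_add_right (β : Bρ R S S' k) (b : S') (m m' : M) :
    val hD θ β b (m + m') = val hD θ β b m + val hD θ β b m' := by
  unfold val
  rw [w_add, LinearMap.add_apply]

include hθ1 in
theorem val_balanced (β : Bρ R S S' k) (s : S) (b : S') (m : M) :
    val hD θ β (s • b) m = val hD θ β b (s • m) := by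
  unfold val
  rw [w_smulS, Algebra.smul_def, hθ1]
  congr 1
  have h1 : ((1 : S') ⊗ₜ[S] (Ideal.Quotient.mk ((KaehlerDifferential.ideal R S) ^ (k + 1))
      ((1 : S) ⊗ₜ[R] s)) : Bk R S S' k) = (toB R S S' k).symm (rho R S S' k s) := rfl
  rw [h1, ← map_mul]
  congr 1
  ring

/-- the additive map underlying `E β` -/
def EAdd (β : Bρ R S S' k) : S' ⊗[S] M →+ S' ⊗[S] N :=
  TensorProduct.liftAddHom
    { toFun := fun b =>
        { toFun := fun m => val hD θ β b m
          map_zero' := by unfold val; rw [w_zero, LinearMap.zero_apply]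
          map_add' := fun m m' => val_add_right hD θ β b m m' }
      map_zero' := by
        ext m
        change val hD θ β 0 m = 0
        unfold val
        rw [map_zero, mul_zero, map_zero, map_zero]
      map_add' := fun b b' => by
        ext m
        exact val_add_left hD θ β b b' m }
    (fun s b m => val_balanced hD θ hθ1 β s b m)

theorem EAdd_tmul (β : Bρ R S S' k) (b : S') (m : M) :
    EAdd hD θ hθ1 β (b ⊗ₜ[S] m) = val hD θ β b m := rfl

/-- the operator `E β : b ⊗ m ↦ w_m (β θ(b))` -/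
def E (β : Bρ R S S' k) : S' ⊗[S] M →ₗ[R] S' ⊗[S] N where
  toFun := EAdd hD θ hθ1 β
  map_add' := map_add _
  map_smul' r x := by
    induction x using TensorProduct.induction_on with
    | zero => simp
    | tmul b m =>
      rw [← TensorProduct.tmul_smul, EAdd_tmul, EAdd_tmul]
      unfold val
      rw [w_smulR]
      rfl
    | add x y hx hy => rw [smul_add, map_add, hx, hy, map_add, smul_add]

theorem E_tmul (β : Bρ R S S' k) (b : S') (m : M) :
    E hD θ hθ1 β (b ⊗ₜ[S] m) = w hD m ((toB R S S' k).symm (β * θ b)) := rfl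

omit [Algebra R S'] [IsScalarTower R S S'] in
theorem smul_Bk (c : S') (z : Bk R S S' k) : c • z = (c ⊗ₜ[S] (1 : Pk R S k)) * z := by
  induction z using TensorProduct.induction_on with
  | zero => simp
  | tmul a x => rw [TensorProduct.smul_tmul', smul_eq_mul, Algebra.TensorProduct.tmul_mul_tmul, one_mul]
  | add z z' h h' => rw [smul_add, h, h', mul_add]

theorem E_zero : E hD θ hθ1 0 = 0 := by
  apply LinearMap.ext
  intro x
  induction x using TensorProduct.induction_on with
  | zero => simp
  | tmul b m => rw [E_tmul, zero_mul, map_zero, map_zero]; rfl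
  | add x y hx hy => rw [map_add, hx, hy]; simp

theorem commutator_E (β : Bρ R S S' k) (c : S') :
    commutator R S' (S' ⊗[S] M) (S' ⊗[S] N) (E hD θ hθ1 β) c =
      E hD θ hθ1 ((θ c - incL R S S' k c) * β) := by
  apply LinearMap.ext
  intro x
  induction x using TensorProduct.induction_on with
  | zero => simp
  | tmul b m =>
    rw [commutator_apply, TensorProduct.smul_tmul', smul_eq_mul, E_tmul, E_tmul, E_tmul,
      ← map_smul, ← map_sub]
    congr 1
    have h1 : c • (toB R S S' k).symm (β * θ b) =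
        (toB R S S' k).symm (incL R S S' k c * (β * θ b)) := by
      rw [smul_Bk]
      rfl
    rw [h1, ← map_sub]
    congr 1
    rw [map_mul]
    ring
  | add x y hx hy => rw [map_add, hx, hy, map_add]

variable (hθ2 : ∀ b : S', θ b - incL R S S' k b ∈ J R S S' k)

include hθ2 in
theorem isDiffOpLE_E : ∀ (n i : ℕ), i + n = k → ∀ β ∈ (J R S S' k) ^ i,
    IsDiffOpLE R S' (S' ⊗[S] M) (S' ⊗[S] N) n (E hD θ hθ1 β) := by
  intro n
  induction n with
  | zero =>
    intro i hi β hβ c x
    have hmem : (θ c - incL R S S' k c) * β ∈ (J R S S' k) ^ (k + 1) := by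
      have : i = k := by omega
      subst this
      rw [pow_succ']
      exact Ideal.mul_mem_mul (hθ2 c) hβ
    rw [J_pow, Ideal.mem_bot] at hmem
    have := LinearMap.congr_fun (commutator_E hD θ hθ1 β c) x
    rw [hmem, E_zero, LinearMap.zero_apply, commutator_apply, sub_eq_zero] at this
    exact this
  | succ n ih =>
    intro i hi β hβ c
    rw [commutator_E]
    apply ih (i + 1) (by omega)
    rw [pow_succ']
    exact Ideal.mul_mem_mul (hθ2 c) hβ

theorem E_one_one_tmul (m : M) :
    E hD θ hθ1 1 ((1 : S') ⊗ₜ[S] m) = (1 : S') ⊗ₜ[S] D m := by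
  rw [E_tmul, map_one, mul_one, map_one]
  change w hD m ((1 : S') ⊗ₜ[S] (Ideal.Quotient.mk _ ((1 : S) ⊗ₜ[R] (1 : S)))) = _
  rw [w_tmul, ell_mk, Λ_tmul, one_smul, one_smul]

end Mod

section Final

variable (R S S' : Type u) [CommRing R] [CommRing S] [CommRing S'] [Algebra R S] [Algebra R S']
  [Algebra S S'] [IsScalarTower R S S'] [Algebra.FormallySmooth S S']
variable (M N : Type u) [AddCommGroup M] [Module S M] [Module R M] [IsScalarTower R S M]
  [AddCommGroup N] [Module S N] [Module R N] [IsScalarTower R S N]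

/-- existence of the extension of a differential operator along a formally smooth map -/
theorem exists_extension (k : ℕ) (D : M →ₗ[R] N) (hD : IsDiffOpLE R S M N k D) :
    ∃ D' : S' ⊗[S] M →ₗ[R] S' ⊗[S] N,
      IsDiffOpLE R S' (S' ⊗[S] M) (S' ⊗[S] N) k D' ∧
        ∀ m : M, D' ((1 : S') ⊗ₜ[S] m) = (1 : S') ⊗ₜ[S] D m := by
  obtain ⟨θ, hθ1, hθ2⟩ := exists_theta R S S' k
  refine ⟨E hD θ hθ1 1, ?_, E_one_one_tmul hD θ hθ1⟩
  apply isDiffOpLE_E hD θ hθ1 hθ2 k 0 (by omega)
  rw [pow_zero, Ideal.one_eq_top]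
  trivial

end Final

end Groth.Agent.Lib.Helper14.DiffEtale
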