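import Mathlib
import Groth.Prelude.Def_RDer

/-!
# The first edge map of a composite is an isomorphism when `X` is `Φ`-acyclic

For `Φ : A ⥤ B` left exact, preserving injectives, and `X : A` with `R^q Φ X = 0` for `q > 0`, the complex `Φ I` (for `I` an
injective resolution of `X`) is an injective resolution of `Φ X`, hence `RDer.edgeIn Φ Ψ q X` is an isomorphism for every additive `Ψ`.
-/

universe v₁ v₂ v₃ u₁ u₂ u₃

namespace Groth.Agent.Lib.Helper14.EdgeInIso

open CategoryTheory Limits HomologicalComplex Groth

variable {A : Type u₁} [Category.{v₁} A] [Abelian A] [HasInjectiveResolutions A]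
  {B : Type u₂} [Category.{v₂} B] [Abelian B] [HasInjectiveResolutions B]
  {C : Type u₃} [Category.{v₃} C] [Abelian C]

omit [HasInjectiveResolutions B] in
set_option backward.isDefEq.respectTransparency false in
theorem quasiIso_mapAug (Φ : A ⥤ B) [Φ.Additive] [PreservesFiniteLimits Φ] {X : A}
    (I : InjectiveResolution X) (h : ∀ q : ℕ, 0 < q → IsZero ((Φ.rightDerived q).obj X)) :
    QuasiIso (RDer.mapAug Φ I.ι) := by
  refine ⟨fun n => ?_⟩
  cases n with
  | zero =>
    rw [CochainComplex.quasiIsoAt₀_iff, ShortComplex.quasiIso_iff_of_zeros]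
    · refine (ShortComplex.exact_and_mono_f_iff_of_iso ?_).2
        ((ShortComplex.exact_and_mono_f_iff_f_is_kernel
          (ShortComplex.mk (Φ.map (I.ι.f 0)) (Φ.map (I.cocomplex.d 0 1))
            (by rw [← Φ.map_comp, I.ι_f_zero_comp_complex_d, Φ.map_zero]))).2
          ⟨KernelFork.mapIsLimit _ (I.isLimitKernelFork) Φ⟩)
      exact ShortComplex.isoMk (Iso.refl _) (Iso.refl _) (Iso.refl _)
        (by
          simp [HomologicalComplex.singleMapHomologicalComplex_inv_app_self]
          exact (Category.id_comp _).symm) (by simp)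
    all_goals simp
  | succ n =>
    rw [quasiIsoAt_iff_exactAt]
    · rw [exactAt_iff_isZero_homology]
      exact IsZero.of_iso (h (n + 1) (Nat.succ_pos n)) (I.isoRightDerivedObj Φ (n + 1)).symm
    · exact CochainComplex.exactAt_succ_single_obj _ _

set_option backward.isDefEq.respectTransparency false in
theorem isIso_edgeIn (Φ : A ⥤ B) [Φ.Additive] [Φ.PreservesInjectiveObjects] [PreservesFiniteLimits Φ]
    (Ψ : B ⥤ C) [Ψ.Additive] (X : A)
    (h : ∀ q : ℕ, 0 < q → IsZero ((Φ.rightDerived q).obj X)) (q : ℕ) :
    IsIso (RDer.edgeIn Φ Ψ q X) := by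
  have := quasiIso_mapAug Φ (injectiveResolution X) h
  let P : InjectiveResolution (Φ.obj X) :=
    { cocomplex := (Φ.mapHomologicalComplex _).obj (injectiveResolution X).cocomplex
      injective := fun n => Φ.injective_obj _
      ι := RDer.mapAug Φ (injectiveResolution X).ι
      quasiIso := inferInstance }
  let J := injectiveResolution (Φ.obj X)
  let g : J.cocomplex ⟶ P.cocomplex :=
    RDer.descToInjectives (𝟙 (Φ.obj X)) J.cocomplex J.ι P.cocomplex P.ι
  have hg : J.ι ≫ g = P.ι := by
    apply HomologicalComplex.from_single_hom_ext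
    rw [HomologicalComplex.comp_f]
    exact (RDer.ι_descToInjectives_f_zero _ _ _ _ _).trans (Category.id_comp _)
  let H : Homotopy g (InjectiveResolution.homotopyEquiv J P).hom :=
    InjectiveResolution.descHomotopy (𝟙 _) g _ (by simp [hg]) (by simp)
  have hiso : IsIso ((homologyFunctor C _ q).map ((Ψ.mapHomologicalComplex _).map g)) := by
    have e := (Ψ.mapHomotopyEquiv (InjectiveResolution.homotopyEquiv J P)).toHomologyIso q
    have he : (homologyFunctor C _ q).map ((Ψ.mapHomologicalComplex _).map g) =
        ((Ψ.mapHomotopyEquiv (InjectiveResolution.homotopyEquiv J P)).toHomologyIso q).hom :=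
      (Ψ.mapHomotopy H).homologyMap_eq q
    rw [he]
    infer_instance
  dsimp only [RDer.edgeIn]
  infer_instance

end Groth.Agent.Lib.Helper14.EdgeInIso
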