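import Mathlib

/-!
# Helper14: elementary replacement of a cochain complex in one degree

Given a cochain complex `C`, a degree `n` and a monomorphism `j : C.X n ⟶ M`, we construct a
quasi-isomorphism `C ⟶ C'` which is an isomorphism outside the degrees `n`, `n + 1`, with
`C'.X n ≅ M` and `C'.X (n + 1)` the pushout of `M ⟵ C.X n ⟶ C.X (n + 1)`.
-/

set_option autoImplicit false

open CategoryTheory CategoryTheory.Limits

namespace Groth.Agent.Lib.Helper14.ElemRepl

universe v u

variable {A : Type u} [Category.{v} A] [Abelian A]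

lemma rel (n : ℤ) : (ComplexShape.up ℤ).Rel n (n + 1) := rfl

lemma ne (n : ℤ) : n ≠ n + 1 := by omega

/-- the disk complex `X --𝟙--> X` in degrees `n`, `n + 1` -/
noncomputable def disk (X : A) (n : ℤ) : CochainComplex A ℤ :=
  HomologicalComplex.double (𝟙 X) (rel n)

noncomputable def diskIso₀ (X : A) (n : ℤ) : (disk X n).X n ≅ X :=
  HomologicalComplex.doubleXIso₀ (𝟙 X) (rel n)

noncomputable def diskIso₁ (X : A) (n : ℤ) : (disk X n).X (n + 1) ≅ X :=
  HomologicalComplex.doubleXIso₁ (𝟙 X) (rel n) (ne n)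

lemma disk_isZero (X : A) (n i : ℤ) (h0 : i ≠ n) (h1 : i ≠ n + 1) : IsZero ((disk X n).X i) :=
  HomologicalComplex.isZero_double_X _ _ i h0 h1

lemma disk_d (X : A) (n : ℤ) :
    (disk X n).d n (n + 1) = (diskIso₀ X n).hom ≫ (diskIso₁ X n).inv := by
  unfold disk diskIso₀ diskIso₁
  rw [HomologicalComplex.double_d _ _ (ne n), Category.id_comp]

instance (X : A) (n : ℤ) : IsIso ((disk X n).d n (n + 1)) := by
  rw [disk_d]; infer_instance

lemma disk_exactAt (X : A) (n i : ℤ) : (disk X n).ExactAt i := by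
  by_cases h0 : i = n
  · subst h0
    rw [HomologicalComplex.exactAt_iff' _ (i - 1) i (i + 1) (by simp) (by simp)]
    have hz : IsZero ((disk X i).X (i - 1)) := disk_isZero X i (i - 1) (by omega) (by omega)
    rw [ShortComplex.exact_iff_mono _ (hz.eq_of_src _ _)]
    show Mono ((disk X i).d i (i + 1))
    infer_instance
  · by_cases h1 : i = n + 1
    · subst h1
      rw [HomologicalComplex.exactAt_iff' _ n (n + 1) (n + 1 + 1) (by simp) (by simp)]
      have hz : IsZero ((disk X n).X (n + 1 + 1)) :=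
        disk_isZero X n (n + 1 + 1) (by omega) (by omega)
      rw [ShortComplex.exact_iff_epi _ (hz.eq_of_tgt _ _)]
      show Epi ((disk X n).d n (n + 1))
      infer_instance
    · exact ShortComplex.exact_of_isZero_X₂ _ (disk_isZero X n i h0 h1)

lemma disk_acyclic (X : A) (n : ℤ) : (disk X n).Acyclic := fun i => disk_exactAt X n i

/-- In a short exact sequence of cochain complexes with acyclic kernel, the second map is a
quasi-isomorphism. -/
lemma quasiIso_g_of_acyclic_X₁ {S : ShortComplex (CochainComplex A ℤ)} (hS : S.ShortExact)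
    (h₁ : S.X₁.Acyclic) : QuasiIso S.g := by
  rw [quasiIso_iff]
  intro i
  rw [quasiIsoAt_iff_isIso_homologyMap]
  have hmono : Mono (HomologicalComplex.homologyMap S.g i) := by
    have e := hS.homology_exact₂ i
    exact e.mono_g (((h₁ i).isZero_homology).eq_of_src _ _)
  have hepi : Epi (HomologicalComplex.homologyMap S.g i) := by
    have hij : (ComplexShape.up ℤ).Rel i (i + 1) := by simp
    have e := hS.homology_exact₃ i (i + 1) hij
    exact e.epi_f (((h₁ (i + 1)).isZero_homology).eq_of_tgt _ _)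
  exact isIso_of_mono_of_epi _

/-- the inclusion of a summand with acyclic complement is a quasi-isomorphism -/
lemma quasiIso_inl (C D : CochainComplex A ℤ) (hD : D.Acyclic) :
    QuasiIso (biprod.inl : C ⟶ C ⊞ D) := by
  rw [quasiIso_iff]
  intro i
  rw [quasiIsoAt_iff_isIso_homologyMap]
  refine ⟨HomologicalComplex.homologyMap (biprod.fst : C ⊞ D ⟶ C) i, ?_, ?_⟩
  · rw [← HomologicalComplex.homologyMap_comp, biprod.inl_fst, HomologicalComplex.homologyMap_id]
  · rw [← HomologicalComplex.homologyMap_comp]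
    have h : (biprod.fst : C ⊞ D ⟶ C) ≫ biprod.inl = 𝟙 _ - biprod.snd ≫ biprod.inr := by
      rw [eq_sub_iff_add_eq, biprod.total]
    rw [h, HomologicalComplex.homologyMap_sub, HomologicalComplex.homologyMap_id,
      HomologicalComplex.homologyMap_comp]
    have hz : HomologicalComplex.homologyMap (biprod.snd : C ⊞ D ⟶ D) i = 0 :=
      ((hD i).isZero_homology).eq_of_tgt _ _
    rw [hz, zero_comp, sub_zero]

section Bicone

/-- abstract "pushout of an iso" lemma -/
lemma isIso_inr_comp_g {S : ShortComplex A} (hS : S.ShortExact) {Y Z : A}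
    (inl : Y ⟶ S.X₂) (inr : Z ⟶ S.X₂) (fst : S.X₂ ⟶ Y) (snd : S.X₂ ⟶ Z)
    (h1 : inr ≫ snd = 𝟙 Z) (h2 : inr ≫ fst = 0)
    (htot : fst ≫ inl + snd ≫ inr = 𝟙 S.X₂) [IsIso (S.f ≫ fst)] : IsIso (inr ≫ S.g) := by
  haveI := hS.mono_f
  haveI := hS.epi_g
  haveI : Mono (inr ≫ S.g) := by
    refine ⟨fun {T} t t' htt => ?_⟩
    have hd : (t - t') ≫ inr ≫ S.g = 0 := by rw [Preadditive.sub_comp, htt, sub_self]
    have hd' : ((t - t') ≫ inr) ≫ S.g = 0 := by rw [Category.assoc, hd]
    obtain ⟨s, hs⟩ : ∃ s : T ⟶ S.X₁, s ≫ S.f = (t - t') ≫ inr :=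
      ⟨hS.exact.lift _ hd', hS.exact.lift_f _ hd'⟩
    have hs0 : s ≫ (S.f ≫ fst) = 0 := by
      rw [← Category.assoc, hs, Category.assoc, h2, comp_zero]
    have hs1 : s = 0 := by
      rw [← cancel_mono (S.f ≫ fst), hs0, zero_comp]
    have h3 : (t - t') ≫ inr = 0 := by rw [← hs, hs1, zero_comp]
    have h4 : t - t' = 0 := by
      have := congrArg (· ≫ snd) h3
      simpa [Category.assoc, h1] using this
    exact sub_eq_zero.1 h4
  haveI : Epi (inr ≫ S.g) := by
    refine ⟨fun {T} t t' htt => ?_⟩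
    have hd : inr ≫ S.g ≫ (t - t') = 0 := by
      rw [Preadditive.comp_sub, Preadditive.comp_sub, sub_eq_zero]
      simpa [Category.assoc] using htt
    have hf : S.f = (S.f ≫ fst) ≫ inl + (S.f ≫ snd) ≫ inr := by
      rw [Category.assoc, Category.assoc, ← Preadditive.comp_add, htot, Category.comp_id]
    have h5 : (S.f ≫ fst) ≫ inl ≫ S.g ≫ (t - t') = 0 := by
      have h6 : S.f ≫ S.g ≫ (t - t') = 0 := by rw [← Category.assoc, S.zero, zero_comp]
      rw [hf, Preadditive.add_comp, Category.assoc (S.f ≫ snd), hd, comp_zero, add_zero,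
        Category.assoc] at h6
      exact h6
    have h7 : inl ≫ S.g ≫ (t - t') = 0 := by
      rw [← cancel_epi (S.f ≫ fst), h5, comp_zero]
    have h8 : S.g ≫ (t - t') = 0 := by
      rw [← Category.id_comp (S.g ≫ (t - t')), ← htot, Preadditive.add_comp, Category.assoc,
        Category.assoc, h7, hd, comp_zero, comp_zero, add_zero]
    have h9 : t - t' = 0 := by rw [← cancel_epi S.g, h8, comp_zero]
    exact sub_eq_zero.1 h9
  exact isIso_of_mono_of_epi _

end Bicone

section Repl

variable (C : CochainComplex A ℤ) (n : ℤ) {M : A} (j : C.X n ⟶ M)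

/-- the canonical map from the disk on `C.X n` to `C` -/
noncomputable def toC : disk (C.X n) n ⟶ C :=
  HomologicalComplex.mkHomFromDouble (rel n) (ne n) (𝟙 _) (C.d n (n + 1)) (by simp)
    (by intro k _; simp)

lemma toC_f₀ : (toC C n).f n = (diskIso₀ (C.X n) n).hom := by
  unfold toC diskIso₀
  rw [HomologicalComplex.mkHomFromDouble_f₀, Category.comp_id]

/-- the map of disks induced by a morphism -/
noncomputable def diskMap {X M : A} (j : X ⟶ M) (n : ℤ) : disk X n ⟶ disk M n :=
  HomologicalComplex.mkHomFromDouble (rel n) (ne n) (j ≫ (diskIso₀ M n).inv)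
    (j ≫ (diskIso₁ M n).inv)
    (by rw [Category.assoc, disk_d, Iso.inv_hom_id_assoc, Category.id_comp])
    (by
      intro k _
      have : (disk M n).d (n + 1) k = 0 :=
        HomologicalComplex.double_d_eq_zero₀ _ _ _ _ (ne n).symm
      rw [this, comp_zero])

lemma diskMap_f₁ {X M : A} (j : X ⟶ M) (n : ℤ) :
    (diskMap j n).f (n + 1) = (diskIso₁ X n).hom ≫ j ≫ (diskIso₁ M n).inv := by
  unfold diskMap
  rw [HomologicalComplex.mkHomFromDouble_f₁]
  rfl

/-- the map whose cokernel is the replacement -/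
noncomputable def φ : disk (C.X n) n ⟶ C ⊞ disk M n :=
  biprod.lift (toC C n) (diskMap j n)

lemma φ_fst : φ C n j ≫ biprod.fst = toC C n := biprod.lift_fst _ _

lemma φ_snd : φ C n j ≫ biprod.snd = diskMap j n := biprod.lift_snd _ _

instance mono_φ [Mono j] : Mono (φ C n j) := by
  haveI : ∀ i, Mono ((φ C n j).f i) := by
    intro i
    by_cases h0 : i = n
    · subst h0
      have : (φ C i j).f i ≫ (biprod.fst : C ⊞ disk M i ⟶ C).f i = (diskIso₀ (C.X i) i).hom := by
        rw [← HomologicalComplex.comp_f, φ_fst, toC_f₀]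
      exact mono_of_mono_fac this
    · by_cases h1 : i = n + 1
      · subst h1
        have : (φ C n j).f (n + 1) ≫ (biprod.snd : C ⊞ disk M n ⟶ disk M n).f (n + 1) =
            (diskIso₁ (C.X n) n).hom ≫ j ≫ (diskIso₁ M n).inv := by
          rw [← HomologicalComplex.comp_f, φ_snd, diskMap_f₁]
        exact mono_of_mono_fac this
      · exact ⟨fun g h _ => (disk_isZero (C.X n) n i h0 h1).eq_of_tgt _ _⟩
  exact HomologicalComplex.mono_of_mono_f _ inferInstance

/-- the replaced complex -/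
noncomputable def newC : CochainComplex A ℤ := cokernel (φ C n j)

/-- the projection to the replaced complex -/
noncomputable def proj : C ⊞ disk M n ⟶ newC C n j := cokernel.π (φ C n j)

lemma φ_proj : φ C n j ≫ proj C n j = 0 := cokernel.condition _

/-- the short complex defining the replacement -/
noncomputable def sc : ShortComplex (CochainComplex A ℤ) :=
  ShortComplex.mk (φ C n j) (proj C n j) (φ_proj C n j)

lemma sc_shortExact [Mono j] : (sc C n j).ShortExact where
  exact := ShortComplex.exact_cokernel _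
  mono_f := mono_φ C n j
  epi_g := inferInstanceAs (Epi (cokernel.π (φ C n j)))

/-- the replacement map -/
noncomputable def repl : C ⟶ newC C n j := biprod.inl ≫ proj C n j

lemma repl_f (i : ℤ) :
    (repl C n j).f i = (biprod.inl : C ⟶ C ⊞ disk M n).f i ≫ (proj C n j).f i := rfl

lemma quasiIso_repl [Mono j] : QuasiIso (repl C n j) := by
  have h1 : QuasiIso (biprod.inl : C ⟶ C ⊞ disk M n) := quasiIso_inl C _ (disk_acyclic M n)
  have h2 : QuasiIso (proj C n j) :=
    quasiIso_g_of_acyclic_X₁ (sc_shortExact C n j) (disk_acyclic _ n)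
  exact quasiIso_comp (hφ := h1) (hφ' := h2) _ _

end Repl

section Degreewise

variable (C : CochainComplex A ℤ) (n : ℤ) {M : A} (j : C.X n ⟶ M) [Mono j]

/-- the degreewise short complex -/
noncomputable def scf (i : ℤ) : ShortComplex A :=
  ShortComplex.mk ((φ C n j).f i) ((proj C n j).f i)
    (by rw [← HomologicalComplex.comp_f, φ_proj, HomologicalComplex.zero_f])

/-- the degreewise short exact sequence -/
lemma scf_shortExact (i : ℤ) : (scf C n j i).ShortExact :=
  (sc_shortExact C n j).map_of_exact (HomologicalComplex.eval A (ComplexShape.up ℤ) i)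

lemma isIso_inl_f (C D : CochainComplex A ℤ) (i : ℤ) (hz : IsZero (D.X i)) :
    IsIso ((biprod.inl : C ⟶ C ⊞ D).f i) := by
  refine ⟨(biprod.fst : C ⊞ D ⟶ C).f i, ?_, ?_⟩
  · rw [← HomologicalComplex.comp_f, biprod.inl_fst, HomologicalComplex.id_f]
  · have h : (biprod.fst : C ⊞ D ⟶ C) ≫ biprod.inl = 𝟙 _ - biprod.snd ≫ biprod.inr := by
      rw [eq_sub_iff_add_eq, biprod.total]
    rw [← HomologicalComplex.comp_f, h, HomologicalComplex.sub_f_apply, HomologicalComplex.id_f,
      HomologicalComplex.comp_f]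
    have : (biprod.snd : C ⊞ D ⟶ D).f i = 0 := hz.eq_of_tgt _ _
    rw [this, zero_comp, sub_zero]

lemma isIso_repl_f (i : ℤ) (h0 : i ≠ n) (h1 : i ≠ n + 1) : IsIso ((repl C n j).f i) := by
  haveI := isIso_inl_f C (disk M n) i (disk_isZero M n i h0 h1)
  haveI : IsIso ((proj C n j).f i) :=
    (scf_shortExact C n j i).isIso_g_iff.2 (disk_isZero (C.X n) n i h0 h1)
  rw [repl_f]
  infer_instance

lemma isIso_inr_π :
    IsIso ((biprod.inr : disk M n ⟶ C ⊞ disk M n).f n ≫ (proj C n j).f n) := by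
  have h := scf_shortExact C n j n
  haveI : IsIso ((scf C n j n).f ≫ (biprod.fst : C ⊞ disk M n ⟶ C).f n) := by
    have : (scf C n j n).f ≫ (biprod.fst : C ⊞ disk M n ⟶ C).f n =
        (diskIso₀ (C.X n) n).hom := by
      show (φ C n j).f n ≫ (biprod.fst : C ⊞ disk M n ⟶ C).f n = _
      rw [← HomologicalComplex.comp_f, φ_fst, toC_f₀]
    rw [this]
    exact Iso.isIso_hom (diskIso₀ (C.X n) n)
  exact isIso_inr_comp_g h ((biprod.inl : C ⟶ C ⊞ disk M n).f n)
    ((biprod.inr : disk M n ⟶ C ⊞ disk M n).f n) ((biprod.fst : C ⊞ disk M n ⟶ C).f n)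
    ((biprod.snd : C ⊞ disk M n ⟶ disk M n).f n)
    (by
      show (biprod.inr : disk M n ⟶ C ⊞ disk M n).f n ≫
        (biprod.snd : C ⊞ disk M n ⟶ disk M n).f n = _
      rw [← HomologicalComplex.comp_f, biprod.inr_snd, HomologicalComplex.id_f])
    (by
      show (biprod.inr : disk M n ⟶ C ⊞ disk M n).f n ≫
        (biprod.fst : C ⊞ disk M n ⟶ C).f n = _
      rw [← HomologicalComplex.comp_f, biprod.inr_fst, HomologicalComplex.zero_f])
    (by
      show (biprod.fst : C ⊞ disk M n ⟶ C).f n ≫ (biprod.inl : C ⟶ C ⊞ disk M n).f n +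
        (biprod.snd : C ⊞ disk M n ⟶ disk M n).f n ≫
          (biprod.inr : disk M n ⟶ C ⊞ disk M n).f n = 𝟙 ((C ⊞ disk M n).X n)
      rw [← HomologicalComplex.comp_f, ← HomologicalComplex.comp_f,
        ← HomologicalComplex.add_f_apply, biprod.total, HomologicalComplex.id_f])

/-- `newC.X n ≅ M` -/
lemma nonempty_iso_newC_X₀ : Nonempty ((newC C n j).X n ≅ M) := by
  haveI := isIso_inr_π C n j
  exact ⟨(asIso ((biprod.inr : disk M n ⟶ C ⊞ disk M n).f n ≫
    (proj C n j).f n)).symm ≪≫ diskIso₀ M n⟩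

end Degreewise

section Dim

variable (d : A → ℕ∞) (hiso : ∀ ⦃X Y : A⦄, Nonempty (X ≅ Y) → d X = d Y)
  (h2 : ∀ X Y : A, d (X ⊞ Y) ≤ max (d X) (d Y))
  (h3 : ∀ S : ShortComplex A, S.ShortExact → d S.X₃ ≤ max (d S.X₁ - 1) (d S.X₂))

include hiso h2 h3 in
lemma d_newC_X₁ (C : CochainComplex A ℤ) (n : ℤ) {M : A} (j : C.X n ⟶ M) [Mono j]
    (hM : d M = 0) :
    d ((newC C n j).X (n + 1)) ≤ max (d (C.X n) - 1) (d (C.X (n + 1))) := by
  have h := h3 _ (scf_shortExact C n j (n + 1))
  have e1 : d ((disk (C.X n) n).X (n + 1)) = d (C.X n) := hiso ⟨diskIso₁ _ n⟩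
  have e2 : d ((C ⊞ disk M n).X (n + 1)) ≤ max (d (C.X (n + 1))) 0 := by
    have e3 : d ((C ⊞ disk M n).X (n + 1)) = d (C.X (n + 1) ⊞ (disk M n).X (n + 1)) :=
      hiso ⟨HomologicalComplex.biprodXIso C (disk M n) (n + 1)⟩
    rw [e3]
    refine (h2 _ _).trans ?_
    have e4 : d ((disk M n).X (n + 1)) = 0 := (hiso ⟨diskIso₁ M n⟩).trans hM
    rw [e4]
  have e5 : max (d (C.X (n + 1))) 0 = d (C.X (n + 1)) := max_eq_left zero_le
  rw [e5] at e2
  refine h.trans ?_
  show max (d ((disk (C.X n) n).X (n + 1)) - 1) (d ((C ⊞ disk M n).X (n + 1))) ≤ _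
  rw [e1]
  exact max_le_max le_rfl e2

end Dim

end Groth.Agent.Lib.Helper14.ElemRepl
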