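import Groth.Agent.Lib.Helper14.EtQc1
import Groth.Agent.Lib.Helper17.PbDict

/-!
# Functoriality of the restriction maps of `U ↦ Γ(U, u^* F)` (helper14)

`Rg g : u^* F ⟶ g_* u'^* F` is the adjoint of `EtAssoc.step2a F g`; it is functorial in `g`, hence so
are the restriction maps `EtAssoc.resMap`.
-/

set_option autoImplicit false
set_option linter.unusedSectionVars false
set_option backward.isDefEq.respectTransparency.types false

universe u

open CategoryTheory CategoryTheory.Limits Opposite AlgebraicGeometry TopologicalSpace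

namespace Groth.Agent.Lib.Helper14.EtAssocFun

open Groth.Agent.Lib.Helper28.QCohLoc Groth.Agent.Lib.Helper28.PullbackInv
open Groth.Agent.Lib.Helper17.PbDict Groth.Agent.Lib.Helper14.EtQc

section Gen

variable {W Y : Scheme.{u}} (M : Y.Modules)

lemma eqToHom_pbs' {g g' : W ⟶ Y} (h : g = g') (V : Y.Opens) (y : Γ(M, V))
    (hO : g ⁻¹ᵁ V ≤ g' ⁻¹ᵁ V) :
    (eqToHom (congrArg (fun k => (Scheme.Modules.pullback k).obj M) h)).app (g ⁻¹ᵁ V)
      (pbs g M V y) = res _ hO (pbs g' M V y) := by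
  subst h
  rw [res_self]
  rfl

end Gen

variable {S : Scheme.{u}} {F : S.Modules} {U U' U'' : S.Etale}

lemma pre_le (g : U' ⟶ U) (V : S.Opens) : g.left ⁻¹ᵁ (U.hom ⁻¹ᵁ V) ≤ U'.hom ⁻¹ᵁ V := by
  have h : (g.left ≫ U.hom) ⁻¹ᵁ V = U'.hom ⁻¹ᵁ V := by rw [Over.w g.hom]
  exact le_of_eq h

/-- the comparison `g^* u^* F ⟶ u'^* F` on pulled back sections -/
lemma step2a_pbs_pbs (g : U' ⟶ U) (V : S.Opens) (s : Γ(F, V)) :
    (EtAssoc.step2a F g).app (g.left ⁻¹ᵁ (U.hom ⁻¹ᵁ V))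
      (pbs g.left (MU F U) (U.hom ⁻¹ᵁ V) (pbs U.hom F V s)) =
    res _ (pre_le g V) (pbs U'.hom F V s) := by
  unfold EtAssoc.step2a
  rw [Scheme.Modules.Hom.comp_app, ConcreteCategory.comp_apply, pullbackComp_hom_pbs]
  exact eqToHom_pbs' F (Over.w g.hom) V s _

/-- the restriction morphism `u^* F ⟶ g_* u'^* F` -/
noncomputable def Rg (g : U' ⟶ U) :
    MU F U ⟶ (Scheme.Modules.pushforward g.left).obj (MU F U') :=
  (Scheme.Modules.pullbackPushforwardAdjunction g.left).homEquiv _ _ (EtAssoc.step2a F g)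

lemma Rg_app (g : U' ⟶ U) (O : U.left.Opens) (y : Γ(MU F U, O)) :
    (Rg g).app O y = (EtAssoc.step2a F g).app (g.left ⁻¹ᵁ O) (pbs g.left (MU F U) O y) := by
  unfold Rg
  rw [Adjunction.homEquiv_unit]
  rfl

/-- `Rg g` on sections, with values in the sections of `u'^* F` -/
noncomputable def rO (g : U' ⟶ U) (O : U.left.Opens) (y : Γ(MU F U, O)) :
    Γ(MU F U', g.left ⁻¹ᵁ O) := (Rg g).app O y

lemma rO_def (g : U' ⟶ U) (O : U.left.Opens) (y : Γ(MU F U, O)) :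
    rO g O y = (EtAssoc.step2a F g).app (g.left ⁻¹ᵁ O) (pbs g.left (MU F U) O y) := Rg_app g O y

lemma rO_add (g : U' ⟶ U) (O : U.left.Opens) (y y' : Γ(MU F U, O)) :
    rO g O (y + y') = rO g O y + rO g O y' := map_add _ _ _

lemma rO_res (g : U' ⟶ U) {O O' : U.left.Opens} (h : O' ≤ O) (y : Γ(MU F U, O)) :
    rO g O' (res _ h y) = res _ (g.left.preimage_mono h) (rO g O y) :=
  app_res (Rg g) h y

lemma rO_pbs (g : U' ⟶ U) (V : S.Opens) (s : Γ(F, V)) :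
    rO g (U.hom ⁻¹ᵁ V) (pbs U.hom F V s) = res _ (pre_le g V) (pbs U'.hom F V s) := by
  rw [rO_def]
  exact step2a_pbs_pbs g V s

lemma rmap_eq_rO (g : U' ⟶ U) (y : Γ(MU F U, ⊤)) : rmap g y = rO g ⊤ y := by
  rw [rmap_apply, rO_def, app_res]
  exact res_self _ _

/-- the composite of two restriction morphisms -/
noncomputable def RgComp (h : U'' ⟶ U') (g : U' ⟶ U) :
    MU F U ⟶ (Scheme.Modules.pushforward (h ≫ g).left).obj (MU F U'') :=
  Rg g ≫ (Scheme.Modules.pushforward g.left).map (Rg h) ≫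
    (Scheme.Modules.pushforwardComp h.left g.left).hom.app (MU F U'')

lemma RgComp_app (h : U'' ⟶ U') (g : U' ⟶ U) (O : U.left.Opens) (y : Γ(MU F U, O)) :
    (RgComp h g).app O y = rO h (g.left ⁻¹ᵁ O) (rO g O y) := rfl

theorem Rg_comp (h : U'' ⟶ U') (g : U' ⟶ U) : Rg (F := F) (h ≫ g) = RgComp h g := by
  refine pb_hom_ext U.hom _ _ (fun V s => ?_)
  rw [RgComp_app]
  have h1 : (Rg (h ≫ g)).app (U.hom ⁻¹ᵁ V) (pbs U.hom F V s) =
      rO (h ≫ g) (U.hom ⁻¹ᵁ V) (pbs U.hom F V s) := rfl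
  rw [h1, rO_pbs, rO_pbs, rO_res, rO_pbs, res_res]
  rfl

theorem rO_comp (h : U'' ⟶ U') (g : U' ⟶ U) (O : U.left.Opens) (y : Γ(MU F U, O)) :
    rO (h ≫ g) O y = rO h (g.left ⁻¹ᵁ O) (rO g O y) := by
  have h1 := congrArg (fun θ => (Scheme.Modules.Hom.app θ O) y) (Rg_comp (F := F) h g)
  exact h1

theorem rmap_comp (h : U'' ⟶ U') (g : U' ⟶ U) (y : Γ(MU F U, ⊤)) :
    rmap (h ≫ g) y = rmap h (rmap g y) := by
  rw [rmap_eq_rO, rmap_eq_rO, rmap_eq_rO, rO_comp]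
  rfl

theorem Rg_id (U : S.Etale) :
    Rg (F := F) (𝟙 U) = (Scheme.Modules.pushforwardId U.left).inv.app (MU F U) := by
  refine pb_hom_ext U.hom _ _ (fun V s => ?_)
  have h1 : (Rg (𝟙 U)).app (U.hom ⁻¹ᵁ V) (pbs U.hom F V s) =
      rO (𝟙 U) (U.hom ⁻¹ᵁ V) (pbs U.hom F V s) := rfl
  rw [h1, rO_pbs]
  exact res_self _ _

theorem rO_id (U : S.Etale) (O : U.left.Opens) (y : Γ(MU F U, O)) : rO (𝟙 U) O y = y := by
  have h1 := congrArg (fun θ => (Scheme.Modules.Hom.app θ O) y) (Rg_id (F := F) U)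
  exact h1

theorem rmap_id (U : S.Etale) (y : Γ(MU F U, ⊤)) : rmap (𝟙 U) y = y := by
  rw [rmap_eq_rO]
  exact rO_id U ⊤ y

end Groth.Agent.Lib.Helper14.EtAssocFun
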