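import Groth.Agent.Lib.Helper14.EtAssocFun1

/-!
# The restriction maps along open immersions (helper14)
-/

set_option autoImplicit false
set_option linter.unusedSectionVars false
set_option backward.isDefEq.respectTransparency.types false

universe u

open CategoryTheory CategoryTheory.Limits Opposite AlgebraicGeometry TopologicalSpace

namespace Groth.Agent.Lib.Helper14.EtAssocFun

open Groth.Agent.Lib.Helper28.QCohLoc Groth.Agent.Lib.Helper28.PullbackInv
open Groth.Agent.Lib.Helper17.PbDict Groth.Agent.Lib.Helper14.EtQc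

section Gen

variable {X Y : Scheme.{u}} (M : Y.Modules)

lemma res_bijective_of_le {O O' : Y.Opens} (h : O' ≤ O) (e : O ≤ O') :
    Function.Bijective (res M h) := by
  refine Function.bijective_iff_has_inverse.2 ⟨res M e, fun y => ?_, fun y => ?_⟩
  · rw [res_res]; exact res_self M y
  · rw [res_res]; exact res_self M y

variable (f : X ⟶ Y) [IsOpenImmersion f]

lemma pbs_eq_restrict (O : Y.Opens) (y : Γ(M, O)) :
    pbs f M O y = ((Scheme.Modules.restrictFunctorIsoPullback f).hom.app M).app (f ⁻¹ᵁ O)
      (res M (f.image_preimage_le O) y) := by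
  have h := Adjunction.unit_leftAdjointUniq_hom_app (Scheme.Modules.restrictAdjunction f)
    (Scheme.Modules.pullbackPushforwardAdjunction f) M
  have h2 := congrArg (fun θ => (Scheme.Modules.Hom.app θ O) y) h
  exact h2.symm

theorem pbs_bijective_of_isOpenImmersion (O : Y.Opens) (hO : O ≤ f.opensRange) :
    Function.Bijective (pbs f M O) := by
  have hle : O ≤ f ''ᵁ (f ⁻¹ᵁ O) := by
    rw [Scheme.Hom.image_preimage_eq_opensRange_inf]
    exact le_inf hO le_rfl
  have h1 : Function.Bijective (res M (f.image_preimage_le O)) :=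
    res_bijective_of_le M (f.image_preimage_le O) hle
  have h2 : Function.Bijective
      (((Scheme.Modules.restrictFunctorIsoPullback f).hom.app M).app (f ⁻¹ᵁ O)) := by
    let e := (Scheme.Modules.restrictFunctorIsoPullback f).app M
    refine Function.bijective_iff_has_inverse.2 ⟨e.inv.app (f ⁻¹ᵁ O), fun y => ?_, fun y => ?_⟩
    · exact iso_inv_hom_app e _ y
    · exact iso_hom_inv_app e _ y
  have h3 : pbs f M O = (((Scheme.Modules.restrictFunctorIsoPullback f).hom.app M).app (f ⁻¹ᵁ O)) ∘
      (res M (f.image_preimage_le O)) := funext (pbs_eq_restrict M f O)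
  rw [h3]
  exact h2.comp h1

end Gen

variable {S : Scheme.{u}} {F : S.Modules} {U U' U'' : S.Etale}

theorem rO_bijective (g : U' ⟶ U) [IsOpenImmersion g.left] (O : U.left.Opens)
    (hO : O ≤ g.left.opensRange) : Function.Bijective (rO (F := F) g O) := by
  have h1 := pbs_bijective_of_isOpenImmersion (MU F U) g.left O hO
  have h2 : Function.Bijective ((EtAssoc.step2a F g).app (g.left ⁻¹ᵁ O)) := by
    let e := asIso (EtAssoc.step2a F g)
    refine Function.bijective_iff_has_inverse.2 ⟨e.inv.app (g.left ⁻¹ᵁ O), fun y => ?_, fun y => ?_⟩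
    · exact iso_inv_hom_app e _ y
    · exact iso_hom_inv_app e _ y
  have h3 : rO (F := F) g O = ((EtAssoc.step2a F g).app (g.left ⁻¹ᵁ O)) ∘ (pbs g.left (MU F U) O) :=
    funext (rO_def g O)
  rw [h3]
  exact h2.comp h1

end Groth.Agent.Lib.Helper14.EtAssocFun
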