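import Groth.Agent.Lib.Helper14.EtAssocFun2
import Groth.Agent.Lib.Helper27.EtSheafCrit7

/-!
# The presheaf `U ↦ Γ(U, u^* F)` on the small étale site is a Zariski sheaf (helper14)
-/

set_option autoImplicit false
set_option linter.unusedSectionVars false
set_option backward.isDefEq.respectTransparency.types false

universe u

open CategoryTheory CategoryTheory.Limits Opposite AlgebraicGeometry TopologicalSpace

namespace Groth.Agent.Lib.Helper14.EtAssocFun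

open Groth.Agent.Lib.Helper28.QCohLoc Groth.Agent.Lib.Helper28.PullbackInv
open Groth.Agent.Lib.Helper17.PbDict Groth.Agent.Lib.Helper14.EtQc
open Groth.Agent.Lib.Helper23.EtGlue Groth.Agent.Lib.Helper27.EtSheafCrit

variable {S : Scheme.{u}} {F : S.Modules} {U U' U'' : S.Etale}

/-- for `g : U' ⟶ U` with image in the open `O`: sections over `O` give global sections on `U'` -/
noncomputable def β (g : U' ⟶ U) (O : U.left.Opens) (hO : ⊤ ≤ g.left ⁻¹ᵁ O) (z : Γ(MU F U, O)) :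
    Γ(MU F U', ⊤) := res _ hO (rO g O z)

lemma rmap_eq_β (g : U' ⟶ U) (O : U.left.Opens) (hO : ⊤ ≤ g.left ⁻¹ᵁ O) (t : Γ(MU F U, ⊤)) :
    rmap g t = β g O hO (res _ le_top t) := by
  unfold β
  rw [rmap_eq_rO, rO_res, res_res]
  exact (res_self _ _).symm

lemma β_res (g : U' ⟶ U) {O O' : U.left.Opens} (h : O' ≤ O) (hO' : ⊤ ≤ g.left ⁻¹ᵁ O')
    (z : Γ(MU F U, O)) :
    β g O' hO' (res _ h z) = β g O (hO'.trans (g.left.preimage_mono h)) z := by
  unfold β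
  rw [rO_res, res_res]

lemma rmap_β (j : U'' ⟶ U') (g : U' ⟶ U) (O : U.left.Opens) (hO : ⊤ ≤ g.left ⁻¹ᵁ O)
    (hO' : ⊤ ≤ (j ≫ g).left ⁻¹ᵁ O) (z : Γ(MU F U, O)) :
    rmap j (β g O hO z) = β (j ≫ g) O hO' z := by
  unfold β
  rw [rmap_eq_rO, rO_res, rO_comp]
  rfl

lemma β_congr {g g' : U' ⟶ U} (h : g = g') (O : U.left.Opens) (hO : ⊤ ≤ g.left ⁻¹ᵁ O)
    (hO' : ⊤ ≤ g'.left ⁻¹ᵁ O) (z : Γ(MU F U, O)) : β g O hO z = β g' O hO' z := by
  subst h
  rfl

lemma β_bijective (g : U' ⟶ U) [IsOpenImmersion g.left] (O : U.left.Opens)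
    (hO : ⊤ ≤ g.left ⁻¹ᵁ O) (hO' : O ≤ g.left.opensRange) :
    Function.Bijective (β (F := F) g O hO) := by
  have h1 := rO_bijective (F := F) g O hO'
  have h2 : Function.Bijective (res (MU F U') hO) := res_bijective_of_le _ hO le_top
  exact h2.comp h1

lemma top_le_preimage_opensRange (g : U' ⟶ U) [IsOpenImmersion g.left] : ⊤ ≤ g.left ⁻¹ᵁ g.left.opensRange :=
  fun y _ => ⟨y, rfl⟩

variable (F) in
/-- the presheaf `U ↦ Γ(U, u^* F)` on the small étale site -/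
noncomputable def P₀ : S.Etaleᵒᵖ ⥤ AddCommGrpCat.{u} where
  obj U := EtAssoc.obj F U.unop
  map g := EtAssoc.resMap F g.unop
  map_id U := by
    ext y
    exact rmap_id U.unop y
  map_comp g h := by
    ext y
    exact rmap_comp h.unop g.unop y

variable (F) in
/-- the underlying presheaf of sets -/
noncomputable def Q : S.Etaleᵒᵖ ⥤ Type u where
  obj U := Γ(MU F U.unop, ⊤)
  map g := ↾(fun y => rmap g.unop y)
  map_id U := by
    ext y
    exact rmap_id U.unop y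
  map_comp g h := by
    ext y
    exact rmap_comp h.unop g.unop y

lemma Q_map {U U' : S.Etale} (g : U' ⟶ U) (y : Γ(MU F U, ⊤)) : (Q F).map g.op y = rmap g y := rfl

/-- sections agreeing on a Zariski covering sieve are equal -/
theorem eq_of_mem_Jz (U : S.Etale) (R : Sieve U) (hR : R ∈ Jz S U) (t t' : Γ(MU F U, ⊤))
    (h : ∀ (Y : S.Etale) (f : Y ⟶ U), R f → rmap f t = rmap f t') : t = t' := by
  rw [mem_Jz_iff] at hR
  choose Y f y hRf hOI hy using hR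
  refine eq_of_locally_eq (M := MU F U) (fun x => (f x).left.opensRange) ⊤ (fun _ => le_top) ?_
    t t' (fun x => ?_)
  · intro x _
    exact Opens.mem_iSup.2 ⟨x, y x, hy x⟩
  · haveI := hOI x
    have hb := β_bijective (F := F) (f x) _ (top_le_preimage_opensRange (f x)) le_rfl
    apply hb.1
    rw [← rmap_eq_β, ← rmap_eq_β]
    exact h _ _ (hRf x)

instance isOpenImmersion_opnι (U : S.Etale) (O : U.left.Opens) : IsOpenImmersion (opnι U O).left :=
  inferInstanceAs (IsOpenImmersion O.ι)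

lemma opensRange_opnι (U : S.Etale) (O : U.left.Opens) : (opnι U O).left.opensRange = O :=
  Scheme.Opens.opensRange_ι O

/-- the sieve of morphisms to `Y'` whose composite with `g` lands in one of the opens `W a` -/
def landSieve {Y' : S.Etale} (g : Y' ⟶ U) {ι : Type*} (W : ι → U.left.Opens) : Sieve Y' where
  arrows Z j := ∃ a, Set.range (j ≫ g).left ⊆ (W a : Set U.left)
  downward_closed := by
    rintro Z Z' j ⟨a, ha⟩ k
    refine ⟨a, ?_⟩
    rintro _ ⟨z, rfl⟩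
    exact ha ⟨k.left z, rfl⟩

lemma landSieve_mem {Y' : S.Etale} (g : Y' ⟶ U) {ι : Type*} (W : ι → U.left.Opens)
    (hW : ∀ x : U.left, ∃ a, x ∈ W a) : landSieve g W ∈ Jz S Y' := by
  rw [mem_Jz_iff]
  intro y'
  obtain ⟨a, ha⟩ := hW (g.left y')
  have hy' : y' ∈ g.left ⁻¹ᵁ (W a) := ha
  have hr := range_opnι Y' (g.left ⁻¹ᵁ (W a))
  have hy'' : y' ∈ Set.range (opnι Y' (g.left ⁻¹ᵁ (W a))).left := by
    rw [hr]; exact hy'
  obtain ⟨z, hz⟩ := hy''
  refine ⟨opn Y' (g.left ⁻¹ᵁ (W a)), opnι Y' _, z, ⟨a, ?_⟩, inferInstance, hz⟩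
  rintro _ ⟨z', rfl⟩
  exact opnι_mem (g.left ⁻¹ᵁ (W a)) z'

section Glue

variable {ι : Type u} {Y : ι → S.Etale} (f : ∀ a, Y a ⟶ U) [hOI : ∀ a, IsOpenImmersion (f a).left]

/-- the images of a family of open immersions -/
noncomputable def Wf (a : ι) : U.left.Opens := (f a).left.opensRange

lemma top_le_Wf (a : ι) : ⊤ ≤ (f a).left ⁻¹ᵁ (Wf f a) := top_le_preimage_opensRange (f a)

lemma βf_bijective (a : ι) : Function.Bijective (β (F := F) (f a) (Wf f a) (top_le_Wf f a)) :=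
  β_bijective (F := F) (f a) _ (top_le_Wf f a) le_rfl

variable (xs : ∀ a, Γ(MU F (Y a), ⊤))
  (hxs : ∀ (a b : ι) (Z : S.Etale) (ja : Z ⟶ Y a) (jb : Z ⟶ Y b), ja ≫ f a = jb ≫ f b →
    rmap ja (xs a) = rmap jb (xs b))

include hxs in
lemma compat_aux (z : ∀ a, Γ(MU F U, Wf f a))
    (hz : ∀ a, β (f a) (Wf f a) (top_le_Wf f a) (z a) = xs a) (a b : ι) :
    res (MU F U) (inf_le_left : Wf f a ⊓ Wf f b ≤ Wf f a) (z a) =
      res (MU F U) (inf_le_right : Wf f a ⊓ Wf f b ≤ Wf f b) (z b) := by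
  let O : U.left.Opens := Wf f a ⊓ Wf f b
  have hO : ⊤ ≤ (opnι U O).left ⁻¹ᵁ O := fun z' _ => opnι_mem O z'
  have hbO := β_bijective (F := F) (opnι U O) O hO (le_of_eq (opensRange_opnι U O).symm)
  apply hbO.1
  have hra : Set.range (opnι U O).left ⊆ Set.range (f a).left := by
    rw [range_opnι]
    exact fun p hp => hp.1
  have hrb : Set.range (opnι U O).left ⊆ Set.range (f b).left := by
    rw [range_opnι]
    exact fun p hp => hp.2
  have ea := liftOI_comp (f a) (opnι U O) hra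
  have eb := liftOI_comp (f b) (opnι U O) hrb
  have h1 : β (opnι U O) O hO (res (MU F U) (inf_le_left : Wf f a ⊓ Wf f b ≤ Wf f a) (z a)) =
      rmap (liftOI (f a) (opnι U O) hra) (xs a) := by
    rw [β_res, ← hz a]
    have hO2 : ⊤ ≤ (liftOI (f a) (opnι U O) hra ≫ f a).left ⁻¹ᵁ (Wf f a) := by
      rw [ea]; exact fun z' _ => (opnι_mem O z').1
    rw [rmap_β _ _ _ _ hO2]
    exact β_congr ea.symm _ _ _ _
  have h2 : β (opnι U O) O hO (res (MU F U) (inf_le_right : Wf f a ⊓ Wf f b ≤ Wf f b) (z b)) =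
      rmap (liftOI (f b) (opnι U O) hrb) (xs b) := by
    rw [β_res, ← hz b]
    have hO2 : ⊤ ≤ (liftOI (f b) (opnι U O) hrb ≫ f b).left ⁻¹ᵁ (Wf f b) := by
      rw [eb]; exact fun z' _ => (opnι_mem O z').2
    rw [rmap_β _ _ _ _ hO2]
    exact β_congr eb.symm _ _ _ _
  exact h1.trans ((hxs a b _ _ _ (ea.trans eb.symm)).trans h2.symm)


include hxs in
theorem exists_glue (hcov : ∀ p : U.left, ∃ a, p ∈ Wf f a) :
    ∃ t : Γ(MU F U, ⊤), ∀ a, rmap (f a) t = xs a := by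
  choose z hz using fun a => (βf_bijective (F := F) f a).2 (xs a)
  obtain ⟨t, ht⟩ := exists_gluing (MU F U) (Wf f) ⊤ (fun _ => le_top)
    (fun p _ => by
      obtain ⟨a, ha⟩ := hcov p
      exact Opens.mem_iSup.2 ⟨a, ha⟩) z (compat_aux f xs hxs z hz)
  refine ⟨t, fun a => ?_⟩
  rw [rmap_eq_β (f a) (Wf f a) (top_le_Wf f a), ht a, hz a]

end Glue

section Amalg

variable {ι : Type u} {Y : ι → S.Etale} (f : ∀ a, Y a ⟶ U) [hOI : ∀ a, IsOpenImmersion (f a).left]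
  {R : Sieve U} (hRf : ∀ a, R (f a))
  (X : ∀ (Y' : S.Etale) (g : Y' ⟶ U), R g → Γ(MU F Y', ⊤))
  (hX : ∀ (Y₁ Y₂ Z : S.Etale) (g₁ : Z ⟶ Y₁) (g₂ : Z ⟶ Y₂) (f₁ : Y₁ ⟶ U) (f₂ : Y₂ ⟶ U)
    (h₁ : R f₁) (h₂ : R f₂), g₁ ≫ f₁ = g₂ ≫ f₂ → rmap g₁ (X _ f₁ h₁) = rmap g₂ (X _ f₂ h₂))

include hX hRf in
theorem exists_amalg (hcov : ∀ p : U.left, ∃ a, p ∈ Wf f a) :
    ∃ t : Γ(MU F U, ⊤), ∀ (Y' : S.Etale) (g : Y' ⟶ U) (hg : R g), rmap g t = X Y' g hg := by
  obtain ⟨t, ht⟩ := exists_glue (F := F) f (fun a => X _ (f a) (hRf a))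
    (fun a b Z ja jb e => hX _ _ _ ja jb (f a) (f b) (hRf a) (hRf b) e) hcov
  refine ⟨t, fun Y' g hg => ?_⟩
  refine eq_of_mem_Jz Y' (landSieve g (Wf f)) (landSieve_mem g (Wf f) hcov) _ _ ?_
  rintro Z j ⟨a, ha⟩
  have ec := liftOI_comp (f a) (j ≫ g) ha
  have h3 : rmap j (rmap g t) = rmap (liftOI (f a) (j ≫ g) ha) (X _ (f a) (hRf a)) := by
    rw [← rmap_comp, ← ht a, ← rmap_comp]
    exact congrArg (fun k => rmap k t) ec.symm
  exact h3.trans (hX _ _ _ _ j (f a) g (hRf a) hg ec)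

end Amalg


/-- the presheaf `U ↦ Γ(U, u^* F)` is a sheaf for the Zariski topology of the small étale site -/
theorem isSheaf_Jz : Presieve.IsSheaf (Jz S) (Q F) := by
  intro U R hR
  have hR' := (mem_Jz_iff U R).1 hR
  choose Y f y hRf hOI hy using hR'
  haveI : ∀ a, IsOpenImmersion (f a).left := hOI
  intro x hx
  obtain ⟨t, ht⟩ := exists_amalg (F := F) f hRf (fun Y' g hg => x g hg)
    (fun Y₁ Y₂ Z g₁ g₂ f₁ f₂ h₁ h₂ e => hx g₁ g₂ h₁ h₂ e) (fun p => ⟨p, y p, hy p⟩)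
  refine ⟨t, fun Y' g hg => ht Y' g hg, fun t' ht' => ?_⟩
  refine eq_of_mem_Jz U R hR _ _ (fun Y' g hg => ?_)
  exact (ht' g hg).trans (ht Y' g hg).symm

end Groth.Agent.Lib.Helper14.EtAssocFun
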