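import Groth.Agent.Lib.Helper14.EtAssocFun3
import Groth.Agent.Lib.Helper14.DescSingle

/-!
# The presheaf `U ↦ Γ(U, u^* F)` on the small étale site is an étale sheaf (helper14)
-/

set_option autoImplicit false
set_option linter.unusedSectionVars false
set_option backward.isDefEq.respectTransparency.types false

universe u

open CategoryTheory CategoryTheory.Limits Opposite AlgebraicGeometry TopologicalSpace

namespace Groth.Agent.Lib.Helper14.EtAssocFun

open Groth.Agent.Lib.Helper28.QCohLoc Groth.Agent.Lib.Helper28.PullbackInv
open Groth.Agent.Lib.Helper17.PbDict Groth.Agent.Lib.Helper14.EtQc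
open Groth.Agent.Lib.Helper23.EtGlue Groth.Agent.Lib.Helper27.EtSheafCrit
open Groth.Agent.Lib.Helper17.PullbackBC

variable {S : Scheme.{u}} {F : S.Modules}

/-- descent of sections along one surjective morphism of affine étale schemes -/
theorem descent_affine [F.IsQuasicoherent] (U V : S.Etale) [IsAffine U.left] [IsAffine V.left]
    (f : V ⟶ U) [Surjective f.left] :
    Function.Injective (rmap (F := F) f) ∧
      ∀ y : Γ(MU F V, ⊤), rmap (pullback.fst f f) y = rmap (pullback.snd f f) y →
        ∃ n : Γ(MU F U, ⊤), rmap f n = y := by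
  have hpb : IsPullback (pullback.fst f f).left (pullback.snd f f).left f.left f.left :=
    (IsPullback.of_hasPullback f f).map (Scheme.Etale.forget S ⋙ Over.forget S)
  haveI : IsAffine (pullback f f).left := IsAffine.of_isPullback hpb
  have hpo := (isPushout_appTop_of_isPullback hpb).flip
  have hff : f.left.appTop.hom.FaithfullyFlat :=
    (AlgebraicGeometry.Flat.flat_and_surjective_iff_faithfullyFlat_of_isAffine (f := f.left)).1
      ⟨inferInstance, inferInstance⟩
  exact Groth.Agent.Lib.Helper14.DescSingle.descent_single f.left.appTop.hom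
    (pullback.fst f f).left.appTop.hom (pullback.snd f f).left.appTop.hom hpo hff
    (rmap (F := F) f) (isBC_rmap (F := F) f)
    (rmap (F := F) (pullback.fst f f)) (rmap (F := F) (pullback.snd f f))
    (fun b y => rmap_smul (pullback.fst f f) b y) (fun b y => rmap_smul (pullback.snd f f) b y)
    (isBC_rmap (F := F) (pullback.fst f f))
    (fun n => by rw [← rmap_comp, ← rmap_comp, pullback.condition])

theorem affSingle [F.IsQuasicoherent] : AffSingle (Q F) := by
  intro U V _ _ f _
  rw [Presieve.isSheafFor_singleton]
  intro x hx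
  obtain ⟨hinj, hex⟩ := descent_affine (F := F) U V f
  have h1 : rmap (pullback.fst f f) x = rmap (pullback.snd f f) x :=
    hx (pullback.fst f f) (pullback.snd f f) pullback.condition
  obtain ⟨n, hn⟩ := hex x h1
  exact ⟨n, hn, fun n' hn' => hinj (Eq.trans hn' hn.symm)⟩

/-- the presheaf `U ↦ Γ(U, u^* F)` is a sheaf of sets on the small étale site -/
theorem isSheaf_Q [F.IsQuasicoherent] : Presieve.IsSheaf S.smallEtaleTopology (Q F) :=
  (isSheaf_iff S (Q F)).2 ⟨isSheaf_Jz, affSingle⟩

end Groth.Agent.Lib.Helper14.EtAssocFun
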