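import Groth.Prelude.Def_EtAssoc2
import Groth.Agent.Lib.Helper17.PullbackBC
import Groth.Agent.Lib.Helper17.ModPullback

/-!
# The restriction maps of the étale presheaf `U ↦ Γ(U, u^* F)`, sectionwise (helper14)
-/

set_option autoImplicit false
set_option linter.unusedSectionVars false
set_option backward.isDefEq.respectTransparency.types false

universe u

open CategoryTheory CategoryTheory.Limits Opposite AlgebraicGeometry TopologicalSpace

namespace Groth.Agent.Lib.Helper14.EtQc

open Groth.Agent.Lib.Helper28.QCohLoc Groth.Agent.Lib.Helper28.PullbackInv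
open Groth.Agent.Lib.Helper17.PullbackBC Groth.Agent.Lib.Helper17.ModPullback

variable {S : Scheme.{u}} (F : S.Modules)

/-- the module `u^* F` on an étale `S`-scheme -/
noncomputable abbrev MU (U : S.Etale) : U.left.Modules := (Scheme.Modules.pullback U.hom).obj F

example (U : S.Etale) : (EtAssoc.obj F U : Type u) = Γ(MU F U, ⊤) := rfl

variable {F} {U U' : S.Etale} (g : U' ⟶ U)

lemma top_le_preimage : (⊤ : U'.left.Opens) ≤ g.left ⁻¹ᵁ ⊤ := le_of_eq rfl

lemma step1_apply (y : Γ(MU F U, ⊤)) :
    (EtAssoc.step1 F g).hom y = res _ (top_le_preimage g) (pbs g.left (MU F U) ⊤ y) := by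
  have h : (eqToHom (Opens.map_top g.left.base).symm).op =
      (homOfLE (top_le_preimage g)).op := Subsingleton.elim _ _
  unfold EtAssoc.step1
  rw [h]
  rfl

/-- the restriction map, typed -/
noncomputable def rmap : Γ(MU F U, ⊤) →+ Γ(MU F U', ⊤) := (EtAssoc.resMap F g).hom

lemma rmap_eq (y : Γ(MU F U, ⊤)) : rmap g y = (EtAssoc.resMap F g).hom y := rfl

lemma rmap_apply (y : Γ(MU F U, ⊤)) :
    rmap g y =
      (EtAssoc.step2a F g).app ⊤ (res _ (top_le_preimage g) (pbs g.left (MU F U) ⊤ y)) := by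
  rw [← step1_apply]
  rfl

/-- the restriction maps are semilinear -/
lemma rmap_smul (b : Γ(U.left, ⊤)) (y : Γ(MU F U, ⊤)) :
    rmap g (b • y) = g.left.appTop.hom b • rmap g y := by
  rw [rmap_apply, rmap_apply, pbs_smul, res_smul, Scheme.Modules.Hom.app_smul]
  congr 1
  have : (homOfLE (top_le_preimage g)).op = 𝟙 _ := Subsingleton.elim _ _
  change (U'.left.presheaf.map (homOfLE (top_le_preimage g)).op).hom (g.left.app ⊤ b) = _
  rw [this]
  exact congrArg (fun φ : Γ(U'.left, g.left ⁻¹ᵁ ⊤) ⟶ Γ(U'.left, g.left ⁻¹ᵁ ⊤) =>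
    φ.hom ((g.left.app ⊤).hom b)) (CategoryTheory.Functor.map_id _ _)

lemma appLE_top_eq : g.left.appLE ⊤ ⊤ (top_le_preimage g) = g.left.appTop :=
  Scheme.Hom.appLE_eq_app (f := g.left) (U := ⊤)

instance isIso_step2a : IsIso (EtAssoc.step2a F g) := by
  unfold EtAssoc.step2a
  infer_instance

/-- the comparison `g^* u^* F ≅ u'^* F` on global sections, as a linear equivalence -/
noncomputable def step2L :
    Γ((Scheme.Modules.pullback g.left).obj (MU F U), ⊤) ≃ₗ[Γ(U'.left, ⊤)] Γ(MU F U', ⊤) where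
  toFun := (EtAssoc.step2a F g).app ⊤
  invFun := (inv (EtAssoc.step2a F g)).app ⊤
  map_add' := map_add _
  map_smul' b y := Scheme.Modules.Hom.app_smul _ b y
  left_inv y := by
    have h : (EtAssoc.step2a F g ≫ inv (EtAssoc.step2a F g)).app ⊤ y = y := by
      rw [IsIso.hom_inv_id]; rfl
    exact h
  right_inv y := by
    have h : (inv (EtAssoc.step2a F g) ≫ EtAssoc.step2a F g).app ⊤ y = y := by
      rw [IsIso.inv_hom_id]; rfl
    exact h

lemma step2L_apply (z : Γ((Scheme.Modules.pullback g.left).obj (MU F U), ⊤)) :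
    step2L g z = (EtAssoc.step2a F g).app ⊤ z := rfl

/-- for affine étale schemes and a quasi-coherent module, the restriction maps are base change
maps -/
theorem isBC_rmap [F.IsQuasicoherent] [IsAffine U.left] [IsAffine U'.left] :
    IsBC g.left.appTop.hom (P := Γ(MU F U, ⊤)) (T := Γ(MU F U', ⊤)) (fun y => rmap g y) := by
  have hbc := isBC_pullback g.left (isAffineOpen_top U.left) (isAffineOpen_top U'.left)
    (top_le_preimage g) (MU F U)
  rw [appLE_top_eq] at hbc
  obtain ⟨e, he⟩ := hbc
  refine ⟨(step2L g).symm ≪≫ₗ e, fun p => ?_⟩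
  change e ((step2L g).symm (rmap g p)) = _
  rw [rmap_apply, ← step2L_apply, LinearEquiv.symm_apply_apply]
  exact he p

end Groth.Agent.Lib.Helper14.EtQc
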