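import Groth.Agent.Lib.Helper14.EtGaCech
import Groth.Agent.Lib.Helper14.EtQc1
import Groth.Agent.Lib.Helper27.EtTransport6

/-!
# Čech acyclicity of the étale sheaf associated to a quasi-coherent module (helper14)
-/

set_option autoImplicit false
set_option linter.unusedSectionVars false

universe u

open CategoryTheory CategoryTheory.Limits Opposite AlgebraicGeometry TensorProduct
open MonoidalCategory CartesianMonoidalCategory Simplicial

namespace Groth.Agent.Lib.Helper14.EtQcCech

open Groth.Agent.Lib.Helper27.EtTransport Groth.Agent.Lib.Helper14.EtAff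
open Groth.Agent.Lib.Helper14.CechPlain Groth.Agent.Lib.Helper14.EtQc
open Groth.Agent.Lib.Helper14.EtGaCech (ΓW ρ pb pb_ρ pb_comp isPullback_sch pw_affine)
open Groth.Agent.Lib.Helper17.PullbackBC

variable {X : Scheme.{u}} (F : X.Modules) (G : EtCoh.Ab X)
  (e : ∀ V : X.Etale, (G.obj.obj (op V) : Type (u + 1)) ≃+ ULift.{u + 1} (EtAssoc.obj F V))
  (he : ∀ (V V' : X.Etale) (g : V' ⟶ V) (s : G.obj.obj (op V)),
      (e V' (G.obj.map g.op s)).down = EtAssoc.resMap F g (e V s).down)

variable (U : DE X)

/-- the étale scheme of an object over `U` -/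
abbrev EW (W : Over U) : X.Etale := ULiftHom.objDown W.left

/-- sections of the pulled back module -/
abbrev NW (W : Over U) : Type u := Γ(MU F (EW U W), ⊤)

/-- the restriction maps -/
noncomputable def rm {W' W : Over U} (h : W' ⟶ W) : NW F U W →+ NW F U W' :=
  rmap (F := F) h.left.down

lemma rm_smul {W' W : Over U} (h : W' ⟶ W) (b : ΓW U W) (y : NW F U W) :
    rm F U h (b • y) = pb U h b • rm F U h y :=
  rmap_smul (F := F) h.left.down b y

/-- the presheaf of the given sheaf on the objects over `U` -/
noncomputable abbrev QG : (Over U)ᵒᵖ ⥤ AddCommGrpCat.{u + 1} :=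
  (Over.forget U).op ⋙ ((ΦE X).obj G).obj

/-- the underlying section -/
noncomputable def dnG {W : Over U} (x : (QG G U).obj (op W)) : NW F U W := (e (EW U W) x).down

/-- the section of the sheaf -/
noncomputable def upG {W : Over U} (y : NW F U W) : (QG G U).obj (op W) :=
  (e (EW U W)).symm (ULift.up y)

lemma dnG_upG {W : Over U} (y : NW F U W) : dnG F G e U (upG F G e U y) = y := by
  unfold dnG upG
  rw [AddEquiv.apply_symm_apply]

include he in
lemma dnG_map {W' W : Over U} (h : W' ⟶ W) (x : (QG G U).obj (op W)) :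
    dnG F G e U (((QG G U).map h.op).hom x) = rm F U h (dnG F G e U x) :=
  he _ _ h.left.down x

include he in
lemma rm_comp {W'' W' W : Over U} (h : W'' ⟶ W') (h' : W' ⟶ W) (y : NW F U W) :
    rm F U (h ≫ h') y = rm F U h (rm F U h' y) := by
  have h1 := dnG_map F G e he U (h ≫ h') (upG F G e U y)
  rw [dnG_upG] at h1
  have h2 : ((QG G U).map (h ≫ h').op).hom (upG F G e U y) =
      ((QG G U).map h.op).hom (((QG G U).map h'.op).hom (upG F G e U y)) := by
    rw [op_comp, CategoryTheory.Functor.map_comp]
    rfl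
  rw [← h1, h2, dnG_map F G e he, dnG_map F G e he, dnG_upG]

include he in
lemma rm_id (W : Over U) (y : NW F U W) : rm F U (𝟙 W) y = y := by
  have h1 := dnG_map F G e he U (𝟙 W) (upG F G e U y)
  rw [dnG_upG] at h1
  have h2 : ((QG G U).map (𝟙 W).op).hom (upG F G e U y) = upG F G e U y := by
    rw [op_id, CategoryTheory.Functor.map_id]
    rfl
  rw [← h1, h2, dnG_upG]

end Groth.Agent.Lib.Helper14.EtQcCech
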