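import Groth.Agent.Lib.Helper14.EtQc2

/-!
# Čech acyclicity of the étale sheaf associated to a quasi-coherent module, II (helper14)
-/

set_option autoImplicit false
set_option linter.unusedSectionVars false

universe u

open CategoryTheory CategoryTheory.Limits Opposite AlgebraicGeometry TensorProduct
open MonoidalCategory CartesianMonoidalCategory Simplicial

namespace Groth.Agent.Lib.Helper14.EtQcCech

open Groth.Agent.Lib.Helper27.EtTransport Groth.Agent.Lib.Helper14.EtAff
open Groth.Agent.Lib.Helper14.CechPlain Groth.Agent.Lib.Helper14.EtQc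
open Groth.Agent.Lib.Helper14.EtGaCech (ΓW ρ pb pb_ρ pb_comp isPullback_sch pw_affine)
open Groth.Agent.Lib.Helper17.PullbackBC

variable {X : Scheme.{u}} (F : X.Modules) (G : EtCoh.Ab X)
  (e : ∀ V : X.Etale, (G.obj.obj (op V) : Type (u + 1)) ≃+ ULift.{u + 1} (EtAssoc.obj F V))
  (he : ∀ (V V' : X.Etale) (g : V' ⟶ V) (s : G.obj.obj (op V)),
      (e V' (G.obj.map g.op s)).down = EtAssoc.resMap F g (e V s).down)

variable (U : DE X)

/-- the restriction maps, lifted -/
noncomputable def rmU {W' W : Over U} (h : W' ⟶ W) :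
    ULift.{u + 1} (NW F U W) →+ ULift.{u + 1} (NW F U W') :=
  (AddEquiv.ulift.symm.toAddMonoidHom.comp (rm F U h)).comp AddEquiv.ulift.toAddMonoidHom

lemma rmU_apply {W' W : Over U} (h : W' ⟶ W) (x : ULift.{u + 1} (NW F U W)) :
    rmU F U h x = ULift.up (rm F U h x.down) := rfl

/-- the presheaf `W ↦ Γ(W, w^* F)` on the objects over `U`; functoriality comes from the given
sheaf -/
noncomputable def Q' : (Over U)ᵒᵖ ⥤ AddCommGrpCat.{u + 1} where
  obj W := AddCommGrpCat.of (ULift.{u + 1} (NW F U W.unop))
  map {W W'} h := AddCommGrpCat.ofHom (rmU F U h.unop)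
  map_id W := by
    apply AddCommGrpCat.hom_ext
    apply AddMonoidHom.ext
    intro x
    apply ULift.ext
    exact rm_id F G e he U W.unop x.down
  map_comp {W W' W''} h h' := by
    apply AddCommGrpCat.hom_ext
    apply AddMonoidHom.ext
    intro x
    apply ULift.ext
    exact rm_comp F G e he U h'.unop h.unop x.down

/-- the given sheaf is this presheaf -/
noncomputable def isoQ : QG G U ≅ Q' F G e he U :=
  NatIso.ofComponents (fun W => (e (EW U W.unop)).toAddCommGrpIso) (by
    intro W W' h
    apply AddCommGrpCat.hom_ext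
    apply AddMonoidHom.ext
    intro x
    apply ULift.ext
    exact dnG_map F G e he U h.unop x)

/-- the module structure over the functions on `U` on the sections -/
noncomputable instance modN (W : Over U) : Module Γ(sch U, ⊤) (NW F U W) :=
  Module.compHom (NW F U W) (ρ U W)

lemma smulN_def (W : Over U) (r : Γ(sch U, ⊤)) (y : NW F U W) : r • y = ρ U W r • y := rfl

/-- the module structure over the functions on `U` -/
noncomputable instance modQ (W : Over U) :
    Module Γ(sch U, ⊤) ((Q' F G e he U).obj (op W)) :=
  inferInstanceAs (Module Γ(sch U, ⊤) (ULift.{u + 1} (NW F U W)))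

/-- the underlying section -/
def dn {W : Over U} (x : (Q' F G e he U).obj (op W)) : NW F U W := ULift.down x

/-- the lifted section -/
def up {W : Over U} (y : NW F U W) : (Q' F G e he U).obj (op W) := ULift.up y

lemma dn_up {W : Over U} (y : NW F U W) : dn F G e he U (up F G e he U y) = y := rfl

lemma dn_injective {W : Over U} : Function.Injective (dn F G e he U (W := W)) :=
  fun _ _ h => ULift.ext _ _ h

lemma Q'_map_apply {W' W : Over U} (h : W' ⟶ W) (x : (Q' F G e he U).obj (op W)) :
    ((Q' F G e he U).map h.op).hom x = up F G e he U (rm F U h (dn F G e he U x)) := rfl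

lemma smul_def (W : Over U) (r : Γ(sch U, ⊤)) (x : (Q' F G e he U).obj (op W)) :
    r • x = up F G e he U (ρ U W r • dn F G e he U x) := rfl

lemma Q'_map_smul {W' W : Over U} (h : W' ⟶ W) (r : Γ(sch U, ⊤))
    (x : (Q' F G e he U).obj (op W)) :
    ((Q' F G e he U).map h.op).hom (r • x) = r • ((Q' F G e he U).map h.op).hom x := by
  rw [Q'_map_apply, Q'_map_apply, smul_def, smul_def]
  apply dn_injective
  change rm F U h (ρ U W r • dn F G e he U x) = ρ U W' r • rm F U h (dn F G e he U x)
  rw [rm_smul, pb_ρ]

end Groth.Agent.Lib.Helper14.EtQcCech
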