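import Groth.Agent.Lib.Helper14.EtQc3
import Groth.Agent.Lib.Helper14.BCTheta

/-!
# Čech acyclicity of the étale sheaf associated to a quasi-coherent module, III (helper14)
-/

set_option autoImplicit false
set_option linter.unusedSectionVars false

universe u

open CategoryTheory CategoryTheory.Limits Opposite AlgebraicGeometry TensorProduct
open MonoidalCategory CartesianMonoidalCategory Simplicial

namespace Groth.Agent.Lib.Helper14.EtQcCech

open Groth.Agent.Lib.Helper27.EtTransport Groth.Agent.Lib.Helper14.EtAff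
open Groth.Agent.Lib.Helper14.CechPlain Groth.Agent.Lib.Helper14.EtQc
open Groth.Agent.Lib.Helper14.EtGaCech (ΓW ρ pb pb_ρ pb_comp isPullback_sch pw_affine)
open Groth.Agent.Lib.Helper17.PullbackBC

variable {X : Scheme.{u}} (F : X.Modules) [F.IsQuasicoherent]

variable (U : DE X)

section Theta

variable (Y W P : Over U) (p₁ : P ⟶ W) (p₂ : P ⟶ Y)
  (hpb : IsPullback (schMap p₁.left) (schMap p₂.left) (schMap W.hom) (schMap Y.hom))
  [hU : IsAffine (sch U)] [hY : IsAffine (sch Y.left)] [hW : IsAffine (sch W.left)]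

include hpb in
lemma exists_theta₀ :
    letI := (ρ U Y).toAlgebra
    ∃ θ : (ΓW U Y) ⊗[Γ(sch U, ⊤)] (NW F U W) ≃+ NW F U P,
      ∀ (b : ΓW U Y) (y : NW F U W), θ (b ⊗ₜ y) = pb U p₂ b • rm F U p₁ y := by
  haveI : IsAffine (sch P.left) := IsAffine.of_isPullback hpb
  have hpo := (isPushout_appTop_of_isPullback hpb).flip
  haveI : IsAffine (EW U W).left := hW
  haveI : IsAffine (EW U P).left := ‹IsAffine (sch P.left)›
  exact Groth.Agent.Lib.Helper14.BCTheta.exists_theta_of_isBC (ρ U Y) (ρ U W) (pb U p₁) (pb U p₂)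
    hpo (rm F U p₁) (fun s n => rm_smul F U p₁ s n) (isBC_rmap (F := F) p₁.left.down)

end Theta

section Theta2

variable (G : EtCoh.Ab X)
  (e : ∀ V : X.Etale, (G.obj.obj (op V) : Type (u + 1)) ≃+ ULift.{u + 1} (EtAssoc.obj F V))
  (he : ∀ (V V' : X.Etale) (g : V' ⟶ V) (s : G.obj.obj (op V)),
      (e V' (G.obj.map g.op s)).down = EtAssoc.resMap F g (e V s).down)

variable (Y W P : Over U) (p₁ : P ⟶ W) (p₂ : P ⟶ Y)
  (hpb : IsPullback (schMap p₁.left) (schMap p₂.left) (schMap W.hom) (schMap Y.hom))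
  [hU : IsAffine (sch U)] [hY : IsAffine (sch Y.left)] [hW : IsAffine (sch W.left)]

/-- the functions on the covering object, as an algebra over the functions on `U` -/
noncomputable local instance algY : Algebra Γ(sch U, ⊤) (ΓW U Y) := (ρ U Y).toAlgebra

include hpb in
lemma exists_theta :
    ∃ θ : (ΓW U Y) ⊗[Γ(sch U, ⊤)] ((Q' F G e he U).obj (op W)) ≃+ (Q' F G e he U).obj (op P),
      ∀ (b : ΓW U Y) (x : (Q' F G e he U).obj (op W)),
        θ (b ⊗ₜ x) = up F G e he U (pb U p₂ b • rm F U p₁ (dn F G e he U x)) := by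
  obtain ⟨θ₀, hθ₀⟩ := exists_theta₀ F U Y W P p₁ p₂ hpb
  let e1 : (ΓW U Y) ⊗[Γ(sch U, ⊤)] ((Q' F G e he U).obj (op W)) ≃+
      (ΓW U Y) ⊗[Γ(sch U, ⊤)] (NW F U W) :=
    (TensorProduct.congr (LinearEquiv.refl Γ(sch U, ⊤) (ΓW U Y))
      (ULift.moduleEquiv : ULift.{u + 1} (NW F U W) ≃ₗ[Γ(sch U, ⊤)] NW F U W)).toAddEquiv
  let e2 : NW F U P ≃+ (Q' F G e he U).obj (op P) :=
    (AddEquiv.ulift (α := NW F U P)).symm
  refine ⟨(e1.trans θ₀).trans e2, fun b x => ?_⟩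
  change e2 (θ₀ (e1 (b ⊗ₜ x))) = _
  have : e1 (b ⊗ₜ x) = b ⊗ₜ dn F G e he U x := rfl
  rw [this, hθ₀]
  rfl

end Theta2

section Main

noncomputable local instance : CartesianMonoidalCategory (Over U) := .ofHasFiniteProducts

variable (G : EtCoh.Ab X)
  (e : ∀ V : X.Etale, (G.obj.obj (op V) : Type (u + 1)) ≃+ ULift.{u + 1} (EtAssoc.obj F V))
  (he : ∀ (V V' : X.Etale) (g : V' ⟶ V) (s : G.obj.obj (op V)),
      (e V' (G.obj.map g.op s)).down = EtAssoc.resMap F g (e V s).down)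

variable (Y : Over U)

noncomputable local instance algY' : Algebra Γ(sch U, ⊤) (ΓW U Y) := (ρ U Y).toAlgebra

variable (hU : U ∈ BA X) (hY : Y.left ∈ BA X)

include hU hY in
lemma exists_theta_pw (n : ℕ) :
    ∃ θ : (ΓW U Y) ⊗[Γ(sch U, ⊤)] ((Q' F G e he U).obj (op (pw Y ⦋n⦌))) ≃+
        (Q' F G e he U).obj (op (pw Y ⦋n⦌ ⊗ Y)),
      ∀ (b : ΓW U Y) (x : (Q' F G e he U).obj (op (pw Y ⦋n⦌))),
        θ (b ⊗ₜ x) = up F G e he U (pb U (snd (pw Y ⦋n⦌) Y) b •
          rm F U (fst (pw Y ⦋n⦌) Y) (dn F G e he U x)) :=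
  haveI : IsAffine (sch U) := hU
  haveI : IsAffine (sch Y.left) := hY
  haveI : IsAffine (sch (pw Y ⦋n⦌).left) := pw_affine U Y hU hY n
  exists_theta F U G e he Y (pw Y ⦋n⦌) (pw Y ⦋n⦌ ⊗ Y) (fst _ _) (snd _ _)
    (isPullback_sch U Y (pw Y ⦋n⦌))

/-- the chosen base change isomorphisms -/
noncomputable def theta (n : ℕ) :
    (ΓW U Y) ⊗[Γ(sch U, ⊤)] ((Q' F G e he U).obj (op (pw Y ⦋n⦌))) ≃+
      (Q' F G e he U).obj (op (pw Y ⦋n⦌ ⊗ Y)) :=
  (exists_theta_pw F U G e he Y hU hY n).choose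

lemma theta_tmul (n : ℕ) (b : ΓW U Y) (x : (Q' F G e he U).obj (op (pw Y ⦋n⦌))) :
    theta F U G e he Y hU hY n (b ⊗ₜ x) =
      up F G e he U (pb U (snd (pw Y ⦋n⦌) Y) b •
        rm F U (fst (pw Y ⦋n⦌) Y) (dn F G e he U x)) :=
  (exists_theta_pw F U G e he Y hU hY n).choose_spec b x

end Main

end Groth.Agent.Lib.Helper14.EtQcCech
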