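import Groth.Agent.Lib.Helper14.EtQc4

/-!
# Čech acyclicity of the étale sheaf associated to a quasi-coherent module, IV (helper14)
-/

set_option autoImplicit false
set_option linter.unusedSectionVars false

universe u

open CategoryTheory CategoryTheory.Limits Opposite AlgebraicGeometry TensorProduct
open MonoidalCategory CartesianMonoidalCategory Simplicial

namespace Groth.Agent.Lib.Helper14.EtQcCech

open Groth.Agent.Lib.Helper27.EtTransport Groth.Agent.Lib.Helper14.EtAff
open Groth.Agent.Lib.Helper14.CechPlain Groth.Agent.Lib.Helper14.EtQc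
open Groth.Agent.Lib.Helper14.EtGaCech (ΓW ρ pb pb_ρ pb_comp isPullback_sch pw_affine)
open Groth.Agent.Lib.Helper17.PullbackBC

variable {X : Scheme.{u}} (F : X.Modules) [F.IsQuasicoherent]

variable (U : DE X)

section Main

noncomputable local instance : CartesianMonoidalCategory (Over U) := .ofHasFiniteProducts

variable (G : EtCoh.Ab X)
  (e : ∀ V : X.Etale, (G.obj.obj (op V) : Type (u + 1)) ≃+ ULift.{u + 1} (EtAssoc.obj F V))
  (he : ∀ (V V' : X.Etale) (g : V' ⟶ V) (s : G.obj.obj (op V)),
      (e V' (G.obj.map g.op s)).down = EtAssoc.resMap F g (e V s).down)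

variable (Y : Over U)

noncomputable local instance algY'' : Algebra Γ(sch U, ⊤) (ΓW U Y) := (ρ U Y).toAlgebra

variable (hU : U ∈ BA X) (hY : Y.left ∈ BA X)

lemma theta_face (n : ℕ) (i : Fin (n + 2)) (b : ΓW U Y)
    (x : (Q' F G e he U).obj (op (pw Y ⦋n⦌))) :
    theta F U G e he Y hU hY (n + 1)
        (b ⊗ₜ ((Q' F G e he U).map (reidx Y (SimplexCategory.δ i)).op).hom x) =
      ((Q' F G e he U).map (reidx Y (SimplexCategory.δ i) ▷ Y).op).hom
        (theta F U G e he Y hU hY n (b ⊗ₜ x)) := by
  rw [theta_tmul, theta_tmul, Q'_map_apply, Q'_map_apply, dn_up, dn_up, rm_smul,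
    ← pb_comp, ← rm_comp F G e he, ← rm_comp F G e he, whiskerRight_snd, whiskerRight_fst]

end Main

end Groth.Agent.Lib.Helper14.EtQcCech
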