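import Groth.Agent.Lib.Helper14.EtQc5

/-!
# Čech acyclicity of the étale sheaf associated to a quasi-coherent module, V (helper14)
-/

set_option autoImplicit false
set_option linter.unusedSectionVars false

universe u

open CategoryTheory CategoryTheory.Limits Opposite AlgebraicGeometry TensorProduct
open MonoidalCategory CartesianMonoidalCategory Simplicial

namespace Groth.Agent.Lib.Helper14.EtQcCech

open Groth.Agent.Lib.Helper27.EtTransport Groth.Agent.Lib.Helper14.EtAff
open Groth.Agent.Lib.Helper14.CechPlain Groth.Agent.Lib.Helper14.EtQc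
open Groth.Agent.Lib.Helper14.EtGaCech (ΓW ρ pb pb_ρ pb_comp isPullback_sch pw_affine)
open Groth.Agent.Lib.Helper17.PullbackBC

variable {X : Scheme.{u}} (F : X.Modules) [F.IsQuasicoherent]

variable (U : DE X)

section Main

noncomputable local instance : CartesianMonoidalCategory (Over U) := .ofHasFiniteProducts

variable (G : EtCoh.Ab X)
  (e : ∀ V : X.Etale, (G.obj.obj (op V) : Type (u + 1)) ≃+ ULift.{u + 1} (EtAssoc.obj F V))
  (he : ∀ (V V' : X.Etale) (g : V' ⟶ V) (s : G.obj.obj (op V)),
      (e V' (G.obj.map g.op s)).down = EtAssoc.resMap F g (e V s).down)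

variable (Y : Over U)

noncomputable local instance algY''' : Algebra Γ(sch U, ⊤) (ΓW U Y) := (ρ U Y).toAlgebra

variable (hU : U ∈ BA X) (hY : Y.left ∈ BA X)

include hU hY in
/-- the Čech complex of the sheaf for one surjective morphism of affine étale schemes is exact in
positive degrees -/
theorem exactAt_plain (hs : ∀ x : sch U, x ∈ Set.range (schMap Y.hom)) (n : ℕ) :
    (K (Pl Y (Q' F G e he U))).ExactAt (n + 1) := by
  haveI : IsAffine (sch U) := hU
  haveI : IsAffine (sch Y.left) := hY
  haveI : Surjective (schMap Y.hom) := ⟨fun x => hs x⟩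
  haveI : Module.FaithfullyFlat Γ(sch U, ⊤) (ΓW U Y) :=
    (AlgebraicGeometry.Flat.flat_and_surjective_iff_faithfullyFlat_of_isAffine (f := schMap Y.hom)).1
      ⟨inferInstance, inferInstance⟩
  exact Groth.Agent.Lib.Helper14.CechDescent.exactAt Y (Q' F G e he U) (ΓW U Y)
    (fun n i r x => Q'_map_smul F G e he U _ r x) (theta F U G e he Y hU hY)
    (theta_face F U G e he Y hU hY) n

end Main

/-- Čech acyclicity for the covering families `CovA` -/
theorem isZero_cechH (G : EtCoh.Ab X)
    (e : ∀ V : X.Etale, (G.obj.obj (op V) : Type (u + 1)) ≃+ ULift.{u + 1} (EtAssoc.obj F V))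
    (he : ∀ (V V' : X.Etale) (g : V' ⟶ V) (s : G.obj.obj (op V)),
      (e V' (G.obj.map g.op s)).down = EtAssoc.resMap F g (e V s).down)
    (ι : Type (u + 1)) (Y' : ι → Over U) (h : CovA X U ι Y') (p : ℕ) :
    IsZero (CohCx.cechH ((ΦE X).obj G).obj Y' (p + 1)) := by
  obtain ⟨rfl, hU, hY, hs⟩ := h
  have hfun : Y' = fun _ => Y' PUnit.unit := funext (fun _ => rfl)
  have hs' : ∀ x : sch U, x ∈ Set.range (schMap (Y' PUnit.unit).hom) := fun x => by
    obtain ⟨i, hi⟩ := hs x
    exact hi
  have hex := exactAt_plain F U G e he (Y' PUnit.unit) hU (hY PUnit.unit) hs' p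
  have hex2 : ((cechComplexFunctor (fun _ : PUnit.{u + 2} => Y' PUnit.unit)).obj
      (Q' F G e he U)).ExactAt (p + 1) :=
    hex.of_iso (cechIsoPl.{u + 1} (Y' PUnit.unit) (Q' F G e he U)).symm
  have hex3 : ((cechComplexFunctor (fun _ : PUnit.{u + 2} => Y' PUnit.unit)).obj
      (QG G U)).ExactAt (p + 1) :=
    hex2.of_iso ((cechComplexFunctor (fun _ : PUnit.{u + 2} => Y' PUnit.unit)).mapIso
      (isoQ F G e he U)).symm
  rw [hfun]
  exact (HomologicalComplex.exactAt_iff_isZero_homology _ _).1 hex3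

end Groth.Agent.Lib.Helper14.EtQcCech
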