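import Groth.Agent.Lib.Helper14.EtZarCont
import Groth.Agent.Lib.Helper14.EtGaCech
import Groth.Agent.Lib.Helper14.CartanOne
import Groth.Agent.Lib.Helper27.EtTransport6
import Groth.Agent.Lib.Helper27.EtZarHens3
import Groth.Agent.Lib.Helper6.ExtAdj

/-!
# Étale cohomology of a sheaf acyclic on affine étale schemes is Zariski cohomology (helper14)
-/

set_option autoImplicit false
set_option linter.unusedSectionVars false

universe u

open CategoryTheory CategoryTheory.Limits Opposite AlgebraicGeometry TopologicalSpace Abelian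

namespace Groth.Agent.Lib.Helper14.EtZarGa

open Groth.Agent.Lib.Helper27.EtTransport Groth.Agent.Lib.Helper14.EtAff
open Groth.Agent.Lib.Helper27.EtZarAcyc Groth.Agent.Lib.Helper27.EtZarHens
open Groth.Agent.Lib.Helper6 Groth.Agent.Lib.Helper14.EtZarCont

variable (X : Scheme.{u})

/-- the class of abelian étale sheaves which are acyclic on affine étale schemes -/
def PE (G : EtCoh.Ab X) : Prop :=
  ∀ U ∈ BA X, ∀ (n : ℕ) (x : Ext (SheafCoh.Zfree (KE X) U) ((ΦE X).obj G) (n + 1)), x = 0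

instance injective_ΦE (I : EtCoh.Ab X) [Injective I] : Injective ((ΦE X).obj I) :=
  Injective.injective_of_adjoint
    (Functor.IsDenseSubsite.sheafEquiv (KE X) X.smallEtaleTopology (GE X)
      AddCommGrpCat.{u + 1}).toAdjunction I

variable {X}

/-- an open of `X` as an object of the small model -/
noncomputable abbrev opnE (V : X.Opens) : DE X := ULiftHom.objUp ((EtZar.zarToEt X).obj V)

lemma opnE_mem (V : X.Opens) (hV : IsAffineOpen V) : opnE V ∈ BA X := hV

theorem PE_step (E : ShortComplex (EtCoh.Ab X)) (hE : E.ShortExact)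
    (h1 : PE X E.X₁) (hI : Injective E.X₂) :
    PE X E.X₃ ∧ Epi ((EtZar.resZar X).map E.g) := by
  have hE' : (E.map (ΦE X)).ShortExact := hE.map_of_exact (ΦE X)
  haveI : Injective (E.map (ΦE X)).X₂ := injective_ΦE X E.X₂
  refine ⟨fun U hU n x => ?_, ?_⟩
  · obtain ⟨x₂, hx₂⟩ := Ext.covariant_sequence_exact₃ _ hE' x rfl (h1 U hU (n + 1) _)
    have hz : x₂ = 0 := Ext.eq_zero_of_injective x₂
    rw [← hx₂, hz, Ext.zero_comp]
    rfl
  · apply epi_resZar_map_g E
    intro V hV s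
    let ψ : SheafCoh.Zfree (KE X) (opnE V) ⟶ (ΦE X).obj E.X₃ :=
      (SheafCoh.homEquiv (KE X) (opnE V) ((ΦE X).obj E.X₃)).symm s
    obtain ⟨x₂, hx₂⟩ := Ext.covariant_sequence_exact₃ _ hE' (Ext.mk₀ ψ) rfl
      (h1 (opnE V) (opnE_mem V hV) 0 _)
    obtain ⟨φ, rfl⟩ := (Ext.mk₀_bijective _ _).2 x₂
    have h2 : φ ≫ (ΦE X).map E.g = ψ := by
      have h3 : Ext.mk₀ (φ ≫ (ΦE X).map E.g) = Ext.mk₀ ψ := by
        rw [← Ext.mk₀_comp_mk₀]; exact hx₂
      exact (Ext.mk₀_bijective _ _).1 h3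
    refine ⟨SheafCoh.homEquiv (KE X) (opnE V) ((ΦE X).obj E.X₂) φ, ?_⟩
    have h4 := SheafCoh.homEquiv_naturality_right (KE X) φ ((ΦE X).map E.g)
    rw [h2, Equiv.apply_symm_apply] at h4
    exact h4.symm

/-- étale cohomology of a sheaf acyclic on affine étale schemes agrees with the Zariski cohomology
of its restriction -/
theorem nonempty_H_addEquiv (F : EtCoh.Ab X) (hF : PE X F) (q : ℕ) :
    Nonempty (EtCoh.H X F q ≃+ EtZar.H ((EtZar.resZar X).obj F) q) := by
  obtain ⟨e⟩ := ExtAdj.nonempty_ext_addEquiv_of_class (invResAdj X) (PE X)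
    (fun E hE h1 hI => PE_step E hE h1 hI) (zarZ X) F hF q
  exact ⟨(CohSiteBigger.extAddEquivOfIso
    ((constIso X).app (AddCommGrpCat.of (ULift.{u + 1} ℤ))) F q).symm.trans e⟩

/-- `G_a` is acyclic on affine étale schemes -/
theorem PE_Ga : PE X (EtCoh.Ga X) := fun U hU n x =>
  Groth.Agent.Lib.Helper14.CartanOne.cartan (KE X) (BA X) (CovA X) covA_h1 covA_h2 n
    ((ΦE X).obj (EtCoh.Ga X))
    (fun U ι Y hCov p => Groth.Agent.Lib.Helper14.EtGaCech.isZero_cechH U ι Y hCov p) U hU x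

end Groth.Agent.Lib.Helper14.EtZarGa
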