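import Groth.Agent.Lib.Helper14.EtQc6
import Groth.Agent.Lib.Helper14.EtZarGa

/-!
# The étale sheaf associated to a quasi-coherent module is acyclic on affine étale schemes
(helper14)
-/

set_option autoImplicit false
set_option linter.unusedSectionVars false

universe u

open CategoryTheory CategoryTheory.Limits Opposite AlgebraicGeometry

namespace Groth.Agent.Lib.Helper14.EtQcCech

open Groth.Agent.Lib.Helper27.EtTransport Groth.Agent.Lib.Helper14.EtAff
open Groth.Agent.Lib.Helper14.EtZarGa

theorem PE_of_isAssoc {X : Scheme.{u}} (F : X.Modules) [F.IsQuasicoherent] (G : EtCoh.Ab X)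
    (hG : EtAssoc.IsAssoc F G) : PE X G := by
  obtain ⟨e, he⟩ := hG
  exact fun U hU n x =>
    Groth.Agent.Lib.Helper14.CartanOne.cartan (KE X) (BA X) (CovA X) covA_h1 covA_h2 n
      ((ΦE X).obj G)
      (fun U ι Y hCov p => isZero_cechH F U G e he ι Y hCov p) U hU x

end Groth.Agent.Lib.Helper14.EtQcCech
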