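import Groth.Agent.Lib.Helper14.EtQc1
import Groth.Agent.Lib.Helper17.PbDict
import Groth.Prelude.Def_EtZar

/-!
# The restriction to the Zariski site of the étale sheaf associated to a module, sectionwise
(helper14)
-/

set_option autoImplicit false
set_option linter.unusedSectionVars false
set_option backward.isDefEq.respectTransparency.types false

universe u

open CategoryTheory CategoryTheory.Limits Opposite AlgebraicGeometry TopologicalSpace TensorProduct

namespace Groth.Agent.Lib.Helper14.EtQcZar

open Groth.Agent.Lib.Helper28.QCohLoc Groth.Agent.Lib.Helper28.PullbackInv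
open Groth.Agent.Lib.Helper17.PullbackBC Groth.Agent.Lib.Helper17.ModPullback
open Groth.Agent.Lib.Helper17.PbDict Groth.Agent.Lib.Helper14.EtQc

section Algebra

/-- a base change map along a bijective ring homomorphism is bijective -/
theorem bijective_of_isBC_of_bijective {R S : Type u} [CommRing R] [CommRing S] (φ : R →+* S)
    (hφ : Function.Bijective φ) {P T : Type u} [AddCommGroup P] [Module R P] [AddCommGroup T]
    [Module S T] (c : P → T) (h : IsBC φ c) : Function.Bijective c := by
  letI := φ.toAlgebra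
  obtain ⟨e, he⟩ := (isBC_iff φ c).mp h
  let a : R ≃ₗ[R] S := LinearEquiv.ofBijective (Algebra.linearMap R S) hφ
  let t : P ≃ₗ[R] S ⊗[R] P :=
    (TensorProduct.lid R P).symm ≪≫ₗ TensorProduct.congr a (LinearEquiv.refl R P)
  have ht : ∀ p, t p = (1 : S) ⊗ₜ[R] p := fun p => by
    change (TensorProduct.congr a (LinearEquiv.refl R P)) ((TensorProduct.lid R P).symm p) = _
    rw [TensorProduct.lid_symm_apply, TensorProduct.congr_tmul]
    congr 1
    exact map_one (algebraMap R S)
  have hc : c = e.symm ∘ t := by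
    funext p
    change c p = e.symm (t p)
    rw [ht, ← he, LinearEquiv.symm_apply_apply]
  rw [hc]
  exact e.symm.bijective.comp t.bijective

end Algebra

variable {S : Scheme.{u}} (F : S.Modules)

/-- the étale scheme of an open -/
noncomputable abbrev VU (U : S.Opens) : S.Etale := (EtZar.zarToEt S).obj U

example (U : S.Opens) : (VU U).left = (U : Scheme.{u}) := rfl
example (U : S.Opens) : (VU U).hom = U.ι := rfl

lemma top_le (U : S.Opens) : (⊤ : (VU U).left.Opens) ≤ (VU U).hom ⁻¹ᵁ U :=
  (Scheme.Opens.ι_preimage_self U).ge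

/-- the canonical map `F(U) → Γ(U, ι^* F)` -/
noncomputable def cU (U : S.Opens) : Γ(F, U) →+ Γ(MU F (VU U), ⊤) where
  toFun m := res _ (top_le U) (pbs (VU U).hom F U m)
  map_zero' := by
    have h : pbs (VU U).hom F U 0 = 0 := map_zero _
    rw [h]
    exact res_zero _ _
  map_add' x y := by
    rw [pbs_add]
    exact map_add ((MU F (VU U)).presheaf.map (homOfLE (top_le U)).op).hom _ _

lemma cU_apply (U : S.Opens) (m : Γ(F, U)) :
    cU F U m = res _ (top_le U) (pbs (VU U).hom F U m) := rfl

theorem cU_bijective [F.IsQuasicoherent] (U : S.Opens) (hU : IsAffineOpen U) :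
    Function.Bijective (cU F U) := by
  haveI : IsAffine (VU U).left := hU
  have hbc := isBC_pullback (VU U).hom hU (isAffineOpen_top (VU U).left) (top_le U) F
  refine bijective_of_isBC_of_bijective _ ?_ _ hbc
  haveI : IsIso (U.ι.appLE U ⊤ U.ι_preimage_self.ge) := inferInstance
  exact ConcreteCategory.bijective_of_isIso (U.ι.appLE U ⊤ U.ι_preimage_self.ge)

section Nat

variable {W Y : Scheme.{u}} (M : Y.Modules)

lemma eqToHom_pbs {g g' : W ⟶ Y} (h : g = g') (V : Y.Opens) (y : Γ(M, V)) (O : W.Opens)
    (hO : O ≤ g ⁻¹ᵁ V) (hO' : O ≤ g' ⁻¹ᵁ V) :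
    (eqToHom (congrArg (fun k => (Scheme.Modules.pullback k).obj M) h)).app O
      (res _ hO (pbs g M V y)) = res _ hO' (pbs g' M V y) := by
  subst h
  rfl

end Nat

variable {F}

theorem rmap_cU {U V : S.Opens} (h : V ≤ U) (m : Γ(F, U)) :
    rmap (F := F) ((EtZar.zarToEt S).map (homOfLE h)) (cU F U m) = cU F V (res F h m) := by
  rw [rmap_apply, cU_apply, cU_apply, pbs_res, res_res, pbs_res, res_res]
  unfold EtAssoc.step2a
  rw [Scheme.Modules.Hom.comp_app, ConcreteCategory.comp_apply, app_res, pullbackComp_hom_pbs]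
  exact eqToHom_pbs F (Over.w ((EtZar.zarToEt S).map (homOfLE h)).hom) U m ⊤ _ _

end Groth.Agent.Lib.Helper14.EtQcZar
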