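import Mathlib
import Groth.Prelude.Def_CohTop
import Groth.Agent.Lib.Helper6.SheafCoh

/-!
# Lifting a topological space one universe up: the sites of opens are equivalent (helper14)
-/

set_option autoImplicit false
set_option linter.unusedSectionVars false

universe u

open CategoryTheory CategoryTheory.Limits Opposite TopologicalSpace

namespace Groth.Agent.Lib.Helper14.ZarLift

variable (X₀ : TopCat.{u})

/-- the space, lifted one universe up -/
abbrev XL : TopCat.{u + 1} := TopCat.of (ULift.{u + 1} X₀)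

/-- the order isomorphism between the opens -/
def εO : Opens X₀ ≃o Opens (XL X₀) := (Homeomorph.ulift (X := X₀)).symm.opensCongr

/-- the equivalence between the categories of opens -/
def ε : Opens X₀ ≌ Opens (XL X₀) := (εO X₀).equivalence

lemma mem_ε_inverse (U' : Opens (XL X₀)) (x : X₀) :
    x ∈ (ε X₀).inverse.obj U' ↔ ULift.up x ∈ U' := Iff.rfl

theorem inducedTopology_eq :
    (ε X₀).inverse.inducedTopology (Opens.grothendieckTopology X₀) =
      Opens.grothendieckTopology (XL X₀) := by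
  ext U' S
  rw [Functor.mem_inducedTopology_iff_of_isCoverDense, Opens.mem_grothendieckTopology,
    Opens.mem_grothendieckTopology]
  constructor
  · intro h y hy
    obtain ⟨V, f, hf, hxV⟩ := h y.down ((mem_ε_inverse X₀ U' y.down).2 hy)
    obtain ⟨W', g, k, hg, rfl⟩ := hf
    refine ⟨W', g, hg, ?_⟩
    have : y.down ∈ (ε X₀).inverse.obj W' := leOfHom k hxV
    exact (mem_ε_inverse X₀ W' y.down).1 this
  · intro h x hx
    obtain ⟨W', g, hg, hyW⟩ := h (ULift.up x) ((mem_ε_inverse X₀ U' x).1 hx)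
    exact ⟨(ε X₀).inverse.obj W', (ε X₀).inverse.map g,
      Sieve.image_mem_functorPushforward _ S hg, (mem_ε_inverse X₀ W' x).2 hyW⟩

instance : (ε X₀).functor.IsDenseSubsite (Opens.grothendieckTopology X₀)
    (Opens.grothendieckTopology (XL X₀)) := by
  rw [← inducedTopology_eq]
  infer_instance

instance : (ε X₀).inverse.IsDenseSubsite (Opens.grothendieckTopology (XL X₀))
    (Opens.grothendieckTopology X₀) := by
  haveI : (ε X₀).symm.inverse.IsDenseSubsite (Opens.grothendieckTopology X₀)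
      (Opens.grothendieckTopology (XL X₀)) :=
    inferInstanceAs ((ε X₀).functor.IsDenseSubsite _ _)
  exact inferInstanceAs ((ε X₀).symm.functor.IsDenseSubsite _ _)

instance : EssentiallySmall.{u + 1} (Opens X₀) := essentiallySmall_of_small_of_locallySmall _

instance : HasSheafify (Opens.grothendieckTopology X₀) AddCommGrpCat.{u + 1} :=
  hasSheafifyEssentiallySmallSite _ _

instance : IsGrothendieckAbelian.{u + 1}
    (Sheaf (Opens.grothendieckTopology X₀) AddCommGrpCat.{u + 1}) :=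
  Sheaf.isGrothendieckAbelian_of_essentiallySmall _ _

/-- abelian sheaves on `X₀` with values one universe up -/
abbrev ShL : Type (u + 2) := Sheaf (Opens.grothendieckTopology X₀) AddCommGrpCat.{u + 1}

/-- the equivalence of sheaf categories -/
noncomputable abbrev EL : Sheaf (Opens.grothendieckTopology (XL X₀)) AddCommGrpCat.{u + 1} ≌ ShL X₀ :=
  Functor.IsDenseSubsite.sheafEquiv (Opens.grothendieckTopology (XL X₀))
    (Opens.grothendieckTopology X₀) (ε X₀).inverse AddCommGrpCat.{u + 1}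

/-- transport of sheaves to the lifted space -/
noncomputable abbrev ΨL : ShL X₀ ⥤ Sheaf (Opens.grothendieckTopology (XL X₀)) AddCommGrpCat.{u + 1} :=
  (EL X₀).inverse

lemma ΨL_obj (G : ShL X₀) : ((ΨL X₀).obj G).obj = (ε X₀).inverse.op ⋙ G.obj := rfl

open Abelian Groth.Agent.Lib.Helper6

/-- the class of sheaves which are flasque (tested on the lifted space) -/
def Fl (G : ShL X₀) : Prop := TopCat.Sheaf.IsFlasque ((ΨL X₀).obj G)

/-- the constant sheaf `ℤ` -/
noncomputable abbrev ZL : ShL X₀ :=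
  (constantSheaf (Opens.grothendieckTopology X₀) AddCommGrpCat.{u + 1}).obj
    (AddCommGrpCat.of (ULift.{u + 1} ℤ))

/-- a terminal open -/
noncomputable def isTerminalT : IsTerminal ((ε X₀).inverse.obj ⊤) :=
  (CategoryTheory.Limits.isTerminalTop (α := Opens (XL X₀))).isTerminalObj (ε X₀).inverse ⊤

variable {X₀}

lemma H_zero_surj {F G : ShL X₀} (g : F ⟶ G) {T : Opens X₀} (hT : IsTerminal T)
    (hg : Function.Surjective (g.hom.app (op T))) (y : Sheaf.H G 0) :
    ∃ y' : Sheaf.H F 0, y'.comp (Ext.mk₀ g) (add_zero 0) = y := by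
  obtain ⟨t, ht⟩ := hg (Sheaf.H.equiv₀ G hT y)
  refine ⟨(Sheaf.H.equiv₀ F hT).symm t, ?_⟩
  rw [← Sheaf.H.map_apply, Sheaf.H.equiv₀_symm_naturality, ht, AddEquiv.symm_apply_apply]

theorem Fl_step (E : ShortComplex (ShL X₀)) (hE : E.ShortExact) (h₁ : Fl X₀ E.X₁)
    (h₂ : Injective E.X₂) :
    Fl X₀ E.X₃ ∧ ∀ y : Ext (ZL X₀) E.X₃ 0, ∃ y' : Ext (ZL X₀) E.X₂ 0,
      y'.comp (Ext.mk₀ E.g) (add_zero 0) = y := by
  have hE' : (E.map (ΨL X₀)).ShortExact := hE.map_of_exact (ΨL X₀)
  haveI : Injective ((ΨL X₀).obj E.X₂) := Injective.injective_of_adjoint (EL X₀).toAdjunction _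
  haveI i₂ : TopCat.Sheaf.IsFlasque ((E.map (ΨL X₀)).X₂) :=
    SheafCoh.isFlasque_of_injective (X := XL X₀) ((ΨL X₀).obj E.X₂)
  haveI i₁ : TopCat.Sheaf.IsFlasque ((E.map (ΨL X₀)).X₁) := h₁
  refine ⟨TopCat.Sheaf.IsFlasque.of_shortExact_of_isFlasque₁₂ hE', ?_⟩
  have hepi : Epi ((E.map (ΨL X₀)).g.1.app (op ⊤)) :=
    TopCat.Sheaf.IsFlasque.epi_of_shortExact hE'
  rw [AddCommGrpCat.epi_iff_surjective] at hepi
  exact H_zero_surj E.g (isTerminalT X₀) hepi

/-- flasque sheaves with values one universe up are acyclic -/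
theorem ext_eq_zero_of_Fl (G : ShL X₀) (hG : Fl X₀ G) (n : ℕ) (x : Ext (ZL X₀) G (n + 1)) :
    x = 0 :=
  ExtAcyc.ext_succ_eq_zero_of_class (ZL X₀) (Fl X₀) (fun E hE h₁ h₂ => Fl_step E hE h₁ h₂) n G hG x

end Groth.Agent.Lib.Helper14.ZarLift
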