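import Mathlib
import Groth.Prelude.Def_CohTop
import Groth.Agent.Lib.Helper6.SheafCoh
import Groth.Agent.Lib.Helper6.ExtShift
import Groth.Agent.Lib.Helper6.ExtChgUniv
import Groth.Agent.Lib.Helper14.ZarLift1

/-!
# Cohomology of a sheaf on a space does not change when the values are lifted one universe up
(helper14)
-/

set_option autoImplicit false
set_option linter.unusedSectionVars false

universe u

open CategoryTheory CategoryTheory.Limits Opposite TopologicalSpace

namespace Groth.Agent.Lib.Helper14.ZarLift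

variable (X₀ : TopCat.{u})

/-- abelian sheaves on `X₀` -/
abbrev Sh : Type (u + 1) := Sheaf (Opens.grothendieckTopology X₀) AddCommGrpCat.{u}

/-- lifting the values one universe up -/
noncomputable abbrev Υ : Sh X₀ ⥤ ShL X₀ :=
  sheafCompose (Opens.grothendieckTopology X₀) AddCommGrpCat.uliftFunctor.{u + 1, u}

lemma Υ_obj_obj (F : Sh X₀) : ((Υ X₀).obj F).obj = F.obj ⋙ AddCommGrpCat.uliftFunctor.{u + 1, u} :=
  rfl

instance : (Υ X₀).Additive where
  map_add {F G f g} := by
    ext U x
    rfl

instance : PreservesFiniteLimits (Υ X₀) := by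
  constructor
  intro K _ _
  haveI : PreservesLimitsOfShape K
      (Υ X₀ ⋙ sheafToPresheaf (Opens.grothendieckTopology X₀) AddCommGrpCat.{u + 1}) :=
    inferInstanceAs (PreservesLimitsOfShape K
      (sheafToPresheaf (Opens.grothendieckTopology X₀) AddCommGrpCat.{u} ⋙
        (Functor.whiskeringRight _ _ _).obj AddCommGrpCat.uliftFunctor.{u + 1, u}))
  exact preservesLimitsOfShape_of_reflects_of_preserves (Υ X₀)
    (sheafToPresheaf (Opens.grothendieckTopology X₀) AddCommGrpCat.{u + 1})


variable {X₀}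

lemma Υ_map_app {F G : Sh X₀} (φ : F ⟶ G) (U : (Opens X₀)ᵒᵖ) (x : F.obj.obj U) :
    ((Υ X₀).map φ).hom.app U (ULift.up x) = ULift.up (φ.hom.app U x) := rfl

lemma epi_Υ_map {F G : Sh X₀} (φ : F ⟶ G) [Epi φ] : Epi ((Υ X₀).map φ) := by
  have h : Sheaf.IsLocallySurjective φ := (Sheaf.isLocallySurjective_iff_epi' (A := AddCommGrpCat.{u}) φ).2 inferInstance
  haveI : Sheaf.IsLocallySurjective ((Υ X₀).map φ) := by
    constructor
    intro U s
    have h' := Presheaf.imageSieve_mem (Opens.grothendieckTopology X₀) φ.hom s.down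
    refine (Opens.grothendieckTopology X₀).superset_covering ?_ h'
    rintro V i ⟨t, ht⟩
    refine ⟨ULift.up t, ?_⟩
    apply ULift.ext
    exact ht
  exact Sheaf.epi_of_isLocallySurjective _

theorem shortExact_map_Υ (E : ShortComplex (Sh X₀)) (hE : E.ShortExact) :
    (E.map (Υ X₀)).ShortExact := by
  haveI := hE.mono_f
  haveI := hE.epi_g
  haveI : Mono (E.map (Υ X₀)).f := inferInstanceAs (Mono ((Υ X₀).map E.f))
  haveI : Epi (E.map (Υ X₀)).g := epi_Υ_map E.g
  exact ShortComplex.ShortExact.mk (hE.exact.map_of_mono_of_preservesKernel (Υ X₀) inferInstance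
    inferInstance)


open Abelian Groth.Agent.Lib.Helper6

theorem Fl_Υ_of_injective (I : Sh X₀) [Injective I] : Fl X₀ ((Υ X₀).obj I) := by
  haveI : TopCat.Sheaf.IsFlasque I := SheafCoh.isFlasque_of_injective (X := X₀) I
  constructor
  intro U V i
  rw [AddCommGrpCat.epi_iff_surjective]
  intro t
  have hepi : Epi (I.obj.map ((ε X₀).inverse.op.map i)) :=
    TopCat.Presheaf.IsFlasque.epi (F := I.obj) _
  rw [AddCommGrpCat.epi_iff_surjective] at hepi
  obtain ⟨s, hs⟩ := hepi t.down
  refine ⟨ULift.up s, ?_⟩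
  apply ULift.ext
  exact hs



end Groth.Agent.Lib.Helper14.ZarLift
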