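import Mathlib
import Groth.Prelude.Def_CohTop
import Groth.Agent.Lib.Helper6.SheafCoh
import Groth.Agent.Lib.Helper6.ExtShift
import Groth.Agent.Lib.Helper6.ExtChgUniv
import Groth.Agent.Lib.Helper14.ZarLift2

/-!
# Cohomology of a sheaf on a space does not change when the values are lifted one universe up, II
(helper14)
-/

set_option autoImplicit false
set_option linter.unusedSectionVars false

universe u

open CategoryTheory CategoryTheory.Limits Opposite TopologicalSpace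

namespace Groth.Agent.Lib.Helper14.ZarLift

open Abelian Groth.Agent.Lib.Helper6

variable {X₀ : TopCat.{u}}

variable (X₀) in
/-- the constant sheaf `ℤ` -/
noncomputable abbrev Z0 : Sh X₀ :=
  (constantSheaf (Opens.grothendieckTopology X₀) AddCommGrpCat.{u}).obj
    (AddCommGrpCat.of (ULift.{u} ℤ))

section

variable [HasExt.{u + 1} (Sh X₀)]

noncomputable def θ1 (F : Sh X₀) :
    Ext.{u + 1} (Z0 X₀) F 0 ≃+ F.obj.obj (op ⊤) :=
  Sheaf.H.equiv₀.{u+1, u, u, u} F (isTerminalTop (α := Opens X₀))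

noncomputable def θ2 (F : Sh X₀) :
    Ext.{u + 1} (ZL X₀) ((Υ X₀).obj F) 0 ≃+ ((Υ X₀).obj F).obj.obj (op ⊤) :=
  Sheaf.H.equiv₀.{u+1, u+1, u, u} ((Υ X₀).obj F) (isTerminalTop (α := Opens X₀))

noncomputable def θ3 (F : Sh X₀) :
    F.obj.obj (op ⊤) ≃+ ((Υ X₀).obj F).obj.obj (op ⊤) :=
  AddEquiv.ulift.symm

/-- the comparison in degree zero -/
noncomputable def θcomp (F : Sh X₀) :
    Ext.{u + 1} (Z0 X₀) F 0 ≃+ Ext.{u + 1} (ZL X₀) ((Υ X₀).obj F) 0 :=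
  (θ1 F).trans ((θ3 F).trans (θ2 F).symm)

lemma θcomp_apply (F : Sh X₀) (x : Ext.{u + 1} (Z0 X₀) F 0) :
    θcomp F x = (θ2 F).symm (ULift.up (θ1 F x)) := rfl

lemma θ1_naturality {F G : Sh X₀} (f : F ⟶ G) (x : Ext.{u + 1} (Z0 X₀) F 0) :
    θ1 G (x.comp (Ext.mk₀ f) (add_zero 0)) = f.hom.app (op ⊤) (θ1 F x) :=
  (Sheaf.H.equiv₀_naturality.{u+1, u, u, u} (hT := isTerminalTop (α := Opens X₀)) f x).symm

lemma θ2_symm_naturality {F G : Sh X₀} (f : F ⟶ G) (y : ((Υ X₀).obj F).obj.obj (op ⊤)) :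
    ((θ2 F).symm y).comp (Ext.mk₀ ((Υ X₀).map f)) (add_zero 0) =
      (θ2 G).symm (((Υ X₀).map f).hom.app (op ⊤) y) :=
  Sheaf.H.equiv₀_symm_naturality.{u+1, u+1, u, u} (hT := isTerminalTop (α := Opens X₀))
    ((Υ X₀).map f) y

lemma θcomp_naturality {F G : Sh X₀} (f : F ⟶ G) (x : Ext.{u + 1} (Z0 X₀) F 0) :
    θcomp G (x.comp (Ext.mk₀ f) (add_zero 0)) =
      (θcomp F x).comp (Ext.mk₀ ((Υ X₀).map f)) (add_zero 0) := by
  rw [θcomp_apply, θcomp_apply, θ2_symm_naturality, θ1_naturality]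
  rfl

noncomputable def S0 : Sh X₀ ⥤ AddCommGrpCat.{u+1} := extFunctorObj.{u + 1} (Z0 X₀) 0
noncomputable def T0 : Sh X₀ ⥤ AddCommGrpCat.{u+1} := Υ X₀ ⋙ extFunctorObj.{u + 1} (ZL X₀) 0

noncomputable def θapp (F : Sh X₀) : (S0 (X₀ := X₀)).obj F ≅ (T0 (X₀ := X₀)).obj F :=
  (θcomp F).toAddCommGrpIso

noncomputable def θ : S0 (X₀ := X₀) ≅ T0 (X₀ := X₀) :=
  NatIso.ofComponents θapp (by
    intro F G f
    apply AddCommGrpCat.hom_ext
    apply AddMonoidHom.ext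
    intro x
    exact θcomp_naturality f x)

end

end Groth.Agent.Lib.Helper14.ZarLift
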