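import Mathlib
import Groth.Prelude.Def_CohTop
import Groth.Agent.Lib.Helper6.SheafCoh
import Groth.Agent.Lib.Helper6.ExtShift
import Groth.Agent.Lib.Helper6.ExtChgUniv
import Groth.Agent.Lib.Helper14.ZarLift3

/-!
# Cohomology of a sheaf on a space does not change when the values are lifted one universe up, III
(helper14)
-/

set_option autoImplicit false
set_option linter.unusedSectionVars false

universe u

open CategoryTheory CategoryTheory.Limits Opposite TopologicalSpace

namespace Groth.Agent.Lib.Helper14.ZarLift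

open Abelian Groth.Agent.Lib.Helper6

variable {X₀ : TopCat.{u}}

section

variable [HasExt.{u + 1} (Sh X₀)]

theorem hasShift_S (E : ShortComplex (Sh X₀)) (hE : E.ShortExact) [Injective E.X₂] :
    DeltaCompare.HasShift (fun n => extFunctorObj.{u + 1} (Z0 X₀) n) E.f E.g :=
  ExtShift.hasShift_ext (Z0 X₀) E hE (fun _ x => Ext.eq_zero_of_injective x)

theorem hasShift_T (E : ShortComplex (Sh X₀)) (hE : E.ShortExact) [Injective E.X₂] :
    DeltaCompare.HasShift (fun n => Υ X₀ ⋙ extFunctorObj.{u + 1} (ZL X₀) n) E.f E.g :=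
  ExtShift.hasShift_ext_comp (Υ X₀) (ZL X₀) E (shortExact_map_Υ E hE)
    (fun n x => ext_eq_zero_of_Fl _ (Fl_Υ_of_injective E.X₂) n x)

theorem exists_shift (G : Sh X₀) :
    ∃ (I Q : Sh X₀) (i : G ⟶ I) (p : I ⟶ Q),
      DeltaCompare.HasShift (fun n => extFunctorObj.{u + 1} (Z0 X₀) n) i p ∧
      DeltaCompare.HasShift (fun n => Υ X₀ ⋙ extFunctorObj.{u + 1} (ZL X₀) n) i p := by
  let E : ShortComplex (Sh X₀) :=
    ShortComplex.mk (Injective.ι G) (cokernel.π (Injective.ι G)) (cokernel.condition _)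
  have hE : E.ShortExact :=
    { exact := ShortComplex.exact_cokernel (Injective.ι G)
      mono_f := inferInstanceAs (Mono (Injective.ι G))
      epi_g := inferInstanceAs (Epi (cokernel.π (Injective.ι G))) }
  haveI : Injective E.X₂ := inferInstanceAs (Injective (Injective.under G))
  exact ⟨_, _, E.f, E.g, hasShift_S E hE, hasShift_T E hE⟩

theorem nonempty_ext_iso (n : ℕ) (G : Sh X₀) :
    Nonempty ((extFunctorObj.{u + 1} (Z0 X₀) n).obj G ≅
      (Υ X₀ ⋙ extFunctorObj.{u + 1} (ZL X₀) n).obj G) :=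
  DeltaCompare.delta_compare (fun n => extFunctorObj.{u + 1} (Z0 X₀) n)
    (fun n => Υ X₀ ⋙ extFunctorObj.{u + 1} (ZL X₀) n) (θ (X₀ := X₀)) (fun _ => True)
    (fun G _ => by
      obtain ⟨I, Q, i, p, h₁, h₂⟩ := exists_shift G
      exact ⟨I, Q, i, p, trivial, h₁, h₂⟩) n G trivial

end

/-- Sheaf cohomology of an abelian sheaf on a space does not change when its values are lifted
one universe up. -/
theorem nonempty_H_addEquiv_Υ (F : Sh X₀) (n : ℕ) :
    Nonempty ((Sheaf.H F n : Type u) ≃+ (Sheaf.H ((Υ X₀).obj F) n : Type (u + 1))) := by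
  haveI : HasExt.{u + 1} (Sh X₀) := ExtChgUniv.hasExt_max.{u, u + 1}
  obtain ⟨e⟩ := nonempty_ext_iso n F
  exact ⟨(ExtChgUniv.chgUnivAddEquiv.{u, u + 1}).trans e.addCommGroupIsoToAddEquiv⟩

end Groth.Agent.Lib.Helper14.ZarLift
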