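import Groth.Agent.Lib.Helper14.EtQcZar1
import Groth.Agent.Lib.Helper14.ZarLift4
import Groth.Prelude.Def_Coh

/-!
# The restriction to the Zariski site of the étale sheaf associated to a quasi-coherent module is
the module (helper14)
-/

set_option autoImplicit false
set_option linter.unusedSectionVars false
set_option backward.isDefEq.respectTransparency.types false

universe u

open CategoryTheory CategoryTheory.Limits Opposite AlgebraicGeometry TopologicalSpace

namespace Groth.Agent.Lib.Helper14.EtQcZar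

open Groth.Agent.Lib.Helper28.QCohLoc Groth.Agent.Lib.Helper14.EtQc
open Groth.Agent.Lib.Helper14.ZarLift

variable {S : Scheme.{u}} (F : S.Modules) (G : EtCoh.Ab S)
  (e : ∀ V : S.Etale, (G.obj.obj (op V) : Type (u + 1)) ≃+ ULift.{u + 1} (EtAssoc.obj F V))
  (he : ∀ (V V' : S.Etale) (g : V' ⟶ V) (s : G.obj.obj (op V)),
      (e V' (G.obj.map g.op s)).down = EtAssoc.resMap F g (e V s).down)
  [EtZar.ZarCont S]

/-- the components of the comparison -/
noncomputable def φapp (U : S.Opens) :
    ULift.{u + 1} Γ(F, U) →+ ((EtZar.resZar S).obj G).obj.obj (op U) :=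
  ((e (VU U)).symm.toAddMonoidHom.comp AddEquiv.ulift.symm.toAddMonoidHom).comp
    ((cU F U).comp AddEquiv.ulift.toAddMonoidHom)

lemma φapp_apply (U : S.Opens) (x : ULift.{u + 1} Γ(F, U)) :
    φapp F G e U x = (e (VU U)).symm (ULift.up (cU F U x.down)) := rfl

/-- the comparison of presheaves -/
noncomputable def φpre :
    (Coh.toAb F).obj ⋙ AddCommGrpCat.uliftFunctor.{u + 1, u} ⟶ ((EtZar.resZar S).obj G).obj where
  app U := AddCommGrpCat.ofHom (φapp F G e U.unop)
  naturality U V i := by
    apply AddCommGrpCat.hom_ext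
    apply AddMonoidHom.ext
    intro x
    apply (e (VU V.unop)).injective
    apply ULift.ext
    have h1 := he (VU U.unop) (VU V.unop) ((EtZar.zarToEt S).map i.unop)
      ((e (VU U.unop)).symm (ULift.up (cU F U.unop x.down)))
    rw [AddEquiv.apply_symm_apply] at h1
    have h2 := rmap_cU (F := F) (leOfHom i.unop) x.down
    refine Eq.trans ?_ (h2.symm.trans h1.symm)
    change ((e (VU V.unop)) ((e (VU V.unop)).symm (ULift.up (cU F V.unop _)))).down = _
    rw [AddEquiv.apply_symm_apply]
    rfl

/-- the comparison of sheaves -/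
noncomputable def φ :
    ((Υ S.carrier).obj (Coh.toAb F) : EtZar.Ab S) ⟶ (EtZar.resZar S).obj G :=
  ⟨φpre F G e he⟩

lemma φ_hom_app (U : S.Opens) (x : ULift.{u + 1} Γ(F, U)) :
    (φ F G e he).hom.app (op U) x = (e (VU U)).symm (ULift.up (cU F U x.down)) := rfl

include he in
theorem isIso_φ [F.IsQuasicoherent] : IsIso (φ F G e he) := by
  have hB : Opens.IsBasis (Set.range (fun V : S.affineOpens => (V : S.Opens))) := by
    rw [Subtype.range_coe]
    exact S.isBasis_affineOpens
  refine TopCat.Sheaf.isIso_iff_isIso_basis (X := S.carrier)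
    (F := ((Υ S.carrier).obj (Coh.toAb F) : EtZar.Ab S)) (G := (EtZar.resZar S).obj G) hB
    (φ := φ F G e he) (fun V => ?_)
  rw [ConcreteCategory.isIso_iff_bijective]
  have hb := cU_bijective F V.1 V.2
  have : ⇑(ConcreteCategory.hom ((φ F G e he).hom.app (op (V : S.Opens)))) =
      (e (VU V.1)).symm ∘ ULift.up ∘ (cU F V.1) ∘ ULift.down := rfl
  rw [this]
  exact (e (VU V.1)).symm.bijective.comp
    ((Equiv.ulift.symm.bijective).comp (hb.comp Equiv.ulift.bijective))

open Abelian in
/-- Zariski cohomology of the restriction of the étale sheaf associated to a quasi-coherent module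
is the cohomology of the module -/
theorem nonempty_H_resZar_addEquiv [F.IsQuasicoherent] (hG : EtAssoc.IsAssoc F G) (q : ℕ) :
    Nonempty (EtZar.H ((EtZar.resZar S).obj G) q ≃+ Coh.HH S F q) := by
  obtain ⟨e, he⟩ := hG
  haveI := isIso_φ F G e he
  obtain ⟨e'⟩ := nonempty_H_addEquiv_Υ (X₀ := S.carrier) (Coh.toAb F) q
  exact ⟨(((extFunctorObj _ q).mapIso (asIso (φ F G e he)).symm).addCommGroupIsoToAddEquiv).trans
    e'.symm⟩

end Groth.Agent.Lib.Helper14.EtQcZar
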