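import Groth.Agent.Lib.Helper14.SiteRetr
import Groth.Prelude.Def_EtCore
import Groth.Agent.S0101

universe u

set_option linter.unusedSectionVars false
set_option linter.unusedVariables false

open CategoryTheory Limits Opposite AlgebraicGeometry

namespace Groth.Agent.Lib.Helper14.EtRetr

open Groth.Agent.Lib.Helper14.SiteRetr

set_option backward.isDefEq.respectTransparency false in
/-- base change along the identity -/
noncomputable def bcId (W : Scheme.{u}) : EtCoh.bc (𝟙 W) ≅ 𝟭 W.Etale :=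
  NatIso.ofComponents (fun A => MorphismProperty.Over.isoMk (asIso (pullback.fst A.hom (𝟙 W)))
    (by simp [EtCoh.bc, pullback.condition]))
    (fun {A B} φ => by
      apply MorphismProperty.Over.Hom.ext
      show ((MorphismProperty.Over.pullback EtCoh.etaleMP ⊤ (𝟙 W)).map φ).left ≫
        pullback.fst B.hom (𝟙 W) = pullback.fst A.hom (𝟙 W) ≫ φ.left
      simp)

set_option backward.isDefEq.respectTransparency.types false in
/-- `bc g ⋙ bc t ≅ 𝟭` for a section `t` of `g` -/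
noncomputable def bcSection {Y W : Scheme.{u}} (g : Y ⟶ W) (t : W ⟶ Y) (h : t ≫ g = 𝟙 W) :
    EtCoh.bc g ⋙ EtCoh.bc t ≅ 𝟭 W.Etale :=
  ((MorphismProperty.Over.pullbackComp (P := EtCoh.etaleMP) (Q := ⊤) t g).symm :
      EtCoh.bc g ⋙ EtCoh.bc t ≅ EtCoh.bc (t ≫ g)) ≪≫
    (MorphismProperty.Over.pullbackCongr (P := EtCoh.etaleMP) (Q := ⊤) h :
      EtCoh.bc (t ≫ g) ≅ EtCoh.bc (𝟙 W)) ≪≫ bcId W

theorem et_retraction {Y W : Scheme.{u}} (g : Y ⟶ W) (t : W ⟶ Y) (h : t ≫ g = 𝟙 W)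
    (G : EtCoh.Ab W) (q : ℕ) :
    ∃ (i : AddCommGrpCat.of (EtCoh.H W G q) ⟶
        AddCommGrpCat.of (EtCoh.H Y ((EtCoh.pull g).obj G) q))
      (r : AddCommGrpCat.of (EtCoh.H Y ((EtCoh.pull g).obj G) q) ⟶
        AddCommGrpCat.of (EtCoh.H W G q)), i ≫ r = 𝟙 _ := by
  have : PreservesFiniteLimits ((EtCoh.bc g).sheafPullback AddCommGrpCat.{u + 1}
      W.smallEtaleTopology Y.smallEtaleTopology) := Groth.Agent.S0101.result g
  have : PreservesFiniteLimits ((EtCoh.bc t).sheafPullback AddCommGrpCat.{u + 1}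
      Y.smallEtaleTopology W.smallEtaleTopology) := Groth.Agent.S0101.result t
  exact exists_retraction_site.{u + 1, u + 1} W.smallEtaleTopology Y.smallEtaleTopology
    (EtCoh.bc g) (EtCore.topIsTerminal W) (EtCore.topIsTerminal Y)
    ((EtCore.bcTopIsTerminal g).from _) (EtCoh.bc t) (bcSection g t h)
    ((EtCore.bcTopIsTerminal t).from _) q G

theorem et_retraction' {Y W S : Scheme.{u}} (g : Y ⟶ W) (t : W ⟶ Y) (h : t ≫ g = 𝟙 W)
    (bW : W ⟶ S) (bY : Y ⟶ S) (hb : g ≫ bW = bY) (F : EtCoh.Ab S) (q : ℕ) :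
    ∃ (i : AddCommGrpCat.of (EtCoh.H W ((EtCoh.pull bW).obj F) q) ⟶
        AddCommGrpCat.of (EtCoh.H Y ((EtCoh.pull bY).obj F) q))
      (r : AddCommGrpCat.of (EtCoh.H Y ((EtCoh.pull bY).obj F) q) ⟶
        AddCommGrpCat.of (EtCoh.H W ((EtCoh.pull bW).obj F) q)), i ≫ r = 𝟙 _ := by
  subst hb
  obtain ⟨i, r, hir⟩ := et_retraction g t h ((EtCoh.pull bW).obj F) q
  let e : (EtCoh.pull g).obj ((EtCoh.pull bW).obj F) ≅ (EtCoh.pull (g ≫ bW)).obj F :=
    ((EtCore.pullComp g bW).app F).symm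
  have eH : AddCommGrpCat.of (EtCoh.H Y ((EtCoh.pull g).obj ((EtCoh.pull bW).obj F)) q) ≅
      AddCommGrpCat.of (EtCoh.H Y ((EtCoh.pull (g ≫ bW)).obj F) q) :=
    (EtCoh.HF Y q).mapIso e
  refine ⟨i ≫ eH.hom, eH.inv ≫ r, ?_⟩
  rw [Category.assoc, Iso.hom_inv_id_assoc, hir]

end Groth.Agent.Lib.Helper14.EtRetr
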