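import Mathlib
import Groth.Prelude.Def_CAlg2

set_option autoImplicit false
universe u

namespace Groth.Agent.Lib.Helper14.EtTorsA

open IsLocalRing

/-- a normal local domain is geometrically unibranch -/
theorem isGeomUnibranch_of_normal (A : Type u) [CommRing A] [IsLocalRing A] [IsDomain A]
    [IsIntegrallyClosed A] : CAlg2.IsGeomUnibranch A := by
  have hnil : nilradical A = ⊥ := nilradical_eq_zero A
  let e : A ≃+* CAlg2.red A :=
    (RingEquiv.quotientBot A).symm.trans (Ideal.quotEquivOfEq hnil.symm)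
  have he : ∀ a : A, e a = Ideal.Quotient.mk (nilradical A) a := fun a => rfl
  haveI : (nilradical A).IsPrime := hnil ▸ Ideal.isPrime_bot
  haveI hdom : IsDomain (CAlg2.red A) := Ideal.Quotient.isDomain _
  haveI hic : IsIntegrallyClosed (CAlg2.red A) := IsIntegrallyClosed.of_equiv e
  have hbot : integralClosure (CAlg2.red A) (FractionRing (CAlg2.red A)) = ⊥ :=
    IsIntegrallyClosed.integralClosure_eq_bot _ _
  have hsurj0 : Function.Surjective (algebraMap (CAlg2.red A) (CAlg2.normRed A)) := by
    intro y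
    have hy : (y : FractionRing (CAlg2.red A)) ∈
        (⊥ : Subalgebra (CAlg2.red A) (FractionRing (CAlg2.red A))) := hbot ▸ y.2
    obtain ⟨r, hr⟩ := Algebra.mem_bot.mp hy
    exact ⟨r, Subtype.ext hr⟩
  let φ : A →+* CAlg2.normRed A :=
    (algebraMap (CAlg2.red A) (CAlg2.normRed A)).comp (Ideal.Quotient.mk (nilradical A))
  have hφ : Function.Surjective φ := hsurj0.comp Ideal.Quotient.mk_surjective
  haveI : Nontrivial (CAlg2.normRed A) := inferInstance
  have hloc : IsLocalRing (CAlg2.normRed A) := IsLocalRing.of_surjective' φ hφ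
  refine ⟨⟨hdom, hloc⟩, ?_⟩
  intro m' _ x
  obtain ⟨y, rfl⟩ := Ideal.Quotient.mk_surjective x
  obtain ⟨a, rfl⟩ := hφ y
  exact ⟨0, a, by simp [φ]⟩

end Groth.Agent.Lib.Helper14.EtTorsA
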