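import Mathlib
import Groth.Prelude.Def_NonAbH2
import Groth.Prelude.Def_ActBC
import Groth.Agent.Lib.Helper9.Tors1
import Groth.Agent.Lib.Helper3.FppfLocal2
import Groth.Agent.Lib.Helper4.GrpSchBasics
import Groth.Agent.Lib.Helper14.TwCFin2

set_option autoImplicit false
universe u
open CategoryTheory Limits AlgebraicGeometry MonoidalCategory CartesianMonoidalCategory MonObj GrpObj

namespace Groth.Agent.Lib.Helper14.EtTorsB

section field

variable {k : Type u} [Field k]

instance isLocallyArtinian_Spec_field : IsLocallyArtinian (Spec (CommRingCat.of k)) := by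
  rw [Scheme.isLocallyArtinianScheme_Spec]
  exact inferInstanceAs (IsArtinianRing k)

theorem isLocallyArtinian_of_etale {G : Scheme.{u}} (f : G ⟶ Spec (CommRingCat.of k)) [Etale f] :
    IsLocallyArtinian G := by
  have := TwCFin2.locallyQuasiFinite_of_unramified f
  exact IsLocallyArtinian.of_locallyQuasiFinite f

/-- sections of an étale scheme over a field are closed immersions -/
theorem isClosedImmersion_section {G : Scheme.{u}} (f : G ⟶ Spec (CommRingCat.of k)) [Etale f]
    (e : Spec (CommRingCat.of k) ⟶ G) (he : e ≫ f = 𝟙 _) : IsClosedImmersion e := by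
  have := isLocallyArtinian_of_etale f
  have : Mono e := mono_of_mono_fac he
  have : LocallyQuasiFinite e := by
    have : LocallyQuasiFinite (e ≫ f) := by rw [he]; infer_instance
    exact LocallyQuasiFinite.of_comp e f
  have : Finite ↥(Spec (CommRingCat.of k)) := inferInstanceAs (Finite (PrimeSpectrum k))
  have : QuasiCompact e := ⟨fun U _ _ => (Set.toFinite _).isCompact⟩
  have : IsFinite e := IsFinite.of_locallyQuasiFinite e
  exact (IsClosedImmersion.iff_isFinite_and_mono (f := e)).mpr ⟨inferInstance, inferInstance⟩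

theorem isSeparated_of_etale_field (G : Over (Spec (CommRingCat.of k))) [GrpObj G]
    [Etale G.hom] : IsSeparated G.hom := by
  rw [(Groth.Agent.Lib.Helper4.GrpSchBasics.sep_iff G).1]
  exact isClosedImmersion_section G.hom η[G].left (by simpa using Over.w η[G])

set_option backward.isDefEq.respectTransparency.types false in
/-- each point of an étale scheme over a field is a clopen subscheme finite over the field -/
theorem exists_finite_point {G : Scheme.{u}} (f : G ⟶ Spec (CommRingCat.of k)) [Etale f] (g : G) :
    ∃ V : G.Opens, g ∈ V ∧ IsClosed (V : Set G) ∧ IsFinite (V.ι ≫ f) := by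
  have := isLocallyArtinian_of_etale f
  have : DiscreteTopology G := inferInstance
  let V : G.Opens := ⟨{g}, isOpen_discrete _⟩
  refine ⟨V, rfl, isClosed_discrete _, ?_⟩
  have := TwCFin2.locallyQuasiFinite_of_unramified f
  have : LocallyQuasiFinite (V.ι ≫ f) := inferInstance
  have : CompactSpace ↥(V.toScheme) := by
    have : Subsingleton ↥(V.toScheme) := by
      refine ⟨fun a b => ?_⟩
      apply V.ι.isOpenEmbedding.injective
      have ha : V.ι a ∈ (V : Set G) := by simpa using a.2
      have hb : V.ι b ∈ (V : Set G) := by simpa using b.2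
      exact ha.trans hb.symm
    exact Finite.compactSpace
  have : QuasiCompact (V.ι ≫ f) := (HasAffineProperty.iff_of_isAffine (P := @QuasiCompact)).mpr inferInstance
  exact IsFinite.of_locallyQuasiFinite _

end field

section torsor

variable {S : Scheme.{u}} {G X : Over S} [GrpObj G]

theorem fpqc_of_fppf (a : AlgGrp.Action G X)
    (h : NonAbH1.IsTorsorFor Scheme.fppfPrecoverage a) :
    NonAbH1.IsTorsorFor Scheme.fpqcPrecoverage a := by
  obtain ⟨hps, R, hR, hsec⟩ := h
  exact ⟨hps, R, Scheme.fppfPrecoverage_le_fpqcPrecoverage _ hR, hsec⟩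

set_option backward.isDefEq.respectTransparency.types false in
theorem etale_of_torsor (a : AlgGrp.Action G X)
    (h : NonAbH1.IsTorsorFor Scheme.fppfPrecoverage a) [Etale G.hom] : Etale X.hom :=
  Groth.Agent.Lib.Helper9.Tors.prop_hom_of_isTorsorFor_fpqc (P := @Etale) a (fpqc_of_fppf a h)
    inferInstance

theorem isSeparated_of_torsor (a : AlgGrp.Action G X)
    (h : NonAbH1.IsTorsorFor Scheme.fppfPrecoverage a) [IsSeparated G.hom] :
    IsSeparated X.hom := by
  obtain ⟨hps, R, hR, hsec⟩ := h
  exact Groth.Agent.Lib.Helper3.isLocalAtTarget_fppf_isSeparated.of_forall_pullbackSnd hR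
    (fun {U g _} hg => Groth.Agent.Lib.Helper9.Tors.prop_pullback_snd_of_hasSectionOver
      (P := @IsSeparated) a hps g (hsec g hg) inferInstance)

theorem surjective_of_torsor (a : AlgGrp.Action G X)
    (h : NonAbH1.IsTorsorFor Scheme.fppfPrecoverage a) : Function.Surjective X.hom := by
  obtain ⟨hps, R, hR, hsec⟩ := h
  have hR' : R ∈ Scheme.precoverage (@Flat ⊓ @LocallyOfFinitePresentation) S := hR
  have hjs := (Presieve.mem_comap_jointlySurjectivePrecoverage_iff _).1 hR'.1
  intro t
  obtain ⟨V, g, hg, y, hy⟩ := hjs t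
  obtain ⟨σ, hσ⟩ := hsec g hg
  refine ⟨σ y, ?_⟩
  rw [← Scheme.Hom.comp_apply, hσ]
  exact hy

end torsor

end Groth.Agent.Lib.Helper14.EtTorsB
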