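import Mathlib
import Groth.Prelude.Def_NonAbH2
import Groth.Prelude.Def_ActBC
import Groth.Agent.Lib.Helper14.EtTorsB

set_option autoImplicit false
universe u
open CategoryTheory Limits AlgebraicGeometry MonoidalCategory CartesianMonoidalCategory MonObj GrpObj

namespace Groth.Agent.Lib.Helper14.EtTorsD

/-- a closed subset of a pseudo-torsor under (the base change of) an étale group over a field
which meets the generic fibre has the same image as the whole torsor -/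
theorem exists_mem_closed {k : Type u} [Field k] (G : Over (Spec (CommRingCat.of k))) [GrpObj G]
    [Etale G.hom] {S : Scheme.{u}} [IrreducibleSpace S] (s : S ⟶ Spec (CommRingCat.of k))
    (E : Over S) (a : AlgGrp.Action (Red.bc s G) E) (hps : NonAbH1.IsPseudoTorsorSch a)
    [Flat E.hom] (Z : Set E.left) (hZc : IsClosed Z) (z₀ : E.left) (hz₀ : z₀ ∈ Z)
    (hz₀η : E.hom z₀ = genericPoint S) (e : E.left) : ∃ z ∈ Z, E.hom z = E.hom e := by
  have hiso : IsIso (lift a.act (snd (Red.bc s G) E)) := hps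
  have hisoL : IsIso (lift a.act (snd (Red.bc s G) E)).left :=
    inferInstanceAs (IsIso ((Over.forget S).map (lift a.act (snd (Red.bc s G) E))))
  set Φ : (Red.bc s G ⊗ E).left ⟶ (E ⊗ E).left := (lift a.act (snd (Red.bc s G) E)).left with hΦ
  have hΦsnd : Φ ≫ (snd E E).left = (snd (Red.bc s G) E).left := by
    rw [hΦ, ← Over.comp_left, lift_snd]
  -- generization
  obtain ⟨ξ', hξ'e, hξ'η⟩ := Flat.generalizingMap E.hom (a := e) (b := genericPoint S)
    (genericPoint_specializes _)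
  obtain ⟨w, hw1, hw2⟩ := Scheme.Pullback.exists_preimage_pullback (f := E.hom) (g := E.hom)
    z₀ ξ' (hz₀η.trans hξ'η.symm)
  have hΦsurj : Function.Surjective Φ := by
    intro y
    exact ⟨(inv Φ) y, by rw [← Scheme.Hom.comp_apply, IsIso.inv_hom_id]; rfl⟩
  obtain ⟨y, hy⟩ := hΦsurj w
  let δ : (Red.bc s G ⊗ E).left ⟶ G.left := (fst (Red.bc s G) E).left ≫ pullback.fst G.hom s
  obtain ⟨V, hgV, hVc, hVfin⟩ := EtTorsB.exists_finite_point G.hom (δ y)
  let pr1 : (Red.bc s G ⊗ E).left ⟶ E.left := Φ ≫ (fst E E).left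
  let sn : (Red.bc s G ⊗ E).left ⟶ E.left := (snd (Red.bc s G) E).left
  -- the pullback square
  have sq1 : IsPullback (fst (Red.bc s G) E).left sn (Red.bc s G).hom E.hom :=
    IsPullback.of_hasPullback (Red.bc s G).hom E.hom
  have sq2 : IsPullback (pullback.fst G.hom s) (Red.bc s G).hom G.hom s :=
    IsPullback.of_hasPullback G.hom s
  have sq3 : IsPullback δ sn G.hom (E.hom ≫ s) := sq1.paste_horiz sq2
  have sq4 : IsPullback (δ ∣_ V) (δ ⁻¹ᵁ V).ι V.ι δ := isPullback_morphismRestrict δ V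
  have sq5 : IsPullback (δ ∣_ V) ((δ ⁻¹ᵁ V).ι ≫ sn) (V.ι ≫ G.hom) (E.hom ≫ s) :=
    sq4.paste_vert sq3
  have hfin : IsFinite ((δ ⁻¹ᵁ V).ι ≫ sn) := MorphismProperty.of_isPullback (P := @IsFinite) sq5 hVfin
  have hclosed : IsClosedMap ((δ ⁻¹ᵁ V).ι ≫ sn) := ((δ ⁻¹ᵁ V).ι ≫ sn).isClosedMap
  -- the closed set
  let N : Set (Red.bc s G ⊗ E).left := δ ⁻¹' (V : Set G.left) ∩ pr1 ⁻¹' Z
  have hNc : IsClosed N := (hVc.preimage δ.continuous).inter (hZc.preimage pr1.continuous)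
  have himg : sn '' N = ((δ ⁻¹ᵁ V).ι ≫ sn) '' ((δ ⁻¹ᵁ V).ι ⁻¹' N) := by
    ext t
    constructor
    · rintro ⟨n, hn, rfl⟩
      exact ⟨⟨n, hn.1⟩, hn, rfl⟩
    · rintro ⟨n, hn, rfl⟩
      exact ⟨(δ ⁻¹ᵁ V).ι n, hn, rfl⟩
  have hsnc : IsClosed (sn '' N) := by
    rw [himg]
    exact hclosed _ (hNc.preimage (δ ⁻¹ᵁ V).ι.continuous)
  have hyN : y ∈ N := by
    refine ⟨hgV, ?_⟩
    change (Φ ≫ (fst E E).left) y ∈ Z
    rw [Scheme.Hom.comp_apply, hy]
    change pullback.fst E.hom E.hom w ∈ Z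
    rw [hw1]; exact hz₀
  have hξ'N : ξ' ∈ sn '' N := by
    refine ⟨y, hyN, ?_⟩
    change (snd (Red.bc s G) E).left y = ξ'
    rw [← hΦsnd, Scheme.Hom.comp_apply, hy]
    exact hw2
  obtain ⟨n, hn, hne⟩ := hsnc.stableUnderSpecialization hξ'e hξ'N
  refine ⟨pr1 n, hn.2, ?_⟩
  rw [← hne]
  change (Φ ≫ (fst E E).left ≫ E.hom) n = ((snd (Red.bc s G) E).left ≫ E.hom) n
  rw [← hΦsnd]
  have : (fst E E).left ≫ E.hom = (snd E E).left ≫ E.hom := pullback.condition
  rw [this, Category.assoc]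

end Groth.Agent.Lib.Helper14.EtTorsD
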