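import Mathlib
import Groth.Prelude.Def_NonAbH2
import Groth.Prelude.Def_ActBC
import Groth.Prelude.Def_Pi1
import Groth.Agent.Lib.Helper14.EtTorsA
import Groth.Agent.Lib.Helper14.EtTorsB
import Groth.Agent.Lib.Helper14.EtTorsC
import Groth.Agent.Lib.Helper14.EtTorsD

set_option autoImplicit false
universe u
open CategoryTheory Limits AlgebraicGeometry MonoidalCategory CartesianMonoidalCategory MonObj GrpObj

namespace Groth.Agent.Lib.Helper14.EtTorsE

instance isDominant_generic (S : Scheme.{u}) [IrreducibleSpace S] :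
    IsDominant (S.fromSpecResidueField (genericPoint S)) := by
  constructor
  rw [DenseRange, Scheme.range_fromSpecResidueField, dense_iff_closure_eq]
  exact (genericPoint_spec S).def

theorem main {k : Type u} [Field k] (G : Over (Spec (CommRingCat.of k))) [GrpObj G]
    [Etale G.hom] (S : Scheme.{u}) [IsIntegral S] (hS : Pi1.IsNormalScheme S)
    (s : S ⟶ Spec (CommRingCat.of k)) (E : Over S) (a : AlgGrp.Action (Red.bc s G) E)
    (hE : NonAbH1.IsTorsorFor Scheme.fppfPrecoverage a) :
    IsSeparated E.hom ∧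
    (∀ x : Spec (S.residueField (genericPoint S)) ⟶ E.left,
        x ≫ E.hom = S.fromSpecResidueField (genericPoint S) →
        ∃ σ : S ⟶ E.left, σ ≫ E.hom = 𝟙 S ∧ S.fromSpecResidueField (genericPoint S) ≫ σ = x) := by
  have hGsep : IsSeparated G.hom := EtTorsB.isSeparated_of_etale_field G
  have h1 : Etale (Red.bc s G).hom := inferInstanceAs (Etale (pullback.snd G.hom s))
  have h2 : IsSeparated (Red.bc s G).hom := inferInstanceAs (IsSeparated (pullback.snd G.hom s))
  have het : Etale E.hom := EtTorsB.etale_of_torsor a hE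
  have hsep : IsSeparated E.hom := EtTorsB.isSeparated_of_torsor a hE
  have hsurj := EtTorsB.surjective_of_torsor a hE
  refine ⟨hsep, ?_⟩
  intro x hx
  have hS' : ∀ t : S, CAlg2.IsGeomUnibranch (S.presheaf.stalk t) := by
    intro t
    obtain ⟨hd, hic⟩ := hS t
    exact EtTorsA.isGeomUnibranch_of_normal _
  obtain ⟨Z, x', hZc, hopen, hx'⟩ := EtTorsC.exists_component hS' E.hom x hx
  obtain ⟨pt⟩ : Nonempty ↥(Spec (S.residueField (genericPoint S))) :=
    ⟨IsLocalRing.closedPoint _⟩
  have hz₀ : x pt ∈ (Z : Set E.left) := by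
    rw [← hx', Scheme.Hom.comp_apply]
    exact (x' pt).2
  have hz₀η : E.hom (x pt) = genericPoint S := by
    rw [← Scheme.Hom.comp_apply, hx, Scheme.fromSpecResidueField_apply]
  have hqs : Function.Surjective (Z.ι ≫ E.hom) := by
    intro t
    obtain ⟨e, rfl⟩ := hsurj t
    obtain ⟨z, hz, hze⟩ := EtTorsD.exists_mem_closed G s E a hE.1 (Z : Set E.left) hZc (x pt) hz₀
      hz₀η e
    exact ⟨⟨z, hz⟩, hze⟩
  have hiso : IsIso (Z.ι ≫ E.hom) := EtTorsC.isIso_of_isOpenImmersion_of_surjective _ hqs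
  refine ⟨inv (Z.ι ≫ E.hom) ≫ Z.ι, by rw [Category.assoc, IsIso.inv_hom_id], ?_⟩
  have h3 : x' ≫ (Z.ι ≫ E.hom) = S.fromSpecResidueField (genericPoint S) := by
    rw [← Category.assoc, hx', hx]
  rw [← h3, Category.assoc, IsIso.hom_inv_id_assoc, hx']

end Groth.Agent.Lib.Helper14.EtTorsE
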