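import Groth.Agent.Lib.Helper14.ZarFppf1
import Groth.Agent.Lib.Helper23.EtGlue2
import Groth.Agent.Lib.Helper27.EtZarAcyc2

/-!
# Open coverings are étale coverings: continuity of `zarToEt` (helper14)
-/

set_option autoImplicit false
set_option linter.unusedSectionVars false

universe u

open CategoryTheory CategoryTheory.Limits Opposite AlgebraicGeometry TopologicalSpace

namespace Groth.Agent.Lib.Helper14.EtZarCont

variable (X : Scheme.{u})

instance : (EtFppf.a X).Full :=
  inferInstanceAs ((MorphismProperty.Over.forget EtCoh.etaleMP.{u} ⊤ X).Full)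

instance : (EtFppf.a X).Faithful :=
  inferInstanceAs ((MorphismProperty.Over.forget EtCoh.etaleMP.{u} ⊤ X).Faithful)

instance : PreservesLimitsOfShape WalkingCospan (EtZar.zarToEt X) :=
  preservesLimitsOfShape_of_reflects_of_preserves (EtZar.zarToEt X) (EtFppf.a X)

/-- the whole scheme, as an open subscheme, is terminal among étale `X`-schemes -/
noncomputable def isTerminalZarToEtTop : IsTerminal ((EtZar.zarToEt X).obj ⊤) :=
  IsTerminal.ofUniqueHom (fun T => Groth.Agent.Lib.Helper27.EtZarAcyc.liftHom X T ⊤ le_top)
    (fun _ _ => Subsingleton.elim _ _)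

instance : PreservesLimit (Functor.empty.{0} X.Opens) (EtZar.zarToEt X) :=
  preservesTerminal_of_iso _
    ((IsTerminal.ofIso (isTerminalZarToEtTop X)
      ((EtZar.zarToEt X).mapIso
        (CategoryTheory.Limits.isTerminalTop.uniqueUpToIso terminalIsTerminal))).uniqueUpToIso
      terminalIsTerminal)

instance : PreservesLimitsOfShape (Discrete PEmpty.{1}) (EtZar.zarToEt X) :=
  preservesLimitsOfShape_pempty_of_preservesTerminal _

instance : PreservesFiniteLimits (EtZar.zarToEt X) :=
  preservesFiniteLimits_of_preservesTerminal_and_pullbacks _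

instance : RepresentablyFlat (EtZar.zarToEt X) := flat_of_preservesFiniteLimits _

theorem coverPreserving :
    CoverPreserving (Opens.grothendieckTopology X) X.smallEtaleTopology (EtZar.zarToEt X) where
  cover_preserve {U R} hR := by
    apply Groth.Agent.Lib.Helper23.EtGlue.sieve_mem_of_forall_point
    rintro ⟨x, hx⟩
    rw [Opens.mem_grothendieckTopology] at hR
    obtain ⟨V, f, hf, hxV⟩ := hR x hx
    refine ⟨(EtZar.zarToEt X).obj V, (EtZar.zarToEt X).map f,
      Sieve.image_mem_functorPushforward _ R hf, ⟨⟨x, hxV⟩, ?_⟩⟩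
    apply Subtype.ext
    exact Scheme.homOfLE_apply (X := X) f.le ⟨x, hxV⟩

/-- open coverings are étale coverings -/
instance zarCont : EtZar.ZarCont X :=
  Functor.isContinuous_iff_coverPreserving.2 (coverPreserving X)

end Groth.Agent.Lib.Helper14.EtZarCont
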