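import Groth.Agent.Lib.Helper14.EtZarGa
import Groth.Agent.Lib.Helper6.RDShift

/-!
# The higher direct images to the Zariski site vanish on sheaves acyclic on affine étale schemes
(helper14)
-/

set_option autoImplicit false
set_option linter.unusedSectionVars false

universe u

open CategoryTheory CategoryTheory.Limits Opposite AlgebraicGeometry TopologicalSpace Abelian

namespace Groth.Agent.Lib.Helper14.EtZarRD

open Groth.Agent.Lib.Helper14.EtZarGa Groth.Agent.Lib.Helper27.EtZarAcyc
open Groth.Agent.Lib.Helper6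

variable {X : Scheme.{u}} [EtZar.ZarCont X] [(EtZar.resZar X).Additive]

theorem isZero_rightDerived_succ_of_PE :
    ∀ (q : ℕ) (G : EtCoh.Ab X), PE X G →
      IsZero (((EtZar.resZar X).rightDerived (q + 1)).obj G) := by
  intro q
  induction q with
  | zero =>
    intro G hG
    have hE := ExtAcyc.sesUnder_shortExact G
    obtain ⟨h3, hepi⟩ := PE_step (ExtAcyc.sesUnder G) hE hG inferInstance
    obtain ⟨δ, w₀, w₁, w₂, e₀, e₁, e₂⟩ := RDShift.rightDerived_les (EtZar.resZar X) hE 0
    have hz : IsZero (((EtZar.resZar X).rightDerived (0 + 1)).obj (ExtAcyc.sesUnder G).X₂) :=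
      Functor.isZero_rightDerived_obj_injective_succ _ 0 _
    have hδ : Epi δ := e₂.epi_f (hz.eq_of_tgt _ _)
    have hepi0 : Epi (((EtZar.resZar X).rightDerived 0).map (ExtAcyc.sesUnder G).g) := by
      have nat := (EtZar.resZar X).rightDerivedZeroIsoSelf.hom.naturality (ExtAcyc.sesUnder G).g
      have : ((EtZar.resZar X).rightDerived 0).map (ExtAcyc.sesUnder G).g =
          (EtZar.resZar X).rightDerivedZeroIsoSelf.hom.app _ ≫
            (EtZar.resZar X).map (ExtAcyc.sesUnder G).g ≫
              (EtZar.resZar X).rightDerivedZeroIsoSelf.inv.app _ := by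
        rw [← reassoc_of% nat, Iso.hom_inv_id_app, Category.comp_id]
      rw [this]
      infer_instance
    have hδ0 : δ = 0 := by
      rw [← cancel_epi (((EtZar.resZar X).rightDerived 0).map (ExtAcyc.sesUnder G).g), w₁,
        comp_zero]
    have : IsZero (((EtZar.resZar X).rightDerived (0 + 1)).obj (ExtAcyc.sesUnder G).X₁) := by
      rw [IsZero.iff_id_eq_zero, ← cancel_epi δ, hδ0, zero_comp, zero_comp]
    exact this
  | succ q ih =>
    intro G hG
    have hE := ExtAcyc.sesUnder_shortExact G
    obtain ⟨h3, hepi⟩ := PE_step (ExtAcyc.sesUnder G) hE hG inferInstance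
    obtain ⟨δ, w₀, w₁, w₂, e₀, e₁, e₂⟩ := RDShift.rightDerived_les (EtZar.resZar X) hE (q + 1)
    have hz : IsZero (((EtZar.resZar X).rightDerived (q + 1 + 1)).obj (ExtAcyc.sesUnder G).X₂) :=
      Functor.isZero_rightDerived_obj_injective_succ _ (q + 1) _
    have hδ : Epi δ := e₂.epi_f (hz.eq_of_tgt _ _)
    have hQ := ih _ h3
    have hδ0 : δ = 0 := hQ.eq_of_src _ _
    have : IsZero (((EtZar.resZar X).rightDerived (q + 1 + 1)).obj (ExtAcyc.sesUnder G).X₁) := by
      rw [IsZero.iff_id_eq_zero, ← cancel_epi δ, hδ0, zero_comp, zero_comp]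
    exact this

end Groth.Agent.Lib.Helper14.EtZarRD
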