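import Mathlib

set_option autoImplicit false

namespace Groth.Agent.Lib.Helper14.EtaleFibre

open TensorProduct CategoryTheory Limits AlgebraicGeometry

universe u

attribute [local instance] Algebra.TensorProduct.rightAlgebra in
/-- a finite type algebra with formally unramified fibres is formally unramified -/
theorem formallyUnramified_of_fibres {R S : Type*} [CommRing R] [CommRing S] [Algebra R S]
    [Algebra.FiniteType R S]
    (H : ∀ (p : Ideal R) [p.IsPrime], Algebra.FormallyUnramified p.ResidueField (p.Fiber S)) :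
    Algebra.FormallyUnramified R S := by
  rw [Algebra.formallyUnramified_iff]
  have hΩfin : Module.Finite S Ω[S⁄R] := inferInstance
  rw [← Module.support_eq_empty_iff (R := S), Set.eq_empty_iff_forall_notMem]
  intro q hq
  rw [Module.mem_support_iff_nontrivial_residueField_tensorProduct] at hq
  let p : Ideal R := q.asIdeal.comap (algebraMap R S)
  have hp : p.IsPrime := Ideal.comap_isPrime _ _
  let ι : p.ResidueField →+* q.asIdeal.ResidueField :=
    Ideal.ResidueField.map p q.asIdeal (algebraMap R S) rfl
  have h1 := (Algebra.formallyUnramified_iff _ _).mp (H p)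
  let e := KaehlerDifferential.tensorKaehlerEquivBase R p.ResidueField S (p.Fiber S)
  have h0 : Subsingleton (p.ResidueField ⊗[R] Ω[S⁄R]) := e.toEquiv.subsingleton
  have hι : ∀ r : R, ι (algebraMap R p.ResidueField r) = algebraMap R q.asIdeal.ResidueField r := by
    intro r
    rw [Ideal.ResidueField.map_algebraMap]
    rw [← IsScalarTower.algebraMap_apply]
  let g : p.ResidueField ⊗[R] Ω[S⁄R] →ₗ[R] q.asIdeal.ResidueField ⊗[S] Ω[S⁄R] :=
    TensorProduct.lift (LinearMap.mk₂ R (fun c m => ι c ⊗ₜ[S] m)
      (fun c1 c2 m => by rw [map_add, TensorProduct.add_tmul])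
      (fun r c m => by
        rw [Algebra.smul_def, map_mul, hι, ← Algebra.smul_def, TensorProduct.smul_tmul'])
      (fun c m1 m2 => by rw [TensorProduct.tmul_add])
      (fun r c m => by rw [TensorProduct.tmul_smul]))
  have hone : ∀ m : Ω[S⁄R], (1 : q.asIdeal.ResidueField) ⊗ₜ[S] m = 0 := by
    intro m
    have h2 : g ((1 : p.ResidueField) ⊗ₜ[R] m) = (1 : q.asIdeal.ResidueField) ⊗ₜ[S] m := by
      simp [g]
    rw [← h2, Subsingleton.elim ((1 : p.ResidueField) ⊗ₜ[R] m) 0, map_zero]
  have hsub : Subsingleton (q.asIdeal.ResidueField ⊗[S] Ω[S⁄R]) := by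
    refine ⟨fun a b => ?_⟩
    have hz : ∀ a : q.asIdeal.ResidueField ⊗[S] Ω[S⁄R], a = 0 := by
      intro a
      induction a using TensorProduct.induction_on with
      | zero => rfl
      | tmul c m =>
        have : c ⊗ₜ[S] m = c • ((1 : q.asIdeal.ResidueField) ⊗ₜ[S] m) := by
          rw [TensorProduct.smul_tmul', smul_eq_mul, mul_one]
        rw [this, hone, smul_zero]
      | add x y hx hy => rw [hx, hy, add_zero]
    rw [hz a, hz b]
  exact not_subsingleton _ hsub

/-- a flat finitely presented algebra with étale fibres is étale -/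
theorem etale_of_fibres {R S : Type*} [CommRing R] [CommRing S] [Algebra R S]
    [Algebra.FinitePresentation R S] [Module.Flat R S]
    (H : ∀ (p : Ideal R) [p.IsPrime], Algebra.Etale p.ResidueField (p.Fiber S)) :
    Algebra.Etale R S := by
  have : Algebra.FormallyUnramified R S :=
    formallyUnramified_of_fibres (fun p _ => by have := H p; infer_instance)
  exact Algebra.Etale.of_formallyUnramified_of_flat

variable {X Y : Scheme.{u}} (f : X ⟶ Y)

set_option backward.isDefEq.respectTransparency false in
/-- If `f : X ⟶ Y` is locally of finite presentation, flat and has étale fibers, then `f` is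
étale. -/
lemma etale_of_etale_fiberToSpecResidueField [LocallyOfFinitePresentation f] [Flat f]
    (h : ∀ y, Etale (f.fiberToSpecResidueField y)) :
    Etale f := by
  have hlocT : IsZariskiLocalAtTarget @Etale.{u} :=
    HasRingHomProperty.instIsZariskiLocalAtTarget (P := @Etale.{u})
  wlog h : ∃ R, Y = Spec R
  · rw [IsZariskiLocalAtTarget.iff_of_openCover (P := @Etale) Y.affineCover]
    intro i
    dsimp [Scheme.Cover.pullbackHom]
    refine this _ (fun y ↦ ?_) hlocT ⟨_, rfl⟩
    apply MorphismProperty.of_isPullback
    · exact isPullback_fiberToSpecResidueField_of_isPullback (IsPullback.of_hasPullback _ _) _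
    · infer_instance
  obtain ⟨R, rfl⟩ := h
  wlog h : ∃ S, X = Spec S generalizing f X
  · rw [IsZariskiLocalAtSource.iff_of_openCover (P := @Etale) X.affineCover]
    intro i
    have _ (y) : Etale (pullback.snd f ((Spec R).fromSpecResidueField y)) :=
      inferInstanceAs <| Etale (f.fiberToSpecResidueField y)
    refine this _ (fun y ↦ ?_) ⟨_, rfl⟩
    rw [Scheme.Hom.fiberToSpecResidueField, ← pullbackRightPullbackFstIso_inv_snd_snd]
    infer_instance
  obtain ⟨S, rfl⟩ := h
  obtain ⟨φ, rfl⟩ := Spec.map_surjective f
  simp only [HasRingHomProperty.Spec_iff] at *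
  algebraize [φ.hom]
  have hφ : φ.hom = algebraMap R S := rfl
  rw [hφ, RingHom.etale_algebraMap]
  refine etale_of_fibres fun p hp ↦ ?_
  rw [← RingHom.etale_algebraMap]
  rw [← CommRingCat.hom_ofHom (algebraMap p.ResidueField (p.Fiber ↑S)),
    ← HasRingHomProperty.Spec_iff (P := @Etale), ← MorphismProperty.arrow_mk_iso_iff (P := @Etale)
    (Spec.fiberToSpecResidueFieldIso R S ⟨p, hp⟩)]
  exact h ⟨p, hp⟩

end Groth.Agent.Lib.Helper14.EtaleFibre
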