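import Mathlib.Algebra.Homology.DerivedCategory.Ext.ExactSequences
import Mathlib.Algebra.Homology.DerivedCategory.Ext.EnoughInjectives
import Mathlib.Algebra.Category.Grp.Zero
import Groth.Prelude.Def_DeltaF
import Groth.Agent.S6773

/-!
# `Ext(A, -)` as a universal cohomological delta-functor (helper14)
-/

universe w v u

set_option linter.unusedSectionVars false

open CategoryTheory Limits Abelian

namespace Groth.Agent.Lib.Helper14.ExtDelta

variable {𝒜 : Type u} [Category.{v} 𝒜] [Abelian 𝒜] [HasExt.{w} 𝒜] (A : 𝒜)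

instance (n : ℕ) : (extFunctorObj.{w} A n).Additive where
  map_add {F G f g} := by
    ext x
    have key : ∀ y : Ext A F n, y.comp (Ext.mk₀ (f + g)) (add_zero n) =
        y.comp (Ext.mk₀ f) (add_zero n) + y.comp (Ext.mk₀ g) (add_zero n) := fun y => by
      rw [Ext.mk₀_add, Ext.comp_add]
    exact key x

/-- the connecting morphism -/
noncomputable def δE (S : ShortComplex 𝒜) (hS : S.ShortExact) (n₀ n₁ : ℕ) (h : n₀ + 1 = n₁) :
    (extFunctorObj.{w} A n₀).obj S.X₃ ⟶ (extFunctorObj.{w} A n₁).obj S.X₁ :=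
  AddCommGrpCat.ofHom (hS.extClass.postcomp A h)

lemma δE_natural {S S' : ShortComplex 𝒜} (hS : S.ShortExact) (hS' : S'.ShortExact) (φ : S ⟶ S')
    (n₀ n₁ : ℕ) (h : n₀ + 1 = n₁) :
    (extFunctorObj.{w} A n₀).map φ.τ₃ ≫ δE A S' hS' n₀ n₁ h =
      δE A S hS n₀ n₁ h ≫ (extFunctorObj.{w} A n₁).map φ.τ₁ := by
  subst h
  ext x
  have key : ∀ y : Ext A S.X₃ n₀,
      (y.comp (Ext.mk₀ φ.τ₃) (add_zero n₀)).comp hS'.extClass rfl =
      (y.comp hS.extClass rfl).comp (Ext.mk₀ φ.τ₁) (add_zero (n₀ + 1)) := fun y => by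
    rw [Ext.comp_assoc_of_second_deg_zero, Ext.comp_assoc_of_third_deg_zero,
      ShortComplex.ShortExact.extClass_naturality hS hS' φ]
  exact key x

lemma comp_δE (S : ShortComplex 𝒜) (hS : S.ShortExact) (n₀ n₁ : ℕ) (h : n₀ + 1 = n₁) :
    (extFunctorObj.{w} A n₀).map S.g ≫ δE A S hS n₀ n₁ h = 0 := by
  ext x
  have key : ∀ y : Ext A S.X₂ n₀, (y.comp (Ext.mk₀ S.g) (add_zero n₀)).comp hS.extClass h = 0 :=
    fun y => by
      rw [Ext.comp_assoc_of_second_deg_zero, ShortComplex.ShortExact.comp_extClass, Ext.comp_zero]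
  exact key x

lemma δE_comp (S : ShortComplex 𝒜) (hS : S.ShortExact) (n₀ n₁ : ℕ) (h : n₀ + 1 = n₁) :
    δE A S hS n₀ n₁ h ≫ (extFunctorObj.{w} A n₁).map S.f = 0 := by
  ext x
  have key : ∀ y : Ext A S.X₃ n₀, (y.comp hS.extClass h).comp (Ext.mk₀ S.f) (add_zero n₁) = 0 :=
    fun y => by
      rw [Ext.comp_assoc_of_third_deg_zero, ShortComplex.ShortExact.extClass_comp, Ext.comp_zero]
  exact key x

/-- `Ext(A, -)` as a cohomological delta-functor -/
noncomputable def extDelta : DeltaF.CohDeltaFunctor 𝒜 AddCommGrpCat.{w} ℕ where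
  F n := extFunctorObj.{w} A n
  additive n := inferInstance
  δ S hS n₀ n₁ h := δE A S hS n₀ n₁ h
  δ_natural {S S'} hS hS' φ n₀ n₁ h := δE_natural A hS hS' φ n₀ n₁ h
  exact₂ S hS n := Ext.covariant_sequence_exact₂' A hS n
  comp_δ S hS n₀ n₁ h := comp_δE A S hS n₀ n₁ h
  exact₃ S hS n₀ n₁ h := Ext.covariant_sequence_exact₃' A hS n₀ n₁ h
  δ_comp S hS n₀ n₁ h := δE_comp A S hS n₀ n₁ h
  exact₁ S hS n₀ n₁ h := Ext.covariant_sequence_exact₁' A hS n₀ n₁ h

lemma extDelta_F_obj (n : ℕ) (G : 𝒜) :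
    ((extDelta.{w} A).F n).obj G = AddCommGrpCat.of (Ext.{w} A G n) := rfl

lemma extDelta_isEffaceable [EnoughInjectives 𝒜] : (extDelta.{w} A).IsEffaceable := by
  intro n X
  refine ⟨Injective.under X, Injective.ι X, inferInstance, ?_⟩
  have hz : IsZero ((extFunctorObj.{w} A (n + 1)).obj (Injective.under X)) := by
    have : Subsingleton (Ext.{w} A (Injective.under X) (n + 1)) :=
      subsingleton_of_forall_eq 0 (fun x => Ext.eq_zero_of_injective x)
    exact AddCommGrpCat.isZero_of_subsingleton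
      (AddCommGrpCat.of (Ext.{w} A (Injective.under X) (n + 1)))
  exact hz.eq_of_tgt _ _

lemma extDelta_isUniversal [EnoughInjectives 𝒜] : (extDelta.{w} A).IsUniversal :=
  Groth.Agent.S6773.result _ (extDelta_isEffaceable A)

end Groth.Agent.Lib.Helper14.ExtDelta
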