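import Mathlib.Algebra.Homology.SpectralSequence.Basic
import Mathlib.Algebra.Homology.HomologicalComplexAbelian
import Groth.Prelude.Def_SpSeq
import Mathlib.Order.Interval.Finset.Defs
import Mathlib.Order.Interval.Set.Basic
import Mathlib.Data.Set.Finite.Basic
import Mathlib.Order.Interval.Finset.Basic
import Mathlib.Data.Int.Interval

/-!
# A spectral sequence from retraction data (helper14)

Given objects `A p q`, `B q` (`p q : ℕ`) of an abelian category with split monomorphisms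
`B q ⟶ A 0 q` and `A p q ⟶ A (p+1) q`, we build for each `q` an exact augmented complex
`0 → B q → A 0 q → A 1 q → ⋯` (the differentials are built from the retractions), and from it a
spectral sequence starting at page one, degenerating at page two, with abutment `B`.
-/

universe v u
set_option linter.unusedSectionVars false
open CategoryTheory CategoryTheory.Limits

namespace Groth.Agent.Lib.Helper14.FakeSS


section Retr

variable {C : Type u} [Category.{v} C] [Preadditive C]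
variable {A : ℕ → C} {B : C} (j : B ⟶ A 0) (ρ : A 0 ⟶ B) (i : ∀ n, A n ⟶ A (n + 1))
  (r : ∀ n, A (n + 1) ⟶ A n)

/-- the idempotents -/
def π : ∀ n, A n ⟶ A n
  | 0 => ρ ≫ j
  | n + 1 => r n ≫ (𝟙 _ - π n) ≫ i n

/-- the differential -/
def dR (n : ℕ) : A n ⟶ A (n + 1) := (𝟙 _ - π j ρ i r n) ≫ i n

/-- the homotopy -/
def hR (n : ℕ) : A (n + 1) ⟶ A n := r n ≫ (𝟙 _ - π j ρ i r n)

variable (hj : j ≫ ρ = 𝟙 B) (hi : ∀ n, i n ≫ r n = 𝟙 (A n))
include hj hi

lemma π_idem (n : ℕ) : π j ρ i r n ≫ π j ρ i r n = π j ρ i r n := by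
  induction n with
  | zero =>
    simp only [π, Category.assoc]
    rw [reassoc_of% hj]
  | succ n ih =>
    simp only [π, Category.assoc]
    rw [reassoc_of% (hi n)]
    have : (𝟙 (A n) - π j ρ i r n) ≫ (𝟙 (A n) - π j ρ i r n) = 𝟙 (A n) - π j ρ i r n := by
      simp [Preadditive.sub_comp, Preadditive.comp_sub, ih]
    rw [reassoc_of% this]

lemma one_sub_π_idem (n : ℕ) :
    (𝟙 (A n) - π j ρ i r n) ≫ (𝟙 (A n) - π j ρ i r n) = 𝟙 (A n) - π j ρ i r n := by
  simp [Preadditive.sub_comp, Preadditive.comp_sub, π_idem j ρ i r hj hi n]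

lemma dR_comp_π (n : ℕ) : dR j ρ i r n ≫ π j ρ i r (n + 1) = dR j ρ i r n := by
  simp only [dR, π, Category.assoc]
  rw [reassoc_of% (hi n), reassoc_of% (one_sub_π_idem j ρ i r hj hi n)]

lemma dR_comp_dR (n : ℕ) : dR j ρ i r n ≫ dR j ρ i r (n + 1) = 0 := by
  have h := dR_comp_π j ρ i r hj hi n
  have : dR j ρ i r (n + 1) = (𝟙 _ - π j ρ i r (n + 1)) ≫ i (n + 1) := rfl
  rw [this, ← Category.assoc, Preadditive.comp_sub, Category.comp_id, h, sub_self, zero_comp]

lemma hR_comp_dR (n : ℕ) : hR j ρ i r n ≫ dR j ρ i r n = π j ρ i r (n + 1) := by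
  simp only [hR, dR, π, Category.assoc]
  rw [reassoc_of% (one_sub_π_idem j ρ i r hj hi n)]

lemma dR_comp_hR (n : ℕ) : dR j ρ i r n ≫ hR j ρ i r n = 𝟙 _ - π j ρ i r n := by
  simp only [hR, dR, Category.assoc]
  rw [reassoc_of% (hi n), one_sub_π_idem j ρ i r hj hi n]

lemma homotopy_succ (n : ℕ) :
    hR j ρ i r n ≫ dR j ρ i r n + dR j ρ i r (n + 1) ≫ hR j ρ i r (n + 1) = 𝟙 _ := by
  rw [hR_comp_dR j ρ i r hj hi, dR_comp_hR j ρ i r hj hi]
  simp

lemma j_comp_dR : j ≫ dR j ρ i r 0 = 0 := by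
  simp only [dR, π]
  rw [← Category.assoc, Preadditive.comp_sub, Category.comp_id, reassoc_of% hj, sub_self,
    zero_comp]

lemma eq_of_comp_dR_zero {T : C} (x : T ⟶ A 0) (hx : x ≫ dR j ρ i r 0 = 0) :
    x = (x ≫ ρ) ≫ j := by
  have h := dR_comp_hR j ρ i r hj hi 0
  have h2 : x ≫ (𝟙 _ - π j ρ i r 0) = 0 := by
    rw [← h, reassoc_of% hx, zero_comp]
  rw [Preadditive.comp_sub, Category.comp_id, sub_eq_zero] at h2
  rw [Category.assoc]
  exact h2

end Retr



section Cx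

variable {C : Type u} [Category.{v} C] [HasZeroMorphisms C]

/-- complex of shape `up' v` from successive differentials -/
def ofUp' {α : Type*} [DecidableEq α] [Add α] [IsRightCancelAdd α] (v : α) (X : α → C)
    (d : ∀ a, X a ⟶ X (a + v)) (sq : ∀ a, d a ≫ d (a + v) = 0) :
    HomologicalComplex C (ComplexShape.up' v) where
  X := X
  d a b := if h : a + v = b then d a ≫ eqToHom (by rw [h]) else 0
  shape a b h := dif_neg h
  d_comp_d' a b c hab hbc := by
    have hab' : a + v = b := hab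
    have hbc' : b + v = c := hbc
    subst hab' hbc'
    simp [sq]

lemma ofUp'_d {α : Type*} [DecidableEq α] [Add α] [IsRightCancelAdd α] (v : α) (X : α → C)
    (d : ∀ a, X a ⟶ X (a + v)) (sq : ∀ a, d a ≫ d (a + v) = 0) (a : α) :
    (ofUp' v X d sq).d a (a + v) = d a := by
  simp [ofUp']

variable (A : ℕ → ℕ → C) (Z : C)

/-- extension by `Z` -/
def A' : ℤ → ℤ → C
  | .ofNat n, .ofNat m => A n m
  | .ofNat _, .negSucc _ => Z
  | .negSucc _, _ => Z

lemma A'_eq (p q : ℤ) : A' A Z p q = if 0 ≤ p ∧ 0 ≤ q then A p.toNat q.toNat else Z := by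
  cases p with
  | ofNat n =>
    cases q with
    | ofNat m => simp [A']
    | negSucc m => simp [A']
  | negSucc n => simp [A']

lemma A'_isZero (hZ : IsZero Z) (p q : ℤ) (h : p < 0 ∨ q < 0) : IsZero (A' A Z p q) := by
  rw [A'_eq, if_neg (by omega)]
  exact hZ

variable (d : ∀ n m, A n m ⟶ A (n + 1) m)

/-- extension by `0` -/
def d' : ∀ p q : ℤ, A' A Z p q ⟶ A' A Z (p + 1) (q + (1 - 1))
  | .ofNat n, .ofNat m => d n m
  | .ofNat _, .negSucc _ => 0
  | .negSucc _, _ => 0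

variable (sq : ∀ n m, d n m ≫ d (n + 1) m = 0)

include sq in
lemma d'_sq (p q : ℤ) : d' A Z d p q ≫ d' A Z d (p + 1) (q + (1 - 1)) = 0 := by
  cases p with
  | ofNat n =>
    cases q with
    | ofNat m => exact sq n m
    | negSucc m => exact zero_comp
  | negSucc n => exact zero_comp

/-- the first page -/
def K : HomologicalComplex C (ComplexShape.up' ((1, 1 - 1) : ℤ × ℤ)) :=
  ofUp' ((1, 1 - 1) : ℤ × ℤ) (fun a => A' A Z a.1 a.2) (fun a => d' A Z d a.1 a.2)
    (fun a => d'_sq A Z d sq a.1 a.2)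

lemma K_X (p q : ℤ) : (K A Z d sq).X (p, q) = A' A Z p q := rfl

lemma K_d (n m : ℕ) :
    (K A Z d sq).d (Int.ofNat n, Int.ofNat m) (Int.ofNat (n + 1), Int.ofNat m) = d n m :=
  ofUp'_d ((1, 1 - 1) : ℤ × ℤ) (fun a => A' A Z a.1 a.2) (fun a => d' A Z d a.1 a.2)
    (fun a => d'_sq A Z d sq a.1 a.2) (Int.ofNat n, Int.ofNat m)

end Cx

section Hom

variable {C : Type u} [Category.{v} C] [Abelian C]

lemma exact_of_homotopy (S : ShortComplex C) (h₁ : S.X₂ ⟶ S.X₁) (h₂ : S.X₃ ⟶ S.X₂)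
    (h : h₁ ≫ S.f + S.g ≫ h₂ = 𝟙 _) : S.Exact := by
  rw [S.exact_iff_kernel_ι_comp_cokernel_π_zero]
  have : kernel.ι S.g ≫ 𝟙 _ ≫ cokernel.π S.f = 0 := by
    rw [← h]
    simp
  simpa using this

lemma prev_eq (p q : ℤ) :
    (ComplexShape.up' ((1, 1 - 1) : ℤ × ℤ)).prev (p + 1, q) = (p, q) :=
  (ComplexShape.up' ((1, 1 - 1) : ℤ × ℤ)).prev_eq' (by
    show (p, q) + ((1, 1 - 1) : ℤ × ℤ) = (p + 1, q)
    ext <;> simp)

lemma next_eq (p q : ℤ) :
    (ComplexShape.up' ((1, 1 - 1) : ℤ × ℤ)).next (p, q) = (p + 1, q) :=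
  (ComplexShape.up' ((1, 1 - 1) : ℤ × ℤ)).next_eq' (by
    show (p, q) + ((1, 1 - 1) : ℤ × ℤ) = (p + 1, q)
    ext <;> simp)

variable (A : ℕ → ℕ → C) (Z : C) (hZ : IsZero Z) (d : ∀ n m, A n m ⟶ A (n + 1) m)
  (sq : ∀ n m, d n m ≫ d (n + 1) m = 0)

include hZ in
lemma K_homology_isZero_of_neg (p q : ℤ) (h : p < 0 ∨ q < 0) :
    IsZero ((K A Z d sq).homology (p, q)) :=
  (HomologicalComplex.ExactAt.of_isZero (A'_isZero A Z hZ p q h)).isZero_homology

lemma K_homology_isZero_succ (n m : ℕ) (h : ∀ n m, A (n + 1) m ⟶ A n m)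
    (hh : ∀ n m, h n m ≫ d n m + d (n + 1) m ≫ h (n + 1) m = 𝟙 _) :
    IsZero ((K A Z d sq).homology (Int.ofNat (n + 1), Int.ofNat m)) := by
  rw [← HomologicalComplex.exactAt_iff_isZero_homology,
    (K A Z d sq).exactAt_iff' (Int.ofNat n, Int.ofNat m) (Int.ofNat (n + 1), Int.ofNat m)
      (Int.ofNat (n + 2), Int.ofNat m) (prev_eq (Int.ofNat n) (Int.ofNat m))
      (next_eq (Int.ofNat (n + 1)) (Int.ofNat m))]
  refine exact_of_homotopy _ (h n m) (h (n + 1) m) ?_
  have e1 := K_d A Z d sq n m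
  have e2 := K_d A Z d sq (n + 1) m
  refine Eq.trans ?_ (hh n m)
  exact congrArg₂ (· + ·) (congrArg (h n m ≫ ·) e1) (congrArg (· ≫ h (n + 1) m) e2)

include hZ in
lemma K_homology_zero (m : ℕ) (B : C) (j : B ⟶ A 0 m) (ρ : A 0 m ⟶ B) (hjρ : j ≫ ρ = 𝟙 B)
    (hj : j ≫ d 0 m = 0)
    (hfac : ∀ {T : C} (x : T ⟶ A 0 m), x ≫ d 0 m = 0 → x = (x ≫ ρ) ≫ j) :
    Nonempty ((K A Z d sq).homology (Int.ofNat 0, Int.ofNat m) ≅ B) := by
  have e := (K A Z d sq).homologyIsoSc' (Int.negSucc 0, Int.ofNat m) (Int.ofNat 0, Int.ofNat m)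
      (Int.ofNat 1, Int.ofNat m) (prev_eq (Int.negSucc 0) (Int.ofNat m))
      (next_eq (Int.ofNat 0) (Int.ofNat m))
  have e1 := K_d A Z d sq 0 m
  set S := (K A Z d sq).sc' (Int.negSucc 0, Int.ofNat m) (Int.ofNat 0, Int.ofNat m)
      (Int.ofNat 1, Int.ofNat m) with hS
  have hf : S.f = 0 := (A'_isZero A Z hZ (Int.negSucc 0) (Int.ofNat m) (Or.inl (by decide))).eq_of_src _ _
  have hg : S.g = d 0 m := e1
  have hj' : j ≫ S.g = 0 := by rw [hg]; exact hj
  have hlim : IsLimit (KernelFork.ofι (f := S.g) j hj') :=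
    KernelFork.IsLimit.ofι _ _ (fun x _ => x ≫ ρ)
      (fun x hx => (hfac x (by rw [← hg]; exact hx)).symm)
      (fun x hx y hy => by
        have h1 : (y ≫ j) ≫ ρ = y := by rw [Category.assoc, hjρ, Category.comp_id]
        exact h1.symm.trans (congrArg (· ≫ ρ) hy))
  exact ⟨e ≪≫ (ShortComplex.LeftHomologyData.ofIsLimitKernelFork S hf _ hlim).homologyIso⟩

end Hom



section SS

variable {C : Type u} [Category.{v} C] [Abelian C]
variable (K : HomologicalComplex C (ComplexShape.up' ((1, 1 - 1) : ℤ × ℤ)))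

/-- the homology of `K` with zero differentials -/
noncomputable def zeroCx (r : ℤ) : HomologicalComplex C (ComplexShape.up' ((r, 1 - r) : ℤ × ℤ)) where
  X pq := K.homology pq
  d _ _ := 0
  shape _ _ _ := rfl
  d_comp_d' _ _ _ _ _ := zero_comp

/-- the pages -/
noncomputable def page (r : ℤ) : HomologicalComplex C (ComplexShape.up' ((r, 1 - r) : ℤ × ℤ)) :=
  if h : r = 1 then (by subst h; exact K) else zeroCx K r

lemma page_one : page K 1 = K := by simp [page]

lemma page_ne (r : ℤ) (h : r ≠ 1) : page K r = zeroCx K r := dif_neg h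

lemma page_d_eq_zero (r : ℤ) (h : r ≠ 1) (x y : ℤ × ℤ) : (page K r).d x y = 0 := by
  rw [page_ne K r h]; rfl

lemma page_X (r : ℤ) (h : r ≠ 1) (x : ℤ × ℤ) : (page K r).X x = K.homology x := by
  rw [page_ne K r h]; rfl

/-- homology of a complex with zero differentials -/
noncomputable def zeroCxHomologyIso (r : ℤ) (pq : ℤ × ℤ) :
    (zeroCx K r).homology pq ≅ K.homology pq :=
  (ShortComplex.HomologyData.ofZeros ((zeroCx K r).sc pq) rfl rfl).left.homologyIso

/-- the page isomorphisms -/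
noncomputable def pageIso (r r' : ℤ) (pq : ℤ × ℤ) (hrr' : r + 1 = r') (hr : 1 ≤ r) :
    (page K r).homology pq ≅ (page K r').X pq :=
  if h : r = 1 then
    eqToIso (by
      subst h hrr'
      rw [page_one, page_X K (1 + 1) (by norm_num)])
  else
    eqToIso (by rw [page_ne K r h]) ≪≫ zeroCxHomologyIso K r pq ≪≫
      eqToIso (page_X K r' (by omega) pq).symm

/-- the spectral sequence -/
noncomputable def E : CohomologicalSpectralSequence C 1 where
  page r _ := page K r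
  iso r r' pq hrr' hr := pageIso K r r' pq hrr' hr

lemma E_page_one : (E K).page 1 le_rfl = K := page_one K

variable (H : ℤ → C)

/-- the filtration concentrated in degree `0` -/
noncomputable def fil (n : ℤ) (p : ℤ) : Subobject (H n) := if p ≤ 0 then ⊤ else ⊥

lemma fil_anti (n : ℤ) : Antitone (fil H n) := by
  intro p q hpq
  unfold fil
  split_ifs with h1 h2
  · exact le_rfl
  · omega
  · exact bot_le
  · exact le_rfl

lemma isZero_grPiece_of_eq {X : C} (F : ℤ → Subobject X) (hF : Antitone F) (p : ℤ)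
    (h : F (p + 1) = F p) : IsZero (SpSeq.grPiece F hF p) := by
  have hle : F (p + 1) ≤ F p := hF (Int.le_add_one le_rfl)
  have : IsSplitEpi ((F (p + 1)).ofLE (F p) hle) :=
    IsSplitEpi.mk' ⟨(F p).ofLE (F (p + 1)) h.ge, by
      rw [Subobject.ofLE_comp_ofLE, Subobject.ofLE_refl]⟩
  exact isZero_cokernel_of_epi _

lemma nonempty_iso_grPiece {X : C} (F : ℤ → Subobject X) (hF : Antitone F) (p₀ : ℤ)
    (h1 : F p₀ = ⊤) (h2 : F (p₀ + 1) = ⊥) : Nonempty (X ≅ SpSeq.grPiece F hF p₀) := by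
  have hle : F (p₀ + 1) ≤ F p₀ := hF (Int.le_add_one le_rfl)
  have hz : IsZero ((F (p₀ + 1) : Subobject X) : C) := by
    rw [h2]
    exact IsZero.of_iso (isZero_zero C) Subobject.botCoeIsoZero
  have h0 : (F (p₀ + 1)).ofLE (F p₀) hle = 0 := hz.eq_of_src _ _
  have : IsIso (F p₀).arrow := (Subobject.isIso_arrow_iff_eq_top _).2 h1
  have e1 : X ≅ ((F p₀ : Subobject X) : C) := (asIso (F p₀).arrow).symm
  have e2 : ((F p₀ : Subobject X) : C) ≅ cokernel ((F (p₀ + 1)).ofLE (F p₀) hle) :=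
    (cokernelZeroIsoTarget (X := ((F (p₀ + 1) : Subobject X) : C))).symm ≪≫
      (cokernelIsoOfEq h0).symm
  exact ⟨e1 ≪≫ e2⟩

lemma stat (pq : ℤ × ℤ) : SpSeq.StationaryAt (E K) pq 2 :=
  ⟨by norm_num, fun r' _ hr' =>
    ⟨page_d_eq_zero K r' (by omega) _ _, page_d_eq_zero K r' (by omega) _ _⟩⟩

variable (h0 : ∀ q : ℤ, Nonempty (K.homology (0, q) ≅ H q))
  (hz : ∀ p q : ℤ, p ≠ 0 → IsZero (K.homology (p, q)))

include h0 hz in
lemma nonempty_β (pq : ℤ × ℤ) :
    Nonempty (((E K).page 2 (by norm_num)).X pq ≅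
      SpSeq.grPiece (fil H (pq.1 + pq.2)) (fil_anti H (pq.1 + pq.2)) pq.1) := by
  obtain ⟨p, q⟩ := pq
  have e0 : ((E K).page 2 (by norm_num)).X (p, q) ≅ K.homology (p, q) :=
    eqToIso (page_X K 2 (by norm_num) (p, q))
  by_cases hp : p = 0
  · subst hp
    obtain ⟨e1⟩ := h0 q
    have e2 : H q ≅ H (0 + q) := eqToIso (by rw [zero_add])
    obtain ⟨e3⟩ := nonempty_iso_grPiece (fil H (0 + q)) (fil_anti H (0 + q)) 0
      (by simp [fil]) (by simp [fil])
    exact ⟨e0 ≪≫ e1 ≪≫ e2 ≪≫ e3⟩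
  · refine ⟨e0 ≪≫ (hz p q hp).iso ?_⟩
    apply isZero_grPiece_of_eq
    simp only [fil]
    by_cases hp' : p < 0
    · rw [if_pos (by omega), if_pos (by omega)]
    · rw [if_neg (by omega), if_neg (by omega)]

/-- the abutment -/
noncomputable def abutment : SpSeq.Abutment (E K) H where
  fil n := fil H n
  anti n := fil_anti H n
  rk _ := 2
  stat := stat K
  β pq := (nonempty_β K H h0 hz pq).some

lemma abutment_isFinite (n : ℤ) : (abutment K H h0 hz).IsFinite n :=
  ⟨⟨0, show fil H n 0 = ⊤ by simp [fil]⟩, ⟨1, show fil H n 1 = ⊥ by simp [fil]⟩⟩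

include h0 hz in
theorem exists_ss :
    ∃ (E' : CohomologicalSpectralSequence C 1) (a : SpSeq.Abutment E' H),
      (∀ n, a.IsFinite n) ∧ E'.page 1 le_rfl = K :=
  ⟨E K, abutment K H h0 hz, abutment_isFinite K H h0 hz, E_page_one K⟩

end SS


section Main

variable {C : Type u} [Category.{v} C] [Abelian C]

theorem main (A : ℕ → ℕ → C) (B : ℕ → C) (Z : C) (hZ : IsZero Z)
    (hB : ∀ q, ∃ (j : B q ⟶ A 0 q) (ρ : A 0 q ⟶ B q), j ≫ ρ = 𝟙 _)
    (hA : ∀ p q, ∃ (i : A p q ⟶ A (p + 1) q) (r : A (p + 1) q ⟶ A p q), i ≫ r = 𝟙 _) :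
    ∃ (E : CohomologicalSpectralSequence C 1)
      (a : SpSeq.Abutment E (fun n : ℤ => if 0 ≤ n then B n.toNat else Z)),
      (∀ n, a.IsFinite n) ∧ SpSeq.IsBounded E ∧
      ∀ p q : ℤ, Nonempty ((E.page 1 le_rfl).X (p, q) ≅
        (if 0 ≤ p ∧ 0 ≤ q then A p.toNat q.toNat else Z)) := by
  choose j ρ hj using hB
  choose i r hi using hA
  let d : ∀ n m, A n m ⟶ A (n + 1) m := fun n m =>
    dR (A := fun n => A n m) (j m) (ρ m) (fun n => i n m) (fun n => r n m) n
  let h : ∀ n m, A (n + 1) m ⟶ A n m := fun n m =>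
    hR (A := fun n => A n m) (j m) (ρ m) (fun n => i n m) (fun n => r n m) n
  have sq : ∀ n m, d n m ≫ d (n + 1) m = 0 := fun n m =>
    dR_comp_dR (A := fun n => A n m) (j m) (ρ m) (fun n => i n m) (fun n => r n m) (hj m)
      (fun n => hi n m) n
  have hh : ∀ n m, h n m ≫ d n m + d (n + 1) m ≫ h (n + 1) m = 𝟙 _ := fun n m =>
    homotopy_succ (A := fun n => A n m) (j m) (ρ m) (fun n => i n m) (fun n => r n m) (hj m)
      (fun n => hi n m) n
  have h0 : ∀ q : ℤ, Nonempty ((K A Z d sq).homology (0, q) ≅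
      (fun n : ℤ => if 0 ≤ n then B n.toNat else Z) q) := by
    intro q
    cases q with
    | ofNat m =>
      obtain ⟨e⟩ := K_homology_zero A Z hZ d sq m (B m) (j m) (ρ m) (hj m)
        (j_comp_dR (A := fun n => A n m) (j m) (ρ m) (fun n => i n m) (fun n => r n m) (hj m)
          (fun n => hi n m))
        (fun x hx => eq_of_comp_dR_zero (A := fun n => A n m) (j m) (ρ m) (fun n => i n m)
          (fun n => r n m) (hj m) (fun n => hi n m) x hx)
      refine ⟨e ≪≫ eqToIso ?_⟩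
      simp
    | negSucc m =>
      refine ⟨(K_homology_isZero_of_neg A Z hZ d sq 0 (Int.negSucc m)
        (Or.inr (Int.negSucc_lt_zero m))).iso ?_⟩
      simp only
      rw [if_neg (by simp)]
      exact hZ
  have hz : ∀ p q : ℤ, p ≠ 0 → IsZero ((K A Z d sq).homology (p, q)) := by
    intro p q hp
    cases p with
    | ofNat n =>
      cases q with
      | ofNat m =>
        cases n with
        | zero => exact absurd rfl hp
        | succ n => exact K_homology_isZero_succ A Z d sq n m h hh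
      | negSucc m =>
        exact K_homology_isZero_of_neg A Z hZ d sq _ _ (Or.inr (Int.negSucc_lt_zero m))
    | negSucc n =>
      exact K_homology_isZero_of_neg A Z hZ d sq _ _ (Or.inl (Int.negSucc_lt_zero n))
  obtain ⟨E', a, hfin, hE⟩ := exists_ss (K A Z d sq) _ h0 hz
  refine ⟨E', a, hfin, ?_, ?_⟩
  · intro n
    refine Set.Finite.subset (Set.finite_Icc 0 n) ?_
    intro p hp
    by_contra hcon
    apply hp
    rw [hE]
    apply A'_isZero A Z hZ
    simp only [Set.mem_Icc, not_and_or, not_le] at hcon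
    omega
  · intro p q
    rw [hE]
    exact ⟨eqToIso (A'_eq A Z p q)⟩

end Main

end Groth.Agent.Lib.Helper14.FakeSS
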