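import Mathlib

/-!
# Helper14: generalized elements of subobjects in abelian categories
-/

universe v u

open CategoryTheory CategoryTheory.Limits

namespace Groth.Agent.Lib.Helper14.GenElem

variable {A : Type u} [Category.{v} A] [Abelian A]

lemma pullback_factors_iff {X Y T : A} (f : X ⟶ Y) (y : Subobject Y) (x : T ⟶ X) :
    ((Subobject.pullback f).obj y).Factors x ↔ y.Factors (x ≫ f) := by
  have sq := Subobject.isPullback f y
  constructor
  · intro h
    have h1 := Subobject.factorThru_arrow _ x h
    rw [← h1, Category.assoc, ← sq.w, ← Category.assoc]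
    exact Subobject.factors_comp_arrow _
  · intro h
    have h1 := Subobject.factorThru_arrow _ _ h
    have : sq.lift (y.factorThru (x ≫ f) h) x h1 ≫ ((Subobject.pullback f).obj y).arrow = x :=
      sq.lift_snd _ _ _
    rw [← this]
    exact Subobject.factors_comp_arrow _

lemma factors_of_epi_comp {Y T T' : A} (S : Subobject Y) (π : T' ⟶ T) [Epi π] (y : T ⟶ Y)
    (h : S.Factors (π ≫ y)) : S.Factors y := by
  have sq : CommSq (S.factorThru (π ≫ y) h) π S.arrow y := ⟨Subobject.factorThru_arrow _ _ h⟩
  haveI : StrongEpi π := strongEpi_of_epi π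
  rw [← sq.fac_right]
  exact Subobject.factors_comp_arrow _

lemma image_factors_iff {X Y T : A} (f : X ⟶ Y) (y : T ⟶ Y) :
    (imageSubobject f).Factors y ↔
      ∃ (T' : A) (π : T' ⟶ T) (_ : Epi π) (x : T' ⟶ X), π ≫ y = x ≫ f := by
  constructor
  · intro h
    let y' := (imageSubobject f).factorThru y h
    have hy' : y' ≫ (imageSubobject f).arrow = y := Subobject.factorThru_arrow _ _ h
    refine ⟨pullback y' (factorThruImageSubobject f), pullback.fst _ _, inferInstance,
      pullback.snd _ _, ?_⟩
    rw [← hy', ← Category.assoc, pullback.condition, Category.assoc, imageSubobject_arrow_comp]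
  · rintro ⟨T', π, hπ, x, hx⟩
    apply factors_of_epi_comp _ π
    have : x ≫ f = (x ≫ factorThruImageSubobject f) ≫ (imageSubobject f).arrow := by
      rw [Category.assoc, imageSubobject_arrow_comp]
    rw [hx, this]
    exact Subobject.factors_comp_arrow _

omit [Abelian A] in
lemma le_iff_forall_factors {Y : A} (S S' : Subobject Y) :
    S ≤ S' ↔ ∀ (T : A) (y : T ⟶ Y), S.Factors y → S'.Factors y :=
  ⟨fun h _ y hy => Subobject.factors_of_le y h hy,
    fun h => Subobject.le_of_factors (h _ _ (Subobject.factors_self S))⟩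

lemma eq_iff_forall_factors {Y : A} (S S' : Subobject Y) :
    S = S' ↔ ∀ (T : A) (y : T ⟶ Y), S.Factors y ↔ S'.Factors y := by
  constructor
  · rintro rfl T y; exact Iff.rfl
  · intro h
    exact le_antisymm ((le_iff_forall_factors _ _).2 fun T y => (h T y).1)
      ((le_iff_forall_factors _ _).2 fun T y => (h T y).2)

lemma sup_eq_image {Y : A} (S S' : Subobject Y) :
    S ⊔ S' = imageSubobject (biprod.desc S.arrow S'.arrow) := by
  apply le_antisymm
  · apply sup_le
    · apply Subobject.le_of_factors
      have := Subobject.factors_comp_arrow (P := imageSubobject (biprod.desc S.arrow S'.arrow))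
        (biprod.inl ≫ factorThruImageSubobject (biprod.desc S.arrow S'.arrow))
      rwa [Category.assoc, imageSubobject_arrow_comp, biprod.inl_desc] at this
    · apply Subobject.le_of_factors
      have := Subobject.factors_comp_arrow (P := imageSubobject (biprod.desc S.arrow S'.arrow))
        (biprod.inr ≫ factorThruImageSubobject (biprod.desc S.arrow S'.arrow))
      rwa [Category.assoc, imageSubobject_arrow_comp, biprod.inr_desc] at this
  · refine imageSubobject_le _ (biprod.desc (Subobject.ofLE S (S ⊔ S') le_sup_left)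
      (Subobject.ofLE S' (S ⊔ S') le_sup_right)) ?_
    ext
    · simp
    · simp

lemma sup_factors_iff {Y T : A} (S S' : Subobject Y) (y : T ⟶ Y) :
    (S ⊔ S').Factors y ↔ ∃ (T' : A) (π : T' ⟶ T) (_ : Epi π) (a b : T' ⟶ Y),
      S.Factors a ∧ S'.Factors b ∧ π ≫ y = a + b := by
  rw [sup_eq_image, image_factors_iff]
  constructor
  · rintro ⟨T', π, hπ, x, hx⟩
    refine ⟨T', π, hπ, (x ≫ biprod.fst) ≫ S.arrow, (x ≫ biprod.snd) ≫ S'.arrow,
      Subobject.factors_comp_arrow _, Subobject.factors_comp_arrow _, ?_⟩
    rw [hx]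
    have : x = biprod.lift (x ≫ biprod.fst) (x ≫ biprod.snd) := by ext <;> simp
    conv_lhs => rw [this]
    rw [biprod.lift_desc]
  · rintro ⟨T', π, hπ, a, b, ha, hb, h⟩
    refine ⟨T', π, hπ, biprod.lift (S.factorThru a ha) (S'.factorThru b hb), ?_⟩
    rw [h, biprod.lift_desc, Subobject.factorThru_arrow, Subobject.factorThru_arrow]

end Groth.Agent.Lib.Helper14.GenElem
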