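import Mathlib.CategoryTheory.Limits.Comma
import Mathlib.CategoryTheory.Limits.VanKampen
import Mathlib.CategoryTheory.Limits.Shapes.DisjointCoproduct
import Mathlib.CategoryTheory.Limits.Shapes.RegularMono
import Mathlib.CategoryTheory.Limits.Preserves.Shapes.Pullbacks
import Mathlib.CategoryTheory.Limits.Preserves.Shapes.Equalizers
import Mathlib.CategoryTheory.Limits.Preserves.Shapes.Products
import Mathlib.CategoryTheory.Limits.Preserves.Finite
import Mathlib.CategoryTheory.EffectiveEpi.Basic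
import Groth.Prelude.Def_SGA4a

/-!
# The glued category `Comma (𝟭 𝒴) ρ`: componentwise limits and colimits
-/

set_option autoImplicit false

namespace Groth.Agent.Lib.Helper14.GlueComma

open CategoryTheory Limits

universe w₁ w₂ v₁ v₂

variable {𝒴 : Type v₁} [Category.{w₁} 𝒴] {𝒳 : Type v₂} [Category.{w₂} 𝒳] (ρ : 𝒳 ⥤ 𝒴)

/-- the glued category -/
abbrev E := Comma (𝟭 𝒴) ρ

/-- projection to the closed part -/
abbrev pY : E ρ ⥤ 𝒴 := Comma.fst _ _

/-- projection to the open part -/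
abbrev pX : E ρ ⥤ 𝒳 := Comma.snd _ _

variable {ρ}

lemma isIso_of_components {A B : E ρ} (f : A ⟶ B) (h₁ : IsIso f.left) (h₂ : IsIso f.right) :
    IsIso f := by
  refine ⟨⟨⟨inv f.left, inv f.right, ?_⟩, ?_, ?_⟩⟩
  · have := f.w
    simp only [Functor.id_obj, Functor.id_map] at this ⊢
    rw [IsIso.inv_comp_eq, ← Category.assoc, this, Category.assoc, ← ρ.map_comp,
      IsIso.hom_inv_id, ρ.map_id, Category.comp_id]
  · ext <;> simp
  · ext <;> simp

lemma mono_of_components {A B : E ρ} (f : A ⟶ B) (h₁ : Mono f.left) (h₂ : Mono f.right) :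
    Mono f := by
  refine ⟨fun {Z} g h e => ?_⟩
  ext
  · rw [← cancel_mono f.left]
    exact congrArg CommaMorphism.left e
  · rw [← cancel_mono f.right]
    exact congrArg CommaMorphism.right e

/-- an object with initial components is initial -/
noncomputable def isInitialOfComponents (A : E ρ) (h₁ : IsInitial A.left) (h₂ : IsInitial A.right) :
    IsInitial A :=
  IsInitial.ofUniqueHom (fun B => ⟨h₁.to _, h₂.to _, h₁.hom_ext _ _⟩)
    (fun B m => by
      ext
      · exact h₁.hom_ext _ _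
      · exact h₂.hom_ext _ _)

section Preserves

variable {J : Type*} [Category J]

instance preservesLimitsOfShape_pY [HasLimitsOfShape J 𝒴] [HasLimitsOfShape J 𝒳]
    [PreservesLimitsOfShape J ρ] : PreservesLimitsOfShape J (pY ρ) where
  preservesLimit {F} :=
    preservesLimit_of_preserves_limit_cone
      (Comma.coneOfPreservesIsLimit F (limit.isLimit _) (limit.isLimit _))
      (limit.isLimit _)

instance preservesLimitsOfShape_pX [HasLimitsOfShape J 𝒴] [HasLimitsOfShape J 𝒳]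
    [PreservesLimitsOfShape J ρ] : PreservesLimitsOfShape J (pX ρ) where
  preservesLimit {F} :=
    preservesLimit_of_preserves_limit_cone
      (Comma.coneOfPreservesIsLimit F (limit.isLimit _) (limit.isLimit _))
      (limit.isLimit _)

end Preserves

section EquivRel

/-- `ρ` preserves jointly monic pairs -/
lemma jointly_mono_map [HasBinaryProducts 𝒳] [PreservesLimitsOfShape (Discrete WalkingPair) ρ]
    [ρ.PreservesMonomorphisms] {R A : 𝒳} (q₁ q₂ : R ⟶ A)
    (h : ∀ {T : 𝒳} (a b : T ⟶ R), a ≫ q₁ = b ≫ q₁ → a ≫ q₂ = b ≫ q₂ → a = b)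
    {T : 𝒴} (a b : T ⟶ ρ.obj R) (h₁ : a ≫ ρ.map q₁ = b ≫ ρ.map q₁)
    (h₂ : a ≫ ρ.map q₂ = b ≫ ρ.map q₂) : a = b := by
  have hm : Mono (prod.lift q₁ q₂) := by
    refine ⟨fun {Z} x y e => h x y ?_ ?_⟩
    · have := congrArg (fun k => k ≫ prod.fst) e
      simp only [Category.assoc, prod.lift_fst] at this
      exact this
    · have := congrArg (fun k => k ≫ prod.snd) e
      simp only [Category.assoc, prod.lift_snd] at this
      exact this
  have hm' : Mono (ρ.map (prod.lift q₁ q₂)) := inferInstance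
  rw [← cancel_mono (ρ.map (prod.lift q₁ q₂))]
  apply (isLimitOfPreserves ρ (prodIsProd A A)).hom_ext
  rintro ⟨⟨⟩⟩
  · change (a ≫ ρ.map (prod.lift q₁ q₂)) ≫ ρ.map prod.fst =
      (b ≫ ρ.map (prod.lift q₁ q₂)) ≫ ρ.map prod.fst
    rw [Category.assoc, Category.assoc, ← ρ.map_comp, prod.lift_fst]
    exact h₁
  · change (a ≫ ρ.map (prod.lift q₁ q₂)) ≫ ρ.map prod.snd =
      (b ≫ ρ.map (prod.lift q₁ q₂)) ≫ ρ.map prod.snd
    rw [Category.assoc, Category.assoc, ← ρ.map_comp, prod.lift_snd]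
    exact h₂

variable [HasInitial 𝒴]

/-- the object of the glued category with empty closed part -/
noncomputable def Lx (T : 𝒳) : E ρ := ⟨⊥_ 𝒴, T, initial.to _⟩

/-- maps out of `Lx T` -/
noncomputable def liftX {T : 𝒳} {R : E ρ} (f : T ⟶ R.right) : Lx (ρ := ρ) T ⟶ R :=
  ⟨initial.to _, f, initial.hom_ext _ _⟩

lemma liftX_comp {T : 𝒳} {R A : E ρ} (f : T ⟶ R.right) (p : R ⟶ A) :
    liftX f ≫ p = liftX (f ≫ p.right) := by
  ext
  · exact initial.hom_ext _ _
  · rfl

lemma liftX_right {T : 𝒳} {R : E ρ} (F : Lx (ρ := ρ) T ⟶ R) : liftX F.right = F := by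
  ext
  · exact initial.hom_ext _ _
  · rfl

lemma isEquivRel_right {R A : E ρ} (p₁ p₂ : R ⟶ A) (h : SGA4.IsEquivRel p₁ p₂) :
    SGA4.IsEquivRel p₁.right p₂.right := by
  intro T
  obtain ⟨hinj, hrefl, hsymm, htrans⟩ := h (Lx T)
  refine ⟨?_, ?_, ?_, ?_⟩
  · intro f f' e
    have e₁ : f ≫ p₁.right = f' ≫ p₁.right := congrArg Prod.fst e
    have e₂ : f ≫ p₂.right = f' ≫ p₂.right := congrArg Prod.snd e
    have : liftX (ρ := ρ) f = liftX f' := hinj (by
      change (liftX f ≫ p₁, liftX f ≫ p₂) = (liftX f' ≫ p₁, liftX f' ≫ p₂)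
      rw [liftX_comp, liftX_comp, liftX_comp, liftX_comp, e₁, e₂])
    exact congrArg CommaMorphism.right this
  · intro a
    obtain ⟨F, h₁, h₂⟩ := hrefl (liftX a)
    exact ⟨F.right, congrArg CommaMorphism.right h₁, congrArg CommaMorphism.right h₂⟩
  · rintro a b ⟨f, rfl, rfl⟩
    obtain ⟨G, h₁, h₂⟩ := hsymm ⟨liftX (ρ := ρ) f, rfl, rfl⟩
    refine ⟨G.right, ?_, ?_⟩
    · exact (congrArg CommaMorphism.right h₁).trans
        (congrArg CommaMorphism.right (liftX_comp f p₂))
    · exact (congrArg CommaMorphism.right h₂).trans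
        (congrArg CommaMorphism.right (liftX_comp f p₁))
  · rintro a b c ⟨f, rfl, rfl⟩ ⟨g, hg, rfl⟩
    obtain ⟨H, h₁, h₂⟩ := htrans (x := liftX (ρ := ρ) f ≫ p₁) (y := liftX f ≫ p₂)
      (z := liftX g ≫ p₂) ⟨liftX f, rfl, rfl⟩ ⟨liftX g, by
        rw [liftX_comp, liftX_comp, hg], rfl⟩
    refine ⟨H.right, ?_, ?_⟩
    · exact (congrArg CommaMorphism.right h₁).trans
        (congrArg CommaMorphism.right (liftX_comp f p₁))
    · exact (congrArg CommaMorphism.right h₂).trans
        (congrArg CommaMorphism.right (liftX_comp g p₂))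

end EquivRel

section Left

lemma w' {R A : E ρ} (p : R ⟶ A) : p.left ≫ A.hom = R.hom ≫ ρ.map p.right := by
  have := p.w
  simpa using this

/-- objects of the glued category -/
abbrev mkObj (T : 𝒴) (X : 𝒳) (t : T ⟶ ρ.obj X) : E ρ := ⟨T, X, t⟩

/-- morphisms of the glued category -/
abbrev mkHom {A B : E ρ} (a : A.left ⟶ B.left) (b : A.right ⟶ B.right)
    (w : a ≫ B.hom = A.hom ≫ ρ.map b) : A ⟶ B :=
  ⟨a, b, by simpa using w⟩

variable [HasInitial 𝒴] [HasBinaryProducts 𝒳] [HasPullbacks 𝒳]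
  [PreservesLimitsOfShape (Discrete WalkingPair) ρ] [PreservesLimitsOfShape WalkingCospan ρ]

lemma isEquivRel_left {R A : E ρ} (p₁ p₂ : R ⟶ A) (h : SGA4.IsEquivRel p₁ p₂) :
    SGA4.IsEquivRel p₁.left p₂.left := by
  have hR := isEquivRel_right p₁ p₂ h
  intro T
  refine ⟨?_, ?_, ?_, ?_⟩
  · intro a a' e
    have e₁ : a ≫ p₁.left = a' ≫ p₁.left := congrArg Prod.fst e
    have e₂ : a ≫ p₂.left = a' ≫ p₂.left := congrArg Prod.snd e
    have hjm : ∀ {T' : 𝒳} (x y : T' ⟶ R.right), x ≫ p₁.right = y ≫ p₁.right →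
        x ≫ p₂.right = y ≫ p₂.right → x = y :=
      fun x y hx hy => (hR _).1 (Prod.ext hx hy)
    have key : a ≫ R.hom = a' ≫ R.hom := by
      apply jointly_mono_map p₁.right p₂.right hjm
      · rw [Category.assoc, Category.assoc, ← w', ← Category.assoc, ← Category.assoc, e₁]
      · rw [Category.assoc, Category.assoc, ← w', ← Category.assoc, ← Category.assoc, e₂]
    let Tt : E ρ := mkObj T R.right (a ≫ R.hom)
    let at1 : Tt ⟶ R := mkHom a (𝟙 _) (by simp [Tt])
    let at2 : Tt ⟶ R := mkHom a' (𝟙 _) (by simp [Tt, key])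
    have : at1 = at2 := (h Tt).1 (by
      change (at1 ≫ p₁, at1 ≫ p₂) = (at2 ≫ p₁, at2 ≫ p₂)
      refine Prod.ext ?_ ?_
      · ext
        · exact e₁
        · rfl
      · ext
        · exact e₂
        · rfl)
    exact congrArg CommaMorphism.left this
  · intro a
    let Tt : E ρ := mkObj T A.right (a ≫ A.hom)
    let at1 : Tt ⟶ A := mkHom a (𝟙 _) (by simp [Tt])
    obtain ⟨F, h₁, h₂⟩ := (h Tt).2.1 at1
    exact ⟨F.left, congrArg CommaMorphism.left h₁, congrArg CommaMorphism.left h₂⟩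
  · rintro a b ⟨f, rfl, rfl⟩
    let Tt : E ρ := mkObj T R.right (f ≫ R.hom)
    let F : Tt ⟶ R := mkHom f (𝟙 _) (by simp [Tt])
    obtain ⟨G, h₁, h₂⟩ := (h Tt).2.symm ⟨F, rfl, rfl⟩
    exact ⟨G.left, congrArg CommaMorphism.left h₁, congrArg CommaMorphism.left h₂⟩
  · rintro a b c ⟨f, rfl, rfl⟩ ⟨g, hg, rfl⟩
    have sq := (IsPullback.of_hasPullback p₂.right p₁.right).map ρ
    have hcond : (f ≫ R.hom) ≫ ρ.map p₂.right = (g ≫ R.hom) ≫ ρ.map p₁.right := by
      rw [Category.assoc, Category.assoc, ← w', ← w', ← Category.assoc, ← Category.assoc, hg]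
    let Tt : E ρ := mkObj T (pullback p₂.right p₁.right) (sq.lift _ _ hcond)
    let F : Tt ⟶ R := mkHom f (pullback.fst _ _) (by simp [Tt])
    let G : Tt ⟶ R := mkHom g (pullback.snd _ _) (by simp [Tt])
    have hFG : G ≫ p₁ = F ≫ p₂ := by
      ext
      · exact hg
      · exact pullback.condition.symm
    obtain ⟨H, h₁, h₂⟩ := (h Tt).2.trans (x := F ≫ p₁) (y := F ≫ p₂) (z := G ≫ p₂)
      ⟨F, rfl, rfl⟩ ⟨G, hFG, rfl⟩
    exact ⟨H.left, congrArg CommaMorphism.left h₁, congrArg CommaMorphism.left h₂⟩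

end Left

section EffEpi

variable [HasPullbacks 𝒴] [HasPullbacks 𝒳] [PreservesLimitsOfShape WalkingCospan ρ]

lemma effectiveEpi_of_components {P Q : E ρ} (f : P ⟶ Q) (h₁ : EffectiveEpi f.left)
    (h₂ : EffectiveEpi f.right) : EffectiveEpi f := by
  apply effectiveEpi_of_kernelPair f
  apply Comma.fstSndJointlyReflectColimit
  · refine (isColimitMapCoconeCoforkEquiv (pY ρ) _).symm ?_
    have sq := (IsPullback.of_hasPullback f f).map (pY ρ)
    exact (EffectiveEpi.getStruct f.left).isColimitCoforkOfIsPullback sq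
  · refine (isColimitMapCoconeCoforkEquiv (pX ρ) _).symm ?_
    have sq := (IsPullback.of_hasPullback f f).map (pX ρ)
    exact (EffectiveEpi.getStruct f.right).isColimitCoforkOfIsPullback sq

omit [HasPullbacks 𝒴] [HasPullbacks 𝒳] in
/-- pullback squares are detected componentwise -/
lemma isPullback_of_components {P A B C : E ρ} (a : P ⟶ A) (b : P ⟶ B) (f : A ⟶ C) (g : B ⟶ C)
    (h₁ : IsPullback a.left b.left f.left g.left)
    (h₂ : IsPullback a.right b.right f.right g.right) : IsPullback a b f g := by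
  have w : a ≫ f = b ≫ g := by
    ext
    · exact h₁.w
    · exact h₂.w
  refine ⟨⟨w⟩, ⟨Comma.fstSndJointlyReflectLimit ?_ ?_⟩⟩
  · exact (isLimitMapConePullbackConeEquiv (pY ρ) w).symm h₁.isLimit
  · exact (isLimitMapConePullbackConeEquiv (pX ρ) w).symm h₂.isLimit

omit [HasPullbacks 𝒴] [HasPullbacks 𝒳] [PreservesLimitsOfShape WalkingCospan ρ] in
/-- pushout squares are detected componentwise -/
lemma isPushout_of_components {P A B C : E ρ} (a : P ⟶ A) (b : P ⟶ B) (f : A ⟶ C) (g : B ⟶ C)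
    (h₁ : IsPushout a.left b.left f.left g.left)
    (h₂ : IsPushout a.right b.right f.right g.right) : IsPushout a b f g := by
  have w : a ≫ f = b ≫ g := by
    ext
    · exact h₁.w
    · exact h₂.w
  refine ⟨⟨w⟩, ⟨Comma.fstSndJointlyReflectColimit ?_ ?_⟩⟩
  · exact (isColimitMapCoconePushoutCoconeEquiv (pY ρ) w).symm h₁.isColimit
  · exact (isColimitMapCoconePushoutCoconeEquiv (pX ρ) w).symm h₂.isColimit

end EffEpi

end Groth.Agent.Lib.Helper14.GlueComma
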