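import Groth.Agent.Lib.Helper14.GlueComma1
import Mathlib.CategoryTheory.EffectiveEpi.Comp

/-!
# Giraud's exactness axioms for the glued category `Comma (𝟭 𝒴) ρ`
-/

set_option autoImplicit false

namespace Groth.Agent.Lib.Helper14.GlueComma

open CategoryTheory Limits

universe u v₁ v₂ v

section General

variable {𝒯 : Type v} [Category.{u} 𝒯]

lemma effectiveEpi_of_isPullback [HasPullbacks 𝒯] {A B : 𝒯} (π : A ⟶ B)
    (h : ∀ (B' : 𝒯) (g : B' ⟶ B), EffectiveEpi (pullback.snd π g))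
    {P B' : 𝒯} (a : P ⟶ A) (b : P ⟶ B') (g : B' ⟶ B) (sq : IsPullback a b π g) :
    EffectiveEpi b := by
  have := h B' g
  rw [← sq.isoPullback_hom_snd]
  infer_instance

/-- in a category with disjoint universal coproducts every small coproduct cocone is universal -/
lemma isUniversal_of_hb (h : SGA4.HasDisjointUniversalCoproducts.{v, u} 𝒯) {ι : Type u}
    {F : Discrete ι ⥤ 𝒯} (c : Cocone F) (hc : IsColimit c) : IsUniversalColimit c := by
  obtain ⟨c₀, hc₀, -, hu⟩ := h ι (fun i => F.obj ⟨i⟩)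
  let α : F ≅ Discrete.functor (fun i => F.obj ⟨i⟩) := Discrete.natIsoFunctor
  have h1 : IsUniversalColimit ((Cocone.precompose α.hom).obj c₀) :=
    IsUniversalColimit.precompose_isIso α.hom hu
  have hc₁ : IsColimit ((Cocone.precompose α.hom).obj c₀) :=
    (IsColimit.precomposeHomEquiv α c₀).symm hc₀
  exact h1.of_iso (hc₁.uniqueUpToIso hc)

lemma mono_inj_of_hb (h : SGA4.HasDisjointUniversalCoproducts.{v, u} 𝒯) {ι : Type u}
    {X : ι → 𝒯} (c : Cofan X) (hc : IsColimit c) (i : ι) : Mono (c.inj i) := by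
  obtain ⟨c₀, hc₀, hd, -⟩ := h ι X
  exact hd.mono_inj hc i

lemma isInitial_of_hb (h : SGA4.HasDisjointUniversalCoproducts.{v, u} 𝒯) {ι : Type u}
    {X : ι → 𝒯} (c : Cofan X) (hc : IsColimit c) {i j : ι} (hij : i ≠ j)
    {P : 𝒯} (a : P ⟶ X i) (b : P ⟶ X j) (sq : IsPullback a b (c.inj i) (c.inj j)) :
    Nonempty (IsInitial P) := by
  obtain ⟨c₀, hc₀, hd, -⟩ := h ι X
  exact hd.nonempty_isInitial_of_ne hc hij sq.cone sq.isLimit

end General

section Glue

variable {𝒴 : Type v₁} [Category.{u} 𝒴] {𝒳 : Type v₂} [Category.{u} 𝒳] {ρ : 𝒳 ⥤ 𝒴}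
  [HasFiniteLimits 𝒴] [HasFiniteLimits 𝒳] [PreservesFiniteLimits ρ] [HasInitial 𝒴]

/-- equivalence relations in the glued category are effective and universal -/
theorem hc_glue
    (hY : ∀ (R A : 𝒴) (p₁ p₂ : R ⟶ A), SGA4.IsEquivRel p₁ p₂ →
      SGA4.IsEffectiveUniversalEquivRel p₁ p₂)
    (hX : ∀ (R A : 𝒳) (p₁ p₂ : R ⟶ A), SGA4.IsEquivRel p₁ p₂ →
      SGA4.IsEffectiveUniversalEquivRel p₁ p₂)
    (R A : E ρ) (p₁ p₂ : R ⟶ A) (h : SGA4.IsEquivRel p₁ p₂) :
    SGA4.IsEffectiveUniversalEquivRel p₁ p₂ := by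
  obtain ⟨BY, πY, pbY, poY, ueY⟩ := hY _ _ _ _ (isEquivRel_left p₁ p₂ h)
  obtain ⟨BX, πX, pbX, poX, ueX⟩ := hX _ _ _ _ (isEquivRel_right p₁ p₂ h)
  have hcond : p₁.left ≫ (A.hom ≫ ρ.map πX) = p₂.left ≫ (A.hom ≫ ρ.map πX) := by
    rw [← Category.assoc, ← Category.assoc, w', w', Category.assoc, Category.assoc,
      ← ρ.map_comp, ← ρ.map_comp, pbX.w]
  let hB : BY ⟶ ρ.obj BX := poY.desc (A.hom ≫ ρ.map πX) (A.hom ≫ ρ.map πX) hcond
  let B : E ρ := mkObj BY BX hB
  let π : A ⟶ B := mkHom πY πX (poY.inl_desc _ _ _)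
  refine ⟨B, π, isPullback_of_components _ _ _ _ pbY pbX,
    isPushout_of_components _ _ _ _ poY poX, ?_⟩
  intro B' g
  apply effectiveEpi_of_components
  · have sq := (IsPullback.of_hasPullback π g).map (pY ρ)
    exact effectiveEpi_of_isPullback πY ueY _ _ _ sq
  · have sq := (IsPullback.of_hasPullback π g).map (pX ρ)
    exact effectiveEpi_of_isPullback πX ueX _ _ _ sq

end Glue

section Glue2

variable {𝒴 : Type v₁} [Category.{u} 𝒴] {𝒳 : Type v₂} [Category.{u} 𝒳] {ρ : 𝒳 ⥤ 𝒴}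
  [HasFiniteLimits 𝒴] [HasFiniteLimits 𝒳] [PreservesFiniteLimits ρ]
  [HasCoproducts.{u} 𝒴] [HasCoproducts.{u} 𝒳]

/-- coproducts in the glued category are disjoint and universal -/
theorem hb_glue (hY : SGA4.HasDisjointUniversalCoproducts 𝒴)
    (hX : SGA4.HasDisjointUniversalCoproducts 𝒳) :
    SGA4.HasDisjointUniversalCoproducts (E ρ) := by
  intro ι X
  let c : Cofan X := Cofan.mk (∐ X) (Sigma.ι X)
  have hc : IsColimit c := coproductIsCoproduct X
  have hcY : IsColimit ((pY ρ).mapCocone c) := isColimitOfPreserves _ hc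
  have hcX : IsColimit ((pX ρ).mapCocone c) := isColimitOfPreserves _ hc
  let cY : Cofan (fun i => (X i).left) := Cofan.mk _ fun j => (pY ρ).map (Sigma.ι X j)
  let cX : Cofan (fun i => (X i).right) := Cofan.mk _ fun j => (pX ρ).map (Sigma.ι X j)
  have hcY' : IsColimit cY := isColimitMapCoconeCofanMkEquiv (pY ρ) X (Sigma.ι X) hcY
  have hcX' : IsColimit cX := isColimitMapCoconeCofanMkEquiv (pX ρ) X (Sigma.ι X) hcX
  refine ⟨c, hc, ?_, ?_⟩
  · have hmono : ∀ i, Mono (c.inj i) := fun i =>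
      mono_of_components _ (mono_inj_of_hb hY cY hcY' i) (mono_inj_of_hb hX cX hcX' i)
    refine CoproductDisjoint.of_cofan hc
      (fun {i j} _ => (IsPullback.of_hasPullback (c.inj i) (c.inj j)).cone)
      (fun {i j} _ => (IsPullback.of_hasPullback (c.inj i) (c.inj j)).isLimit)
      (fun {i j} hij => ?_)
    have sqY := (IsPullback.of_hasPullback (c.inj i) (c.inj j)).map (pY ρ)
    have sqX := (IsPullback.of_hasPullback (c.inj i) (c.inj j)).map (pX ρ)
    exact isInitialOfComponents _ (isInitial_of_hb hY cY hcY' hij _ _ sqY).some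
      (isInitial_of_hb hX cX hcX' hij _ _ sqX).some
  · intro F' c' α f hα _ H
    refine ⟨Comma.fstSndJointlyReflectColimit ?_ ?_⟩
    · have hu := isUniversal_of_hb hY _ hcY
      refine (hu ((pY ρ).mapCocone c') (Functor.whiskerRight α (pY ρ)) ((pY ρ).map f) ?_
        (NatTrans.Equifibered.of_discrete _) (fun j => (H j).map (pY ρ))).some
      ext j
      exact congrArg CommaMorphism.left (NatTrans.congr_app hα j)
    · have hu := isUniversal_of_hb hX _ hcX
      refine (hu ((pX ρ).mapCocone c') (Functor.whiskerRight α (pX ρ)) ((pX ρ).map f) ?_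
        (NatTrans.Equifibered.of_discrete _) (fun j => (H j).map (pX ρ))).some
      ext j
      exact congrArg CommaMorphism.right (NatTrans.congr_app hα j)

end Glue2

end Groth.Agent.Lib.Helper14.GlueComma
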