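import Mathlib.CategoryTheory.Presentable.OrthogonalReflection
import Mathlib.CategoryTheory.Presentable.Presheaf
import Mathlib.CategoryTheory.Presentable.Limits
import Mathlib.CategoryTheory.Sites.Sheaf
import Mathlib.CategoryTheory.Sites.Limits
import Mathlib.CategoryTheory.Limits.Presheaf

/-!
# The inclusion of sheaves of sets into presheaves is accessible
-/

set_option autoImplicit false

namespace Groth.Agent.Lib.Helper14.SheafAccessible

open CategoryTheory Limits Opposite

universe u

variable {D : Type u} [SmallCategory D] (K : GrothendieckTopology D)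

/-- the class of inclusions of covering sieves -/
inductive WK : MorphismProperty (Dᵒᵖ ⥤ Type u)
  | mk (d : D) (S : Sieve d) (hS : S ∈ K d) : WK S.functorInclusion

lemma isLocal_iff_isSheaf (P : Dᵒᵖ ⥤ Type u) : (WK K).isLocal P ↔ Presieve.IsSheaf K P := by
  constructor
  · intro h d S hS
    rw [Presieve.isSheafFor_iff_yonedaSheafCondition]
    intro f
    exact (Function.bijective_iff_existsUnique _).1 (h _ (WK.mk d S hS)) f
  · rintro h _ _ _ ⟨d, S, hS⟩
    rw [Function.bijective_iff_existsUnique]
    exact Presieve.isSheafFor_iff_yonedaSheafCondition.1 (h S hS)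

variable (D) in
/-- a cardinal bounding the sizes of the categories of elements of all sieves -/
noncomputable def μ : Cardinal.{u} :=
  ⨆ (p : Σ d : D, Sieve d), Cardinal.mk (Arrow (p.2.functor.Elementsᵒᵖ))

lemma le_μ (d : D) (S : Sieve d) : Cardinal.mk (Arrow (S.functor.Elementsᵒᵖ)) ≤ μ D :=
  le_ciSup (f := fun (p : Σ d : D, Sieve d) => Cardinal.mk (Arrow (p.2.functor.Elementsᵒᵖ)))
    Cardinal.bddAbove_of_small ⟨d, S⟩

variable (κ : Cardinal.{u}) [Fact κ.IsRegular]

lemma presentable_yoneda (d : D) : IsCardinalPresentable (yoneda.obj d) κ := by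
  have : IsCardinalPresentable (uliftYoneda.{u}.obj d) κ := inferInstance
  exact isCardinalPresentable_of_iso (uliftYonedaIsoYoneda.app d) κ

lemma presentable_sieve (hκ : μ D < κ) (d : D) (S : Sieve d) :
    IsCardinalPresentable S.functor κ := by
  have hK : HasCardinalLT (Arrow (S.functor.Elementsᵒᵖ)) κ := by
    rw [hasCardinalLT_iff_cardinal_mk_lt]
    exact lt_of_le_of_lt (le_μ d S) hκ
  have (k : S.functor.Elementsᵒᵖ) :
      IsCardinalPresentable ((Presheaf.functorToRepresentables.{u} S.functor).obj k) κ := by
    change IsCardinalPresentable (uliftYoneda.{u}.obj _) κ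
    infer_instance
  exact isCardinalPresentable_of_isColimit (Presheaf.coconeOfRepresentable.{u} S.functor)
    (Presheaf.colimitOfRepresentable.{u} S.functor) κ hK

lemma isSheaf_of_isColimit (hκ : μ D < κ) {I : Type u} [SmallCategory I] [IsCardinalFiltered I κ]
    {F : I ⥤ Dᵒᵖ ⥤ Type u} (hF : ∀ i, Presieve.IsSheaf K (F.obj i)) (c : Cocone F)
    (hc : IsColimit c) : Presieve.IsSheaf K c.pt := by
  rw [← isLocal_iff_isSheaf]
  have := (WK K).isClosedUnderColimitsOfShape_isLocal I κ (fun X Y f hf => by
    obtain ⟨d, S, hS⟩ := hf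
    exact ⟨presentable_sieve κ hκ d S, presentable_yoneda κ d⟩)
  apply this.colimitsOfShape_le
  exact ⟨{ diag := F, ι := c.ι, isColimit := hc,
           prop_diag_obj := fun i => (isLocal_iff_isSheaf K _).2 (hF i) }⟩

theorem sheafToPresheaf_isCardinalAccessible (hκ : μ D < κ) :
    (sheafToPresheaf K (Type u)).IsCardinalAccessible κ where
  preservesColimitOfShape I _ _ := ⟨fun {F} => by
    let c := colimit.cocone (F ⋙ sheafToPresheaf K (Type u))
    have hc : IsColimit c := colimit.isColimit _
    have hsh : Presheaf.IsSheaf K c.pt := by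
      rw [isSheaf_iff_isSheaf_of_type]
      exact isSheaf_of_isColimit K κ hκ
        (fun i => (isSheaf_iff_isSheaf_of_type _ _).1 (F.obj i).property) c hc
    let c' : Cocone F :=
      { pt := ⟨c.pt, hsh⟩
        ι := { app := fun i => ObjectProperty.homMk (c.ι.app i)
               naturality := fun i j f => by
                 apply Sheaf.hom_ext
                 exact c.ι.naturality f } }
    have hc' : IsColimit c' := isColimitOfReflects (sheafToPresheaf K (Type u)) hc
    exact preservesColimit_of_preserves_colimit_cocone hc' hc⟩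

end Groth.Agent.Lib.Helper14.SheafAccessible
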