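import Groth.Agent.Lib.Helper14.GlueComma2
import Groth.Agent.Lib.Helper14.SheafAccessible
import Groth.Agent.Lib.Helper14.CanonTopos
import Mathlib.CategoryTheory.Presentable.Type

/-!
# A small detecting family in the glued category of two sheaf topoi
-/

set_option autoImplicit false

namespace Groth.Agent.Lib.Helper14.GlueComma

open CategoryTheory Limits Opposite
open Groth.Agent.Lib.Helper14.ClosedCompl (rep secEquiv secEquiv_comp)
open Groth.Agent.Lib.Helper14.CanonTopos (repF tilde sec_tilde tilde_sec tilde_comp)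
open Groth.Agent.Lib.Helper14.SheafAccessible

universe u

section Rep

variable {C : Type u} [SmallCategory C] {J : GrothendieckTopology C}

/-- sheafified representables detect isomorphisms -/
lemma isIso_of_repF {X X' : Sheaf J (Type u)} (m : X ⟶ X')
    (h : ∀ (c : C) (t : (repF J).obj c ⟶ X'), ∃! t' : (repF J).obj c ⟶ X, t' ≫ m = t) :
    IsIso m := by
  have hb : ∀ c : C, Function.Bijective (m.hom.app (op c)) := by
    intro c
    constructor
    · intro x x' e
      obtain ⟨t', -, huniq⟩ := h c (tilde J (m.hom.app (op c) x))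
      have h1 : tilde J x = t' := huniq _ (tilde_comp x m)
      have h2 : tilde J x' = t' := huniq _ ((tilde_comp x' m).trans (by rw [e]))
      have := congrArg (secEquiv J X c) (h1.trans h2.symm)
      rwa [sec_tilde, sec_tilde] at this
    · intro y
      obtain ⟨t', ht', -⟩ := h c (tilde J y)
      refine ⟨secEquiv J X c t', ?_⟩
      rw [← secEquiv_comp, ht', sec_tilde]
  have : IsIso m.hom := by
    apply (config := { allowSynthFailures := true }) NatIso.isIso_of_isIso_app
    intro c
    exact (isIso_iff_bijective _).2 (hb c.unop)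
  have : IsIso ((sheafToPresheaf J (Type u)).map m) := this
  exact isIso_of_reflects_iso m (sheafToPresheaf J (Type u))

end Rep

section Detect

variable {C D : Type u} [SmallCategory C] [SmallCategory D] {J : GrothendieckTopology C}
  {K : GrothendieckTopology D} (ρ : Sheaf J (Type u) ⥤ Sheaf K (Type u))
  (P₀ : ObjectProperty (Cᵒᵖ ⥤ Type u))

/-- index type of the detecting family -/
def Idx : Type (u + 1) :=
  C ⊕ (Σ (d : D) (X₀ : Subtype P₀),
    (ρ.obj ((presheafToSheaf J (Type u)).obj X₀.1)).obj.obj (op d))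

/-- the detecting family -/
noncomputable def G : Idx ρ P₀ → E ρ
  | Sum.inl c => Lx ((repF J).obj c)
  | Sum.inr ⟨d, X₀, s⟩ =>
      mkObj ((repF K).obj d) ((presheafToSheaf J (Type u)).obj X₀.1) (tilde K s)

/-- every section of `ρ X` comes from a member of the class `P₀` -/
def Factors : Prop :=
  ∀ (X : Sheaf J (Type u)) (d : D) (s : (ρ.obj X).obj.obj (op d)),
    ∃ (X₀ : Subtype P₀) (c : (presheafToSheaf J (Type u)).obj X₀.1 ⟶ X)
      (s' : (ρ.obj ((presheafToSheaf J (Type u)).obj X₀.1)).obj.obj (op d)),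
      (ρ.map c).hom.app (op d) s' = s

variable {ρ P₀}

lemma exists_tilde_factor (hfac : Factors ρ P₀) (X : Sheaf J (Type u)) (d : D)
    (t : (repF K).obj d ⟶ ρ.obj X) :
    ∃ (X₀ : Subtype P₀) (c : (presheafToSheaf J (Type u)).obj X₀.1 ⟶ X)
      (s' : (ρ.obj ((presheafToSheaf J (Type u)).obj X₀.1)).obj.obj (op d)),
      tilde K s' ≫ ρ.map c = t := by
  obtain ⟨X₀, c, s', hs'⟩ := hfac X d (secEquiv K _ d t)
  refine ⟨X₀, c, s', ?_⟩
  rw [tilde_comp, hs', tilde_sec]

theorem isDetecting_G (hfac : Factors ρ P₀) :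
    (ObjectProperty.ofObj (G ρ P₀)).IsDetecting := by
  intro A B m hm
  have hm' : ∀ i (h : G ρ P₀ i ⟶ B), ∃! h' : G ρ P₀ i ⟶ A, h' ≫ m = h :=
    fun i => hm _ (ObjectProperty.ofObj_apply _ i)
  have hR : IsIso m.right := by
    apply isIso_of_repF
    intro c t
    obtain ⟨H', hH', huniq⟩ := hm' (Sum.inl c) (liftX t)
    refine ⟨H'.right, congrArg CommaMorphism.right hH', ?_⟩
    intro t'' ht''
    have := huniq (liftX t'') (by
      change liftX t'' ≫ m = liftX t
      rw [liftX_comp, ht''])
    exact congrArg CommaMorphism.right this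
  have hinj : ∀ (d : D) (a₁ a₂ : (repF K).obj d ⟶ A.left), a₁ ≫ m.left = a₂ ≫ m.left →
      a₁ = a₂ := by
    intro d a₁ a₂ e
    have hmono : Mono (ρ.map m.right) := inferInstance
    have ht : a₂ ≫ A.hom = a₁ ≫ A.hom := by
      rw [← cancel_mono (ρ.map m.right), Category.assoc, Category.assoc, ← w', ← Category.assoc,
        ← Category.assoc, e]
    obtain ⟨X₀, c, s', hs'⟩ := exists_tilde_factor hfac A.right d (a₁ ≫ A.hom)
    let i : Idx ρ P₀ := Sum.inr ⟨d, X₀, s'⟩
    let H₁ : G ρ P₀ i ⟶ A := mkHom a₁ c hs'.symm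
    let H₂ : G ρ P₀ i ⟶ A := mkHom a₂ c (ht.trans hs'.symm)
    obtain ⟨H', -, huniq⟩ := hm' i (H₁ ≫ m)
    have e₁ : H₁ = H' := huniq H₁ rfl
    have e₂ : H₂ = H' := huniq H₂ (by
      apply CommaMorphism.ext
      · exact e.symm
      · rfl)
    exact congrArg CommaMorphism.left (e₁.trans e₂.symm)
  have hL : IsIso m.left := by
    apply isIso_of_repF
    intro d b
    obtain ⟨X₀, c, s', hs'⟩ :=
      exists_tilde_factor hfac A.right d (b ≫ B.hom ≫ inv (ρ.map m.right))
    let i : Idx ρ P₀ := Sum.inr ⟨d, X₀, s'⟩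
    let h : G ρ P₀ i ⟶ B := mkHom b (c ≫ m.right) (by
      change b ≫ B.hom = tilde K s' ≫ ρ.map (c ≫ m.right)
      rw [ρ.map_comp, ← Category.assoc, hs']
      simp)
    obtain ⟨H', hH', -⟩ := hm' i h
    refine ⟨H'.left, congrArg CommaMorphism.left hH', ?_⟩
    intro a'' ha''
    exact hinj d _ _ (ha''.trans (congrArg CommaMorphism.left hH').symm)
  exact isIso_of_components m hL hR

end Detect

section Access

variable {C D : Type u} [SmallCategory C] [SmallCategory D] {J : GrothendieckTopology C}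
  {K : GrothendieckTopology D} (ρ : Sheaf J (Type u) ⥤ Sheaf K (Type u)) [ρ.IsAccessible.{u}]

theorem exists_small_detecting :
    ∃ P : ObjectProperty (E ρ), ObjectProperty.Small.{u} P ∧ P.IsDetecting := by
  obtain ⟨κ₀, hκ₀, hacc⟩ := Functor.IsAccessible.exists_cardinal (F := ρ)
  let κ : Cardinal.{u} := Order.succ (max (max Cardinal.aleph0 (μ D)) κ₀)
  have hreg : Fact κ.IsRegular :=
    ⟨Cardinal.isRegular_succ (le_max_of_le_left (le_max_left _ _))⟩
  have h1 : μ D < κ := lt_of_le_of_lt (le_max_of_le_left (le_max_right _ _)) (Order.lt_succ _)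
  have h2 : κ₀ ≤ κ := (le_max_right _ _).trans (Order.le_succ _)
  have hρ : ρ.IsCardinalAccessible κ := Functor.isCardinalAccessible_of_le ρ h2
  have hi : (sheafToPresheaf K (Type u)).IsCardinalAccessible κ :=
    sheafToPresheaf_isCardinalAccessible K κ h1
  obtain ⟨P₁, hsmall₁, hgen₁⟩ :=
    HasCardinalFilteredGenerator.exists_generator (Cᵒᵖ ⥤ Type u) κ
  obtain ⟨P₀, hsmall, hle, hle'⟩ := ObjectProperty.EssentiallySmall.exists_small_le.{u} P₁
  have hgen : P₀.IsCardinalFilteredGenerator κ :=
    hgen₁.of_le_isoClosure hle' (hle.trans hgen₁.le_isCardinalPresentable)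
  have hfac : Factors ρ P₀ := by
    intro X d s
    obtain ⟨I, _, _, ⟨pres⟩⟩ := hgen.exists_colimitsOfShape X.obj
    let a := presheafToSheaf J (Type u)
    let c₁ : Cocone pres.diag := Cocone.mk X.obj pres.ι
    have hc₁ : IsColimit c₁ := pres.isColimit
    have hc₂ : IsColimit (a.mapCocone c₁) := isColimitOfPreserves a hc₁
    let ε := (sheafificationAdjunction J (Type u)).counit.app X
    have : IsIso ε := inferInstance
    let c₃ : Cocone (pres.diag ⋙ a) := (a.mapCocone c₁).extend (asIso ε).hom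
    have hc₃ : IsColimit c₃ := IsColimit.ofIsoColimit hc₂ (Cocone.extendIso (a.mapCocone c₁) (asIso ε))
    let Φ : Sheaf J (Type u) ⥤ Type u :=
      ρ ⋙ sheafToPresheaf K (Type u) ⋙ (evaluation Dᵒᵖ (Type u)).obj (op d)
    have : PreservesColimitsOfShape I ρ := hρ.preservesColimitOfShape I
    have : PreservesColimitsOfShape I (sheafToPresheaf K (Type u)) :=
      hi.preservesColimitOfShape I
    have hc₄ : IsColimit (Φ.mapCocone c₃) := isColimitOfPreserves Φ hc₃
    obtain ⟨i, s', hs'⟩ := Types.jointly_surjective_of_isColimit hc₄ s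
    exact ⟨⟨pres.diag.obj i, pres.prop_diag_obj i⟩, c₃.ι.app i, s', hs'⟩
  refine ⟨ObjectProperty.ofObj (G ρ P₀), ?_, isDetecting_G hfac⟩
  have hs0 : Small.{u} (Subtype P₀) := hsmall
  have : Small.{u} (Idx ρ P₀) := by
    unfold Idx
    infer_instance
  infer_instance

end Access

end Groth.Agent.Lib.Helper14.GlueComma
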