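import Mathlib
import Groth.Prelude.Def_GrSeg
import Groth.Prelude.Def_GrLC

set_option autoImplicit false
universe u

namespace Groth.Agent.Lib.Helper14.GrDualLib

open DirectSum

section Basic

variable {k : Type u} [Field k] {R : Type u} [CommRing R] [Algebra k R]
  (𝒜 : ℤ → Submodule k R) [GradedAlgebra 𝒜]
  {M : Type u} [AddCommGroup M] [Module R M]
  (ℳ : ℤ → AddSubgroup M) [DirectSum.Decomposition ℳ] [SetLike.GradedSMul 𝒜 ℳ]

theorem smul_mem_piece {i j : ℤ} {r : R} {x : M} (hr : r ∈ 𝒜 i) (hx : x ∈ ℳ j) :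
    r • x ∈ ℳ (i + j) := by
  have := SetLike.GradedSMul.smul_mem (A := 𝒜) (B := ℳ) hr hx
  rwa [vadd_eq_add] at this

theorem decompose_smul_of_mem {r : R} {s : M} {e : ℤ} (hs : s ∈ ℳ e) (n : ℤ) :
    ((decompose ℳ (r • s)) n : M) = ((decompose 𝒜 r) (n - e) : R) • s := by
  classical
  have key : ∀ (i : ℤ) (a : R), a ∈ 𝒜 i →
      ((decompose ℳ (a • s)) n : M) = if i + e = n then a • s else 0 := by
    intro i a ha
    have hm := smul_mem_piece 𝒜 ℳ ha hs
    split_ifs with h
    · subst h; exact decompose_of_mem_same ℳ hm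
    · exact decompose_of_mem_ne ℳ hm h
  conv_lhs => rw [← DirectSum.sum_support_decompose 𝒜 r, Finset.sum_smul, decompose_sum]
  rw [DFinsupp.finsetSum_apply, AddSubgroup.val_finsetSum]
  simp only [key _ _ (SetLike.coe_mem _)]
  rw [Finset.sum_ite, Finset.sum_const_zero, add_zero]
  by_cases hne : n - e ∈ (decompose 𝒜 r).support
  · have : (decompose 𝒜 r).support.filter (fun i => i + e = n) = {n - e} := by
      ext i; simp only [Finset.mem_filter, Finset.mem_singleton]
      constructor
      · rintro ⟨_, h⟩; omega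
      · rintro rfl; exact ⟨hne, by ring⟩
    rw [this, Finset.sum_singleton]
  · have : (decompose 𝒜 r).support.filter (fun i => i + e = n) = ∅ := by
      ext i; simp only [Finset.mem_filter, Finset.notMem_empty, iff_false, not_and]
      intro hi h
      apply hne
      have : i = n - e := by omega
      rwa [← this]
    rw [this, Finset.sum_empty]
    rw [DFinsupp.notMem_support_iff] at hne
    rw [hne]; simp

omit [SetLike.GradedSMul 𝒜 ℳ] [GradedAlgebra 𝒜] in
theorem decompose_map_of_grHom {N : Type u} [AddCommGroup N] [Module R N]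
    (𝒩 : ℤ → AddSubgroup N) [DirectSum.Decomposition 𝒩] {f : M →ₗ[R] N}
    (hf : GrLC.IsGrHom ℳ 𝒩 f) (m : M) (i : ℤ) :
    ((decompose 𝒩 (f m)) i : N) = f ((decompose ℳ m) i : M) := by
  classical
  conv_lhs => rw [← DirectSum.sum_support_decompose ℳ m, map_sum, decompose_sum,
    DFinsupp.finsetSum_apply, AddSubgroup.val_finsetSum]
  have key : ∀ j : ℤ, ((decompose 𝒩 (f ((decompose ℳ m) j : M))) i : N)
      = if j = i then f ((decompose ℳ m) j : M) else 0 := by
    intro j
    have hm := hf j _ (SetLike.coe_mem ((decompose ℳ m) j))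
    split_ifs with h
    · subst h; exact decompose_of_mem_same 𝒩 hm
    · exact decompose_of_mem_ne 𝒩 hm h
  simp only [key]
  rw [Finset.sum_ite_eq']
  split_ifs with h
  · rfl
  · rw [DFinsupp.notMem_support_iff] at h
    rw [h]; simp

end Basic

section Pieces

variable {k : Type u} [Field k] {R : Type u} [CommRing R] [Algebra k R]
  (𝒜 : ℤ → Submodule k R) [GradedAlgebra 𝒜]
  {M : Type u} [AddCommGroup M] [Module R M] [Module k M] [IsScalarTower k R M]
  (ℳ : ℤ → AddSubgroup M) [DirectSum.Decomposition ℳ] [SetLike.GradedSMul 𝒜 ℳ]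

/-- the piece `ℳ n` as a `k`-subspace -/
def pieceK (n : ℤ) : Submodule k M where
  carrier := ℳ n
  add_mem' := (ℳ n).add_mem
  zero_mem' := (ℳ n).zero_mem
  smul_mem' c x hx := by
    have h1 : c • x = (algebraMap k R c) • x := by rw [algebraMap_smul]
    have h2 := smul_mem_piece 𝒜 ℳ (SetLike.algebraMap_mem_graded 𝒜 c) hx
    rw [zero_add] at h2
    change c • x ∈ ℳ n
    rw [h1]; exact h2

@[simp] theorem mem_pieceK {n : ℤ} {x : M} : x ∈ pieceK 𝒜 ℳ n ↔ x ∈ ℳ n := Iff.rfl

variable (hposR : ∀ n : ℤ, n < 0 → 𝒜 n = ⊥) (h0R : 𝒜 0 = Submodule.span k {(1 : R)})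
  [Algebra.FiniteType k R]

include hposR h0R in
theorem finite_piece_ring (j : ℤ) : Module.Finite k (𝒜 j) := by
  classical
  haveI : IsNoetherianRing R := Algebra.FiniteType.isNoetherianRing k R
  -- homogeneous generators of the irrelevant ideal
  have hfg : (Ideal.span (⋃ n ∈ Set.Ioi (0 : ℤ), (𝒜 n : Set R))).FG := IsNoetherian.noetherian _
  obtain ⟨Y, hYsub, hYspan⟩ := (Submodule.fg_span_iff_fg_span_finset_subset _).mp hfg
  have hYdeg : ∀ y ∈ Y, ∃ d : ℤ, 0 < d ∧ y ∈ 𝒜 d := by
    intro y hy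
    have := hYsub hy
    simp only [Set.mem_iUnion, Set.mem_Ioi, SetLike.mem_coe, exists_prop] at this
    exact this
  choose! dg hdpos hdmem using hYdeg
  suffices H : ∀ n : ℕ, ∀ j : ℤ, j < n → Module.Finite k (𝒜 j) from H (j.toNat + 1) j (by omega)
  intro n
  induction n with
  | zero =>
    intro j hj
    rw [hposR j (by exact_mod_cast hj)]
    infer_instance
  | succ n ih =>
    intro j hj
    by_cases hjn : j < n
    · exact ih j hjn
    have hj' : j = n := by push_cast at hj; omega
    subst hj'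
    rcases Nat.eq_zero_or_pos n with rfl | hn
    · change Module.Finite k (𝒜 0)
      rw [h0R]
      infer_instance
    -- the big sum
    let W : Submodule k R := Y.sup fun y => (𝒜 ((n : ℤ) - dg y)).map
      ((LinearMap.mulRight R y).restrictScalars k)
    haveI : ∀ y ∈ Y, Module.Finite k (𝒜 ((n : ℤ) - dg y)) := fun y hy =>
      ih _ (by have := hdpos y hy; omega)
    have hW : W.FG := by
      apply Submodule.fg_finset_sup
      intro y hy
      apply Submodule.FG.map
      haveI := this y hy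
      exact Module.Finite.iff_fg.mp inferInstance
    have hle : 𝒜 (n : ℤ) ≤ W := by
      intro x hx
      have hxI : x ∈ Ideal.span (⋃ n ∈ Set.Ioi (0 : ℤ), (𝒜 n : Set R)) := by
        apply Ideal.subset_span
        simp only [Set.mem_iUnion, Set.mem_Ioi, SetLike.mem_coe, exists_prop]
        exact ⟨n, by exact_mod_cast hn, hx⟩
      change x ∈ Submodule.span R _ at hxI
      rw [hYspan] at hxI
      obtain ⟨c, hcsupp, hc⟩ := (Submodule.mem_span_finset (R := R)).mp hxI
      have hx2 : x = ∑ y ∈ Y, ((decompose 𝒜 (c y)) ((n : ℤ) - dg y) : R) * y := by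
        have e1 : ((decompose 𝒜 x) (n : ℤ) : R) = x := decompose_of_mem_same 𝒜 hx
        rw [← e1, ← hc, decompose_sum, DFinsupp.finsetSum_apply, Submodule.coe_sum]
        apply Finset.sum_congr rfl
        intro y hy
        have h := coe_decompose_mul_add_of_right_mem 𝒜 (i := (n : ℤ) - dg y) (a := c y) (hdmem y hy)
        rw [sub_add_cancel] at h
        rw [smul_eq_mul]; exact h
      rw [hx2]
      apply Submodule.sum_mem
      intro y hy
      have hle1 : (𝒜 ((n : ℤ) - dg y)).map ((LinearMap.mulRight R y).restrictScalars k) ≤ W :=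
        Finset.le_sup (f := fun y => (𝒜 ((n : ℤ) - dg y)).map
          ((LinearMap.mulRight R y).restrictScalars k)) hy
      apply hle1
      exact Submodule.mem_map_of_mem (f := (LinearMap.mulRight R y).restrictScalars k)
        (SetLike.coe_mem _)
    exact Module.Finite.iff_fg.mpr (Submodule.FG.of_le hW hle)

omit [Module k M] [IsScalarTower k R M] in
theorem rep_of_mem [Module.Finite R M] :
    ∃ (T : Finset (Σ _ : M, ℤ)) (el : (Σ _ : M, ℤ) → M), (∀ p ∈ T, el p ∈ ℳ p.2) ∧
      ∀ (n : ℤ) (x : M), x ∈ ℳ n → ∃ c : (Σ _ : M, ℤ) → R,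
        (∀ p, c p ∈ 𝒜 (n - p.2)) ∧ x = ∑ p ∈ T, c p • el p := by
  classical
  obtain ⟨S, hS⟩ := Module.Finite.fg_top (R := R) (M := M)
  refine ⟨S.sigma (fun s => (decompose ℳ s).support), fun p => ((decompose ℳ p.1) p.2 : M),
    fun p _ => SetLike.coe_mem _, ?_⟩
  intro n x hx
  have hxS : x ∈ Submodule.span R (S : Set M) := by rw [hS]; trivial
  obtain ⟨c₀, -, hc₀⟩ := (Submodule.mem_span_finset (R := R)).mp hxS
  refine ⟨fun p => ((decompose 𝒜 (c₀ p.1)) (n - p.2) : R), fun p => SetLike.coe_mem _, ?_⟩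
  have e1 : ((decompose ℳ x) n : M) = x := decompose_of_mem_same ℳ hx
  rw [Finset.sum_sigma]
  conv_lhs => rw [← e1, ← hc₀, decompose_sum, DFinsupp.finsetSum_apply, AddSubgroup.val_finsetSum]
  apply Finset.sum_congr rfl
  intro s _
  have hs : (c₀ s) • s = ∑ i ∈ (decompose ℳ s).support, c₀ s • ((decompose ℳ s) i : M) := by
    rw [← Finset.smul_sum, DirectSum.sum_support_decompose ℳ s]
  rw [hs, decompose_sum, DFinsupp.finsetSum_apply, AddSubgroup.val_finsetSum]
  apply Finset.sum_congr rfl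
  intro i _
  exact decompose_smul_of_mem 𝒜 ℳ (SetLike.coe_mem _) n

include hposR h0R in
theorem finite_piece_module [Module.Finite R M] (n : ℤ) : Module.Finite k (pieceK 𝒜 ℳ n) := by
  classical
  obtain ⟨T, el, hel, hrep⟩ := rep_of_mem 𝒜 ℳ
  let W : Submodule k M := T.sup fun p => (𝒜 (n - p.2)).map
      ((LinearMap.toSpanSingleton R M (el p)).restrictScalars k)
  have hW : W.FG := by
    apply Submodule.fg_finset_sup
    intro p _
    apply Submodule.FG.map
    haveI := finite_piece_ring 𝒜 hposR h0R (n - p.2)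
    exact Module.Finite.iff_fg.mp inferInstance
  have hle : pieceK 𝒜 ℳ n ≤ W := by
    intro x hx
    obtain ⟨c, hc, hx2⟩ := hrep n x hx
    rw [hx2]
    apply Submodule.sum_mem
    intro p hp
    have hle1 : (𝒜 (n - p.2)).map ((LinearMap.toSpanSingleton R M (el p)).restrictScalars k) ≤ W :=
      Finset.le_sup (f := fun p : (Σ _ : M, ℤ) => (𝒜 (n - p.2)).map
        ((LinearMap.toSpanSingleton R M (el p)).restrictScalars k)) hp
    apply hle1
    exact Submodule.mem_map_of_mem (f := (LinearMap.toSpanSingleton R M (el p)).restrictScalars k)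
      (hc p)
  exact Module.Finite.iff_fg.mpr (Submodule.FG.of_le hW hle)

omit [Module k M] [IsScalarTower k R M] in
include hposR in
theorem exists_bound_below [Module.Finite R M] : ∃ N : ℤ, ∀ n < N, ∀ x ∈ ℳ n, x = 0 := by
  classical
  obtain ⟨T, el, hel, hrep⟩ := rep_of_mem 𝒜 ℳ
  refine ⟨-∑ p ∈ T, |p.2|, ?_⟩
  intro n hn x hx
  obtain ⟨c, hc, hx2⟩ := hrep n x hx
  rw [hx2]
  apply Finset.sum_eq_zero
  intro p hp
  have h1 : |p.2| ≤ ∑ p ∈ T, |p.2| :=
    Finset.single_le_sum (f := fun p : (Σ _ : M, ℤ) => |p.2|) (fun _ _ => abs_nonneg _) hp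
  have h2 : n - p.2 < 0 := by
    have := neg_abs_le p.2
    omega
  have h3 := hc p
  rw [hposR _ h2, Submodule.mem_bot] at h3
  rw [h3, zero_smul]

end Pieces

section Dual

variable {k : Type u} [Field k] {R : Type u} [CommRing R] [Algebra k R]
  (𝒜 : ℤ → Submodule k R) [GradedAlgebra 𝒜]
  {M : Type u} [AddCommGroup M] [Module R M] [Module k M] [IsScalarTower k R M]
  {τ : Type u} [SetLike τ M] [AddSubgroupClass τ M]
  (ℳ : ℤ → τ) [DirectSum.Decomposition ℳ]
  {D : Type u} [AddCommGroup D] [Module R D] [Module k D] [IsScalarTower k R D]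
  (𝒟 : ℤ → AddSubgroup D) [DirectSum.Decomposition 𝒟]
  (β : D →ₗ[k] M →ₗ[k] k) (hD : GrSeg.IsGDual R ℳ 𝒟 β)

include hD in
omit [IsScalarTower k R M] [IsScalarTower k R D] in
theorem pair_decompose_left (d : D) {n : ℤ} {x : M} (hx : x ∈ ℳ n) :
    β d x = β ((decompose 𝒟 d) (-n) : D) x := by
  classical
  conv_lhs => rw [← DirectSum.sum_support_decompose 𝒟 d, map_sum, LinearMap.sum_apply]
  by_cases h : -n ∈ (decompose 𝒟 d).support
  · rw [Finset.sum_eq_single_of_mem (-n) h]
    intro i _ hi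
    exact hD.vanish i _ (SetLike.coe_mem _) n (by intro h'; apply hi; rw [h', neg_neg]) x hx
  · rw [DFinsupp.notMem_support_iff] at h
    rw [h]
    simp only [ZeroMemClass.coe_zero, map_zero, LinearMap.zero_apply]
    apply Finset.sum_eq_zero
    intro i hi
    exact hD.vanish i _ (SetLike.coe_mem _) n (by
      intro h'
      have : i = -n := by rw [h', neg_neg]
      rw [this] at hi
      exact (DFinsupp.mem_support_iff.mp hi) h) x hx

include hD in
omit [IsScalarTower k R M] [IsScalarTower k R D] in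
theorem pair_decompose_right {n : ℤ} {d : D} (hd : d ∈ 𝒟 n) (x : M) :
    β d x = β d ((decompose ℳ x) (-n) : M) := by
  classical
  conv_lhs => rw [← DirectSum.sum_support_decompose ℳ x, map_sum]
  by_cases h : -n ∈ (decompose ℳ x).support
  · rw [Finset.sum_eq_single_of_mem (-n) h]
    intro i _ hi
    exact hD.vanish n d hd i hi _ (SetLike.coe_mem _)
  · rw [DFinsupp.notMem_support_iff] at h
    rw [h]
    simp only [ZeroMemClass.coe_zero, map_zero]
    apply Finset.sum_eq_zero
    intro i hi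
    exact hD.vanish n d hd i (by
      intro h'
      rw [h'] at hi
      exact (DFinsupp.mem_support_iff.mp hi) h) _ (SetLike.coe_mem _)

include hD in
omit [IsScalarTower k R M] [IsScalarTower k R D] in
theorem sep_left {d : D} (h : ∀ x, β d x = 0) : d = 0 := by
  classical
  rw [← DirectSum.sum_support_decompose 𝒟 d]
  apply Finset.sum_eq_zero
  intro n _
  apply hD.eq_zero n _ (SetLike.coe_mem _)
  intro x hx
  have := pair_decompose_left ℳ 𝒟 β hD d hx
  rw [neg_neg] at this
  rw [← this]; exact h x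

include hD in
omit [IsScalarTower k R M] [IsScalarTower k R D] in
theorem sep_right {y : M} (h : ∀ d, β d y = 0) : y = 0 := by
  classical
  rw [← DirectSum.sum_support_decompose ℳ y]
  apply Finset.sum_eq_zero
  intro n _
  by_contra hne
  obtain ⟨φ, hφ⟩ : ∃ φ : Module.Dual k M, φ ((decompose ℳ y) n : M) ≠ 0 := by
    by_contra hcon
    push_neg at hcon
    exact hne ((Module.forall_dual_apply_eq_zero_iff k _).mp hcon)
  obtain ⟨d, hd, hdφ⟩ := hD.exists_eq (-n) φ
  have h1 := pair_decompose_right ℳ 𝒟 β hD hd y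
  rw [neg_neg] at h1
  have h2 := hdφ ((decompose ℳ y) n : M) (by rw [neg_neg]; exact SetLike.coe_mem _)
  rw [← h1, h d] at h2
  exact hφ h2.symm

include hD in
omit [IsScalarTower k R M] in
theorem exists_rep_functional [SetLike.GradedSMul 𝒜 𝒟] (n : ℤ) (V : Submodule k M)
    (hV : ∀ x, x ∈ V ↔ x ∈ ℳ n) [Module.Finite k V] (ψ : D →ₗ[k] k) :
    ∃ y, y ∈ ℳ n ∧ ∀ d ∈ 𝒟 (-n), β d y = ψ d := by
  classical
  let b := Module.finBasis k V
  have hex : ∀ i, ∃ d : D, d ∈ 𝒟 (-n) ∧ ∀ x : V, β d (x : M) = b.coord i x := by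
    intro i
    obtain ⟨g, hg⟩ := LinearMap.exists_extend (b.coord i)
    obtain ⟨d, hd, hdg⟩ := hD.exists_eq (-n) g
    refine ⟨d, hd, fun x => ?_⟩
    rw [hdg x (by rw [neg_neg]; exact (hV _).mp x.2), ← hg]
    rfl
  choose dd hdd hddφ using hex
  refine ⟨((∑ i, ψ (dd i) • b i : V) : M), (hV _).mp (SetLike.coe_mem _), ?_⟩
  intro d hd
  -- d = Σ β d (b i) • dd i
  have hdeq : d = ∑ i, β d (b i : M) • dd i := by
    rw [← sub_eq_zero]
    have hmem : d - ∑ i, β d (b i : M) • dd i ∈ pieceK 𝒜 𝒟 (-n) := by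
      apply Submodule.sub_mem _ hd
      apply Submodule.sum_mem
      intro i _
      exact Submodule.smul_mem _ _ (hdd i)
    apply hD.eq_zero (-n) _ hmem
    intro x hx
    rw [neg_neg] at hx
    have hxV : x ∈ V := (hV x).mpr hx
    rw [map_sub, LinearMap.sub_apply, map_sum, LinearMap.sum_apply, sub_eq_zero]
    simp only [map_smul, LinearMap.smul_apply, smul_eq_mul]
    have hx2 : x = ((∑ i, b.coord i ⟨x, hxV⟩ • b i : V) : M) := by
      have := b.sum_repr ⟨x, hxV⟩
      conv_lhs => rw [show x = ((⟨x, hxV⟩ : V) : M) from rfl, ← this]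
      rfl
    conv_lhs => rw [hx2]
    rw [Submodule.coe_sum, map_sum]
    apply Finset.sum_congr rfl
    intro i _
    rw [Submodule.coe_smul, map_smul, smul_eq_mul, hddφ i ⟨x, hxV⟩, mul_comm]
  conv_rhs => rw [hdeq, map_sum]
  rw [Submodule.coe_sum, map_sum]
  apply Finset.sum_congr rfl
  intro i _
  rw [Submodule.coe_smul, map_smul, map_smul, smul_eq_mul, smul_eq_mul, mul_comm]

end Dual

end Groth.Agent.Lib.Helper14.GrDualLib
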