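import Mathlib
import Groth.Agent.Lib.Helper14.GrpBridge
import Groth.Agent.Lib.Helper14.Deligne

set_option autoImplicit false

namespace Groth.Agent.Lib.Helper14.GrpBridge

open CategoryTheory MonoidalCategory CartesianMonoidalCategory MonObj GrpObj AlgebraicGeometry
open CategoryTheory.Limits TensorProduct

universe u

/-- a Hopf algebra whose spectrum is (isomorphic to) a commutative group scheme is cocommutative -/
theorem isCocomm_of_iso (R : CommRingCat.{u}) (A : Type u) [CommRing A] [HopfAlgebra R A]
    (H : Over (Spec R)) [GrpObj H] [IsCommMonObj H]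
    (φ : (Spec (.of A)).asOver (Spec R) ≅ H) (hφ : IsMonHom φ.hom) :
    Coalgebra.IsCocomm R A := by
  have hcomm : ∀ (T : Over (Spec R)) (f g : T ⟶ (Spec (.of A)).asOver (Spec R)),
      f * g = g * f := by
    intro T f g
    have h1 : (f * g) ≫ φ.hom = (g * f) ≫ φ.hom := by
      rw [MonObj.mul_comp, MonObj.mul_comp, mul_comm]
    exact (cancel_mono φ.hom).mp h1
  have hconv : ∀ (f g : WithConv (A →ₐ[R] (A ⊗[R] A))), f * g = g * f := by
    intro f g
    apply (Spec.mapMulEquiv (R := R) (S := A) (T := A ⊗[R] A)).injective
    rw [map_mul, map_mul]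
    exact hcomm _ _ _
  have h2 := hconv (WithConv.toConv Algebra.TensorProduct.includeLeft)
    (WithConv.toConv Algebra.TensorProduct.includeRight)
  constructor
  ext a
  have h3 := congrArg (fun f : WithConv (A →ₐ[R] (A ⊗[R] A)) => f.ofConv a) h2
  simp only [AlgHom.convMul_apply] at h3
  have h4 : ∀ w : A ⊗[R] A, (Algebra.TensorProduct.lift
      (Algebra.TensorProduct.includeLeft : A →ₐ[R] A ⊗[R] A)
      (Algebra.TensorProduct.includeRight : A →ₐ[R] A ⊗[R] A) (fun _ _ => .all _ _)) w = w := by
    intro w
    induction w using TensorProduct.induction_on with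
    | zero => simp
    | tmul x y => simp
    | add x y hx hy => rw [map_add, hx, hy]
  have h5 : ∀ w : A ⊗[R] A, (Algebra.TensorProduct.lift
      (Algebra.TensorProduct.includeRight : A →ₐ[R] A ⊗[R] A)
      (Algebra.TensorProduct.includeLeft : A →ₐ[R] A ⊗[R] A) (fun _ _ => .all _ _)) w =
      TensorProduct.comm R A A w := by
    intro w
    induction w using TensorProduct.induction_on with
    | zero => simp
    | tmul x y => simp
    | add x y hx hy => rw [map_add, hx, hy, map_add]
  rw [h4, h5] at h3
  exact h3.symm


/-- Deligne's theorem for a commutative finite locally free group scheme over an affine base -/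
theorem affine_pow_eq_one_comm (R : CommRingCat.{u}) (H : Over (Spec R)) [GrpObj H]
    [IsCommMonObj H]
    (n : ℕ) [IsFinite H.hom] [Flat H.hom] [LocallyOfFinitePresentation H.hom]
    (hr : ∀ y, H.hom.finrank y = n) : (𝟙 H : H ⟶ H) ^ n = 1 := by
  have : IsAffine H.left := isAffine_of_isAffineHom H.hom
  obtain ⟨A, _, _, φ, hφ⟩ := exists_hopf R H
  obtain ⟨h1, h2, h3, h4⟩ := props_of_iso R A H φ
  have hfpm : Module.FinitePresentation R A := .of_finite_of_finitePresentation R A
  have hproj : Module.Projective R A := Module.Flat.projective_of_finitePresentation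
  have hcc : Coalgebra.IsCocomm R A := isCocomm_of_iso R A H φ hφ
  have hconv := Deligne.id_pow_eq_one_of_rankAtStalk R A n
    (fun p => by rw [h4]; exact hr p)
  have hP := spec_id_pow R A n hconv
  have hid : (𝟙 H : H ⟶ H) = φ.inv ≫ (𝟙 _ ≫ φ.hom) := by simp
  rw [hid, ← MonObj.comp_pow, ← MonObj.pow_comp, hP, MonObj.one_comp, MonObj.comp_one]

section Local

open scoped Obj

set_option synthInstance.maxHeartbeats 400000 in
/-- **Deligne's theorem**: a commutative finite locally free group scheme of constant rank `r` is
killed by `r`. -/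
theorem pow_eq_one_of_comm {S : Scheme.{u}} (G : Over S) [GrpObj G] [IsCommMonObj G]
    [IsFinite G.hom] [Flat G.hom] [LocallyOfFinitePresentation G.hom]
    (r : ℕ) (hr : ∀ s : S, Scheme.Hom.finrank G.hom s = r) : (𝟙 G : G ⟶ G) ^ r = 1 := by
  apply pow_eq_one_of_cover G r S.affineOpenCover.openCover
  intro i
  have i1 : IsFinite ((Over.pullback (S.affineOpenCover.f i)).obj G).hom :=
    inferInstanceAs (IsFinite (pullback.snd G.hom (S.affineOpenCover.f i)))
  have i2 : Flat ((Over.pullback (S.affineOpenCover.f i)).obj G).hom :=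
    inferInstanceAs (Flat (pullback.snd G.hom (S.affineOpenCover.f i)))
  have i3 : LocallyOfFinitePresentation ((Over.pullback (S.affineOpenCover.f i)).obj G).hom :=
    inferInstanceAs (LocallyOfFinitePresentation (pullback.snd G.hom (S.affineOpenCover.f i)))
  have i4 : IsCommMonObj ((Over.pullback (S.affineOpenCover.f i)).obj G) := inferInstance
  exact affine_pow_eq_one_comm (S.affineOpenCover.X i)
    ((Over.pullback (S.affineOpenCover.f i)).obj G) r
    (fun y => by
      show Scheme.Hom.finrank (pullback.snd G.hom (S.affineOpenCover.f i)) y = r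
      rw [Scheme.Hom.finrank_pullback_snd]
      exact hr _)

end Local

end Groth.Agent.Lib.Helper14.GrpBridge
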