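import Mathlib
import Groth.Agent.Lib.Helper14.HopfOrderField

set_option autoImplicit false

/-!
# A finite group scheme of order invertible in the base field is étale (helper14)
-/

namespace Groth.Agent.Lib.Helper14.HopfOrder

open TensorProduct WithConv
open Groth.Agent.Lib.Helper14.HeightOne Groth.Agent.Lib.Helper14.ConvLemmas
open Groth.Agent.Lib.Helper14.HopfTranslate Groth.Agent.Lib.Helper14.ConnComp

universe u v

section

variable {k : Type u} [Field k] {A : Type v} [CommRing A] [HopfAlgebra k A]

/-- the decomposition `A ≅ ∏_{γ ∈ G(k)} A°` -/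
theorem pi_comp_bijective [IsAlgClosed k] [Module.Finite k A] (N : ℕ)
    (hjac : (Ideal.jacobson (⊥ : Ideal A)) ^ N = ⊥) :
    Function.Bijective (AlgHom.pi (R := k) (A := fun _ : WithConv (A →ₐ[k] k) => A ⧸ augI k A ^ N)
      (fun γ => comp N γ)) := by
  classical
  constructor
  · rw [injective_iff_map_eq_zero]
    intro a ha
    have h1 : a ∈ ⨅ γ : WithConv (A →ₐ[k] k), 𝔪 γ ^ N := by
      rw [Ideal.mem_iInf]
      intro γ
      rw [← ker_comp]
      exact congrFun ha γ
    rw [iInf_pow_eq_bot N hjac] at h1
    exact h1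
  · intro b
    choose x hx using fun γ => comp_surjective N γ (b γ)
    obtain ⟨r, hr⟩ := Ideal.exists_forall_sub_mem_ideal (pairwise_coprime (k := k) (A := A) N) x
    refine ⟨r, ?_⟩
    funext γ
    show comp N γ r = b γ
    rw [← hx γ, ← sub_eq_zero, ← map_sub, ker_comp]
    exact hr γ

theorem etale_of_finrank_ne_zero_of_isAlgClosed [IsAlgClosed k] [Module.Finite k A]
    (h : (Module.finrank k A : k) ≠ 0) : Algebra.Etale k A := by
  classical
  obtain ⟨N, hN1, hst, hjac⟩ := exists_stable_pow (k := k) (A := A)
  have hco : ((augI k A ^ N).restrictScalars k).IsCoideal := isCoideal_pow N hN1 hst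
  obtain ⟨t, ht⟩ := exists_finrank_quot (k := k) (A := A) N
  have hn := finrank_eq_card_mul (k := k) (A := A) N hjac
  have h1 : Module.finrank k (A ⧸ augI k A ^ N) = 1 := by
    rw [ht]
    obtain ⟨q, hq⟩ := CharP.exists k
    rcases CharP.char_is_prime_or_zero k q with hprime | h0
    · have : Fact q.Prime := ⟨hprime⟩
      rw [ringExpChar.eq k q]
      rcases Nat.eq_zero_or_pos t with ht0 | htpos
      · rw [ht0, pow_zero]
      · exfalso
        apply h
        rw [hn, ht, ringExpChar.eq k q]
        have hdvd : q ∣ Nat.card (WithConv (A →ₐ[k] k)) * q ^ t :=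
          Dvd.dvd.mul_left (dvd_pow_self q (by omega)) _
        exact (CharP.cast_eq_zero_iff k q _).mpr hdvd
    · subst h0
      have : CharZero k := CharP.charP_to_charZero k
      rw [ringExpChar.eq_one, one_pow]
  set B := A ⧸ augI k A ^ N
  have hεsurj : Function.Surjective (Bialgebra.counitAlgHom k B) := by
    intro c
    exact ⟨algebraMap k B c, by simp⟩
  have hεinj : Function.Injective (Bialgebra.counitAlgHom k B) := by
    have := (LinearMap.injective_iff_surjective_of_finrank_eq_finrank
      (f := (Bialgebra.counitAlgHom k B).toLinearMap) (by rw [h1, Module.finrank_self])).mpr hεsurj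
    exact this
  let e : B ≃ₐ[k] k := AlgEquiv.ofBijective (Bialgebra.counitAlgHom k B) ⟨hεinj, hεsurj⟩
  have hB : Algebra.Etale k B := Algebra.Etale.of_equiv e.symm
  let e' : A ≃ₐ[k] (WithConv (A →ₐ[k] k) → B) :=
    AlgEquiv.ofBijective _ (pi_comp_bijective N hjac)
  exact Algebra.Etale.of_equiv e'.symm

end

/-- **A finite group scheme over a field whose order is invertible is étale.** -/
theorem etale_of_finrank_ne_zero (k : Type u) [Field k] (A : Type v) [CommRing A]
    [HopfAlgebra k A] [Module.Finite k A] (h : (Module.finrank k A : k) ≠ 0) :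
    Algebra.Etale k A := by
  let K := AlgebraicClosure k
  have hK : (Module.finrank K (K ⊗[k] A) : K) ≠ 0 := by
    rw [Module.finrank_baseChange]
    intro h0
    apply h
    have : algebraMap k K (Module.finrank k A : k) = 0 := by rw [map_natCast]; exact h0
    exact (map_eq_zero_iff _ (algebraMap k K).injective).mp this
  have : Algebra.Etale K (K ⊗[k] A) := etale_of_finrank_ne_zero_of_isAlgClosed hK
  exact Algebra.Etale.of_etale_tensorProduct_of_faithfullyFlat K

end Groth.Agent.Lib.Helper14.HopfOrder
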