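import Mathlib
import Groth.Agent.Lib.Helper14.HopfEtale

set_option autoImplicit false

namespace Groth.Agent.Lib.Helper14.HopfEtaleRel

open TensorProduct
open Groth.Agent.Lib.Helper14.HopfOrder

universe u v

attribute [local instance] Algebra.TensorProduct.rightAlgebra in
/-- a finite flat finitely presented algebra with unramified fibres is étale -/
theorem etale_of_fibres (R : Type u) (A : Type v) [CommRing R] [CommRing A] [Algebra R A]
    [Module.Finite R A] [Module.Flat R A] [Algebra.FinitePresentation R A]
    (h : ∀ p : PrimeSpectrum R,
      Algebra.FormallyUnramified p.asIdeal.ResidueField (p.asIdeal.ResidueField ⊗[R] A)) :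
    Algebra.Etale R A := by
  have hΩfin : Module.Finite A Ω[A⁄R] := inferInstance
  have hΩfinR : Module.Finite R Ω[A⁄R] := Module.Finite.trans A Ω[A⁄R]
  have hsub : Subsingleton Ω[A⁄R] := by
    rw [← Module.support_eq_empty_iff (R := R)]
    rw [Set.eq_empty_iff_forall_notMem]
    intro p hp
    rw [Module.mem_support_iff_nontrivial_residueField_tensorProduct] at hp
    have h1 := (Algebra.formallyUnramified_iff _ _).mp (h p)
    let e := KaehlerDifferential.tensorKaehlerEquivBase R p.asIdeal.ResidueField A
      (p.asIdeal.ResidueField ⊗[R] A)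
    have h2 : Subsingleton (p.asIdeal.ResidueField ⊗[R] Ω[A⁄R]) := e.toEquiv.subsingleton
    exact not_subsingleton _ h2
  have hunr : Algebra.FormallyUnramified R A := (Algebra.formallyUnramified_iff _ _).mpr hsub
  exact Algebra.Etale.of_formallyUnramified_of_flat

/-- a finite locally free group scheme whose rank is invertible in all residue fields is étale -/
theorem etale_of_rank_ne_zero (R : Type u) (A : Type v) [CommRing R] [CommRing A] [HopfAlgebra R A]
    [Module.Finite R A] [Module.Flat R A] [Algebra.FinitePresentation R A]
    (h : ∀ p : PrimeSpectrum R,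
      ((Module.rankAtStalk (R := R) A p : ℕ) : p.asIdeal.ResidueField) ≠ 0) :
    Algebra.Etale R A := by
  apply etale_of_fibres
  intro p
  have hne : ((Module.finrank p.asIdeal.ResidueField (p.asIdeal.ResidueField ⊗[R] A) : ℕ) :
      p.asIdeal.ResidueField) ≠ 0 := by
    have := h p
    rw [Module.rankAtStalk_eq] at this
    exact this
  have : Algebra.Etale p.asIdeal.ResidueField (p.asIdeal.ResidueField ⊗[R] A) :=
    etale_of_finrank_ne_zero _ _ hne
  infer_instance

end Groth.Agent.Lib.Helper14.HopfEtaleRel
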