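import Mathlib
import Groth.Agent.Lib.Helper14.GrpBridge
import Groth.Agent.Lib.Helper14.HopfEtaleRel

set_option autoImplicit false

namespace Groth.Agent.Lib.Helper14.GrpBridge

open CategoryTheory MonoidalCategory CartesianMonoidalCategory MonObj GrpObj AlgebraicGeometry
open CategoryTheory.Limits
open Groth.Agent.Lib.Helper14.HopfEtaleRel

universe u

/-- étaleness of a finite locally free group scheme over an affine base with invertible rank -/
theorem affine_etale (R : CommRingCat.{u}) (H : Over (Spec R)) [GrpObj H]
    [IsFinite H.hom] [Flat H.hom] [LocallyOfFinitePresentation H.hom]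
    (h : ∀ p : PrimeSpectrum R, ((H.hom.finrank p : ℕ) : p.asIdeal.ResidueField) ≠ 0) :
    Etale H.hom := by
  have : IsAffine H.left := isAffine_of_isAffineHom H.hom
  obtain ⟨A, _, _, φ, hφ⟩ := exists_hopf R H
  obtain ⟨h1, h2, h3, h4⟩ := props_of_iso R A H φ
  have hA : Algebra.Etale R A := etale_of_rank_ne_zero R A (fun p => by rw [h4]; exact h p)
  have hP : Etale (Spec.map (CommRingCat.ofHom (algebraMap R A))) := by
    rw [HasRingHomProperty.Spec_iff (P := @Etale)]
    exact RingHom.etale_algebraMap.mpr hA
  let g : H.left ⟶ Spec (CommRingCat.of A) := φ.inv.left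
  have hg : IsIso g := inferInstanceAs (IsIso ((Over.forget _).mapIso φ).inv)
  have hw : H.hom = g ≫ Spec.map (CommRingCat.ofHom (algebraMap R A)) := (Over.w φ.inv).symm
  rw [hw]
  infer_instance

open scoped Obj

set_option synthInstance.maxHeartbeats 400000 in
/-- a finite locally free group scheme whose order is invertible on the base is étale -/
theorem etale_of_finrank_ne_zero {S : Scheme.{u}} (G : Over S) [GrpObj G]
    [IsFinite G.hom] [Flat G.hom] [LocallyOfFinitePresentation G.hom]
    (h : ∀ s : S, (Scheme.Hom.finrank G.hom s : S.residueField s) ≠ 0) : Etale G.hom := by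
  have hloc : IsZariskiLocalAtTarget @Etale.{u} :=
    HasRingHomProperty.instIsZariskiLocalAtTarget (P := @Etale.{u})
  rw [IsZariskiLocalAtTarget.iff_of_openCover (P := @Etale) S.affineOpenCover.openCover]
  intro i
  have i1 : IsFinite ((Over.pullback (S.affineOpenCover.f i)).obj G).hom :=
    inferInstanceAs (IsFinite (pullback.snd G.hom (S.affineOpenCover.f i)))
  have i2 : Flat ((Over.pullback (S.affineOpenCover.f i)).obj G).hom :=
    inferInstanceAs (Flat (pullback.snd G.hom (S.affineOpenCover.f i)))
  have i3 : LocallyOfFinitePresentation ((Over.pullback (S.affineOpenCover.f i)).obj G).hom :=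
    inferInstanceAs (LocallyOfFinitePresentation (pullback.snd G.hom (S.affineOpenCover.f i)))
  have key := affine_etale (S.affineOpenCover.X i)
    ((Over.pullback (S.affineOpenCover.f i)).obj G) (fun p => by
      have hr : Scheme.Hom.finrank ((Over.pullback (S.affineOpenCover.f i)).obj G).hom p =
          Scheme.Hom.finrank G.hom ((S.affineOpenCover.f i) p) :=
        Scheme.Hom.finrank_pullback_snd G.hom (S.affineOpenCover.f i) p
      rw [hr]
      have hs := h ((S.affineOpenCover.f i) p)
      let ψ : S.residueField ((S.affineOpenCover.f i) p) →+* p.asIdeal.ResidueField :=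
        (Scheme.Spec.residueFieldIso (S.affineOpenCover.X i) p).hom.hom.comp
          ((S.affineOpenCover.f i).residueFieldMap p).hom
      intro h0
      apply hs
      apply ψ.injective
      rw [map_natCast, map_zero]
      exact h0)
  exact key

end Groth.Agent.Lib.Helper14.GrpBridge
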