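import Groth.Statements.S4332
import Groth.Agent.Lib.Helper2.ExtEdge

set_option autoImplicit false
universe u
open CategoryTheory CategoryTheory.Limits AlgebraicGeometry Opposite
attribute [local instance] HasDerivedCategory.standard
open EtSix

namespace Groth.Agent.Lib.Helper14.HModA

variable (Λ : Type (u + 1)) [CommRing Λ] {X : Scheme.{u}}

/-- the unit section `1 ∈ Γ(X, Λ_X)` -/
noncomputable def u1 : ((constΛ Λ X).obj.obj (op (EtCoh.top X)) : Type (u+1)) :=
  ((constModAdj Λ X).unit.app (ModuleCat.of Λ Λ)).hom (1 : Λ)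

lemma ulift_hom_ext {A : AddCommGrpCat.{u+1}} (f g : AddCommGrpCat.of (ULift.{u + 1} ℤ) ⟶ A)
    (h : f.hom (ULift.up 1) = g.hom (ULift.up 1)) : f = g := by
  ext x
  obtain ⟨n⟩ := x
  have : (ULift.up n : ULift.{u+1} ℤ) = n • (ULift.up 1 : ULift.{u+1} ℤ) := by
    apply ULift.ext; simp
  rw [this, map_zsmul, map_zsmul, h]

lemma oneSection_apply :
    (oneSection Λ X).hom (ULift.up 1) = u1 Λ (X := X) := by
  unfold oneSection u1
  change (zmultiplesHom _ _) (1 : ℤ) = _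
  erw [zmultiplesHom_apply]
  exact one_zsmul _

lemma homEquiv_intToConstΛ :
    (EtCore.constAdj X).homEquiv _ _ (intToConstΛ Λ X) = oneSection Λ X := by
  simp [intToConstΛ]

variable {Λ}

lemma homEquiv_comp (F : EtModW.Mod Λ X) (f : constΛ Λ X ⟶ F) :
    ((EtCore.constAdj X).homEquiv _ _ (intToConstΛ Λ X ≫ (EtModD.forgetToAb Λ X).map f)).hom
      (ULift.up 1) = (f.hom.app (op (EtCoh.top X))).hom (u1 Λ) := by
  rw [Adjunction.homEquiv_naturality_right, homEquiv_intToConstΛ]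
  rw [AddCommGrpCat.hom_comp, AddMonoidHom.comp_apply, oneSection_apply]
  rfl

lemma homEquiv_one (F : EtModW.Mod Λ X) (f : constΛ Λ X ⟶ F) :
    ((constModAdj Λ X).homEquiv _ _ f).hom (1 : Λ) = (f.hom.app (op (EtCoh.top X))).hom (u1 Λ) := by
  rw [Adjunction.homEquiv_unit]
  rfl

theorem hom_bijective (F : EtModW.Mod Λ X) :
    Function.Bijective (fun f : constΛ Λ X ⟶ F =>
      intToConstΛ Λ X ≫ (EtModD.forgetToAb Λ X).map f) := by
  constructor
  · intro f f' h
    have h1 := congrArg (fun g => ((EtCore.constAdj X).homEquiv _ _ g).hom (ULift.up 1)) h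
    dsimp only at h1
    rw [homEquiv_comp, homEquiv_comp] at h1
    apply ((constModAdj Λ X).homEquiv _ _).injective
    apply ModuleCat.hom_ext
    apply LinearMap.ext_ring
    rw [homEquiv_one, homEquiv_one]
    exact h1
  · intro g
    let s : (F.obj.obj (op (EtCoh.top X)) : Type (u+1)) :=
      ((EtCore.constAdj X).homEquiv _ _ g).hom (ULift.up 1)
    let φ : ModuleCat.of Λ Λ ⟶ (gsecMod Λ X).obj F :=
      ModuleCat.ofHom (LinearMap.toSpanSingleton Λ _ s)
    refine ⟨((constModAdj Λ X).homEquiv _ _).symm φ, ?_⟩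
    apply ((EtCore.constAdj X).homEquiv _ _).injective
    apply ulift_hom_ext
    rw [homEquiv_comp, ← homEquiv_one, Equiv.apply_symm_apply]
    simp [φ, s]

open Abelian Groth.Agent.Lib.Helper2.ExtEdge

variable [PreservesFiniteLimits (EtModD.forgetToAb Λ X)]
  [PreservesFiniteColimits (EtModD.forgetToAb Λ X)] [(EtModD.forgetToAb Λ X).Additive]

lemma HModToH_eq_edge (F : EtModW.Mod Λ X) (n : ℕ) (x : HMod Λ X F n) :
    HModToH Λ F n x = edge (EtModD.forgetToAb Λ X) (intToConstΛ Λ X) (𝟙 _) n x := by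
  unfold edge
  rw [Ext.comp_mk₀_id]
  rfl

theorem edge_zero_bijective (F : EtModW.Mod Λ X) :
    Function.Bijective (edge (EtModD.forgetToAb Λ X) (intToConstΛ Λ X)
      (𝟙 ((EtModD.forgetToAb Λ X).obj F)) 0 (ZA := constΛ Λ X)) := by
  have key : ∀ f : constΛ Λ X ⟶ F,
      edge (EtModD.forgetToAb Λ X) (intToConstΛ Λ X) (𝟙 ((EtModD.forgetToAb Λ X).obj F)) 0
        (Ext.mk₀ f) = Ext.mk₀ (intToConstΛ Λ X ≫ (EtModD.forgetToAb Λ X).map f) := by
    intro f
    unfold edge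
    rw [Ext.comp_mk₀_id, Ext.mapExactFunctor_mk₀, Ext.mk₀_comp_mk₀]
  constructor
  · intro x y h
    obtain ⟨f, rfl⟩ := (Ext.mk₀_bijective _ _).2 x
    obtain ⟨g, rfl⟩ := (Ext.mk₀_bijective _ _).2 y
    rw [key, key] at h
    rw [(hom_bijective F).1 ((Ext.mk₀_bijective _ _).1 h)]
  · intro y
    obtain ⟨g, rfl⟩ := (Ext.mk₀_bijective _ _).2 y
    obtain ⟨f, hf⟩ := (hom_bijective F).2 g
    exact ⟨Ext.mk₀ f, by rw [key]; exact congrArg _ hf⟩

end Groth.Agent.Lib.Helper14.HModA
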