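import Groth.Statements.S4332
import Mathlib.CategoryTheory.Preadditive.Yoneda.Limits

set_option autoImplicit false
universe u
open CategoryTheory CategoryTheory.Limits AlgebraicGeometry Opposite

namespace Groth.Agent.Lib.Helper14.HModB

variable {X : Scheme.{u}}

/-- sectionwise short exact complexes of étale abelian sheaves are short exact -/
theorem shortExact_of_sections (S : ShortComplex (EtCoh.Ab X))
    (hinj : ∀ U : X.Etale, Function.Injective (S.f.hom.app (op U)))
    (hex : ∀ (U : X.Etale) (s : S.X₂.obj.obj (op U)), S.g.hom.app (op U) s = 0 →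
      ∃ t : S.X₁.obj.obj (op U), S.f.hom.app (op U) t = s)
    (hsurj : ∀ U : X.Etale, Function.Surjective (S.g.hom.app (op U))) : S.ShortExact := by
  have hmono : Mono S.f := by
    have : Mono S.f.hom := by
      rw [NatTrans.mono_iff_mono_app]
      intro U
      rw [AddCommGrpCat.mono_iff_injective]
      exact hinj U.unop
    exact Sheaf.Hom.mono_of_presheaf_mono _ _ S.f
  have hepi : Epi S.g := by
    haveI : Sheaf.IsLocallySurjective S.g := by
      constructor
      intro U s
      obtain ⟨t, ht⟩ := hsurj U s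
      refine X.smallEtaleTopology.superset_covering ?_ (X.smallEtaleTopology.top_mem U)
      rintro V i -
      exact ⟨S.X₂.obj.map i.op t, by
        rw [← ht]
        exact ConcreteCategory.congr_hom (S.g.hom.naturality i.op) t⟩
    exact Sheaf.epi_of_isLocallySurjective _
  refine ShortComplex.ShortExact.mk' ?_ hmono hepi
  let F := sheafToPresheaf X.smallEtaleTopology AddCommGrpCat.{u+1}
  have hzero : F.map S.f ≫ F.map S.g = 0 := by
    rw [← F.map_comp, S.zero, F.map_zero]
  have hker : ∀ U : (X.Etale)ᵒᵖ,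
      IsLimit (((evaluation _ _).obj U).mapCone (KernelFork.ofι (F.map S.f) hzero)) := by
    intro U
    refine (isLimitMapConeForkEquiv' ((evaluation _ _).obj U) hzero).symm ?_
    let T : ShortComplex AddCommGrpCat.{u+1} :=
      ShortComplex.mk (S.f.hom.app U) (S.g.hom.app U) (by
        have := congrArg (fun φ => φ.app U) hzero
        exact this)
    have hT : T.Exact := by
      rw [ShortComplex.ab_exact_iff]
      intro s hs
      exact hex U.unop s hs
    haveI hTm : Mono T.f := by
      rw [AddCommGrpCat.mono_iff_injective]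
      exact hinj U.unop
    exact hT.fIsKernel
  have h1 : IsLimit (KernelFork.ofι (F.map S.f) hzero) :=
    evaluationJointlyReflectsLimits _ hker
  have h2 : IsLimit (F.mapCone (KernelFork.ofι S.f S.zero)) :=
    (isLimitMapConeForkEquiv' F S.zero).symm h1
  exact S.exact_of_f_is_kernel (isLimitOfReflects F h2)

section Coind

variable (Λ : Type (u + 1)) [CommRing Λ]

/-- `Λ` acts on itself by multiplication: `Λ → End(Λ)ᵐᵒᵖ`. -/
noncomputable def ρ : Λ →+* (End (AddCommGrpCat.of Λ))ᵐᵒᵖ where
  toFun c := MulOpposite.op (AddCommGrpCat.ofHom (AddMonoidHom.mulLeft c))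
  map_one' := by
    apply MulOpposite.unop_injective
    apply AddCommGrpCat.hom_ext
    ext x
    simp
  map_mul' c d := by
    apply MulOpposite.unop_injective
    apply AddCommGrpCat.hom_ext
    ext x
    simp [End.mul_def, mul_comm, mul_left_comm]
  map_zero' := by
    apply MulOpposite.unop_injective
    apply AddCommGrpCat.hom_ext
    ext x
    simp
  map_add' c d := by
    apply MulOpposite.unop_injective
    apply AddCommGrpCat.hom_ext
    ext x
    simp [add_mul]
    rfl

/-- coinduction `A ↦ Hom_ℤ(Λ, A)` -/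
noncomputable def C : AddCommGrpCat.{u+1} ⥤ ModuleCat.{u+1} Λ :=
  preadditiveCoyonedaObj (AddCommGrpCat.of Λ) ⋙ ModuleCat.restrictScalars (ρ Λ)

lemma C_smul_apply (A : AddCommGrpCat.{u+1}) (c : Λ) (g : ((C Λ).obj A : Type (u+1))) (x : Λ) :
    (show AddCommGrpCat.of Λ ⟶ A from c • g).hom x =
      (show AddCommGrpCat.of Λ ⟶ A from g).hom (c * x) := rfl

instance (R S : Type (u+1)) [Ring R] [Ring S] (f : R →+* S) :
    PreservesLimitsOfSize.{u, u+1} (ModuleCat.restrictScalars.{u+1} f) :=
  ⟨⟨inferInstance⟩⟩

instance : PreservesLimitsOfSize.{u, u+1} (preadditiveCoyonedaObj (AddCommGrpCat.of Λ)) :=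
  preservesLimitsOfSize_of_univLE.{u+1, u+1, u, u+1} _

instance : PreservesLimitsOfSize.{u, u+1} (C Λ) := by
  unfold C; infer_instance

instance (M : AddCommGrpCat.{u+1}) :
    PreservesLimitsOfSize.{u, u+1} (preadditiveCoyoneda.obj (op M)) :=
  preservesLimitsOfSize_of_univLE.{u+1, u+1, u, u+1} _

instance : X.smallEtaleTopology.HasSheafCompose (C Λ) :=
  ⟨fun P hP => Presheaf.isSheaf_comp_of_isSheaf X.smallEtaleTopology P (C Λ) hP⟩

instance (M : AddCommGrpCat.{u+1}) :
    X.smallEtaleTopology.HasSheafCompose (preadditiveCoyoneda.obj (op M)) :=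
  ⟨fun P hP => Presheaf.isSheaf_comp_of_isSheaf X.smallEtaleTopology P _ hP⟩

/-- coinduced sheaf of modules -/
noncomputable def R (X : Scheme.{u}) : EtCoh.Ab X ⥤ EtModW.Mod Λ X :=
  sheafCompose X.smallEtaleTopology (C Λ)

/-- `Hom_ℤ(M, -)` on sheaves -/
noncomputable def T (X : Scheme.{u}) (M : AddCommGrpCat.{u+1}) : EtCoh.Ab X ⥤ EtCoh.Ab X :=
  sheafCompose X.smallEtaleTopology (preadditiveCoyoneda.obj (op M))

end Coind

end Groth.Agent.Lib.Helper14.HModB
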