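import Groth.Agent.Lib.Helper14.HModB

set_option autoImplicit false
universe u
open CategoryTheory CategoryTheory.Limits AlgebraicGeometry Opposite

namespace Groth.Agent.Lib.Helper14.HModB

variable (Λ : Type (u + 1)) [CommRing Λ] {X : Scheme.{u}}

/-- the underlying map of an element of the coinduced module -/
def toHom {A : AddCommGrpCat.{u+1}} (g : ((C Λ).obj A : Type (u+1))) : AddCommGrpCat.of Λ ⟶ A := g

/-- an element of the coinduced module from a map -/
def ofHom' {A : AddCommGrpCat.{u+1}} (g : AddCommGrpCat.of Λ ⟶ A) : ((C Λ).obj A : Type (u+1)) := g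

lemma toHom_add {A : AddCommGrpCat.{u+1}} (g h : ((C Λ).obj A : Type (u+1))) :
    toHom Λ (g + h) = toHom Λ g + toHom Λ h := rfl

lemma toHom_smul {A : AddCommGrpCat.{u+1}} (c : Λ) (g : ((C Λ).obj A : Type (u+1))) (x : Λ) :
    (toHom Λ (c • g)).hom x = (toHom Λ g).hom (c * x) := rfl

lemma toHom_injective {A : AddCommGrpCat.{u+1}} : Function.Injective (toHom Λ (A := A)) :=
  fun _ _ h => h

lemma C_map_apply {A B : AddCommGrpCat.{u+1}} (f : A ⟶ B) (g : ((C Λ).obj A : Type (u+1))) :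
    toHom Λ (((C Λ).map f).hom g) = toHom Λ g ≫ f := rfl

/-- unit: `M → Hom_ℤ(Λ, M)`, `x ↦ (c ↦ c • x)` -/
noncomputable def unitLin (M : ModuleCat.{u+1} Λ) :
    M →ₗ[Λ] ((C Λ).obj ((forget₂ (ModuleCat Λ) AddCommGrpCat).obj M) : ModuleCat.{u+1} Λ) where
  toFun := fun x => ofHom' Λ (AddCommGrpCat.ofHom
        ((LinearMap.toSpanSingleton Λ M x).toAddMonoidHom))
  map_add' := fun x y => by
        apply toHom_injective
        apply AddCommGrpCat.hom_ext
        ext c
        exact smul_add c x y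
  map_smul' := fun c x => by
        apply toHom_injective
        apply AddCommGrpCat.hom_ext
        ext d
        change d • (c • x) = (c * d) • x
        rw [mul_comm, mul_smul]

/-- unit: `M → Hom_ℤ(Λ, M)`, `x ↦ (c ↦ c • x)` -/
noncomputable def unitC (M : ModuleCat.{u+1} Λ) :
    M ⟶ (C Λ).obj ((forget₂ (ModuleCat Λ) AddCommGrpCat).obj M) :=
  ConcreteCategory.ofHom (C := ModuleCat.{u+1} Λ) (unitLin Λ M)

lemma unitC_apply (M : ModuleCat.{u+1} Λ) (x : M) (c : Λ) :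
    (toHom Λ ((unitC Λ M).hom x)).hom c = c • x := rfl

lemma unitC_naturality {M N : ModuleCat.{u+1} Λ} (f : M ⟶ N) :
    unitC Λ M ≫ (C Λ).map ((forget₂ (ModuleCat Λ) AddCommGrpCat).map f) = f ≫ unitC Λ N := by
  apply ModuleCat.hom_ext
  ext x
  apply toHom_injective
  apply AddCommGrpCat.hom_ext
  ext c
  change f.hom (c • x) = c • f.hom x
  exact map_smul _ _ _

/-- `η : I → R(Φ I)` -/
noncomputable def η (I : EtModW.Mod Λ X) : I ⟶ (R Λ X).obj ((EtModD.forgetToAb Λ X).obj I) :=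
  ⟨{ app := fun V => unitC Λ (I.obj.obj V)
     naturality := fun V W f => (unitC_naturality Λ (I.obj.map f)).symm }⟩

lemma η_apply (I : EtModW.Mod Λ X) (V : X.Etaleᵒᵖ) (x : I.obj.obj V) (c : Λ) :
    (toHom Λ (((η Λ I).hom.app V).hom x)).hom c = c • x := rfl

/-- the mono `I → R(J)` induced by a mono `Φ I → J` -/
noncomputable def η' (I : EtModW.Mod Λ X) {J : EtCoh.Ab X} (ι : (EtModD.forgetToAb Λ X).obj I ⟶ J) :
    I ⟶ (R Λ X).obj J := η Λ I ≫ (R Λ X).map ι

lemma η'_apply (I : EtModW.Mod Λ X) {J : EtCoh.Ab X} (ι : (EtModD.forgetToAb Λ X).obj I ⟶ J)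
    (V : X.Etaleᵒᵖ) (x : I.obj.obj V) (c : Λ) :
    (toHom Λ (((η' Λ I ι).hom.app V).hom x)).hom c = (ι.hom.app V).hom (c • x) := rfl

instance mono_η' (I : EtModW.Mod Λ X) {J : EtCoh.Ab X} (ι : (EtModD.forgetToAb Λ X).obj I ⟶ J)
    [Mono ι] : Mono (η' Λ I ι) := by
  have hι : ∀ V, Function.Injective (ι.hom.app V) := by
    intro V
    have h1 : Mono ι.hom := (Sheaf.Hom.mono_iff_presheaf_mono _ _ ι).1 inferInstance
    rw [NatTrans.mono_iff_mono_app] at h1
    exact (AddCommGrpCat.mono_iff_injective _).1 (h1 V)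
  have : Mono (η' Λ I ι).hom := by
    rw [NatTrans.mono_iff_mono_app]
    intro V
    rw [ModuleCat.mono_iff_injective]
    intro x y hxy
    apply hι V
    have h := congrArg (fun g => (toHom Λ g).hom 1) hxy
    have h1 := η'_apply Λ I ι V x 1
    have h2 := η'_apply Λ I ι V y 1
    rw [one_smul] at h1 h2
    exact h1.symm.trans (h.trans h2)
  exact Sheaf.Hom.mono_of_presheaf_mono _ _ _

/-- `Φ(R J) ≅ T_Λ J` -/
noncomputable def ΦRIso (J : EtCoh.Ab X) :
    (EtModD.forgetToAb Λ X).obj ((R Λ X).obj J) ≅ (T X (AddCommGrpCat.of Λ)).obj J where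
  hom := ⟨{ app := fun V => 𝟙 _, naturality := fun V W f => by rfl }⟩
  inv := ⟨{ app := fun V => 𝟙 _, naturality := fun V W f => by rfl }⟩
  hom_inv_id := by ext V x; rfl
  inv_hom_id := by ext V x; rfl

/-- an injective sheaf of modules is, as abelian sheaf, a retract of `T_Λ J` -/
theorem exists_retract (I : EtModW.Mod Λ X) [Injective I] {J : EtCoh.Ab X}
    (ι : (EtModD.forgetToAb Λ X).obj I ⟶ J) [Mono ι] :
    ∃ (a : (EtModD.forgetToAb Λ X).obj I ⟶ (T X (AddCommGrpCat.of Λ)).obj J)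
      (b : (T X (AddCommGrpCat.of Λ)).obj J ⟶ (EtModD.forgetToAb Λ X).obj I), a ≫ b = 𝟙 _ := by
  refine ⟨(EtModD.forgetToAb Λ X).map (η' Λ I ι) ≫ (ΦRIso Λ J).hom,
    (ΦRIso Λ J).inv ≫ (EtModD.forgetToAb Λ X).map (Injective.factorThru (𝟙 I) (η' Λ I ι)), ?_⟩
  rw [Category.assoc, Iso.hom_inv_id_assoc, ← Functor.map_comp, Injective.comp_factorThru,
    CategoryTheory.Functor.map_id]

end Groth.Agent.Lib.Helper14.HModB
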