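import Groth.Agent.Lib.Helper14.HModC
import Groth.Agent.Lib.Helper27.EtTrace1

set_option autoImplicit false
universe u
open CategoryTheory CategoryTheory.Limits AlgebraicGeometry Opposite
open Groth.Agent.Lib.Helper27.EtTrace Groth.Agent.Lib.Helper27.GabberCrit

namespace Groth.Agent.Lib.Helper14.HModB

variable {X : Scheme.{u}}

theorem mono_zsmul_const (U : Scheme.{u}) (n : ℤ) (hn : n ≠ 0) :
    Mono (n • 𝟙 (EtCoh.const U ℤ)) := by
  have h1 : Mono (n • 𝟙 (AddCommGrpCat.of (ULift.{u + 1} ℤ))) := by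
    rw [AddCommGrpCat.mono_iff_injective]
    intro a b hab
    change n • a = n • b at hab
    apply ULift.ext
    have := congrArg ULift.down hab
    simpa [hn] using this
  have h2 : (constantSheaf U.smallEtaleTopology AddCommGrpCat.{u + 1}).map
      (n • 𝟙 (AddCommGrpCat.of (ULift.{u + 1} ℤ))) = n • 𝟙 (EtCoh.const U ℤ) := by
    rw [Functor.map_zsmul, CategoryTheory.Functor.map_id]
  rw [← h2]
  haveI : Mono ((Functor.const (U.Etale)ᵒᵖ).map (n • 𝟙 (AddCommGrpCat.of (ULift.{u + 1} ℤ)))) := by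
    haveI : ∀ V, Mono (((Functor.const (U.Etale)ᵒᵖ).map
        (n • 𝟙 (AddCommGrpCat.of (ULift.{u + 1} ℤ)))).app V) := fun V => h1
    exact NatTrans.mono_of_mono_app _
  haveI : (presheafToSheaf U.smallEtaleTopology AddCommGrpCat.{u + 1}).PreservesMonomorphisms :=
    preservesMonomorphisms_of_preservesLimitsOfShape _
  exact inferInstanceAs (Mono ((presheafToSheaf U.smallEtaleTopology AddCommGrpCat.{u + 1}).map
    ((Functor.const (U.Etale)ᵒᵖ).map (n • 𝟙 (AddCommGrpCat.of (ULift.{u + 1} ℤ))))))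

/-- sections of an injective abelian sheaf form a divisible group -/
theorem exists_zsmul_eq_of_injective (J : EtCoh.Ab X) [Injective J] (W : X.Etale)
    (n : ℤ) (hn : n ≠ 0) (x : J.obj.obj (op W)) : ∃ y : J.obj.obj (op W), n • y = x := by
  haveI : Etale W.hom := W.prop
  let e : Tj W.hom ≅ W := MorphismProperty.Over.isoMk (Iso.refl _) rfl
  let x' : J.obj.obj (op (Tj W.hom)) := J.obj.map e.hom.op x
  obtain ⟨φ, hφ⟩ := (sMorE_bijective W.hom J).2
    ((AddCommGrpCat.uliftZMultiplesAddEquiv _).symm x')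
  haveI : Mono (n • 𝟙 (Zj W.hom)) := by
    have : (EtShriek.extZero W.hom).map (n • 𝟙 (EtCoh.const W.left ℤ)) = n • 𝟙 (Zj W.hom) := by
      rw [Functor.map_zsmul, CategoryTheory.Functor.map_id]
      rfl
    rw [← this]
    haveI := mono_zsmul_const W.left n hn
    infer_instance
  let ψ : Zj W.hom ⟶ J := Injective.factorThru φ (n • 𝟙 (Zj W.hom))
  have hψ : ψ ≫ (n • 𝟙 J) = φ := by
    rw [Preadditive.comp_zsmul, Category.comp_id, ← Category.id_comp ψ, ← Preadditive.zsmul_comp]
    exact Injective.comp_factorThru φ _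
  let y' : J.obj.obj (op (Tj W.hom)) := AddCommGrpCat.uliftZMultiplesAddEquiv _ (sMorE W.hom J ψ)
  have hy' : n • y' = x' := by
    have h1 := sMorE_naturality W.hom ψ (n • 𝟙 J)
    rw [hψ, hφ] at h1
    have h2 := congrArg (AddCommGrpCat.uliftZMultiplesAddEquiv _) h1
    rw [AddEquiv.apply_symm_apply] at h2
    rw [h2]
    rfl
  refine ⟨J.obj.map e.inv.op y', ?_⟩
  rw [← map_zsmul, hy']
  change (J.obj.map e.hom.op ≫ J.obj.map e.inv.op) x = x
  rw [← Functor.map_comp, ← op_comp, Iso.inv_hom_id, op_id, CategoryTheory.Functor.map_id]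
  rfl

/-- sections of an injective abelian sheaf form an injective abelian group -/
theorem injective_sections (J : EtCoh.Ab X) [Injective J] (W : X.Etale) :
    Injective (J.obj.obj (op W)) := by
  letI : DivisibleBy (J.obj.obj (op W)) ℤ :=
    divisibleByOfSMulRightSurj _ _
      (fun {n} hn x => exists_zsmul_eq_of_injective J W n hn x)
  exact AddCommGrpCat.injective_of_divisible (J.obj.obj (op W))

/-- `T` is contravariant in the group -/
noncomputable def Tmap {M M' : AddCommGrpCat.{u+1}} (f : M ⟶ M') (J : EtCoh.Ab X) :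
    (T X M').obj J ⟶ (T X M).obj J :=
  ⟨Functor.whiskerLeft J.obj (preadditiveCoyoneda.map f.op)⟩

lemma Tmap_apply {M M' : AddCommGrpCat.{u+1}} (f : M ⟶ M') (J : EtCoh.Ab X) (V : X.Etaleᵒᵖ)
    (g : M' ⟶ J.obj.obj V) :
    ((Tmap f J).hom.app V).hom g = f ≫ g := rfl

/-- the free presentation sequence `0 → T_M J → T_L J → T_K J → 0` -/
noncomputable def Lf (M : AddCommGrpCat.{u+1}) : AddCommGrpCat.{u+1} :=
  AddCommGrpCat.of (FreeAbelianGroup M)

noncomputable def πf (M : AddCommGrpCat.{u+1}) : Lf M ⟶ M :=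
  AddCommGrpCat.ofHom (FreeAbelianGroup.lift id)

lemma πf_surjective (M : AddCommGrpCat.{u+1}) : Function.Surjective (πf M).hom := by
  intro m
  exact ⟨FreeAbelianGroup.of m, FreeAbelianGroup.lift_apply_of id m⟩

noncomputable def Kf (M : AddCommGrpCat.{u+1}) : AddCommGrpCat.{u+1} :=
  AddCommGrpCat.of (πf M).hom.ker

noncomputable def ιf (M : AddCommGrpCat.{u+1}) : Kf M ⟶ Lf M :=
  AddCommGrpCat.ofHom (AddSubgroup.subtype _)

lemma ιf_πf (M : AddCommGrpCat.{u+1}) : ιf M ≫ πf M = 0 := by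
  ext ⟨x, hx⟩
  exact hx

instance (M : AddCommGrpCat.{u+1}) : Mono (ιf M) := by
  rw [AddCommGrpCat.mono_iff_injective]
  exact Subtype.val_injective

instance (M : AddCommGrpCat.{u+1}) : Epi (πf M) := by
  rw [AddCommGrpCat.epi_iff_surjective]
  exact πf_surjective M

noncomputable def SM (M : AddCommGrpCat.{u+1}) (J : EtCoh.Ab X) : ShortComplex (EtCoh.Ab X) :=
  ShortComplex.mk (Tmap (πf M) J) (Tmap (ιf M) J) (by
    ext V g
    change ιf M ≫ (πf M ≫ g) = 0
    rw [← Category.assoc, ιf_πf, zero_comp])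

theorem SM_shortExact (M : AddCommGrpCat.{u+1}) (J : EtCoh.Ab X) [Injective J] :
    (SM M J).ShortExact := by
  apply shortExact_of_sections
  · intro U g g' h
    exact (cancel_epi (πf M)).1 h
  · intro U h hh
    change ιf M ≫ h = 0 at hh
    change ∃ g : M ⟶ J.obj.obj (op U), πf M ≫ g = h
    have hker : (πf M).hom.ker ≤ h.hom.ker := by
      intro x hx
      have := ConcreteCategory.congr_hom hh ⟨x, hx⟩
      exact this
    have hri : Function.RightInverse (Function.surjInv (πf_surjective M)) (πf M).hom :=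
      Function.rightInverse_surjInv (πf_surjective M)
    refine ⟨AddCommGrpCat.ofHom ((πf M).hom.liftOfRightInverse (Function.surjInv (πf_surjective M))
      hri ⟨h.hom, hker⟩), ?_⟩
    ext x
    exact AddMonoidHom.liftOfRightInverse_comp_apply _ _ hri ⟨h.hom, hker⟩ x
  · intro U k
    have hinj : Injective (J.obj.obj (op U)) := injective_sections J U
    exact ⟨@Injective.factorThru _ _ (J.obj.obj (op U)) _ _ hinj
      (show Kf M ⟶ J.obj.obj (op U) from k) (ιf M) _,
      @Injective.comp_factorThru _ _ (J.obj.obj (op U)) _ _ hinj _ _ _⟩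

end Groth.Agent.Lib.Helper14.HModB
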