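import Groth.Agent.Lib.Helper14.HModD

set_option autoImplicit false
universe u
open CategoryTheory CategoryTheory.Limits AlgebraicGeometry Opposite

namespace Groth.Agent.Lib.Helper14.HModB

variable {X : Scheme.{u}}

/-- evaluation at a generator: `T_{ℤ[S]} J → J` -/
noncomputable def evS (S : Type (u+1)) (J : EtCoh.Ab X) (s : S) :
    (T X (AddCommGrpCat.of (FreeAbelianGroup S))).obj J ⟶ J :=
  ⟨{ app := fun V => AddCommGrpCat.ofHom
      { toFun := fun (g : AddCommGrpCat.of (FreeAbelianGroup S) ⟶ J.obj.obj V) =>
          g.hom (FreeAbelianGroup.of s)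
        map_zero' := rfl
        map_add' := fun _ _ => rfl }
     naturality := fun V W f => rfl }⟩

lemma evS_apply (S : Type (u+1)) (J : EtCoh.Ab X) (s : S) (V : X.Etaleᵒᵖ)
    (g : AddCommGrpCat.of (FreeAbelianGroup S) ⟶ J.obj.obj V) :
    ((evS S J s).hom.app V).hom g = g.hom (FreeAbelianGroup.of s) := rfl

/-- assembling a map into `T_{ℤ[S]} J` from its components -/
noncomputable def liftS (S : Type (u+1)) (J : EtCoh.Ab X) {B : EtCoh.Ab X} (h : S → (B ⟶ J)) :
    B ⟶ (T X (AddCommGrpCat.of (FreeAbelianGroup S))).obj J :=
  ⟨{ app := fun V => AddCommGrpCat.ofHom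
      { toFun := fun b => (AddCommGrpCat.ofHom
          (FreeAbelianGroup.lift (fun s => ((h s).hom.app V).hom b)) :
            AddCommGrpCat.of (FreeAbelianGroup S) ⟶ J.obj.obj V)
        map_zero' := by
          apply AddCommGrpCat.hom_ext
          apply FreeAbelianGroup.lift_ext
          intro s
          change FreeAbelianGroup.lift (fun s => ((h s).hom.app V).hom 0) (FreeAbelianGroup.of s) = 0
          rw [FreeAbelianGroup.lift_apply_of, map_zero]
        map_add' := fun b b' => by
          apply AddCommGrpCat.hom_ext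
          apply FreeAbelianGroup.lift_ext
          intro s
          change FreeAbelianGroup.lift (fun s => ((h s).hom.app V).hom (b + b'))
              (FreeAbelianGroup.of s) =
            FreeAbelianGroup.lift (fun s => ((h s).hom.app V).hom b) (FreeAbelianGroup.of s) +
              FreeAbelianGroup.lift (fun s => ((h s).hom.app V).hom b') (FreeAbelianGroup.of s)
          rw [FreeAbelianGroup.lift_apply_of, FreeAbelianGroup.lift_apply_of,
            FreeAbelianGroup.lift_apply_of, map_add] }
     naturality := fun V W f => by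
      ext b
      apply AddCommGrpCat.hom_ext
      apply FreeAbelianGroup.lift_ext
      intro s
      have := ConcreteCategory.congr_hom ((h s).hom.naturality f) b
      change FreeAbelianGroup.lift (fun s => ((h s).hom.app W).hom ((B.obj.map f).hom b))
          (FreeAbelianGroup.of s) =
        (J.obj.map f).hom (FreeAbelianGroup.lift (fun s => ((h s).hom.app V).hom b)
          (FreeAbelianGroup.of s))
      rw [FreeAbelianGroup.lift_apply_of, FreeAbelianGroup.lift_apply_of]
      exact this }⟩

lemma liftS_evS (S : Type (u+1)) (J : EtCoh.Ab X) {B : EtCoh.Ab X} (h : S → (B ⟶ J)) (s : S) :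
    liftS S J h ≫ evS S J s = h s := by
  ext V b
  exact FreeAbelianGroup.lift_apply_of (fun s => ((h s).hom.app V).hom b) s

lemma hom_ext_T (S : Type (u+1)) (J : EtCoh.Ab X) {B : EtCoh.Ab X}
    (f g : B ⟶ (T X (AddCommGrpCat.of (FreeAbelianGroup S))).obj J)
    (h : ∀ s, f ≫ evS S J s = g ≫ evS S J s) : f = g := by
  ext V b
  apply AddCommGrpCat.hom_ext
  apply FreeAbelianGroup.lift_ext
  intro s
  have := congrArg (fun φ : B ⟶ J => (φ.hom.app V).hom b) (h s)
  exact this

instance injective_T_free (S : Type (u+1)) (J : EtCoh.Ab X) [Injective J] :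
    Injective ((T X (AddCommGrpCat.of (FreeAbelianGroup S))).obj J) := by
  constructor
  intro A B g i _
  refine ⟨liftS S J (fun s => Injective.factorThru (g ≫ evS S J s) i), ?_⟩
  apply hom_ext_T
  intro s
  rw [Category.assoc, liftS_evS, Injective.comp_factorThru]

end Groth.Agent.Lib.Helper14.HModB
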