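import Groth.Agent.Lib.Helper14.HModE
import Groth.Agent.Lib.Helper14.HModA

set_option autoImplicit false
universe u
open CategoryTheory CategoryTheory.Limits AlgebraicGeometry Opposite Abelian
attribute [local instance] HasDerivedCategory.standard

namespace Groth.Agent.Lib.Helper14.HModB

variable {X : Scheme.{u}}

/-- the constant sheaf `ℤ_X` -/
noncomputable abbrev ZX (X : Scheme.{u}) : EtCoh.Ab X :=
  (constantSheaf X.smallEtaleTopology AddCommGrpCat.{u + 1}).obj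
    (AddCommGrpCat.of (ULift.{u + 1} ℤ))

lemma Tmap_ιf_surjective (M : AddCommGrpCat.{u+1}) (J : EtCoh.Ab X) [Injective J] (U : X.Etale) :
    Function.Surjective ((Tmap (ιf M) J).hom.app (op U)) := by
  intro k
  have hinj : Injective (J.obj.obj (op U)) := injective_sections J U
  exact ⟨@Injective.factorThru _ _ (J.obj.obj (op U)) _ _ hinj
      (show Kf M ⟶ J.obj.obj (op U) from k) (ιf M) _,
      @Injective.comp_factorThru _ _ (J.obj.obj (op U)) _ _ hinj _ _ _⟩

/-- global sections lift along `T_L J → T_K J` -/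
lemma exists_lift_ZX (M : AddCommGrpCat.{u+1}) (J : EtCoh.Ab X) [Injective J]
    (φ : ZX X ⟶ (T X (Kf M)).obj J) :
    ∃ ψ : ZX X ⟶ (T X (Lf M)).obj J, ψ ≫ Tmap (ιf M) J = φ := by
  let adj := EtCore.constAdj X
  let φ' := adj.homEquiv _ _ φ
  obtain ⟨l₀, hl₀⟩ := Tmap_ιf_surjective M J (EtCoh.top X)
    (AddCommGrpCat.uliftZMultiplesAddEquiv _ φ')
  let ψ' : AddCommGrpCat.of (ULift.{u + 1} ℤ) ⟶ (EtCore.gsec X).obj ((T X (Lf M)).obj J) :=
    (AddCommGrpCat.uliftZMultiplesAddEquiv _).symm l₀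
  refine ⟨(adj.homEquiv _ _).symm ψ', ?_⟩
  apply (adj.homEquiv _ _).injective
  rw [Adjunction.homEquiv_naturality_right, Equiv.apply_symm_apply]
  apply (AddCommGrpCat.uliftZMultiplesAddEquiv _).injective
  refine Eq.trans ?_ hl₀
  change ((Tmap (ιf M) J).hom.app (op (EtCoh.top X))).hom
    (AddCommGrpCat.uliftZMultiplesAddEquiv _ ψ') = _
  exact congrArg _ (AddEquiv.apply_symm_apply _ l₀)

theorem ext_T_eq_zero (J : EtCoh.Ab X) [Injective J] :
    ∀ (n : ℕ) (M : AddCommGrpCat.{u+1}) (x : Ext (ZX X) ((T X M).obj J) (n + 1)), x = 0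
  | 0, M, x => by
    have hS := SM_shortExact M J
    haveI : Injective (SM M J).X₂ := injective_T_free _ J
    have h0 : x.comp (Ext.mk₀ (SM M J).f) (add_zero 1) = 0 := Ext.eq_zero_of_injective _
    obtain ⟨y, hy⟩ := Ext.covariant_sequence_exact₁ (ZX X) hS x h0 (zero_add 1)
    obtain ⟨φ, rfl⟩ := (Ext.mk₀_bijective _ _).2 y
    obtain ⟨ψ, hψ⟩ : ∃ ψ : ZX X ⟶ (SM M J).X₂, ψ ≫ (SM M J).g = φ := exists_lift_ZX M J φ
    rw [← hy, ← hψ, ← Ext.mk₀_comp_mk₀, Ext.comp_assoc_of_second_deg_zero, hS.comp_extClass,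
      Ext.comp_zero]
    rfl
  | n + 1, M, x => by
    have hS := SM_shortExact M J
    haveI : Injective (SM M J).X₂ := injective_T_free _ J
    have h0 : x.comp (Ext.mk₀ (SM M J).f) (add_zero (n + 1 + 1)) = 0 :=
      Ext.eq_zero_of_injective _
    obtain ⟨y, hy⟩ := Ext.covariant_sequence_exact₁ (ZX X) hS x h0 rfl
    have hy0 : y = 0 := ext_T_eq_zero J n (Kf M) y
    rw [← hy, hy0, Ext.zero_comp]
    rfl

variable (Λ : Type (u + 1)) [CommRing Λ]

/-- an injective sheaf of modules is acyclic as an abelian sheaf -/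
theorem ext_forget_eq_zero (I : EtModW.Mod Λ X) [Injective I] (n : ℕ)
    (x : Ext (ZX X) ((EtModD.forgetToAb Λ X).obj I) (n + 1)) : x = 0 := by
  obtain ⟨a, b, hab⟩ := exists_retract Λ I (Injective.ι ((EtModD.forgetToAb Λ X).obj I))
  have h1 : x = (x.comp (Ext.mk₀ a) (add_zero _)).comp (Ext.mk₀ b) (add_zero _) := by
    rw [Ext.comp_assoc_of_third_deg_zero, Ext.mk₀_comp_mk₀, hab, Ext.comp_mk₀_id]
  rw [h1, ext_T_eq_zero _ n _ (x.comp (Ext.mk₀ a) (add_zero _)), Ext.zero_comp]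

end Groth.Agent.Lib.Helper14.HModB
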