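import Mathlib.RingTheory.Unramified.LocalRing
import Mathlib.RingTheory.Flat.FaithfullyFlat.Algebra
import Mathlib.RingTheory.Localization.Away.Lemmas
import Mathlib.RingTheory.Nakayama

/-! Ring-level lemmas for the local structure of étale schemes over a henselian local ring. -/

universe u

namespace Groth.Agent.Lib.Helper14.HensLocA

open IsLocalRing

/-- If the factor `T/(1-e)` of `T` cut out by an idempotent `e ∉ Q` inverts exactly the elements
outside `Q`, the localization of `T` at `Q` is the localization away from `e`. -/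
theorem away_of_atPrime {T : Type*} [CommRing T] (Q : Ideal T) [Q.IsPrime] (e : T)
    (he : IsIdempotentElem e) (heQ : e ∉ Q)
    (hunit : ∀ t : T, t ∉ Q → IsUnit (Ideal.Quotient.mk (Ideal.span {1 - e}) t))
    (A : Type*) [CommRing A] [Algebra T A] [IsLocalization.AtPrime A Q] :
    IsLocalization.Away e A := by
  have hkey : ∀ s : T, s ∉ Q → ∃ u : T, e * (s * u) = e := by
    intro s hs
    obtain ⟨v, hv⟩ := (hunit s hs).exists_right_inv
    obtain ⟨u, rfl⟩ := Ideal.Quotient.mk_surjective v
    refine ⟨u, ?_⟩
    rw [← map_mul, ← map_one (Ideal.Quotient.mk (Ideal.span {1 - e})), Ideal.Quotient.eq,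
      Ideal.mem_span_singleton] at hv
    obtain ⟨c, hc⟩ := hv
    have : e * (s * u - 1) = 0 := by
      rw [hc, ← mul_assoc, mul_sub, mul_one, he.eq, sub_self, zero_mul]
    rw [mul_sub, mul_one, sub_eq_zero] at this
    exact this
  have heu : IsUnit (algebraMap T A e) :=
    IsLocalization.map_units A (⟨e, heQ⟩ : Q.primeCompl)
  refine (isLocalization_iff (M := Submonoid.powers e) (S := A)).2 ⟨?_, ?_, ?_⟩
  · rintro ⟨_, n, rfl⟩
    simpa using heu.pow n
  · intro a
    obtain ⟨⟨t, ⟨s, hs⟩⟩, hts⟩ := IsLocalization.surj Q.primeCompl a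
    obtain ⟨u, hu⟩ := hkey s hs
    refine ⟨⟨t * u, 1⟩, ?_⟩
    simp only [OneMemClass.coe_one, map_one, mul_one]
    have h1 : algebraMap T A s * algebraMap T A u = 1 := by
      have := congrArg (algebraMap T A) hu
      rw [map_mul, map_mul] at this
      exact heu.mul_left_cancel (by rw [this, mul_one])
    simp only at hts
    rw [map_mul, ← hts, mul_assoc, h1, mul_one]
  · intro t₁ t₂ h
    obtain ⟨⟨s, hs⟩, hst⟩ := (IsLocalization.eq_iff_exists Q.primeCompl A).1 h
    obtain ⟨u, hu⟩ := hkey s hs
    refine ⟨⟨e, Submonoid.mem_powers e⟩, ?_⟩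
    simp only at hst ⊢
    calc e * t₁ = e * (s * u) * t₁ := by rw [hu]
      _ = e * u * (s * t₁) := by ring
      _ = e * u * (s * t₂) := by rw [hst]
      _ = e * (s * u) * t₂ := by ring
      _ = e * t₂ := by rw [hu]

/-- A finite flat unramified local algebra over a local ring with a rational point over the
residue field is trivial. -/
theorem bijective_of_residue_point (R A : Type*) [CommRing R] [CommRing A] [Algebra R A]
    [IsLocalRing R] [IsLocalRing A] [IsLocalHom (algebraMap R A)] [Module.Finite R A]
    [Module.Flat R A] [Algebra.FormallyUnramified R A]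
    (ψ : A →+* ResidueField R) (hψ : ψ.comp (algebraMap R A) = residue R) :
    Function.Bijective (algebraMap R A) := by
  constructor
  · have : Module.FaithfullyFlat R A := Module.FaithfullyFlat.of_flat_of_isLocalHom
    exact FaithfulSMul.algebraMap_injective R A
  · change Function.Surjective (Algebra.linearMap R A)
    rw [← LinearMap.range_eq_top, ← top_le_iff]
    apply Submodule.le_of_le_smul_of_le_jacobson_bot Module.Finite.fg_top
      (maximalIdeal_le_jacobson _)
    rw [Ideal.smul_top_eq_map, Algebra.FormallyUnramified.map_maximalIdeal]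
    rintro x -
    obtain ⟨a, ha⟩ := residue_surjective (ψ x)
    have hker : x - algebraMap R A a ∈ maximalIdeal A := by
      have h1 : ψ (x - algebraMap R A a) = 0 := by
        rw [map_sub, ← ha, ← hψ, RingHom.comp_apply, sub_self]
      have h2 : RingHom.ker ψ ≠ ⊤ := RingHom.ker_ne_top ψ
      exact IsLocalRing.le_maximalIdeal h2 h1
    rw [← sub_sub_self (algebraMap R A a) x]
    refine sub_mem (Submodule.mem_sup_left ⟨a, rfl⟩) (Submodule.mem_sup_right ?_)
    rw [Submodule.restrictScalars_mem]
    rw [← neg_sub]
    exact neg_mem hker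

end Groth.Agent.Lib.Helper14.HensLocA
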