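import Groth.Agent.Lib.Helper14.HensLocA
import Groth.Agent.Lib.Helper12.QFLocalFactor
import Groth.Agent.Lib.Helper14.EtTorsC

/-! Local structure of étale schemes over a henselian local ring. -/

set_option autoImplicit false
universe u

open AlgebraicGeometry CategoryTheory Limits IsLocalRing

namespace Groth.Agent.Lib.Helper14.HensLocB

open Groth.Agent.Lib.Helper14.HensLocA

variable (R : Type u) [CommRing R] [HenselianLocalRing R] {X : Scheme.{u}}
  (p : X ⟶ Spec (CommRingCat.of R)) [Etale p]

set_option maxHeartbeats 800000 in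
theorem local_structure (x : X) (hx : p x = closedPoint R) :
    IsOpenImmersion (X.fromSpecStalk x) ∧ IsFinite (X.fromSpecStalk x ≫ p) := by
  obtain ⟨_, ⟨U, hU : IsAffineOpen U, rfl⟩, hxU, -⟩ :=
    X.isBasis_affineOpens.exists_subset_of_mem_open (Set.mem_univ x) isOpen_univ
  let ψ : CommRingCat.of R ⟶ Γ(X, U) := Spec.preimage (hU.fromSpec ≫ p)
  have hψ : Spec.map ψ = hU.fromSpec ≫ p := Spec.map_preimage _
  have hψet : ψ.hom.Etale := by
    rw [← HasRingHomProperty.Spec_iff (P := @Etale), hψ]
    infer_instance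
  letI : Algebra R Γ(X, U) := ψ.hom.toAlgebra
  haveI : Algebra.Etale R Γ(X, U) := hψet
  set y := hU.primeIdealOf ⟨x, hxU⟩ with hy
  have hyx : hU.fromSpec y = x := hU.fromSpec_primeIdealOf ⟨x, hxU⟩
  haveI : y.asIdeal.LiesOver (maximalIdeal R) := by
    constructor
    have h0 : p (hU.fromSpec y) = closedPoint R := by rw [hyx, hx]
    have h1 : (Spec.map ψ) y = closedPoint R := by
      rw [hψ]; exact h0
    have h2 := congrArg PrimeSpectrum.asIdeal h1
    exact h2.symm
  obtain ⟨e, he, heQ, hfin, -, hunit⟩ :=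
    Groth.Agent.Lib.Helper12.exists_finite_local_factor R Γ(X, U) y.asIdeal
  letI := X.presheaf.algebra_section_stalk ⟨x, hxU⟩
  haveI := hU.isLocalization_stalk ⟨x, hxU⟩
  haveI haway : IsLocalization.Away e (X.presheaf.stalk x) :=
    away_of_atPrime y.asIdeal e he heQ (fun t ht => (hunit t).2 ht) _
  have hgerm : X.presheaf.germ U x hxU =
      CommRingCat.ofHom (algebraMap Γ(X, U) (X.presheaf.stalk x)) := rfl
  have hfs : X.fromSpecStalk x = Spec.map (X.presheaf.germ U x hxU) ≫ hU.fromSpec := by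
    rw [← hU.fromSpecStalk_eq_fromSpecStalk hxU]; rfl
  constructor
  · rw [hfs, hgerm]
    haveI : IsOpenImmersion (Spec.map (CommRingCat.ofHom
        (algebraMap Γ(X, U) (X.presheaf.stalk x)))) := IsOpenImmersion.of_isLocalization e
    infer_instance
  · rw [hfs, Category.assoc, ← hψ, ← Spec.map_comp, IsFinite.SpecMap_iff]
    letI : Algebra R (X.presheaf.stalk x) :=
      ((algebraMap Γ(X, U) (X.presheaf.stalk x)).comp (algebraMap R Γ(X, U))).toAlgebra
    haveI : IsScalarTower R Γ(X, U) (X.presheaf.stalk x) :=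
      IsScalarTower.of_algebraMap_eq (fun _ => rfl)
    haveI : IsLocalization.Away e (Γ(X, U) ⧸ Ideal.span {1 - e}) :=
      IsLocalization.Away.quotient_of_isIdempotentElem he
    let εq : X.presheaf.stalk x ≃ₐ[Γ(X, U)] (Γ(X, U) ⧸ Ideal.span {1 - e}) :=
      IsLocalization.algEquiv (Submonoid.powers e) _ _
    have hfinA : Module.Finite R (X.presheaf.stalk x) :=
      Module.Finite.equiv (εq.symm.toLinearEquiv.restrictScalars R)
    exact hfinA

theorem local_structure' [IsSeparated p] (x : X) (hx : p x = closedPoint R) :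
    IsOpenImmersion (X.fromSpecStalk x) ∧ IsClosedImmersion (X.fromSpecStalk x) ∧
      IsFinite (X.fromSpecStalk x ≫ p) ∧ Etale (X.fromSpecStalk x ≫ p) ∧
      Surjective (X.fromSpecStalk x ≫ p) := by
  obtain ⟨h1, h2⟩ := local_structure R p x hx
  haveI := h1
  haveI := h2
  haveI : IsFinite (X.fromSpecStalk x) := IsFinite.of_comp (X.fromSpecStalk x) p
  refine ⟨h1, (IsClosedImmersion.iff_isFinite_and_mono _).mpr ⟨inferInstance, inferInstance⟩, h2,
    inferInstance, ⟨?_⟩⟩
  have hopen : IsOpen (Set.range (X.fromSpecStalk x ≫ p)) :=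
    (X.fromSpecStalk x ≫ p).isOpenMap.isOpen_range
  have hmem : closedPoint R ∈ Set.range (X.fromSpecStalk x ≫ p) := by
    refine ⟨closedPoint _, ?_⟩
    have h3 : p ((X.fromSpecStalk x) (closedPoint _)) = closedPoint R := by
      rw [Scheme.fromSpecStalk_closedPoint, hx]
    exact h3
  have htop := (IsLocalRing.closedPoint_mem_iff (R := R)
    ⟨Set.range (X.fromSpecStalk x ≫ p), hopen⟩).1 hmem
  intro s
  have : s ∈ (⟨Set.range (X.fromSpecStalk x ≫ p), hopen⟩ :
      TopologicalSpace.Opens (PrimeSpectrum R)) := by rw [htop]; trivial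
  exact this

theorem unique_specialization [IsSeparated p] (y x₁ x₂ : X) (h1 : p x₁ = closedPoint R)
    (h2 : p x₂ = closedPoint R) (hy1 : y ⤳ x₁) (hy2 : y ⤳ x₂) : x₁ = x₂ := by
  have key : ∀ a b : X, p a = closedPoint R → y ⤳ a → y ⤳ b → b ⤳ a := by
    intro a b ha hya hyb
    obtain ⟨-, hcl, -⟩ := local_structure' R p a ha
    haveI := hcl
    have hclosed : IsClosed (Set.range (X.fromSpecStalk a)) :=
      (X.fromSpecStalk a).isClosedEmbedding.isClosed_range
    rw [Scheme.range_fromSpecStalk] at hclosed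
    exact hyb.mem_closed hclosed hya
  exact ((key x₂ x₁ h2 hy2 hy1).antisymm (key x₁ x₂ h1 hy1 hy2)).eq

lemma residue_apply (pt : Spec (CommRingCat.of (ResidueField R))) :
    (Spec.map (CommRingCat.ofHom (residue R))) pt = closedPoint R :=
  IsLocalRing.PrimeSpectrum.comap_residue R pt

theorem section_ext [IsSeparated p] (σ₁ σ₂ : Spec (CommRingCat.of R) ⟶ X)
    (h₁ : σ₁ ≫ p = 𝟙 _) (h₂ : σ₂ ≫ p = 𝟙 _)
    (h : Spec.map (CommRingCat.ofHom (residue R)) ≫ σ₁ =
      Spec.map (CommRingCat.ofHom (residue R)) ≫ σ₂) : σ₁ = σ₂ := by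
  let c : Spec (CommRingCat.of R) ⟶ pullback p p := pullback.lift σ₁ σ₂ (by rw [h₁, h₂])
  let π := pullback.fst c (pullback.diagonal p)
  have hc1 : c ≫ pullback.fst p p = σ₁ := pullback.lift_fst _ _ _
  have hc2 : c ≫ pullback.snd p p = σ₂ := pullback.lift_snd _ _ _
  let t : Spec (CommRingCat.of (ResidueField R)) ⟶ pullback c (pullback.diagonal p) :=
    pullback.lift (Spec.map (CommRingCat.ofHom (residue R)))
      (Spec.map (CommRingCat.ofHom (residue R)) ≫ σ₁) (by
        apply pullback.hom_ext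
        · simp [hc1]
        · simp [hc2, h])
  have ht : t ≫ π = Spec.map (CommRingCat.ofHom (residue R)) := pullback.lift_fst _ _ _
  have hsurj : Function.Surjective π := by
    have hopen : IsOpen (Set.range π) := π.isOpenEmbedding.isOpen_range
    obtain ⟨pt⟩ : Nonempty ↥(Spec (CommRingCat.of (ResidueField R))) :=
      ⟨IsLocalRing.closedPoint _⟩
    have hmem : closedPoint R ∈ Set.range π := by
      refine ⟨t pt, ?_⟩
      have : π (t pt) = (t ≫ π) pt := rfl
      rw [this, ht]
      exact residue_apply R pt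
    have htop := (IsLocalRing.closedPoint_mem_iff (R := R) ⟨Set.range π, hopen⟩).1 hmem
    intro s
    have : s ∈ (⟨Set.range π, hopen⟩ : TopologicalSpace.Opens (PrimeSpectrum R)) := by
      rw [htop]; trivial
    exact this
  haveI : IsIso π := Groth.Agent.Lib.Helper14.EtTorsC.isIso_of_isOpenImmersion_of_surjective π hsurj
  have hcond : π ≫ c = pullback.snd c (pullback.diagonal p) ≫ pullback.diagonal p :=
    pullback.condition
  have hc : c = inv π ≫ pullback.snd c (pullback.diagonal p) ≫ pullback.diagonal p := by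
    rw [← hcond, IsIso.inv_hom_id_assoc]
  rw [← hc1, ← hc2, hc]
  simp

set_option maxHeartbeats 800000 in
theorem exists_section [IsSeparated p] (τ : Spec (CommRingCat.of (ResidueField R)) ⟶ X)
    (hτ : τ ≫ p = Spec.map (CommRingCat.ofHom (residue R))) :
    ∃ σ : Spec (CommRingCat.of R) ⟶ X, σ ≫ p = 𝟙 _ ∧
      Spec.map (CommRingCat.ofHom (residue R)) ≫ σ = τ := by
  obtain ⟨pt⟩ : Nonempty ↥(Spec (CommRingCat.of (ResidueField R))) :=
    ⟨IsLocalRing.closedPoint _⟩
  have hss : Subsingleton ↥(Spec (CommRingCat.of (ResidueField R))) :=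
    inferInstanceAs (Subsingleton (PrimeSpectrum _))
  set x := τ pt with hxdef
  have hx : p x = closedPoint R := by
    have : p (τ pt) = (τ ≫ p) pt := rfl
    rw [hxdef, this, hτ]
    exact residue_apply R pt
  obtain ⟨hopen, -, hfin, het, -⟩ := local_structure' R p x hx
  haveI := hopen
  haveI := hfin
  haveI := het
  set j := X.fromSpecStalk x with hj
  -- lift τ through j
  have hrange : Set.range τ ⊆ Set.range j := by
    rintro _ ⟨pt', rfl⟩
    rw [Subsingleton.elim pt' pt]
    exact ⟨closedPoint _, Scheme.fromSpecStalk_closedPoint⟩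
  let τ' := IsOpenImmersion.lift j τ hrange
  have hτ' : τ' ≫ j = τ := IsOpenImmersion.lift_fac _ _ _
  -- ring maps
  let γ : CommRingCat.of R ⟶ X.presheaf.stalk x := Spec.preimage (j ≫ p)
  have hγ : Spec.map γ = j ≫ p := Spec.map_preimage _
  let ψ : X.presheaf.stalk x ⟶ CommRingCat.of (ResidueField R) := Spec.preimage τ'
  have hψ : Spec.map ψ = τ' := Spec.map_preimage _
  have hγψ : γ ≫ ψ = CommRingCat.ofHom (residue R) := by
    apply Spec.map_injective
    rw [Spec.map_comp, hγ, hψ, ← Category.assoc, hτ', hτ]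
  have hfinγ : γ.hom.Finite := by
    rw [← IsFinite.SpecMap_iff, hγ]; infer_instance
  have hetγ : γ.hom.Etale := by
    rw [← HasRingHomProperty.Spec_iff (P := @Etale), hγ]; infer_instance
  have hflatγ : γ.hom.Flat := by
    rw [← HasRingHomProperty.Spec_iff (P := @Flat), hγ]; infer_instance
  letI : Algebra R (X.presheaf.stalk x) := γ.hom.toAlgebra
  haveI : Module.Finite R (X.presheaf.stalk x) := hfinγ
  haveI : Algebra.Etale R (X.presheaf.stalk x) := hetγ
  haveI : Module.Flat R (X.presheaf.stalk x) := hflatγ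
  haveI : IsLocalHom (algebraMap R (X.presheaf.stalk x)) := by
    apply ((IsLocalRing.local_hom_TFAE (algebraMap R (X.presheaf.stalk x))).out 0 4).2
    have h0 : p (j (closedPoint _)) = closedPoint R := by
      rw [hj, Scheme.fromSpecStalk_closedPoint, hx]
    have h1 : (Spec.map γ) (closedPoint _) = closedPoint R := by
      rw [hγ]; exact h0
    exact congrArg PrimeSpectrum.asIdeal h1
  have hbij : Function.Bijective (algebraMap R (X.presheaf.stalk x)) :=
    bijective_of_residue_point R (X.presheaf.stalk x) ψ.hom (by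
      have := congrArg CommRingCat.Hom.hom hγψ
      exact this)
  haveI : IsIso γ := (ConcreteCategory.isIso_iff_bijective γ).2 hbij
  haveI : IsIso (j ≫ p) := by rw [← hγ]; infer_instance
  refine ⟨inv (j ≫ p) ≫ j, by rw [Category.assoc, IsIso.inv_hom_id], ?_⟩
  have h3 : τ' ≫ (j ≫ p) = Spec.map (CommRingCat.ofHom (residue R)) := by
    rw [← Category.assoc, hτ', hτ]
  have h4 : Spec.map (CommRingCat.ofHom (residue R)) ≫ inv (j ≫ p) = τ' := by
    rw [← h3, Category.assoc, IsIso.hom_inv_id, Category.comp_id]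
  rw [← Category.assoc, h4, hτ']

end Groth.Agent.Lib.Helper14.HensLocB
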