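import Mathlib

set_option autoImplicit false
set_option linter.style.haveILetI false
universe u

namespace Groth.Agent.Lib.Helper14.HilbSerre

open MvPolynomial

/-- every polynomial in `d+1` variables is `t * X 0 + (polynomial in the other variables)` -/
theorem exists_split {A₀ : Type u} [CommRing A₀] (d : ℕ) (s : MvPolynomial (Fin (d + 1)) A₀) :
    ∃ (t : MvPolynomial (Fin (d + 1)) A₀) (q : MvPolynomial (Fin d) A₀),
      s = t * X 0 + rename Fin.succ q := by
  induction s using MvPolynomial.induction_on with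
  | C a => exact ⟨0, C a, by simp⟩
  | add p q hp hq =>
    obtain ⟨t1, q1, h1⟩ := hp
    obtain ⟨t2, q2, h2⟩ := hq
    exact ⟨t1 + t2, q1 + q2, by rw [h1, h2, map_add]; ring⟩
  | mul_X p i hp =>
    obtain ⟨t, q, h⟩ := hp
    refine Fin.cases ?_ (fun j => ?_) i
    · exact ⟨p, 0, by simp⟩
    · exact ⟨t * X j.succ, q * X j, by rw [h, map_mul, rename_X]; ring⟩

/-- binomial basis functions -/
def B (k i : ℕ) : ℤ := ((i + k).choose k : ℤ)

theorem B_zero (i : ℕ) : B 0 i = 1 := by simp [B]

theorem B_pascal (k i : ℕ) : B (k + 1) (i + 1) = B (k + 1) i + B k (i + 1) := by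
  unfold B
  have : (i + 1 + (k + 1)).choose (k + 1) = (i + (k + 1)).choose (k + 1) + (i + 1 + k).choose k := by
    have e1 : i + 1 + (k + 1) = (i + k + 1) + 1 := by ring
    have e2 : i + (k + 1) = i + k + 1 := by ring
    have e3 : i + 1 + k = i + k + 1 := by ring
    rw [e1, e2, e3, Nat.choose_succ_succ]; ring
  exact_mod_cast this

/-- summation lemma -/
theorem sum_lemma (d : ℕ) (f : ℕ → ℤ) (e : Fin d → ℤ) (N : ℕ)
    (h : ∀ i, N ≤ i → f (i + 1) - f i = ∑ k : Fin d, e k * B k (i + 1)) :
    ∃ c : Fin (d + 1) → ℤ, ∀ i, N ≤ i → f i = ∑ k : Fin (d + 1), c k * B k i := by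
  refine ⟨Fin.cons (f N - ∑ k : Fin d, e k * B (k + 1) N) e, ?_⟩
  intro i hi
  induction i, hi using Nat.le_induction with
  | base =>
    rw [Fin.sum_univ_succ]
    simp only [Fin.cons_zero, Fin.cons_succ, Fin.val_zero, Fin.val_succ, B_zero, mul_one]
    ring
  | succ i hi ih =>
    have h1 := h i hi
    rw [Fin.sum_univ_succ] at ih ⊢
    simp only [Fin.cons_zero, Fin.cons_succ, Fin.val_zero, Fin.val_succ, B_zero, mul_one] at ih ⊢
    have : f (i + 1) = f i + ∑ k : Fin d, e k * B k (i + 1) := by linarith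
    rw [this, ih, add_assoc, ← Finset.sum_add_distrib]
    congr 1
    apply Finset.sum_congr rfl
    intro k _
    rw [B_pascal]; ring

/-- a grading given by orthogonal idempotent projections, compatible with the variables -/
structure GrData (A₀ : Type u) [CommRing A₀] (d : ℕ) (M : Type u) [AddCommGroup M]
    [Module (MvPolynomial (Fin d) A₀) M] [Module A₀ M] where
  π : ℕ → M →ₗ[A₀] M
  idem : ∀ i x, π i (π i x) = π i x
  orth : ∀ i j x, i ≠ j → π i (π j x) = 0
  fin : ∀ x, ∃ s : Finset ℕ, (∀ i, i ∉ s → π i x = 0) ∧ x = ∑ i ∈ s, π i x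
  hXs : ∀ (j : Fin d) i x, π (i + 1) ((X j : MvPolynomial (Fin d) A₀) • x) =
    (X j : MvPolynomial (Fin d) A₀) • π i x
  hX0 : ∀ (j : Fin d) x, π 0 ((X j : MvPolynomial (Fin d) A₀) • x) = 0

theorem finite_of_killed {A₀ : Type u} [CommRing A₀] (d : ℕ) {N : Type u} [AddCommGroup N]
    [Module (MvPolynomial (Fin (d + 1)) A₀) N] [Module (MvPolynomial (Fin d) A₀) N]
    (hcomp : ∀ (q : MvPolynomial (Fin d) A₀) (n : N),
      q • n = (rename Fin.succ q : MvPolynomial (Fin (d + 1)) A₀) • n)
    (hkill : ∀ n : N, (X 0 : MvPolynomial (Fin (d + 1)) A₀) • n = 0)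
    [Module.Finite (MvPolynomial (Fin (d + 1)) A₀) N] :
    Module.Finite (MvPolynomial (Fin d) A₀) N := by
  obtain ⟨G, hG⟩ := Module.Finite.fg_top (R := MvPolynomial (Fin (d + 1)) A₀) (M := N)
  refine ⟨⟨G, ?_⟩⟩
  rw [eq_top_iff]
  intro n hn0
  clear hn0
  have hn : n ∈ Submodule.span (MvPolynomial (Fin (d + 1)) A₀) (G : Set N) := by rw [hG]; trivial
  induction hn using Submodule.span_induction with
  | mem x hx => exact Submodule.subset_span hx
  | zero => exact zero_mem _
  | add x y _ _ hx hy => exact add_mem hx hy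
  | smul s x _ hx =>
    obtain ⟨t, q, hs⟩ := exists_split d s
    have : s • x = q • x := by
      rw [hs, add_smul, mul_smul, hkill, smul_zero, zero_add, hcomp]
    rw [this]
    exact Submodule.smul_mem _ _ hx

section Base

variable {A₀ : Type u} [CommRing A₀] [IsArtinianRing A₀]

theorem hilb_base (M : Type u) [AddCommGroup M] [Module (MvPolynomial (Fin 0) A₀) M]
    [Module A₀ M] [IsScalarTower A₀ (MvPolynomial (Fin 0) A₀) M]
    [Module.Finite (MvPolynomial (Fin 0) A₀) M] (G : GrData A₀ 0 M) :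
    (∀ i, Module.length A₀ (LinearMap.range (G.π i)) ≠ ⊤) ∧
      ∃ N : ℕ, ∀ i, N ≤ i → Module.length A₀ (LinearMap.range (G.π i)) = 0 := by
  classical
  haveI : Module.Finite A₀ (MvPolynomial (Fin 0) A₀) :=
    Module.Finite.equiv (MvPolynomial.isEmptyAlgEquiv A₀ (Fin 0)).symm.toLinearEquiv
  haveI : Module.Finite A₀ M := Module.Finite.trans (MvPolynomial (Fin 0) A₀) M
  constructor
  · intro i
    exact Module.length_ne_top
  · obtain ⟨gens, hgens⟩ := Module.Finite.fg_top (R := A₀) (M := M)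
    choose sup hsup0 _ using G.fin
    refine ⟨(gens.sup fun g => (sup g).sup id) + 1, ?_⟩
    intro i hi
    have hzero : G.π i = 0 := by
      apply LinearMap.ext_on_range (v := fun g : gens => (g : M))
      · simpa using hgens
      · intro g
        rw [LinearMap.zero_apply]
        apply hsup0
        intro hmem
        have h1 : i ≤ (sup g).sup id := Finset.le_sup (f := id) hmem
        have h2 : (sup g).sup id ≤ gens.sup fun g => (sup g).sup id :=
          Finset.le_sup (f := fun g => (sup g).sup id) g.2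
        omega
    rw [hzero, LinearMap.range_zero]
    exact Module.length_bot

end Base

section Step

variable (A₀ : Type u) [CommRing A₀] (d : ℕ) (M : Type u) [AddCommGroup M]
  [Module (MvPolynomial (Fin (d + 1)) A₀) M] [Module A₀ M]
  [IsScalarTower A₀ (MvPolynomial (Fin (d + 1)) A₀) M]

/-- multiplication by `X 0` -/
noncomputable def mulX0 : M →ₗ[MvPolynomial (Fin (d + 1)) A₀] M :=
  LinearMap.lsmul (MvPolynomial (Fin (d + 1)) A₀) M (X 0)

theorem mulX0_apply (x : M) : mulX0 A₀ d M x = (X 0 : MvPolynomial (Fin (d + 1)) A₀) • x := rfl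

noncomputable def Ksub : Submodule (MvPolynomial (Fin (d + 1)) A₀) M := LinearMap.ker (mulX0 A₀ d M)

noncomputable def Qsub : Submodule (MvPolynomial (Fin (d + 1)) A₀) M := LinearMap.range (mulX0 A₀ d M)

variable {A₀ d M}

theorem mem_Ksub {x : M} : x ∈ Ksub A₀ d M ↔ (X 0 : MvPolynomial (Fin (d + 1)) A₀) • x = 0 :=
  LinearMap.mem_ker

theorem mem_Qsub {x : M} : x ∈ Qsub A₀ d M ↔ ∃ y : M, (X 0 : MvPolynomial (Fin (d + 1)) A₀) • y = x :=
  LinearMap.mem_range

variable (G : GrData A₀ (d + 1) M)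

/-- projections on the kernel -/
noncomputable def πK (i : ℕ) : Ksub A₀ d M →ₗ[A₀] Ksub A₀ d M where
  toFun k := ⟨G.π i k, by
    rw [mem_Ksub, ← G.hXs 0 i k, mem_Ksub.mp k.2, map_zero]⟩
  map_add' a b := by
    apply Subtype.ext
    simp
  map_smul' a b := by
    apply Subtype.ext
    simp

@[simp] theorem πK_coe (i : ℕ) (k : Ksub A₀ d M) : ((πK G i k : Ksub A₀ d M) : M) = G.π i k := rfl

/-- shifted projections on the kernel -/
noncomputable def πK' : ℕ → Ksub A₀ d M →ₗ[A₀] Ksub A₀ d M
  | 0 => 0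
  | i + 1 => πK G i

/-- graded data on the kernel -/
noncomputable def grK [Module (MvPolynomial (Fin d) A₀) (Ksub A₀ d M)]
    (hcomp : ∀ (q : MvPolynomial (Fin d) A₀) (k : Ksub A₀ d M),
      q • k = (rename Fin.succ q : MvPolynomial (Fin (d + 1)) A₀) • k) :
    GrData A₀ d (Ksub A₀ d M) where
  π := πK' G
  idem := by
    intro i x
    cases i with
    | zero => simp [πK']
    | succ i => apply Subtype.ext; simp [πK', G.idem]
  orth := by
    intro i j x hij
    cases i with
    | zero => simp [πK']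
    | succ i =>
      cases j with
      | zero => simp [πK']
      | succ j =>
        apply Subtype.ext
        simp only [πK', πK_coe, ZeroMemClass.coe_zero]
        exact G.orth i j _ (by omega)
  fin := by
    classical
    intro x
    obtain ⟨s, hs0, hsum⟩ := G.fin (x : M)
    refine ⟨s.map ⟨Nat.succ, Nat.succ_injective⟩, ?_, ?_⟩
    · intro i hi
      cases i with
      | zero => simp [πK']
      | succ i =>
        apply Subtype.ext
        simp only [πK', πK_coe, ZeroMemClass.coe_zero]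
        apply hs0
        intro h
        apply hi
        simp only [Finset.mem_map, Function.Embedding.coeFn_mk]
        exact ⟨i, h, rfl⟩
    · apply Subtype.ext
      rw [Finset.sum_map]
      simp only [Function.Embedding.coeFn_mk, Nat.succ_eq_add_one, πK', AddSubmonoidClass.coe_finsetSum,
        πK_coe]
      exact hsum
  hXs := by
    intro j i x
    cases i with
    | zero =>
      apply Subtype.ext
      rw [hcomp, hcomp, rename_X]
      simp only [πK', zero_add, πK_coe, Submodule.coe_smul, LinearMap.zero_apply, smul_zero,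
        ZeroMemClass.coe_zero]
      exact G.hX0 _ _
    | succ i =>
      apply Subtype.ext
      rw [hcomp, hcomp, rename_X]
      simp only [πK', πK_coe, Submodule.coe_smul]
      exact G.hXs _ _ _
  hX0 := by
    intro j x
    simp [πK']

theorem π_mem_Qsub (i : ℕ) {x : M} (hx : x ∈ Qsub A₀ d M) : G.π i x ∈ Qsub A₀ d M := by
  obtain ⟨y, rfl⟩ := mem_Qsub.mp hx
  cases i with
  | zero => rw [G.hX0]; exact zero_mem _
  | succ i => rw [G.hXs]; exact mem_Qsub.mpr ⟨_, rfl⟩

/-- projections on the cokernel -/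
noncomputable def πC (i : ℕ) : (M ⧸ Qsub A₀ d M) →ₗ[A₀] (M ⧸ Qsub A₀ d M) :=
  (Submodule.Quotient.restrictScalarsEquiv A₀ (Qsub A₀ d M)).toLinearMap ∘ₗ
    (Submodule.mapQ ((Qsub A₀ d M).restrictScalars A₀) ((Qsub A₀ d M).restrictScalars A₀) (G.π i)
      (fun x hx => by
        rw [Submodule.mem_comap, Submodule.restrictScalars_mem]
        rw [Submodule.restrictScalars_mem] at hx
        exact π_mem_Qsub G i hx)) ∘ₗ
    (Submodule.Quotient.restrictScalarsEquiv A₀ (Qsub A₀ d M)).symm.toLinearMap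

@[simp] theorem πC_mk (i : ℕ) (x : M) :
    πC G i (Submodule.Quotient.mk x) = Submodule.Quotient.mk (G.π i x) := by
  rfl

/-- graded data on the cokernel -/
noncomputable def grC [Module (MvPolynomial (Fin d) A₀) (M ⧸ Qsub A₀ d M)]
    (hcomp : ∀ (q : MvPolynomial (Fin d) A₀) (c : M ⧸ Qsub A₀ d M),
      q • c = (rename Fin.succ q : MvPolynomial (Fin (d + 1)) A₀) • c) :
    GrData A₀ d (M ⧸ Qsub A₀ d M) where
  π := πC G
  idem := by
    intro i c
    obtain ⟨x, rfl⟩ := Submodule.Quotient.mk_surjective _ c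
    simp [G.idem]
  orth := by
    intro i j c hij
    obtain ⟨x, rfl⟩ := Submodule.Quotient.mk_surjective _ c
    simp [G.orth i j x hij]
  fin := by
    intro c
    obtain ⟨x, rfl⟩ := Submodule.Quotient.mk_surjective _ c
    obtain ⟨s, hs0, hsum⟩ := G.fin x
    refine ⟨s, ?_, ?_⟩
    · intro i hi
      simp [hs0 i hi]
    · conv_lhs => rw [hsum]
      simp only [πC_mk]
      exact map_sum (Qsub A₀ d M).mkQ _ _
  hXs := by
    intro j i c
    obtain ⟨x, rfl⟩ := Submodule.Quotient.mk_surjective _ c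
    rw [hcomp, hcomp, rename_X, ← Submodule.Quotient.mk_smul, πC_mk, πC_mk, G.hXs,
      Submodule.Quotient.mk_smul]
  hX0 := by
    intro j c
    obtain ⟨x, rfl⟩ := Submodule.Quotient.mk_surjective _ c
    rw [hcomp, rename_X, ← Submodule.Quotient.mk_smul, πC_mk, G.hX0, Submodule.Quotient.mk_zero]

/-- multiplication by `X 0` on pieces -/
noncomputable def mu (i : ℕ) : LinearMap.range (G.π i) →ₗ[A₀] LinearMap.range (G.π (i + 1)) where
  toFun m := ⟨(X 0 : MvPolynomial (Fin (d + 1)) A₀) • (m : M), by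
    obtain ⟨y, hy⟩ := m.2
    rw [← hy, ← G.hXs]; exact LinearMap.mem_range_self _ _⟩
  map_add' a b := by apply Subtype.ext; simp [smul_add]
  map_smul' a b := by
    apply Subtype.ext
    change (X 0 : MvPolynomial (Fin (d + 1)) A₀) • ((a • b : LinearMap.range (G.π i)) : M)
      = a • ((X 0 : MvPolynomial (Fin (d + 1)) A₀) • (b : M))
    rw [Submodule.coe_smul, smul_comm]

@[simp] theorem mu_coe (i : ℕ) (m : LinearMap.range (G.π i)) :
    ((mu G i m : LinearMap.range (G.π (i + 1))) : M) =
      (X 0 : MvPolynomial (Fin (d + 1)) A₀) • (m : M) := rfl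

theorem π_of_mem_range {i : ℕ} {m : M} (hm : m ∈ LinearMap.range (G.π i)) : G.π i m = m := by
  obtain ⟨y, rfl⟩ := hm
  exact G.idem i y

/-- inclusion of the kernel piece -/
noncomputable def fK (i : ℕ) : LinearMap.range (πK' G (i + 1)) →ₗ[A₀] LinearMap.range (G.π i) where
  toFun k := ⟨((k : Ksub A₀ d M) : M), by
    obtain ⟨k', hk'⟩ := k.2
    rw [← hk']
    exact LinearMap.mem_range_self _ _⟩
  map_add' a b := rfl
  map_smul' a b := rfl

theorem length_piece_eq (i : ℕ) :
    Module.length A₀ (LinearMap.range (G.π i)) =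
      Module.length A₀ (LinearMap.range (πK' G (i + 1))) +
        Module.length A₀ (LinearMap.range (mu G i)) := by
  apply Module.length_eq_add_of_exact (fK G i) (mu G i).rangeRestrict
  · intro a b hab
    apply Subtype.ext; apply Subtype.ext
    exact congrArg (fun z : LinearMap.range (G.π i) => (z : M)) hab
  · exact LinearMap.surjective_rangeRestrict _
  · intro m
    constructor
    · intro hm
      have hm' : (X 0 : MvPolynomial (Fin (d + 1)) A₀) • (m : M) = 0 := by
        have := congrArg (fun z : LinearMap.range (mu G i) => ((z : LinearMap.range (G.π (i + 1))) : M)) hm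
        simpa using this
      let k : Ksub A₀ d M := ⟨(m : M), mem_Ksub.mpr hm'⟩
      have hk : πK' G (i + 1) k = k := by
        apply Subtype.ext
        change G.π i (m : M) = (m : M)
        exact π_of_mem_range G m.2
      exact ⟨⟨k, ⟨k, hk⟩⟩, rfl⟩
    · rintro ⟨k, rfl⟩
      apply Subtype.ext; apply Subtype.ext
      change (X 0 : MvPolynomial (Fin (d + 1)) A₀) • ((k : Ksub A₀ d M) : M) = 0
      exact mem_Ksub.mp (k : Ksub A₀ d M).2

/-- projection of a piece to the cokernel piece -/
noncomputable def gC (n : ℕ) : LinearMap.range (G.π n) →ₗ[A₀] LinearMap.range (πC G n) where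
  toFun m := ⟨Submodule.Quotient.mk (m : M), by
    obtain ⟨y, hy⟩ := m.2
    rw [← hy, ← πC_mk]
    exact LinearMap.mem_range_self _ _⟩
  map_add' a b := rfl
  map_smul' a b := rfl

theorem gC_surjective (n : ℕ) : Function.Surjective (gC G n) := by
  rintro ⟨c, c', rfl⟩
  obtain ⟨y, rfl⟩ := Submodule.Quotient.mk_surjective _ c'
  refine ⟨⟨G.π n y, LinearMap.mem_range_self _ _⟩, ?_⟩
  apply Subtype.ext
  change Submodule.Quotient.mk (G.π n y) = πC G n (Submodule.Quotient.mk y)
  rw [πC_mk]

theorem gC_eq_zero_iff (n : ℕ) (m : LinearMap.range (G.π n)) :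
    gC G n m = 0 ↔ (m : M) ∈ Qsub A₀ d M := by
  rw [← Submodule.Quotient.mk_eq_zero]
  constructor
  · intro h
    exact congrArg (fun z : LinearMap.range (πC G n) => (z : M ⧸ Qsub A₀ d M)) h
  · intro h
    apply Subtype.ext
    exact h

theorem length_piece_succ_eq (i : ℕ) :
    Module.length A₀ (LinearMap.range (G.π (i + 1))) =
      Module.length A₀ (LinearMap.range (mu G i)) +
        Module.length A₀ (LinearMap.range (πC G (i + 1))) := by
  apply Module.length_eq_add_of_exact (LinearMap.range (mu G i)).subtype (gC G (i + 1))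
  · exact Submodule.subtype_injective _
  · exact gC_surjective G _
  · intro m
    rw [gC_eq_zero_iff, mem_Qsub]
    constructor
    · rintro ⟨y, hy⟩
      refine ⟨⟨m, ⟨⟨G.π i y, LinearMap.mem_range_self _ _⟩, ?_⟩⟩, rfl⟩
      apply Subtype.ext
      rw [mu_coe]
      change (X 0 : MvPolynomial (Fin (d + 1)) A₀) • G.π i y = (m : M)
      rw [← G.hXs, hy]
      exact π_of_mem_range G m.2
    · rintro ⟨⟨m', ⟨m'', rfl⟩⟩, rfl⟩
      exact ⟨(m'' : M), rfl⟩

theorem length_piece_zero_le :
    Module.length A₀ (LinearMap.range (G.π 0)) ≤ Module.length A₀ (LinearMap.range (πC G 0)) := by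
  apply Module.length_le_of_injective (gC G 0)
  rw [injective_iff_map_eq_zero]
  intro m hm
  rw [gC_eq_zero_iff, mem_Qsub] at hm
  obtain ⟨y, hy⟩ := hm
  apply Subtype.ext
  rw [← π_of_mem_range G m.2, ← hy, G.hX0]
  rfl

end Step

/-- the Hilbert–Serre statement in degree `d` -/
def HilbProp (A₀ : Type u) [CommRing A₀] (d : ℕ) : Prop :=
  ∀ (M : Type u) [AddCommGroup M] [Module (MvPolynomial (Fin d) A₀) M] [Module A₀ M]
    [IsScalarTower A₀ (MvPolynomial (Fin d) A₀) M] [Module.Finite (MvPolynomial (Fin d) A₀) M]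
    (G : GrData A₀ d M),
    (∀ i, Module.length A₀ (LinearMap.range (G.π i)) ≠ ⊤) ∧
      ∃ c : Fin d → ℤ, ∃ N : ℕ, ∀ i, N ≤ i →
        ((Module.length A₀ (LinearMap.range (G.π i))).toNat : ℤ) = ∑ k : Fin d, c k * B k i

theorem hilb_step {A₀ : Type u} [CommRing A₀] [IsArtinianRing A₀] (d : ℕ)
    (ih : HilbProp A₀ d) : HilbProp A₀ (d + 1) := by
  intro M _ _ _ _ _ G
  letI modK : Module (MvPolynomial (Fin d) A₀) (Ksub A₀ d M) :=
    Module.compHom _ (rename Fin.succ :
      MvPolynomial (Fin d) A₀ →ₐ[A₀] MvPolynomial (Fin (d + 1)) A₀).toRingHom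
  have hcompK : ∀ (q : MvPolynomial (Fin d) A₀) (k : Ksub A₀ d M),
      q • k = (rename Fin.succ q : MvPolynomial (Fin (d + 1)) A₀) • k := fun _ _ => rfl
  haveI : IsScalarTower A₀ (MvPolynomial (Fin d) A₀) (Ksub A₀ d M) :=
    ⟨fun a q k => by rw [hcompK, hcompK, map_smul, smul_assoc]⟩
  haveI : Module.Finite (MvPolynomial (Fin d) A₀) (Ksub A₀ d M) :=
    finite_of_killed d hcompK (fun k => Subtype.ext (mem_Ksub.mp k.2))
  letI modC : Module (MvPolynomial (Fin d) A₀) (M ⧸ Qsub A₀ d M) :=
    Module.compHom _ (rename Fin.succ :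
      MvPolynomial (Fin d) A₀ →ₐ[A₀] MvPolynomial (Fin (d + 1)) A₀).toRingHom
  have hcompC : ∀ (q : MvPolynomial (Fin d) A₀) (c : M ⧸ Qsub A₀ d M),
      q • c = (rename Fin.succ q : MvPolynomial (Fin (d + 1)) A₀) • c := fun _ _ => rfl
  haveI : IsScalarTower A₀ (MvPolynomial (Fin d) A₀) (M ⧸ Qsub A₀ d M) :=
    ⟨fun a q k => by rw [hcompC, hcompC, map_smul, smul_assoc]⟩
  haveI : Module.Finite (MvPolynomial (Fin d) A₀) (M ⧸ Qsub A₀ d M) :=
    finite_of_killed d hcompC (fun c => by
      obtain ⟨x, rfl⟩ := Submodule.Quotient.mk_surjective _ c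
      rw [← Submodule.Quotient.mk_smul, Submodule.Quotient.mk_eq_zero]
      exact mem_Qsub.mpr ⟨x, rfl⟩)
  obtain ⟨hKfin, cK, NK, hK⟩ := ih (Ksub A₀ d M) (grK G hcompK)
  obtain ⟨hCfin, cC, NC, hC⟩ := ih (M ⧸ Qsub A₀ d M) (grC G hcompC)
  change ∀ i, Module.length A₀ (LinearMap.range (πK' G i)) ≠ ⊤ at hKfin
  change ∀ i, Module.length A₀ (LinearMap.range (πC G i)) ≠ ⊤ at hCfin
  have hmu_le : ∀ i, Module.length A₀ (LinearMap.range (mu G i)) ≤
      Module.length A₀ (LinearMap.range (G.π i)) := fun i => by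
    rw [length_piece_eq G i]; exact le_add_self
  have hfin : ∀ i, Module.length A₀ (LinearMap.range (G.π i)) ≠ ⊤ := by
    intro i
    induction i with
    | zero => exact ne_top_of_le_ne_top (hCfin 0) (length_piece_zero_le G)
    | succ i ihh =>
      rw [length_piece_succ_eq G i]
      exact WithTop.add_ne_top.mpr ⟨ne_top_of_le_ne_top ihh (hmu_le i), hCfin (i + 1)⟩
  refine ⟨hfin, ?_⟩
  have hmufin : ∀ i, Module.length A₀ (LinearMap.range (mu G i)) ≠ ⊤ :=
    fun i => ne_top_of_le_ne_top (hfin i) (hmu_le i)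
  have hdiff : ∀ i, ((Module.length A₀ (LinearMap.range (G.π (i + 1)))).toNat : ℤ) -
      ((Module.length A₀ (LinearMap.range (G.π i))).toNat : ℤ) =
      ((Module.length A₀ (LinearMap.range (πC G (i + 1)))).toNat : ℤ) -
        ((Module.length A₀ (LinearMap.range (πK' G (i + 1)))).toNat : ℤ) := by
    intro i
    have e1 := congrArg ENat.toNat (length_piece_eq G i)
    have e2 := congrArg ENat.toNat (length_piece_succ_eq G i)
    rw [ENat.toNat_add (hKfin _) (hmufin _)] at e1
    rw [ENat.toNat_add (hmufin _) (hCfin _)] at e2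
    rw [e1, e2]
    push_cast
    ring
  have := sum_lemma d (fun i => ((Module.length A₀ (LinearMap.range (G.π i))).toNat : ℤ))
    (fun k => cC k - cK k) (max NK NC) (by
      intro i hi
      rw [hdiff i]
      have h1 := hK (i + 1) (by omega)
      have h2 := hC (i + 1) (by omega)
      change ((Module.length A₀ (LinearMap.range (πK' G (i + 1)))).toNat : ℤ) = _ at h1
      change ((Module.length A₀ (LinearMap.range (πC G (i + 1)))).toNat : ℤ) = _ at h2
      rw [h1, h2, ← Finset.sum_sub_distrib]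
      apply Finset.sum_congr rfl
      intro k _
      ring)
  obtain ⟨c, hc⟩ := this
  exact ⟨c, max NK NC, hc⟩

theorem hilb_all {A₀ : Type u} [CommRing A₀] [IsArtinianRing A₀] (d : ℕ) : HilbProp A₀ d := by
  induction d with
  | zero =>
    intro M _ _ _ _ _ G
    obtain ⟨h1, N, hN⟩ := hilb_base M G
    refine ⟨h1, fun _ => 0, N, fun i hi => ?_⟩
    rw [hN i hi]
    simp
  | succ d ih => exact hilb_step d ih

end Groth.Agent.Lib.Helper14.HilbSerre
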