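import Mathlib
import Groth.Agent.Lib.Helper14.TwCUni

/-! A connected locally Noetherian scheme whose local rings are domains is irreducible. -/

set_option autoImplicit false
set_option linter.style.haveILetI false
set_option backward.isDefEq.respectTransparency.types false
open CategoryTheory AlgebraicGeometry CategoryTheory.Limits
universe u

namespace Groth.Agent.Lib.Helper14.IrrDom

open Groth.Agent.Lib.Helper14.TwCFin Groth.Agent.Lib.Helper14.TwCFin2
open Groth.Agent.Lib.Helper17.UniqueMinimalScheme Groth.Agent.Lib.Helper17.UnibranchScheme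
open Groth.Agent.Lib.Helper24.Unibranch
open Groth.Agent.Lib.Helper14.TwCUni

/-- over a locally Noetherian scheme whose local rings have a prime nilradical every point has
an open and closed irreducible neighbourhood -/
theorem exists_clopen_irreducible {S : Scheme.{u}} [IsLocallyNoetherian S]
    (hprime : ∀ x : S, (nilradical (S.presheaf.stalk x)).IsPrime) (s : S) :
    ∃ S₀ : S.Opens, s ∈ S₀ ∧ IsClosed (S₀ : Set S) ∧ IsIrreducible (S₀ : Set S) := by
  have huniq : ∀ x : S, ∀ e ∈ {e : S | IsMaxPt e}, ∀ e' ∈ {e : S | IsMaxPt e},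
      e ⤳ x → e' ⤳ x → e = e' := by
    intro x e he e' he' hex he'x
    have key : ∀ e : S, e ⤳ x → IsMaxPt e →
        S.fromSpecStalk x ⟨nilradical (S.presheaf.stalk x), hprime x⟩ = e := by
      intro e he hmax
      obtain ⟨P, hP⟩ : e ∈ Set.range (S.fromSpecStalk x) := by
        rw [Scheme.range_fromSpecStalk]
        exact he
      have h0 : (⟨nilradical (S.presheaf.stalk x), hprime x⟩ :
          PrimeSpectrum (S.presheaf.stalk x)) ⤳ P :=
        (PrimeSpectrum.le_iff_specializes _ _).mp
          ((PrimeSpectrum.asIdeal_le_asIdeal _ _).mp (nilradical_le_prime P.asIdeal))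
      have h1 : S.fromSpecStalk x ⟨nilradical (S.presheaf.stalk x), hprime x⟩ ⤳ e := by
        rw [← hP]
        exact Specializes.map h0 (S.fromSpecStalk x).continuous
      exact hmax _ h1
    rw [← key e hex he, ← key e' he'x he']
  obtain ⟨-, h2⟩ := irreducibleComponents_of_unique {e : S | IsMaxPt e}
    (maxPt_locallyFinite S) (fun x => by
      obtain ⟨ξ, h1, h2⟩ := exists_maxPt x
      exact ⟨ξ, h2, h1⟩) huniq
  refine ⟨⟨irreducibleComponent s,
    (h2 _ (irreducibleComponent_mem_irreducibleComponents s)).1⟩, mem_irreducibleComponent,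
    isClosed_irreducibleComponent, isIrreducible_irreducibleComponent⟩

/-- a connected locally Noetherian scheme whose local rings are domains is irreducible -/
theorem irreducibleSpace_of_isDomain {S : Scheme.{u}} [ConnectedSpace S] [IsLocallyNoetherian S]
    (hdom : ∀ x : S, IsDomain (S.presheaf.stalk x)) : IrreducibleSpace S := by
  obtain ⟨s⟩ : Nonempty S := inferInstance
  obtain ⟨S₀, hs, hcl, hirr⟩ := exists_clopen_irreducible (fun x => by
    haveI := hdom x
    rw [nilradical_eq_zero]
    exact Ideal.isPrime_bot) s
  have huniv : (S₀ : Set S) = Set.univ := IsClopen.eq_univ ⟨hcl, S₀.isOpen⟩ ⟨s, hs⟩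
  rw [huniv] at hirr
  exact (irreducibleSpace_def S).mpr hirr

end Groth.Agent.Lib.Helper14.IrrDom
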