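import Mathlib
import Groth.Prelude.Def_KZero

set_option autoImplicit false

namespace Groth.Agent.Lib.Helper14.K0Hilb

universe u

open CategoryTheory

section Lam

variable (A : Type u) [CommRing A]

/-- the class of a module in `K'₀(A)` -/
noncomputable def lam (X : Type u) [AddCommGroup X] [Module A X] :
    KZero.K0sub (fun X : ModuleCat.{u} A => Module.Finite A X) :=
  KZero.clSub (fun X : ModuleCat.{u} A => Module.Finite A X) (ModuleCat.of A X)

variable {A}

theorem lam_add {X Y Z : Type u} [AddCommGroup X] [Module A X] [AddCommGroup Y] [Module A Y]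
    [AddCommGroup Z] [Module A Z] (f : X →ₗ[A] Y) (g : Y →ₗ[A] Z)
    (hf : Function.Injective f) (hg : Function.Surjective g)
    (hfg : LinearMap.range f = LinearMap.ker g)
    [hX : Module.Finite A X] [hY : Module.Finite A Y] [hZ : Module.Finite A Z] :
    lam A Y = lam A X + lam A Z := by
  have hzero : ModuleCat.ofHom f ≫ ModuleCat.ofHom g = 0 := by
    ext x
    have : f x ∈ LinearMap.ker g := by rw [← hfg]; exact LinearMap.mem_range_self _ _
    simpa using this
  let S : ShortComplex (ModuleCat.{u} A) := ShortComplex.mk (ModuleCat.ofHom f) (ModuleCat.ofHom g) hzero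
  have hS : S.ShortExact := by
    refine ShortComplex.ShortExact.mk' ?_ ?_ ?_
    · rw [ShortComplex.moduleCat_exact_iff_range_eq_ker]
      exact hfg
    · exact (ModuleCat.mono_iff_injective _).mpr hf
    · exact (ModuleCat.epi_iff_surjective _).mpr hg
  have h₁ : (fun X : ModuleCat.{u} A => Module.Finite A X) S.X₁ := hX
  have h₂ : (fun X : ModuleCat.{u} A => Module.Finite A X) S.X₂ := hY
  have h₃ : (fun X : ModuleCat.{u} A => Module.Finite A X) S.X₃ := hZ
  have hmem : FreeAbelianGroup.of (⟨S.X₂, h₂⟩ : Subtype fun X : ModuleCat.{u} A => Module.Finite A X)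
      - FreeAbelianGroup.of ⟨S.X₁, h₁⟩ - FreeAbelianGroup.of ⟨S.X₃, h₃⟩ ∈
      KZero.relSub (fun X : ModuleCat.{u} A => Module.Finite A X) :=
    AddSubgroup.subset_closure ⟨S, h₁, h₂, h₃, hS, rfl⟩
  have h := (QuotientAddGroup.eq_zero_iff _).2 hmem
  rw [QuotientAddGroup.mk_sub, QuotientAddGroup.mk_sub, sub_sub, sub_eq_zero] at h
  have e1 : lam A X = QuotientAddGroup.mk (FreeAbelianGroup.of ⟨S.X₁, h₁⟩) := dif_pos h₁
  have e2 : lam A Y = QuotientAddGroup.mk (FreeAbelianGroup.of ⟨S.X₂, h₂⟩) := dif_pos h₂
  have e3 : lam A Z = QuotientAddGroup.mk (FreeAbelianGroup.of ⟨S.X₃, h₃⟩) := dif_pos h₃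
  rw [e1, e2, e3]
  exact h

theorem lam_zero {X : Type u} [AddCommGroup X] [Module A X] [Subsingleton X] : lam A X = 0 := by
  have := lam_add (A := A) (0 : X →ₗ[A] X) (0 : X →ₗ[A] X)
    (fun a b _ => Subsingleton.elim a b) (fun a => ⟨a, Subsingleton.elim _ _⟩)
    (by ext x; simp [Subsingleton.elim x 0])
  simpa using this

theorem lam_equiv {X Y : Type u} [AddCommGroup X] [Module A X] [AddCommGroup Y] [Module A Y]
    (e : X ≃ₗ[A] Y) [Module.Finite A X] : lam A X = lam A Y := by
  haveI : Module.Finite A Y := Module.Finite.equiv e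
  have := lam_add (A := A) (0 : PUnit.{u+1} →ₗ[A] X) e.toLinearMap
    (fun a b _ => Subsingleton.elim a b) e.surjective
    (by
      rw [LinearMap.range_zero]
      exact (LinearMap.ker_eq_bot.mpr e.injective).symm)
  rw [this, lam_zero, zero_add]

end Lam

section EvPoly

variable {G : Type*} [AddCommGroup G]

/-- binomial combination -/
def P (a : ℕ → G) (k n : ℕ) : G := ∑ i ∈ Finset.range k, ((n.choose i : ℕ) : ℤ) • a i

theorem P_pad {a : ℕ → G} {k k' : ℕ} (ha : ∀ i, k ≤ i → a i = 0) (h : k ≤ k') (n : ℕ) :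
    P a k' n = P a k n := by
  unfold P
  symm
  apply Finset.sum_subset (Finset.range_subset_range.2 h)
  intro i _ hi
  rw [ha i (by simpa using hi), smul_zero]

theorem P_succ (a : ℕ → G) (k n : ℕ) :
    P a (k + 1) (n + 1) = P a (k + 1) n + P (fun i => a (i + 1)) k n := by
  unfold P
  rw [Finset.sum_range_succ', Finset.sum_range_succ' _ k]
  simp only [Nat.choose_succ_succ, Nat.choose_zero_right, Nat.cast_add, add_smul]
  rw [Finset.sum_add_distrib]
  abel

/-- eventually a numerical polynomial -/
def IsEvPoly (f : ℕ → G) : Prop :=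
  ∃ (a : ℕ → G) (k N : ℕ), (∀ i, k ≤ i → a i = 0) ∧ ∀ n, N ≤ n → f n = P a k n

theorem IsEvPoly.of_eventually_zero {f : ℕ → G} (N : ℕ) (h : ∀ n, N ≤ n → f n = 0) : IsEvPoly f :=
  ⟨fun _ => 0, 0, N, fun _ _ => rfl, fun n hn => by rw [h n hn]; simp [P]⟩

theorem P_add (a b : ℕ → G) (k n : ℕ) : P (fun i => a i + b i) k n = P a k n + P b k n := by
  unfold P
  rw [← Finset.sum_add_distrib]
  apply Finset.sum_congr rfl
  intro i _
  rw [smul_add]

theorem P_neg (a : ℕ → G) (k n : ℕ) : P (fun i => - a i) k n = - P a k n := by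
  unfold P
  rw [← Finset.sum_neg_distrib]
  apply Finset.sum_congr rfl
  intro i _
  rw [smul_neg]

theorem IsEvPoly.add {f g : ℕ → G} (hf : IsEvPoly f) (hg : IsEvPoly g) :
    IsEvPoly (fun n => f n + g n) := by
  obtain ⟨a, k, N, ha, hfa⟩ := hf
  obtain ⟨b, l, N', hb, hgb⟩ := hg
  refine ⟨fun i => a i + b i, max k l, max N N', ?_, ?_⟩
  · intro i hi
    dsimp only
    rw [ha i (le_trans (le_max_left _ _) hi), hb i (le_trans (le_max_right _ _) hi), add_zero]
  · intro n hn
    dsimp only
    rw [P_add, P_pad ha (le_max_left _ _), P_pad hb (le_max_right _ _),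
      hfa n (le_trans (le_max_left _ _) hn), hgb n (le_trans (le_max_right _ _) hn)]

theorem IsEvPoly.neg {f : ℕ → G} (hf : IsEvPoly f) : IsEvPoly (fun n => - f n) := by
  obtain ⟨a, k, N, ha, hfa⟩ := hf
  refine ⟨fun i => - a i, k, N, ?_, ?_⟩
  · intro i hi
    dsimp only
    rw [ha i hi, neg_zero]
  · intro n hn
    dsimp only
    rw [P_neg, hfa n hn]

theorem IsEvPoly.shift {f : ℕ → G} (hf : IsEvPoly f) : IsEvPoly (fun n => f (n + 1)) := by
  obtain ⟨a, k, N, ha, hfa⟩ := hf
  refine ⟨fun i => a i + a (i + 1), k + 1, N, ?_, ?_⟩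
  · intro i hi
    dsimp only
    rw [ha i (by omega), ha (i + 1) (by omega), add_zero]
  · intro n hn
    have h1 : f (n + 1) = P a (k + 1) (n + 1) := by
      rw [hfa (n + 1) (by omega), P_pad ha (Nat.le_succ k)]
    have h2 : P (fun i => a (i + 1)) (k + 1) n = P (fun i => a (i + 1)) k n :=
      P_pad (fun i hi => ha (i + 1) (by omega)) (Nat.le_succ k) n
    change f (n + 1) = _
    rw [h1, P_succ, P_add, h2]

theorem IsEvPoly.integrate {f g : ℕ → G} (hg : IsEvPoly g)
    (h : ∃ N, ∀ n, N ≤ n → f (n + 1) = f n + g n) : IsEvPoly f := by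
  obtain ⟨a, k, N, ha, hga⟩ := hg
  obtain ⟨N', hN'⟩ := h
  set N₀ := max N N' with hN₀
  set c : G := f N₀ - ∑ i ∈ Finset.range k, ((N₀.choose (i + 1) : ℕ) : ℤ) • a i with hc
  let b : ℕ → G := fun i => Nat.casesOn i c (fun j => a j)
  have hb1 : (fun i => b (i + 1)) = a := rfl
  refine ⟨b, k + 1, N₀ + 1, ?_, ?_⟩
  · intro i hi
    cases i with
    | zero => omega
    | succ j => exact ha j (by omega)
  · intro n hn
    obtain ⟨m, rfl⟩ : ∃ m, n = m + 1 := ⟨n - 1, by omega⟩
    have hm : N₀ ≤ m := by omega
    clear hn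
    induction m, hm using Nat.le_induction with
    | base =>
      rw [hN' N₀ (le_max_right _ _), hga N₀ (le_max_left _ _), P_succ, hb1]
      have : P b (k + 1) N₀ = (∑ i ∈ Finset.range k, ((N₀.choose (i + 1) : ℕ) : ℤ) • a i) + c := by
        unfold P
        rw [Finset.sum_range_succ']
        simp [b]
      rw [this, hc]
      abel
    | succ m hm ih =>
      rw [hN' (m + 1) (by omega), hga (m + 1) (by omega), ih, P_succ b k (m + 1), hb1]

theorem IsEvPoly.exists_fin {f : ℕ → G} (hf : IsEvPoly f) :
    ∃ (r : ℕ) (a : Fin r → G) (N : ℕ), ∀ n : ℕ, N ≤ n →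
      f n = ∑ i : Fin r, ((n.choose (i : ℕ) : ℕ) : ℤ) • a i := by
  obtain ⟨a, k, N, -, hfa⟩ := hf
  refine ⟨k, fun i => a i, N, fun n hn => ?_⟩
  rw [hfa n hn, P, Finset.sum_range]

end EvPoly

section Graded

variable {A S : Type u} [CommRing A] [CommRing S] [Algebra A S] {r : ℕ} (x : Fin r → S)

theorem finite_of_exact {X Y Z : Type u} [AddCommGroup X] [Module A X] [AddCommGroup Y] [Module A Y]
    [AddCommGroup Z] [Module A Z] (f : X →ₗ[A] Y) (g : Y →ₗ[A] Z)
    (hg : Function.Surjective g) (hfg : LinearMap.range f = LinearMap.ker g)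
    [Module.Finite A X] [Module.Finite A Z] : Module.Finite A Y := by
  refine ⟨Submodule.fg_of_fg_map_of_fg_inf_ker g ?_ ?_⟩
  · rw [Submodule.map_top, LinearMap.range_eq_top.mpr hg]
    exact Module.Finite.fg_top
  · rw [top_inf_eq, ← hfg, LinearMap.range_eq_map]
    exact Submodule.FG.map f Module.Finite.fg_top

/-- a grading given by orthogonal idempotent projections, compatible with the elements `x j`
(of degree one) -/
structure GrD (M : Type u) [AddCommGroup M] [Module A M] [Module S M] where
  π : ℕ → M →ₗ[A] M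
  idem : ∀ i m, π i (π i m) = π i m
  orth : ∀ i j m, i ≠ j → π i (π j m) = 0
  fin : ∀ m, ∃ s : Finset ℕ, (∀ i, i ∉ s → π i m = 0) ∧ m = ∑ i ∈ s, π i m
  hXs : ∀ (j : Fin r) i m, π (i + 1) (x j • m) = x j • π i m
  hX0 : ∀ (j : Fin r) m, π 0 (x j • m) = 0

variable {x}

section Step

variable {M : Type u} [AddCommGroup M] [Module A M] [Module S M] [IsScalarTower A S M]
  (G : GrD (A := A) x M) (j : Fin r)

/-- kernel of multiplication by `x j` -/
def Ksub : Submodule S M := LinearMap.ker (LinearMap.lsmul S M (x j))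

/-- image of multiplication by `x j` -/
def Qsub : Submodule S M := LinearMap.range (LinearMap.lsmul S M (x j))

variable {j} in
omit [Algebra A S] [Module A M] [IsScalarTower A S M] in
theorem mem_Ksub {m : M} : m ∈ Ksub (M := M) (x := x) j ↔ x j • m = 0 := LinearMap.mem_ker

variable {j} in
omit [Algebra A S] [Module A M] [IsScalarTower A S M] in
theorem mem_Qsub {m : M} : m ∈ Qsub (M := M) (x := x) j ↔ ∃ y : M, x j • y = m := LinearMap.mem_range

/-- projections on the kernel -/
noncomputable def πK (i : ℕ) : Ksub (M := M) (x := x) j →ₗ[A] Ksub (M := M) (x := x) j where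
  toFun k := ⟨G.π i k, by
    rw [mem_Ksub, ← G.hXs j i k, mem_Ksub.mp k.2, map_zero]⟩
  map_add' a b := by
    apply Subtype.ext
    simp
  map_smul' a b := by
    apply Subtype.ext
    simp

@[simp] theorem πK_coe (i : ℕ) (k : Ksub (M := M) (x := x) j) :
    ((πK G j i k : Ksub (M := M) (x := x) j) : M) = G.π i k := rfl

/-- graded data on the kernel -/
noncomputable def grK : GrD (A := A) x (Ksub (M := M) (x := x) j) where
  π := πK G j
  idem := by
    intro i m
    apply Subtype.ext; simp [G.idem]
  orth := by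
    intro i l m hil
    apply Subtype.ext
    simp only [πK_coe, ZeroMemClass.coe_zero]
    exact G.orth i l _ hil
  fin := by
    intro m
    obtain ⟨s, hs0, hsum⟩ := G.fin (m : M)
    refine ⟨s, ?_, ?_⟩
    · intro i hi
      apply Subtype.ext
      simp only [πK_coe, ZeroMemClass.coe_zero]
      exact hs0 i hi
    · apply Subtype.ext
      simp only [AddSubmonoidClass.coe_finsetSum, πK_coe]
      exact hsum
  hXs := by
    intro l i m
    apply Subtype.ext
    simp only [πK_coe, Submodule.coe_smul]
    exact G.hXs _ _ _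
  hX0 := by
    intro l m
    apply Subtype.ext
    simp only [πK_coe, Submodule.coe_smul, ZeroMemClass.coe_zero]
    exact G.hX0 _ _

theorem π_mem_Qsub (i : ℕ) {m : M} (hm : m ∈ Qsub (M := M) (x := x) j) :
    G.π i m ∈ Qsub (M := M) (x := x) j := by
  obtain ⟨y, rfl⟩ := mem_Qsub.mp hm
  cases i with
  | zero => rw [G.hX0]; exact zero_mem _
  | succ i => rw [G.hXs]; exact mem_Qsub.mpr ⟨_, rfl⟩

/-- projections on the cokernel -/
noncomputable def πC (i : ℕ) : (M ⧸ Qsub (M := M) (x := x) j) →ₗ[A] (M ⧸ Qsub (M := M) (x := x) j) :=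
  (Submodule.Quotient.restrictScalarsEquiv A (Qsub (M := M) (x := x) j)).toLinearMap ∘ₗ
    (Submodule.mapQ ((Qsub (M := M) (x := x) j).restrictScalars A)
      ((Qsub (M := M) (x := x) j).restrictScalars A) (G.π i)
      (fun m hm => by
        rw [Submodule.mem_comap, Submodule.restrictScalars_mem]
        rw [Submodule.restrictScalars_mem] at hm
        exact π_mem_Qsub G j i hm)) ∘ₗ
    (Submodule.Quotient.restrictScalarsEquiv A (Qsub (M := M) (x := x) j)).symm.toLinearMap

@[simp] theorem πC_mk (i : ℕ) (m : M) :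
    πC G j i (Submodule.Quotient.mk m) = Submodule.Quotient.mk (G.π i m) := by
  rfl

/-- graded data on the cokernel -/
noncomputable def grC : GrD (A := A) x (M ⧸ Qsub (M := M) (x := x) j) where
  π := πC G j
  idem := by
    intro i c
    obtain ⟨m, rfl⟩ := Submodule.Quotient.mk_surjective _ c
    simp [G.idem]
  orth := by
    intro i l c hil
    obtain ⟨m, rfl⟩ := Submodule.Quotient.mk_surjective _ c
    simp [G.orth i l m hil]
  fin := by
    intro c
    obtain ⟨m, rfl⟩ := Submodule.Quotient.mk_surjective _ c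
    obtain ⟨s, hs0, hsum⟩ := G.fin m
    refine ⟨s, ?_, ?_⟩
    · intro i hi
      simp [hs0 i hi]
    · conv_lhs => rw [hsum]
      simp only [πC_mk]
      exact map_sum (Qsub (M := M) (x := x) j).mkQ _ _
  hXs := by
    intro l i c
    obtain ⟨m, rfl⟩ := Submodule.Quotient.mk_surjective _ c
    rw [← Submodule.Quotient.mk_smul, πC_mk, πC_mk, G.hXs, Submodule.Quotient.mk_smul]
  hX0 := by
    intro l c
    obtain ⟨m, rfl⟩ := Submodule.Quotient.mk_surjective _ c
    rw [← Submodule.Quotient.mk_smul, πC_mk, G.hX0, Submodule.Quotient.mk_zero]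

/-- multiplication by `x j` on pieces -/
noncomputable def mu (i : ℕ) : LinearMap.range (G.π i) →ₗ[A] LinearMap.range (G.π (i + 1)) where
  toFun m := ⟨x j • (m : M), by
    obtain ⟨y, hy⟩ := m.2
    rw [← hy, ← G.hXs]; exact LinearMap.mem_range_self _ _⟩
  map_add' a b := by apply Subtype.ext; simp [smul_add]
  map_smul' a b := by
    apply Subtype.ext
    change x j • ((a • b : LinearMap.range (G.π i)) : M) = a • (x j • (b : M))
    rw [Submodule.coe_smul, smul_comm]

@[simp] theorem mu_coe (i : ℕ) (m : LinearMap.range (G.π i)) :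
    ((mu G j i m : LinearMap.range (G.π (i + 1))) : M) = x j • (m : M) := rfl

omit [Algebra A S] [IsScalarTower A S M] in
theorem π_of_mem_range {i : ℕ} {m : M} (hm : m ∈ LinearMap.range (G.π i)) : G.π i m = m := by
  obtain ⟨y, rfl⟩ := hm
  exact G.idem i y

/-- inclusion of the kernel piece -/
noncomputable def fK (i : ℕ) : LinearMap.range (πK G j i) →ₗ[A] LinearMap.range (G.π i) where
  toFun k := ⟨((k : Ksub (M := M) (x := x) j) : M), by
    obtain ⟨k', hk'⟩ := k.2
    rw [← hk']
    exact LinearMap.mem_range_self _ _⟩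
  map_add' a b := rfl
  map_smul' a b := rfl

theorem fK_injective (i : ℕ) : Function.Injective (fK G j i) := by
  intro a b hab
  apply Subtype.ext; apply Subtype.ext
  exact congrArg (fun z : LinearMap.range (G.π i) => (z : M)) hab

theorem range_fK (i : ℕ) : LinearMap.range (fK G j i) = LinearMap.ker (mu G j i).rangeRestrict := by
  ext m
  rw [LinearMap.mem_ker]
  constructor
  · rintro ⟨k, rfl⟩
    apply Subtype.ext; apply Subtype.ext
    change x j • ((k : Ksub (M := M) (x := x) j) : M) = 0
    exact mem_Ksub.mp (k : Ksub (M := M) (x := x) j).2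
  · intro hm
    have hm' : x j • (m : M) = 0 := by
      have := congrArg (fun z : LinearMap.range (mu G j i) => ((z : LinearMap.range (G.π (i + 1))) : M)) hm
      simpa using this
    let k : Ksub (M := M) (x := x) j := ⟨(m : M), mem_Ksub.mpr hm'⟩
    have hk : πK G j i k = k := by
      apply Subtype.ext
      change G.π i (m : M) = (m : M)
      exact π_of_mem_range G m.2
    exact ⟨⟨k, ⟨k, hk⟩⟩, rfl⟩

/-- projection of a piece to the cokernel piece -/
noncomputable def gC (n : ℕ) : LinearMap.range (G.π n) →ₗ[A] LinearMap.range (πC G j n) where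
  toFun m := ⟨Submodule.Quotient.mk (m : M), by
    obtain ⟨y, hy⟩ := m.2
    rw [← hy, ← πC_mk]
    exact LinearMap.mem_range_self _ _⟩
  map_add' a b := rfl
  map_smul' a b := rfl

theorem gC_surjective (n : ℕ) : Function.Surjective (gC G j n) := by
  rintro ⟨c, c', rfl⟩
  obtain ⟨y, rfl⟩ := Submodule.Quotient.mk_surjective _ c'
  refine ⟨⟨G.π n y, LinearMap.mem_range_self _ _⟩, ?_⟩
  apply Subtype.ext
  change Submodule.Quotient.mk (G.π n y) = πC G j n (Submodule.Quotient.mk y)
  rw [πC_mk]

theorem gC_eq_zero_iff (n : ℕ) (m : LinearMap.range (G.π n)) :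
    gC G j n m = 0 ↔ (m : M) ∈ Qsub (M := M) (x := x) j := by
  rw [← Submodule.Quotient.mk_eq_zero]
  constructor
  · intro h
    exact congrArg (fun z : LinearMap.range (πC G j n) => (z : M ⧸ Qsub (M := M) (x := x) j)) h
  · intro h
    apply Subtype.ext
    exact h

theorem range_mu (i : ℕ) :
    LinearMap.range (LinearMap.range (mu G j i)).subtype = LinearMap.ker (gC G j (i + 1)) := by
  ext m
  rw [LinearMap.mem_ker, gC_eq_zero_iff, mem_Qsub]
  constructor
  · rintro ⟨⟨m', ⟨m'', rfl⟩⟩, rfl⟩
    exact ⟨(m'' : M), rfl⟩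
  · rintro ⟨y, hy⟩
    refine ⟨⟨m, ⟨⟨G.π i y, LinearMap.mem_range_self _ _⟩, ?_⟩⟩, rfl⟩
    apply Subtype.ext
    rw [mu_coe]
    change x j • G.π i y = (m : M)
    rw [← G.hXs, hy]
    exact π_of_mem_range G m.2

theorem gC_zero_injective : Function.Injective (gC G j 0) := by
  rw [injective_iff_map_eq_zero]
  intro m hm
  rw [gC_eq_zero_iff, mem_Qsub] at hm
  obtain ⟨y, hy⟩ := hm
  apply Subtype.ext
  rw [← π_of_mem_range G m.2, ← hy, G.hX0]
  rfl

end Step

/-- the statement for modules killed by `x i`, `i ≥ j` -/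
def HProp (A : Type u) {S : Type u} [CommRing A] [CommRing S] [Algebra A S] {r : ℕ}
    (x : Fin r → S) (j : ℕ) : Prop :=
  ∀ (M : Type u) [AddCommGroup M] [Module A M] [Module S M] [IsScalarTower A S M]
    [IsNoetherian S M] (G : GrD (A := A) x M),
    (∀ i : Fin r, j ≤ i.val → ∀ m : M, x i • m = 0) →
    (∀ n, Module.Finite A (LinearMap.range (G.π n))) ∧
      IsEvPoly (fun n => lam A (LinearMap.range (G.π n)))

theorem hprop_zero (hS : ∀ s : S, ∃ a : A, s - algebraMap A S a ∈ Ideal.span (Set.range x)) :
    HProp A x 0 := by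
  intro M _ _ _ _ _ G hkill
  classical
  have hann : Ideal.span (Set.range x) ≤ Module.annihilator S M := by
    rw [Ideal.span_le]
    rintro _ ⟨i, rfl⟩
    rw [SetLike.mem_coe, Module.mem_annihilator]
    exact hkill i (Nat.zero_le _)
  have key : ∀ (s : S), ∃ a : A, ∀ m : M, s • m = a • m := by
    intro s
    obtain ⟨a, ha⟩ := hS s
    refine ⟨a, fun m => ?_⟩
    have := Module.mem_annihilator.mp (hann ha) m
    rw [sub_smul, sub_eq_zero, algebraMap_smul] at this
    exact this
  have hnoeth : IsNoetherian A M := by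
    rw [isNoetherian_def]
    intro N
    let N' : Submodule S M :=
      { carrier := N
        add_mem' := N.add_mem
        zero_mem' := N.zero_mem
        smul_mem' := fun s m hm => by
          obtain ⟨a, ha⟩ := key s
          rw [ha m]
          exact N.smul_mem a hm }
    obtain ⟨F, hF⟩ := (isNoetherian_def.mp (inferInstance : IsNoetherian S M)) N'
    refine ⟨F, le_antisymm ?_ ?_⟩
    · rw [Submodule.span_le]
      intro f hf
      have : f ∈ N' := by rw [← hF]; exact Submodule.subset_span hf
      exact this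
    · intro n hn
      have hn' : n ∈ Submodule.span S (F : Set M) := by rw [hF]; exact hn
      clear hn
      induction hn' using Submodule.span_induction with
      | mem y hy => exact Submodule.subset_span hy
      | zero => exact zero_mem _
      | add y z _ _ hy hz => exact add_mem hy hz
      | smul s y _ hy =>
        obtain ⟨a, ha⟩ := key s
        rw [ha y]
        exact Submodule.smul_mem _ a hy
  have hfinM : Module.Finite A M := inferInstance
  constructor
  · intro n
    infer_instance
  · obtain ⟨gens, hgens⟩ := Module.Finite.fg_top (R := A) (M := M)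
    choose sup hsup0 _ using G.fin
    apply IsEvPoly.of_eventually_zero ((gens.sup fun g => (sup g).sup id) + 1)
    intro i hi
    have hzero : G.π i = 0 := by
      apply LinearMap.ext_on_range (v := fun g : gens => (g : M))
      · simpa using hgens
      · intro g
        rw [LinearMap.zero_apply]
        apply hsup0
        intro hmem
        have h1 : i ≤ (sup g).sup id := Finset.le_sup (f := id) hmem
        have h2 : (sup g).sup id ≤ gens.sup fun g => (sup g).sup id :=
          Finset.le_sup (f := fun g => (sup g).sup id) g.2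
        omega
    have : Subsingleton (LinearMap.range (G.π i)) := by
      rw [hzero, LinearMap.range_zero]
      infer_instance
    exact lam_zero

theorem hprop_succ (j : ℕ) (hj : j < r) (ih : HProp A x j) : HProp A x (j + 1) := by
  intro M _ _ _ _ _ G hkill
  let jj : Fin r := ⟨j, hj⟩
  have hK := ih (Ksub (M := M) (x := x) jj) (grK G jj) (by
    intro i hi k
    apply Subtype.ext
    rw [Submodule.coe_smul, ZeroMemClass.coe_zero]
    rcases Nat.eq_or_lt_of_le hi with h | h
    · have : i = jj := Fin.ext h.symm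
      rw [this]
      exact mem_Ksub.mp k.2
    · exact hkill i h _)
  have hC := ih (M ⧸ Qsub (M := M) (x := x) jj) (grC G jj) (by
    intro i hi c
    obtain ⟨m, rfl⟩ := Submodule.Quotient.mk_surjective _ c
    rw [← Submodule.Quotient.mk_smul, Submodule.Quotient.mk_eq_zero]
    rcases Nat.eq_or_lt_of_le hi with h | h
    · have : i = jj := Fin.ext h.symm
      rw [this]
      exact mem_Qsub.mpr ⟨m, rfl⟩
    · rw [hkill i h]
      exact zero_mem _)
  obtain ⟨finK, polyK⟩ := hK
  obtain ⟨finC, polyC⟩ := hC
  have finM : ∀ n, Module.Finite A (LinearMap.range (G.π n)) := by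
    intro n
    induction n with
    | zero =>
      have : Module.Finite A (LinearMap.range (πC G jj 0)) := finC 0
      let e := LinearEquiv.ofBijective (gC G jj 0) ⟨gC_zero_injective G jj, gC_surjective G jj 0⟩
      exact Module.Finite.equiv e.symm
    | succ n ihn =>
      have : Module.Finite A (LinearMap.range (πC G jj (n + 1))) := finC (n + 1)
      exact finite_of_exact (LinearMap.range (mu G jj n)).subtype (gC G jj (n + 1))
        (gC_surjective G jj _) (range_mu G jj n)
  refine ⟨finM, ?_⟩
  have hrel : ∀ n, lam A (LinearMap.range (G.π (n + 1))) = lam A (LinearMap.range (G.π n)) +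
      (lam A (LinearMap.range ((grC G jj).π (n + 1))) + - lam A (LinearMap.range ((grK G jj).π n))) := by
    intro n
    have := finM n
    have := finM (n + 1)
    have : Module.Finite A (LinearMap.range (πC G jj (n + 1))) := finC (n + 1)
    have : Module.Finite A (LinearMap.range (πK G jj n)) := finK n
    have e1 := lam_add (fK G jj n) (mu G jj n).rangeRestrict (fK_injective G jj n)
      (LinearMap.surjective_rangeRestrict _) (range_fK G jj n)
    have e2 := lam_add (LinearMap.range (mu G jj n)).subtype (gC G jj (n + 1))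
      (Submodule.subtype_injective _) (gC_surjective G jj _) (range_mu G jj n)
    rw [e2, e1]
    change _ = _ + (lam A (LinearMap.range (πC G jj (n + 1))) + - lam A (LinearMap.range (πK G jj n)))
    abel
  exact IsEvPoly.integrate (polyC.shift.add polyK.neg) ⟨0, fun n _ => hrel n⟩

theorem hprop_all (hS : ∀ s : S, ∃ a : A, s - algebraMap A S a ∈ Ideal.span (Set.range x)) :
    ∀ j, j ≤ r → HProp A x j := by
  intro j
  induction j with
  | zero => intro _; exact hprop_zero hS
  | succ j ih => intro hj; exact hprop_succ j (by omega) (ih (by omega))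

end Graded

end Groth.Agent.Lib.Helper14.K0Hilb
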