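import Mathlib
import Groth.Prelude.Def_Red2
import Groth.Prelude.Def_SGA3x
import Groth.Agent.Lib.Helper14.RigD

/-! K-program, part 1: kernels locally of finite presentation, and the rigidity theorem with that
hypothesis. -/

set_option autoImplicit false

namespace Groth.Agent.Lib.Helper14.KL1

open CategoryTheory MonoidalCategory CartesianMonoidalCategory MonObj GrpObj AlgebraicGeometry
open CategoryTheory.Limits
open Groth.Agent.Lib.Helper14.KerTriv

universe u

variable {S : Scheme.{u}}

/-- the kernel of a composite is a base change of the kernel -/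
theorem lfp_ker_comp {H' H G : Over S} [GrpObj G] (j : H' ⟶ H) (u : H ⟶ G)
    (hfp : LocallyOfFinitePresentation (pullback.fst u.left (unitSec G))) :
    LocallyOfFinitePresentation (pullback.fst (j ≫ u).left (unitSec G)) := by
  obtain ⟨w, hw⟩ : ∃ w : H'.left ⟶ G.left, w = (j ≫ u).left := ⟨_, rfl⟩
  rw [← hw]
  have hw' : w = j.left ≫ u.left := by rw [hw]; rfl
  let φ : pullback w (unitSec G) ⟶ pullback u.left (unitSec G) :=
    pullback.lift (pullback.fst w (unitSec G) ≫ j.left) (pullback.snd w (unitSec G)) (by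
      rw [Category.assoc, ← hw']; exact pullback.condition)
  have hφ1 : φ ≫ pullback.fst u.left (unitSec G) = pullback.fst w (unitSec G) ≫ j.left :=
    pullback.lift_fst _ _ _
  have hφ2 : φ ≫ pullback.snd u.left (unitSec G) = pullback.snd w (unitSec G) :=
    pullback.lift_snd _ _ _
  have big : IsPullback (φ ≫ pullback.snd u.left (unitSec G)) (pullback.fst w (unitSec G))
      (unitSec G) (j.left ≫ u.left) := by
    rw [hφ2, ← hw']
    exact (IsPullback.of_hasPullback w (unitSec G)).flip
  have top : IsPullback φ (pullback.fst w (unitSec G)) (pullback.fst u.left (unitSec G)) j.left :=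
    IsPullback.of_right big hφ1 (IsPullback.of_hasPullback u.left (unitSec G)).flip
  exact MorphismProperty.of_isPullback (P := @LocallyOfFinitePresentation) top hfp

open Groth.Agent.Lib.Helper4.FpqcCov in
/-- flat surjective quasi-compact morphisms are coverings -/
theorem isCov_of_qc {Z Y : Scheme.{u}} (q : Z ⟶ Y) [Flat q] [Surjective q] [QuasiCompact q] :
    IsCov q := by
  refine ⟨‹_›, ‹_›, fun V hV => ⟨q ⁻¹ᵁ V, ?_, ?_⟩⟩
  · exact QuasiCompact.isCompact_preimage _ V.2 hV.isCompact
  · exact Set.image_preimage_eq _ q.surjective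

section main

open Groth.Agent.Lib.Helper14.RigD

variable (H G : Over S) [GrpObj H] [GrpObj G] [IsSeparated G.hom]

open Groth.Agent.Lib.Helper4.FpqcCov in
/-- the rigidity theorem, with the finiteness hypothesis put on the kernel -/
theorem main' (hH : SGA3x.IsMultTypeFT H) (u : H ⟶ G) [IsMonHom u]
    (hfp : LocallyOfFinitePresentation (pullback.fst u.left (unitSec G))) :
    ∃ U : S.Opens, IsClosed (U : Set S) ∧
      (∀ s : S, s ∈ U ↔ (Over.pullback (S.fromSpecResidueField s)).map u = 1) ∧
      (Over.pullback U.ι).map u = 1 := by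
  have hH' : MTHom5.LocTriv H (fun M _ => AddGroup.FG M) := hH
  obtain ⟨S'', p, hp, hcharts⟩ := MTHom5.exists_common H H _ _ hH' hH'
  have hcc : ∀ x : S'', ∃ (R : CommRingCat.{u}) (j : Spec R ⟶ S''), IsOpenImmersion j ∧
      x ∈ Set.range j ∧ ChartConclusion u (j ≫ p) := by
    intro x
    obtain ⟨R, j, hj, hx, M, iM, N, iN, -, -, ⟨eG, heG⟩, -⟩ := hcharts x
    exact ⟨R, j, hj, hx, chart_of_DS u hfp R (j ≫ p) M eG⟩
  choose R j hj hx hcc' using hcc
  choose A hAclopen hAiff hAloc using hcc'
  let Uset : Set S := {s | (Over.pullback (S.fromSpecResidueField s)).map u = 1}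
  have hpre : ∀ x (t : Spec (R x)), t ∈ A x ↔ p (j x t) ∈ Uset := fun x t => hAiff x t
  have hopen : IsOpen (p ⁻¹' Uset) := by
    rw [isOpen_iff_forall_mem_open]
    intro x hxU
    obtain ⟨t, ht⟩ := hx x
    refine ⟨j x '' A x, ?_, (j x).isOpenEmbedding.isOpenMap _ (hAclopen x).isOpen, ⟨t, ?_, ht⟩⟩
    · rintro _ ⟨t', ht', rfl⟩
      exact (hpre x t').mp ht'
    · rw [hpre, ht]
      exact hxU
  have hclosed : IsOpen (p ⁻¹' Usetᶜ) := by
    rw [isOpen_iff_forall_mem_open]
    intro x hxU
    obtain ⟨t, ht⟩ := hx x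
    refine ⟨j x '' (A x)ᶜ, ?_, (j x).isOpenEmbedding.isOpenMap _ (hAclopen x).compl.isOpen,
      ⟨t, ?_, ht⟩⟩
    · rintro _ ⟨t', ht', rfl⟩
      exact fun h => ht' ((hpre x t').mpr h)
    · intro h
      apply hxU
      show p x ∈ Uset
      rw [← ht]
      exact (hpre x t).mp h
  have hUo : IsOpen Uset := MTHom5.isOpen_of_isCov p hp _ hopen
  have hUc : IsClosed Uset := isOpen_compl_iff.mp (MTHom5.isOpen_of_isCov p hp _ hclosed)
  refine ⟨⟨Uset, hUo⟩, hUc, fun s => Iff.rfl, ?_⟩
  set U : S.Opens := ⟨Uset, hUo⟩ with hU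
  obtain ⟨hsj', hfl', -⟩ := hp.baseChange U.ι
  apply MTSplitA.hom_ext_of_local (pullback.snd p U.ι)
  have key : ∀ (x : S'') (y : ↥(pullback p U.ι)), (pullback.fst p U.ι) y = x →
      ∃ (W : Scheme.{u}) (w : W ⟶ pullback p U.ι), IsOpenImmersion w ∧ y ∈ Set.range w ∧
        (Over.pullback (w ≫ pullback.snd p U.ι)).map ((Over.pullback U.ι).map u) =
          (Over.pullback (w ≫ pullback.snd p U.ι)).map 1 := by
    intro x y hxy
    obtain ⟨t, ht⟩ := hx x
    have hpy : p x ∈ Uset := by
      have h : (pullback.fst p U.ι ≫ p) y = (pullback.snd p U.ι ≫ U.ι) y := by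
        rw [pullback.condition]
      have h' : p ((pullback.fst p U.ι) y) = U.ι ((pullback.snd p U.ι) y) := h
      rw [← hxy, h']
      exact ((pullback.snd p U.ι) y).2
    have htA : t ∈ A x := by
      rw [hpre, ht]
      exact hpy
    obtain ⟨r, htr, hrA, hPr⟩ := hAloc x t htA
    have hrange : Set.range (Spec.map (CommRingCat.ofHom
        (algebraMap (R x) (Localization.Away r))) ≫ j x) ⊆ Set.range (pullback.fst p U.ι) := by
      rw [IsOpenImmersion.range_pullbackFst]
      rintro _ ⟨t', rfl⟩
      show p ((Spec.map (CommRingCat.ofHom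
        (algebraMap (R x) (Localization.Away r))) ≫ j x) t') ∈ U.ι.opensRange
      rw [Scheme.Opens.opensRange_ι]
      show p (j x (Spec.map (CommRingCat.ofHom
        (algebraMap (R x) (Localization.Away r))) t')) ∈ Uset
      rw [← hpre]
      apply hrA
      show PrimeSpectrum.comap (algebraMap (R x) (Localization.Away r)) t' ∈
        (PrimeSpectrum.basicOpen r : Set (PrimeSpectrum (R x)))
      rw [← PrimeSpectrum.localization_away_comap_range (Localization.Away r) r]
      exact ⟨t', rfl⟩
    let w := IsOpenImmersion.lift (pullback.fst p U.ι) (Spec.map (CommRingCat.ofHom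
        (algebraMap (R x) (Localization.Away r))) ≫ j x) hrange
    have hw : w ≫ pullback.fst p U.ι = Spec.map (CommRingCat.ofHom
        (algebraMap (R x) (Localization.Away r))) ≫ j x := IsOpenImmersion.lift_fac _ _ _
    have hwo : IsOpenImmersion (w ≫ pullback.fst p U.ι) := by
      rw [hw]
      infer_instance
    refine ⟨_, w, IsOpenImmersion.of_comp w (pullback.fst p U.ι), ?_, ?_⟩
    · have htr' : t ∈ Set.range (PrimeSpectrum.comap
          (algebraMap (R x) (Localization.Away r))) := by
        rw [PrimeSpectrum.localization_away_comap_range (Localization.Away r) r]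
        exact htr
      obtain ⟨t', ht'⟩ := htr'
      refine ⟨t', (pullback.fst p U.ι).isOpenEmbedding.injective ?_⟩
      have h1 : (w ≫ pullback.fst p U.ι) t' = (Spec.map (CommRingCat.ofHom
        (algebraMap (R x) (Localization.Away r))) ≫ j x) t' := by rw [hw]
      have h2 : (pullback.fst p U.ι) (w t') = j x (PrimeSpectrum.comap
          (algebraMap (R x) (Localization.Away r)) t') := h1
      rw [h2, ht', ht, hxy]
    · have heq : (w ≫ pullback.snd p U.ι) ≫ U.ι = Spec.map (CommRingCat.ofHom
        (algebraMap (R x) (Localization.Away r))) ≫ j x ≫ p := by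
        rw [Category.assoc, ← pullback.condition, ← Category.assoc, hw, Category.assoc]
      rw [Functor.map_one, MTSplitD.bc_bc_eq_one_iff, heq]
      exact hPr
  intro y
  exact key _ y rfl

end main

end Groth.Agent.Lib.Helper14.KL1
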