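import Mathlib
import Groth.Prelude.Def_Red2
import Groth.Prelude.Def_SGA3x
import Groth.Agent.Lib.Helper14.CSubB
import Groth.Agent.Lib.Helper14.AutDS
import Groth.Agent.Lib.Helper14.RigD

/-! K-program, part 2: the kernel of a homomorphism from a diagonalisable group over a field. -/

set_option autoImplicit false

namespace Groth.Agent.Lib.Helper14.KL2

open CategoryTheory MonoidalCategory CartesianMonoidalCategory MonObj GrpObj AlgebraicGeometry
open CategoryTheory.Limits
open Groth.Agent.Lib.Helper14.KerTriv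

universe u

section dict

open TensorProduct GrpBridge

variable {A : Type u} [CommRing A] (G : Over (Spec (CommRingCat.of A))) [GrpObj G]
  [IsSeparated G.hom]
  {E : Type u} [CommRing E] [Bialgebra A E] {M : Type} [AddCommGroup M] (GE : MTHom1.GLB A E M)

include GE in
open scoped Obj in
/-- the kernel of a homomorphism from a split group: its ideal, the algebraic structure on the
quotient and its points -/
theorem dict2 (v : (Spec (.of E)).asOver (Spec (.of A)) ⟶ G) [IsMonHom v] :
    ∃ I : Ideal E, (∃ C : CSubA.CSub A M (E ⧸ I), ∀ m, C.g m = Ideal.Quotient.mk I (GE.b m)) ∧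
    ∀ (R : Type u) [CommRing R] [Algebra A R] (x : E →ₐ[A] R),
      specHom A E x ≫ v = 1 ↔ ∀ a ∈ I, x a = 0 := by
  obtain ⟨eGA, heGA⟩ : ∃ eGA, eGA = unitSec G := ⟨_, rfl⟩
  have heGA1 : eGA ≫ G.hom = 𝟙 _ := by rw [heGA]; exact unitSec_hom _
  haveI : IsClosedImmersion eGA := by
    haveI : IsClosedImmersion (eGA ≫ G.hom) := by rw [heGA1]; infer_instance
    exact IsClosedImmersion.of_comp eGA G.hom
  obtain ⟨vl, hvl⟩ : ∃ vl : Spec (CommRingCat.of E) ⟶ G.left, vl = v.left := ⟨_, rfl⟩
  have hvlstr : vl ≫ G.hom = Spec.map (CommRingCat.ofHom (algebraMap A E)) := by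
    rw [hvl]
    exact Over.w v
  obtain ⟨ιA, hιA⟩ : ∃ ιA : pullback vl eGA ⟶ Spec (CommRingCat.of E),
    ιA = pullback.fst vl eGA := ⟨_, rfl⟩
  obtain ⟨κA, hκA⟩ : ∃ κA, κA = pullback.snd vl eGA := ⟨_, rfl⟩
  have hcond : ιA ≫ vl = κA ≫ eGA := by rw [hιA, hκA]; exact pullback.condition
  haveI : IsClosedImmersion ιA := by rw [hιA]; infer_instance
  obtain ⟨I, e, he⟩ := IsClosedImmersion.Spec_iff.1 (inferInstance : IsClosedImmersion ιA)
  have hκ1 : κA = ιA ≫ Spec.map (CommRingCat.ofHom (algebraMap A E)) := by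
    have h1 := congrArg (fun t => t ≫ G.hom) hcond
    simp only [Category.assoc] at h1
    rw [heGA1, Category.comp_id, hvlstr] at h1
    exact h1.symm
  have hκ : κA = e.hom ≫ Spec.map (CommRingCat.ofHom (algebraMap A (E ⧸ I))) := by
    rw [hκ1, he, Category.assoc, ← Spec.map_comp]
    rfl
  have hκ' : e.inv ≫ κA = Spec.map (CommRingCat.ofHom (algebraMap A (E ⧸ I))) := by
    rw [hκ, Iso.inv_hom_id_assoc]
  have he' : e.inv ≫ ιA = Spec.map (CommRingCat.ofHom (Ideal.Quotient.mk I)) := by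
    rw [he, Iso.inv_hom_id_assoc]
  obtain ⟨π, hπd⟩ : ∃ π : E →ₐ[A] E ⧸ I, π = Ideal.Quotient.mkₐ A I := ⟨_, rfl⟩
  have hπ : Function.Surjective π := by rw [hπd]; exact Ideal.Quotient.mkₐ_surjective A I
  have hπ0 : ∀ a, π a = 0 ↔ a ∈ I := by
    intro a; rw [hπd]; exact Ideal.Quotient.eq_zero_iff_mem
  -- the unit section
  have hunit : (η[(Spec (.of E)).asOver (Spec (.of A))]).left ≫ vl = 𝟙 _ ≫ eGA := by
    rw [Category.id_comp, heGA, hvl]
    have := congrArg (fun t : 𝟙_ (Over (Spec (.of A))) ⟶ G => t.left)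
      (IsMonHom.one_hom (f := v))
    exact this
  obtain ⟨σA, hσA1, hσA2⟩ : ∃ σA : Spec (.of A) ⟶ pullback vl eGA,
      σA ≫ ιA = (η[(Spec (.of E)).asOver (Spec (.of A))]).left ∧ σA ≫ κA = 𝟙 _ :=
    ⟨pullback.lift _ _ hunit, by rw [hιA]; exact pullback.lift_fst _ _ _,
      by rw [hκA]; exact pullback.lift_snd _ _ _⟩
  have hσι : σA ≫ ιA = Spec.map (CommRingCat.ofHom (Bialgebra.counitAlgHom A E).toRingHom) :=
    hσA1
  have hI : ∀ a ∈ I, Bialgebra.counitAlgHom A E a = 0 := by
    intro a ha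
    have h1 : Spec.map (CommRingCat.ofHom (Bialgebra.counitAlgHom A E).toRingHom) =
        Spec.map (CommRingCat.ofHom (Ideal.Quotient.mk I) ≫ Spec.preimage (σA ≫ e.hom)) := by
      rw [Spec.map_comp, Spec.map_preimage, Category.assoc, ← he, hσι]
    have h2 := Spec.map_injective h1
    have h3 := congrArg (fun f => f.hom a) h2
    simp only [CommRingCat.hom_comp, CommRingCat.hom_ofHom, RingHom.coe_comp,
      Function.comp_apply] at h3
    rw [Ideal.Quotient.eq_zero_iff_mem.2 ha, map_zero] at h3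
    exact h3
  have hvcomp : ∀ {T : Scheme.{u}} (a : T ⟶ pullback vl eGA) , (a ≫ ιA) ≫ vl = (a ≫ κA) ≫ eGA := by
    intro T a
    rw [Category.assoc, Category.assoc, hcond]
  -- points of the kernel
  have hpt : ∀ (R : Type u) [CommRing R] [Algebra A R] (χ : E ⧸ I →ₐ[A] R),
      specHom A E (χ.comp π) ≫ v = 1 := by
    intro R _ _ χ
    apply Over.OverMorphism.ext
    rw [one_left]
    have h0 : (specHom A E (χ.comp π) ≫ v).left = (specHom A E (χ.comp π)).left ≫ vl := by
      rw [hvl]; rfl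
    have h1 : (specHom A E (χ.comp π)).left =
        (Spec.map (CommRingCat.ofHom χ.toRingHom) ≫ e.inv) ≫ ιA := by
      rw [Category.assoc, he', ← Spec.map_comp, hπd]
      rfl
    have h1' : (specHom A E (χ.comp π)).left ≫ vl =
        ((Spec.map (CommRingCat.ofHom χ.toRingHom) ≫ e.inv) ≫ ιA) ≫ vl := by
      rw [← h1]
      rfl
    have h2 : ((Spec (.of R)).asOver (Spec (.of A))).hom =
        (Spec.map (CommRingCat.ofHom χ.toRingHom) ≫ e.inv) ≫ κA := by
      rw [Category.assoc, hκ', ← Spec.map_comp]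
      show Spec.map (CommRingCat.ofHom (algebraMap A R)) = _
      congr 1
      ext a
      exact (χ.commutes a).symm
    rw [h0, h1', h2, hvcomp, ← heGA]
    rfl
  have hpt' : ∀ (R : Type u) [CommRing R] [Algebra A R] (x₃ : E →ₐ[A] R),
      specHom A E x₃ ≫ v = 1 → ∃ χ : E ⧸ I →ₐ[A] R, ∀ a, χ (Ideal.Quotient.mk I a) = x₃ a := by
    intro R _ _ x₃ h12
    have h3 : Spec.map (CommRingCat.ofHom x₃.toRingHom) ≫ vl =
        Spec.map (CommRingCat.ofHom (algebraMap A R)) ≫ eGA := by
      have := congrArg (fun t => t.left) h12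
      simp only [Over.comp_left] at this
      rw [one_left, ← heGA] at this
      rw [hvl]
      exact this
    obtain ⟨c, hc⟩ : ∃ c : Spec (.of R) ⟶ pullback vl eGA,
        c ≫ ιA = Spec.map (CommRingCat.ofHom x₃.toRingHom) :=
      ⟨pullback.lift _ _ h3, by rw [hιA]; exact pullback.lift_fst _ _ _⟩
    have h4 : Spec.map (CommRingCat.ofHom x₃.toRingHom) =
        Spec.map (CommRingCat.ofHom (Ideal.Quotient.mk I) ≫ Spec.preimage (c ≫ e.hom)) := by
      rw [Spec.map_comp, Spec.map_preimage, Category.assoc, ← he, hc]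
    have h5 := Spec.map_injective h4
    have h6 : ∀ a, x₃ a = (Spec.preimage (c ≫ e.hom)).hom (Ideal.Quotient.mk I a) :=
      fun a => congrArg (fun f => f.hom a) h5
    refine ⟨{ toRingHom := (Spec.preimage (c ≫ e.hom)).hom, commutes' := ?_ }, ?_⟩
    · intro a
      show (Spec.preimage (c ≫ e.hom)).hom (Ideal.Quotient.mk I (algebraMap A E a)) = _
      rw [← h6, AlgHom.commutes]
    · intro a
      exact (h6 a).symm
  have hC : ∃ C : CSubA.CSub A M (E ⧸ I), ∀ m, C.g m = Ideal.Quotient.mk I (GE.b m) := by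
    refine ⟨{ g := fun m => π (GE.b m), g_zero := ?_, g_add := ?_, span := ?_,
              ε := Ideal.Quotient.liftₐ I (Bialgebra.counitAlgHom A E) hI, ε_g := ?_, mul := ?_ },
              ?_⟩
    · rw [GE.zero, map_one]
    · intro m m'
      rw [GE.add, map_mul]
    · have h1 : Submodule.span A (Set.range GE.b) = ⊤ := GE.b.span_eq
      have h2 : Submodule.map π.toLinearMap (Submodule.span A (Set.range GE.b)) = ⊤ := by
        rw [h1, Submodule.map_top, LinearMap.range_eq_top]
        exact hπ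
      rw [Submodule.map_span, ← Set.range_comp] at h2
      exact h2
    · intro m
      rw [hπd]
      show Ideal.Quotient.liftₐ I _ hI (Ideal.Quotient.mk I (GE.b m)) = 1
      exact GE.ε m
    · intro R _ _ χ₁ χ₂
      obtain ⟨x₁, hx₁⟩ : ∃ x₁ : E →ₐ[A] R, x₁ = χ₁.comp π := ⟨_, rfl⟩
      obtain ⟨x₂, hx₂⟩ : ∃ x₂ : E →ₐ[A] R, x₂ = χ₂.comp π := ⟨_, rfl⟩
      have h12 : (specHom A E x₁ * specHom A E x₂) ≫ v = 1 := by
        rw [MonObj.mul_comp, hx₁, hx₂, hpt R χ₁, hpt R χ₂, _root_.one_mul]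
      obtain ⟨x₃, hx₃⟩ : ∃ x₃ : E →ₐ[A] R,
          x₃ = (WithConv.toConv x₁ * WithConv.toConv x₂).ofConv := ⟨_, rfl⟩
      have hprod : specHom A E x₁ * specHom A E x₂ = specHom A E x₃ := by
        rw [specHom_eq, specHom_eq, specHom_eq, ← map_mul, hx₃]
      rw [hprod] at h12
      obtain ⟨χ₃, hχ₃⟩ := hpt' R x₃ h12
      refine ⟨χ₃, fun m => ?_⟩
      show χ₃ (π (GE.b m)) = _
      rw [hπd]
      show χ₃ (Ideal.Quotient.mk I (GE.b m)) = _
      rw [hχ₃, hx₃]
      show (WithConv.toConv x₁ * WithConv.toConv x₂) (GE.b m) = _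
      rw [AlgHom.convMul_apply, GE.gl, Algebra.TensorProduct.lift_tmul, hx₁, hx₂, hπd]
      rfl
    · intro m
      show π (GE.b m) = _
      rw [hπd]
      rfl
  refine ⟨I, hC, ?_⟩
  · intro R _ _ x
    constructor
    · intro h a ha
      obtain ⟨χ, hχ⟩ := hpt' R x h
      rw [← hχ, Ideal.Quotient.eq_zero_iff_mem.2 ha, map_zero]
    · intro h
      have hx : x = (Ideal.Quotient.liftₐ I x h).comp π := by
        ext a
        rw [hπd]
        rfl
      rw [hx]
      exact hpt R _

end dict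

section field

open TensorProduct GrpBridge

variable {κ : Type u} [Field κ] (G : Over (Spec (CommRingCat.of κ))) [GrpObj G]
  [IsSeparated G.hom]
  {E : Type u} [CommRing E] [Bialgebra κ E] {M : Type} [AddCommGroup M] (GE : MTHom1.GLB κ E M)

include GE in
open scoped Obj in
/-- over a field the kernel of a homomorphism from a split diagonalisable group is the
diagonalisable subgroup cut out by a subgroup of characters -/
theorem fl_spec (v : (Spec (.of E)).asOver (Spec (.of κ)) ⟶ G) [IsMonHom v] :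
    ∃ N : AddSubgroup M, ∀ (R : Type u) [CommRing R] [Algebra κ R] (x : E →ₐ[κ] R),
      specHom κ E x ≫ v = 1 ↔ ∀ n ∈ N, x (GE.b n) = 1 := by
  obtain ⟨I, ⟨C, hC⟩, hpt⟩ := dict2 G GE v
  refine ⟨C.Nker, fun R _ _ x => ?_⟩
  rw [hpt R x]
  constructor
  · intro h n hn
    have h1 : C.g n = 1 := (C.mem_Nker n).1 hn
    rw [hC] at h1
    have h2 : GE.b n - 1 ∈ I := by
      rw [← Ideal.Quotient.eq_zero_iff_mem, map_sub, h1, map_one, sub_self]
    have h3 := h _ h2
    rw [map_sub, map_one, sub_eq_zero] at h3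
    exact h3
  · intro hx
    let φ : M →+ Additive R :=
      { toFun := fun m => Additive.ofMul (x (GE.b m))
        map_zero' := by rw [GE.zero, map_one]; rfl
        map_add' := fun m m' => by rw [GE.add, map_mul]; rfl }
    let χ : Multiplicative (M ⧸ C.Nker) →* R :=
      AddMonoidHom.toMultiplicativeLeft (QuotientAddGroup.lift C.Nker φ (fun m hm => by
        rw [AddMonoidHom.mem_ker]
        show Additive.ofMul (x (GE.b m)) = 0
        rw [hx m hm]
        rfl))
    have hχ : ∀ m, χ (Multiplicative.ofAdd (QuotientAddGroup.mk m)) = x (GE.b m) := fun m => rfl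
    let xt : MonoidAlgebra κ (Multiplicative (M ⧸ C.Nker)) →ₐ[κ] R := MonoidAlgebra.lift κ R _ χ
    let e := AlgEquiv.ofBijective _ (CSubA.lift_bijective C)
    let y : E →ₐ[κ] R := (xt.comp e.symm.toAlgHom).comp (Ideal.Quotient.mkₐ κ I)
    have hy : ∀ m, y (GE.b m) = x (GE.b m) := by
      intro m
      have h1 : e.symm (C.g m) =
          MonoidAlgebra.single (Multiplicative.ofAdd (QuotientAddGroup.mk m : M ⧸ C.Nker)) 1 := by
        rw [AlgEquiv.symm_apply_eq]
        show _ = MonoidAlgebra.lift κ (E ⧸ I) _ C.gbar _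
        rw [MonoidAlgebra.lift_single, one_smul, CSubA.CSub.gbar_mk]
      show xt (e.symm (Ideal.Quotient.mk I (GE.b m))) = _
      rw [← hC, h1]
      show MonoidAlgebra.lift κ R _ χ _ = _
      rw [MonoidAlgebra.lift_single, one_smul, hχ]
    have hyx : y = x := by
      apply AlgHom.toLinearMap_injective
      apply GE.b.ext
      intro m
      exact hy m
    intro a ha
    rw [← hyx]
    show xt (e.symm (Ideal.Quotient.mk I a)) = 0
    rw [Ideal.Quotient.eq_zero_iff_mem.2 ha, map_zero, map_zero]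

end field

section DS

open TensorProduct GrpBridge

variable {T : Scheme.{u}} (G : Over T) [GrpObj G] [IsSeparated G.hom] {κ : Type u} [Field κ]
  (k : Spec (CommRingCat.of κ) ⟶ T) (M : Type) [AddCommGroup M]

open scoped Obj in
/-- **the kernel at a field valued point**: a homomorphism from a split diagonalisable group to a
separated group kills, at a field valued point, exactly the diagonalisable subgroups `D(M')`
with `N ≤ ker (M → M')`, for a subgroup `N` of characters -/
theorem fl_DS (v : Red.DS T M ⟶ G) [IsMonHom v] :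
    ∃ N : AddSubgroup M, ∀ (M' : Type) [AddCommGroup M'] (f : M →+ M'),
      (Over.pullback k).map (Red.DSmap T f ≫ v) = 1 ↔ N ≤ f.ker := by
  letI : Algebra (ULift.{u} ℤ) κ :=
    RingHom.toAlgebra ((Int.castRingHom κ).comp (ULift.ringEquiv : ULift.{u} ℤ ≃+* ℤ).toRingHom)
  obtain ⟨ε, hε1, hε2⟩ := MTSplitA.exists_chartD (ULift.{u} ℤ)
    (Limits.IsTerminal.from specULiftZIsTerminal T) k (specULiftZIsTerminal.hom_ext _ _)
  obtain ⟨GM, hGM⟩ := AutDS.exists_glb' κ M (ULift.{u} ℤ)
  haveI := hε1 (MonoidAlgebra (ULift.{u} ℤ) (Multiplicative M))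
  haveI : IsMonHom (ε (MonoidAlgebra (ULift.{u} ℤ) (Multiplicative M))).inv := inferInstance
  haveI : IsSeparated (Red.bc k G).hom := inferInstanceAs (IsSeparated (pullback.snd G.hom k))
  obtain ⟨v', hv'⟩ : ∃ v',
      v' = (ε (MonoidAlgebra (ULift.{u} ℤ) (Multiplicative M))).inv ≫ (Over.pullback k).map v :=
    ⟨_, rfl⟩
  haveI : IsMonHom v' := by rw [hv']; infer_instance
  obtain ⟨N, hN⟩ := fl_spec (Red.bc k G) GM v'
  refine ⟨N, fun M' _ f => ?_⟩
  obtain ⟨GM', hGM'⟩ := AutDS.exists_glb' κ M' (ULift.{u} ℤ)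
  have nat := hε2 (MonoidAlgebra (ULift.{u} ℤ) (Multiplicative M'))
    (MonoidAlgebra (ULift.{u} ℤ) (Multiplicative M))
    (MonoidAlgebra.mapDomainAlgHom (ULift.{u} ℤ) (ULift.{u} ℤ) (AddMonoidHom.toMultiplicative f))
  have nat' : (Over.pullback k).map (Red.DSmap T f) ≫
      (ε (MonoidAlgebra (ULift.{u} ℤ) (Multiplicative M))).hom =
      (ε (MonoidAlgebra (ULift.{u} ℤ) (Multiplicative M'))).hom ≫
        specHom κ _ (Algebra.TensorProduct.map (AlgHom.id κ κ)
          (MonoidAlgebra.mapDomainAlgHom (ULift.{u} ℤ) (ULift.{u} ℤ)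
            (AddMonoidHom.toMultiplicative f))) := nat
  have h1 : (Over.pullback k).map (Red.DSmap T f ≫ v) =
      (ε (MonoidAlgebra (ULift.{u} ℤ) (Multiplicative M'))).hom ≫
        specHom κ _ (Algebra.TensorProduct.map (AlgHom.id κ κ)
          (MonoidAlgebra.mapDomainAlgHom (ULift.{u} ℤ) (ULift.{u} ℤ)
            (AddMonoidHom.toMultiplicative f))) ≫ v' := by
    rw [hv', ← Category.assoc, ← Category.assoc, ← nat', Category.assoc, Category.assoc,
      Iso.hom_inv_id_assoc, Functor.map_comp]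
  rw [h1, RigD.iso_comp_eq_one_iff, hN]
  constructor
  · intro h n hn
    rw [AddMonoidHom.mem_ker]
    have h2 := h n hn
    rw [hGM, Algebra.TensorProduct.map_tmul] at h2
    apply GM'.b.injective
    rw [GM'.zero, hGM', ← h2]
    simp
  · intro h n hn
    have h2 : f n = 0 := h hn
    rw [hGM, Algebra.TensorProduct.map_tmul]
    have h3 : GM'.b (f n) = 1 := by rw [h2, GM'.zero]
    rw [← h3, hGM']
    simp

end DS

end Groth.Agent.Lib.Helper14.KL2
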