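import Mathlib
import Groth.Prelude.Def_Red2
import Groth.Prelude.Def_SGA3x
import Groth.Agent.Lib.Helper14.KL1
import Groth.Agent.Lib.Helper14.KL2
import Groth.Agent.Lib.Helper14.MTImgD
import Groth.Agent.Lib.Helper14.CentDescB

/-! K-program, part 3: tools. -/

set_option autoImplicit false

namespace Groth.Agent.Lib.Helper14.KL3

open CategoryTheory MonoidalCategory CartesianMonoidalCategory MonObj GrpObj AlgebraicGeometry
open CategoryTheory.Limits

universe u

section alg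

/-- finitely generated commutative groups are residually finite -/
theorem exists_not_mem_nsmul {M : Type} [AddCommGroup M] (hM : AddGroup.FG M) (m : M)
    (hm : m ≠ 0) : ∃ n : ℕ, 0 < n ∧ m ∉ (nsmulAddMonoidHom n : M →+ M).range := by
  by_contra hcon
  push_neg at hcon
  haveI : Module.Finite ℤ M := Module.Finite.iff_addGroup_fg.2 hM
  apply hm
  let J : Ideal ℤ := LinearMap.ker (LinearMap.toSpanSingleton ℤ M m)
  have hJ : J = ⊤ := by
    by_contra hJ
    obtain ⟨𝔪, h𝔪, hle⟩ := Ideal.exists_le_maximal J hJ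
    obtain ⟨g, hg⟩ : ∃ g : ℤ, 𝔪 = Ideal.span {g} :=
      ⟨_, (IsPrincipalIdealRing.principal 𝔪).principal.choose_spec⟩
    have hg0 : g ≠ 0 := by
      rintro rfl
      have : 𝔪 = ⊥ := by rw [hg]; simp
      exact Ring.ne_bot_of_isMaximal_of_not_isField h𝔪 Int.not_isField this
    have hmem : m ∈ (⨅ i : ℕ, 𝔪 ^ i • ⊤ : Submodule ℤ M) := by
      rw [Submodule.mem_iInf]
      intro i
      have hpos : 0 < g.natAbs ^ i := pow_pos (Int.natAbs_pos.2 hg0) i
      obtain ⟨y, hy⟩ := hcon _ hpos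
      have hy' : (g.natAbs ^ i) • y = m := hy
      have h1 : ((g.natAbs ^ i : ℕ) : ℤ) ∈ 𝔪 ^ i := by
        rw [hg, Ideal.span_singleton_pow, Ideal.mem_span_singleton]
        push_cast
        exact pow_dvd_pow_of_dvd ((dvd_abs g g).2 (dvd_refl g)) i
      rw [← hy', ← natCast_zsmul]
      exact Submodule.smul_mem_smul h1 trivial
    obtain ⟨r, hr⟩ := (Ideal.mem_iInf_smul_pow_eq_bot_iff 𝔪 m).1 hmem
    have h1 : (1 - (r : ℤ)) ∈ J := by
      show LinearMap.toSpanSingleton ℤ M m (1 - (r : ℤ)) = 0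
      rw [LinearMap.toSpanSingleton_apply, sub_smul, one_smul, hr, sub_self]
    have h2 : (1 : ℤ) ∈ 𝔪 := by
      have := 𝔪.add_mem (hle h1) r.2
      simpa using this
    exact h𝔪.ne_top ((Ideal.eq_top_iff_one _).2 h2)
  have h1 : (1 : ℤ) ∈ J := by rw [hJ]; trivial
  have h2 : LinearMap.toSpanSingleton ℤ M m 1 = 0 := h1
  rwa [LinearMap.toSpanSingleton_apply, one_smul] at h2

/-- a nonzero element of a finitely generated commutative group survives in a finite quotient -/
theorem exists_finite_quot {M : Type} [AddCommGroup M] (hM : AddGroup.FG M) (m : M) (hm : m ≠ 0) :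
    ∃ (F : Type) (_ : AddCommGroup F) (_ : Finite F) (q : M →+ F), q m ≠ 0 := by
  obtain ⟨n, hn, hmn⟩ := exists_not_mem_nsmul hM m hm
  haveI := hM
  refine ⟨M ⧸ (nsmulAddMonoidHom n : M →+ M).range, inferInstance, ?_, QuotientAddGroup.mk' _, ?_⟩
  · apply AddCommGroup.finite_of_fg_isAddTorsion
    intro x
    rw [isOfFinAddOrder_iff_nsmul_eq_zero]
    refine ⟨n, hn, ?_⟩
    obtain ⟨y, rfl⟩ := QuotientAddGroup.mk_surjective x
    rw [← QuotientAddGroup.mk_nsmul, QuotientAddGroup.eq_zero_iff]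
    exact ⟨y, rfl⟩
  · rw [QuotientAddGroup.mk'_apply, Ne, QuotientAddGroup.eq_zero_iff]
    exact hmn

/-- homomorphisms from a finitely generated group to a finite group form a finite set -/
theorem finite_hom {M F : Type} [AddCommGroup M] [AddCommGroup F] [Finite F]
    (hM : AddGroup.FG M) : Finite (M →+ F) := by
  obtain ⟨s, hs⟩ := AddGroup.fg_def.1 hM
  apply Finite.of_injective (fun (f : M →+ F) (x : s) => f x)
  intro f g hfg
  apply AddMonoidHom.eq_of_eqOn_dense hs
  intro x hx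
  exact congrFun hfg ⟨x, hx⟩

end alg

section DS

open TensorProduct GrpBridge

variable {T : Scheme.{u}}

open scoped Obj in
/-- at a field valued point the functor `D` is faithful -/
theorem DSmap_inj_field {κ : Type u} [Field κ] (k : Spec (CommRingCat.of κ) ⟶ T)
    {M N : Type} [AddCommGroup M] [AddCommGroup N] (φ φ' : M →+ N)
    (h : (Over.pullback k).map (Red.DSmap T φ) = (Over.pullback k).map (Red.DSmap T φ')) :
    φ = φ' := by
  letI : Algebra (ULift.{u} ℤ) κ :=
    RingHom.toAlgebra ((Int.castRingHom κ).comp (ULift.ringEquiv : ULift.{u} ℤ ≃+* ℤ).toRingHom)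
  obtain ⟨ε, hε1, hε2⟩ := MTSplitA.exists_chartD (ULift.{u} ℤ)
    (Limits.IsTerminal.from specULiftZIsTerminal T) k (specULiftZIsTerminal.hom_ext _ _)
  have nat : ∀ ψ : M →+ N, (Over.pullback k).map (Red.DSmap T ψ) ≫
      (ε (MonoidAlgebra (ULift.{u} ℤ) (Multiplicative M))).hom =
      (ε (MonoidAlgebra (ULift.{u} ℤ) (Multiplicative N))).hom ≫
        specHom κ _ (Algebra.TensorProduct.map (AlgHom.id κ κ)
          (MonoidAlgebra.mapDomainAlgHom (ULift.{u} ℤ) (ULift.{u} ℤ)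
            (AddMonoidHom.toMultiplicative ψ))) := fun ψ =>
    hε2 (MonoidAlgebra (ULift.{u} ℤ) (Multiplicative N))
      (MonoidAlgebra (ULift.{u} ℤ) (Multiplicative M))
      (MonoidAlgebra.mapDomainAlgHom (ULift.{u} ℤ) (ULift.{u} ℤ) (AddMonoidHom.toMultiplicative ψ))
  have h1 := nat φ
  have h2 := nat φ'
  rw [h] at h1
  have h3 := (cancel_epi _).mp (h1.symm.trans h2)
  have h4 := congrArg (fun x => x.left) h3
  simp only [GrpBridge.specHom_left] at h4
  have h5 := Spec.map_injective h4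
  apply AutDS.hom_tensor_injective κ (ULift.{u} ℤ)
  apply AlgHom.coe_ringHom_injective
  exact congrArg CommRingCat.Hom.hom h5

/-- split groups with finitely generated character group are of multiplicative type -/
theorem isMultTypeFT_DS (M : Type) [AddCommGroup M] (hM : AddGroup.FG M) :
    SGA3x.IsMultTypeFT (Red.DS T M) := by
  refine ⟨T, 𝟙 T, inferInstance, inferInstance, fun V hV => ⟨V, hV.isCompact, ?_⟩, fun s' => ?_⟩
  · simp
  · refine ⟨⊤, trivial, M, inferInstance, hM, ?_⟩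
    obtain ⟨c, hc1, -⟩ := MTSplitA.exists_bc_comp_family ((⊤ : T.Opens).ι ≫ 𝟙 T)
      (Limits.IsTerminal.from specULiftZIsTerminal T)
      (Limits.IsTerminal.from specULiftZIsTerminal ((⊤ : T.Opens) : Scheme.{u}))
      (specULiftZIsTerminal.hom_ext _ _)
    haveI := hc1 (Red.diag (ULift.{u} ℤ) M)
    exact ⟨Grp.mkIso' (c (Red.diag (ULift.{u} ℤ) M))⟩

end DS

section dP

variable {T : Scheme.{u}} {G : Over T} [GrpObj G] {M₁ M₂ : Type} [AddCommGroup M₁]
  [AddCommGroup M₂] (a₁ : Red.DS T M₁ ⟶ G) (a₂ : Red.DS T M₂ ⟶ G)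

/-- the difference homomorphism on the product -/
noncomputable def dP : Red.DS T (M₁ × M₂) ⟶ G :=
  (Red.DSmap T (AddMonoidHom.inr M₁ M₂) ≫ a₂) * (Red.DSmap T (AddMonoidHom.inl M₁ M₂) ≫ a₁)⁻¹

theorem isMonHom_dP [IsMonHom a₁] [IsMonHom a₂]
    (hc : ∀ (X : Over T) (g : X ⟶ G) (h : X ⟶ Red.DS T M₁), g * (h ≫ a₁) = (h ≫ a₁) * g) :
    IsMonHom (dP a₁ a₂) := by
  haveI := Groth.Agent.Lib.Helper4.KummerSeq.isMonHom_DSmap (S := T) (AddMonoidHom.inr M₁ M₂)
  haveI := Groth.Agent.Lib.Helper4.KummerSeq.isMonHom_DSmap (S := T) (AddMonoidHom.inl M₁ M₂)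
  unfold dP
  apply CentDescB.isMonHom_mul_inv
  intro X g h
  rw [← Category.assoc]
  exact hc X g _

theorem DSmap_comp_dP {M' : Type} [AddCommGroup M'] (g : M₁ × M₂ →+ M') :
    Red.DSmap T g ≫ dP a₁ a₂ =
      (Red.DSmap T (g.comp (AddMonoidHom.inr M₁ M₂)) ≫ a₂) *
        (Red.DSmap T (g.comp (AddMonoidHom.inl M₁ M₂)) ≫ a₁)⁻¹ := by
  unfold dP
  rw [MonObj.comp_mul, GrpObj.comp_inv, ← Category.assoc, ← Category.assoc,
    ← MTImgD.DSmap_comp, ← MTImgD.DSmap_comp]

end dP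

end Groth.Agent.Lib.Helper14.KL3
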