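import Mathlib
import Groth.Prelude.Def_Red2
import Groth.Prelude.Def_SGA3x
import Groth.Agent.Lib.Helper14.KL3
import Groth.Agent.Lib.Helper14.NilSubA
import Groth.Agent.Lib.Helper14.AutDS

/-! K-program, part 4: the chart theorem. -/

set_option autoImplicit false

namespace Groth.Agent.Lib.Helper14.KL4

open CategoryTheory MonoidalCategory CartesianMonoidalCategory MonObj GrpObj AlgebraicGeometry
open CategoryTheory.Limits
open Groth.Agent.Lib.Helper14.KL3 Groth.Agent.Lib.Helper14.KerTriv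

universe u

/-- two monomorphisms factoring through each other are isomorphic -/
theorem iso_of_fac {C : Type*} [Category C] {X Y Z : C} (f : X ⟶ Z) (g : Y ⟶ Z) [Mono f] [Mono g]
    (p : X ⟶ Y) (q : Y ⟶ X) (hp : p ≫ g = f) (hq : q ≫ f = g) : ∃ ψ : X ≅ Y, ψ.hom ≫ g = f := by
  refine ⟨⟨p, q, ?_, ?_⟩, hp⟩
  · rw [← cancel_mono f, Category.assoc, hq, hp, Category.id_comp]
  · rw [← cancel_mono g, Category.assoc, hp, hq, Category.id_comp]

section CT

variable {T : Scheme.{u}} (G : Over T) [GrpObj G] [IsSeparated G.hom] {M₁ M₂ : Type}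
  [AddCommGroup M₁] [AddCommGroup M₂]
  (a₁ : Red.DS T M₁ ⟶ G) (a₂ : Red.DS T M₂ ⟶ G) [IsMonHom a₁] [IsMonHom a₂]

/-- the fibres at `t` coincide -/
def FibT (t : T) : Prop :=
  ∃ ψ : Red.bc (T.fromSpecResidueField t) (Red.DS T M₁) ≅
      Red.bc (T.fromSpecResidueField t) (Red.DS T M₂),
    ψ.hom ≫ (Over.pullback (T.fromSpecResidueField t)).map a₂ =
      (Over.pullback (T.fromSpecResidueField t)).map a₁

omit [IsSeparated G.hom] in
theorem map_eq_one_iff {Z : Scheme.{u}} (z : Z ⟶ T) {M' : Type} [AddCommGroup M']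
    (g : M₁ × M₂ →+ M') :
    (Over.pullback z).map (Red.DSmap T g ≫ dP a₁ a₂) = 1 ↔
      (Over.pullback z).map (Red.DSmap T (g.comp (AddMonoidHom.inr M₁ M₂)) ≫ a₂) =
        (Over.pullback z).map (Red.DSmap T (g.comp (AddMonoidHom.inl M₁ M₂)) ≫ a₁) := by
  rw [DSmap_comp_dP, Functor.map_mul, Functor.map_inv', mul_inv_eq_one]

variable (hc : ∀ (X : Over T) (g : X ⟶ G) (h : X ⟶ Red.DS T M₁), g * (h ≫ a₁) = (h ≫ a₁) * g)
  (hfp : LocallyOfFinitePresentation (pullback.fst (dP a₁ a₂).left (unitSec G)))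

include hc hfp in
theorem triv_locus {M' : Type} [AddCommGroup M'] (hM' : AddGroup.FG M') (g : M₁ × M₂ →+ M') :
    ∃ U : T.Opens, IsClosed (U : Set T) ∧
      (∀ t : T, t ∈ U ↔
        (Over.pullback (T.fromSpecResidueField t)).map (Red.DSmap T g ≫ dP a₁ a₂) = 1) ∧
      (Over.pullback U.ι).map (Red.DSmap T g ≫ dP a₁ a₂) = 1 := by
  haveI := isMonHom_dP a₁ a₂ hc
  haveI := Groth.Agent.Lib.Helper4.KummerSeq.isMonHom_DSmap (S := T) g
  exact KL1.main' (Red.DS T M') G (isMultTypeFT_DS M' hM') (Red.DSmap T g ≫ dP a₁ a₂)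
    (KL1.lfp_ker_comp (Red.DSmap T g) (dP a₁ a₂) hfp)

include hc hfp in
open scoped Obj in
/-- **openness**: if the fibres coincide at `t` then the two subgroups coincide over an open
neighbourhood of `t` -/
theorem ct_open [Mono a₁] [Mono a₂] (hM₁ : AddGroup.FG M₁) (t : T) (ht : FibT G a₁ a₂ t) :
    ∃ W : T.Opens, t ∈ W ∧ ∃ c : Red.bc W.ι (Red.DS T M₁) ≅ Red.bc W.ι (Red.DS T M₂),
      c.hom ≫ (Over.pullback W.ι).map a₂ = (Over.pullback W.ι).map a₁ := by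
  obtain ⟨ψ₀, hψ₀⟩ := ht
  suffices key : ∀ (k : Spec (CommRingCat.of (T.residueField t)) ⟶ T),
      k = T.fromSpecResidueField t → ∀ (ψ : Red.bc k (Red.DS T M₁) ≅ Red.bc k (Red.DS T M₂)),
      ψ.hom ≫ (Over.pullback k).map a₂ = (Over.pullback k).map a₁ →
      ∃ W : T.Opens, t ∈ W ∧ ∃ c : Red.bc W.ι (Red.DS T M₁) ≅ Red.bc W.ι (Red.DS T M₂),
        c.hom ≫ (Over.pullback W.ι).map a₂ = (Over.pullback W.ι).map a₁ from
    key _ rfl ψ₀ hψ₀
  intro k hk ψ hψ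
  haveI : IsMonHom ψ.hom := NilSubA.isMonHom_of_comp_mono ψ.hom ((Over.pullback k).map a₂)
    ((Over.pullback k).map a₁) hψ
  haveI : IsMonHom ψ.inv := inferInstance
  obtain ⟨σ, hσ⟩ := AutDS.exists_hom_DS k M₂ M₁ ψ.hom
  obtain ⟨τ, hτ⟩ := AutDS.exists_hom_DS k M₁ M₂ ψ.inv
  have h1 : σ.comp τ = AddMonoidHom.id M₁ := by
    apply DSmap_inj_field k
    rw [MTImgD.DSmap_comp, Functor.map_comp, ← hσ, ← hτ, Iso.hom_inv_id, MTImgD.DSmap_id,
      CategoryTheory.Functor.map_id]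
  have h2 : τ.comp σ = AddMonoidHom.id M₂ := by
    apply DSmap_inj_field k
    rw [MTImgD.DSmap_comp, Functor.map_comp, ← hσ, ← hτ, Iso.inv_hom_id, MTImgD.DSmap_id,
      CategoryTheory.Functor.map_id]
  have h1' : Red.DSmap T σ ≫ Red.DSmap T τ = 𝟙 _ := by
    rw [← MTImgD.DSmap_comp, h1, MTImgD.DSmap_id]
  have h2' : Red.DSmap T τ ≫ Red.DSmap T σ = 𝟙 _ := by
    rw [← MTImgD.DSmap_comp, h2, MTImgD.DSmap_id]
  obtain ⟨g, hg⟩ : ∃ g : M₁ × M₂ →+ M₁, g = AddMonoidHom.coprod (AddMonoidHom.id M₁) σ :=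
    ⟨_, rfl⟩
  have hg1 : g.comp (AddMonoidHom.inr M₁ M₂) = σ := by rw [hg, AddMonoidHom.coprod_comp_inr]
  have hg2 : g.comp (AddMonoidHom.inl M₁ M₂) = AddMonoidHom.id M₁ := by
    rw [hg, AddMonoidHom.coprod_comp_inl]
  obtain ⟨U, -, hUiff, hU1⟩ := triv_locus G a₁ a₂ hc hfp hM₁ g
  refine ⟨U, ?_, ?_⟩
  · rw [hUiff, ← hk, map_eq_one_iff, hg1, hg2, MTImgD.DSmap_id, Category.id_comp,
      Functor.map_comp, ← hσ, hψ]
  · rw [map_eq_one_iff, hg1, hg2, MTImgD.DSmap_id, Category.id_comp, Functor.map_comp] at hU1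
    refine ⟨⟨(Over.pullback U.ι).map (Red.DSmap T σ), (Over.pullback U.ι).map (Red.DSmap T τ),
      ?_, ?_⟩, hU1⟩
    · rw [← Functor.map_comp, h1', CategoryTheory.Functor.map_id]
    · rw [← Functor.map_comp, h2', CategoryTheory.Functor.map_id]

include hc hfp in
open scoped Obj in
/-- **closedness**: if the fibres differ at `t` they differ at all points of an open neighbourhood
of `t` -/
theorem ct_closed [Mono a₁] [Mono a₂] (hM₁ : AddGroup.FG M₁) (hM₂ : AddGroup.FG M₂) (t : T)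
    (ht : ¬ FibT G a₁ a₂ t) : ∃ W : T.Opens, t ∈ W ∧ ∀ t' ∈ W, ¬ FibT G a₁ a₂ t' := by
  haveI := isMonHom_dP a₁ a₂ hc
  obtain ⟨k, hk⟩ : ∃ k : Spec (CommRingCat.of (T.residueField t)) ⟶ T,
      k = T.fromSpecResidueField t := ⟨_, rfl⟩
  obtain ⟨N, hN⟩ := KL2.fl_DS G k (M₁ × M₂) (dP a₁ a₂)
  -- surjectivity statements
  have hA1 : ∀ m₁ : M₁, ∃ m₂ : M₂, (m₁, m₂) ∈ N := by
    intro m₁
    obtain ⟨N', hN'⟩ : ∃ N' : AddSubgroup (M₁ × M₂),
        N' = N ⊔ (AddMonoidHom.inr M₁ M₂).range := ⟨_, rfl⟩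
    obtain ⟨f, hf⟩ : ∃ f : M₁ × M₂ →+ (M₁ × M₂) ⧸ N', f = QuotientAddGroup.mk' N' := ⟨_, rfl⟩
    have hker : f.ker = N' := by rw [hf]; exact QuotientAddGroup.ker_mk' N'
    have h1 : (Over.pullback k).map (Red.DSmap T f ≫ dP a₁ a₂) = 1 :=
      (hN _ f).2 (by rw [hker, hN']; exact le_sup_left)
    rw [map_eq_one_iff] at h1
    have h2 : f.comp (AddMonoidHom.inr M₁ M₂) = 0 := by
      ext m₂
      show f ((AddMonoidHom.inr M₁ M₂) m₂) = 0
      rw [← AddMonoidHom.mem_ker, hker, hN']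
      exact AddSubgroup.mem_sup_right ⟨m₂, rfl⟩
    rw [h2, MTImgD.DSmap_zero, MonObj.one_comp, Functor.map_one] at h1
    have h3 : (Over.pullback k).map (Red.DSmap T (f.comp (AddMonoidHom.inl M₁ M₂))) =
        (Over.pullback k).map (Red.DSmap T (0 : M₁ →+ (M₁ × M₂) ⧸ N')) := by
      rw [← cancel_mono ((Over.pullback k).map a₁), ← Functor.map_comp, ← h1,
        MTImgD.DSmap_zero, Functor.map_one, MonObj.one_comp]
    have h4 := DSmap_inj_field k _ _ h3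
    have h5 : f (m₁, 0) = 0 := congrArg (fun φ : M₁ →+ (M₁ × M₂) ⧸ N' => φ m₁) h4
    rw [← AddMonoidHom.mem_ker, hker, hN', AddSubgroup.mem_sup] at h5
    obtain ⟨n, hn, y, ⟨m₂, rfl⟩, hy⟩ := h5
    refine ⟨-m₂, ?_⟩
    have h6 : n = (m₁, -m₂) := by
      rw [eq_sub_of_add_eq hy]
      ext <;> simp
    rw [← h6]
    exact hn
  have hA2 : ∀ m₂ : M₂, ∃ m₁ : M₁, (m₁, m₂) ∈ N := by
    intro m₂
    obtain ⟨N', hN'⟩ : ∃ N' : AddSubgroup (M₁ × M₂),
        N' = N ⊔ (AddMonoidHom.inl M₁ M₂).range := ⟨_, rfl⟩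
    obtain ⟨f, hf⟩ : ∃ f : M₁ × M₂ →+ (M₁ × M₂) ⧸ N', f = QuotientAddGroup.mk' N' := ⟨_, rfl⟩
    have hker : f.ker = N' := by rw [hf]; exact QuotientAddGroup.ker_mk' N'
    have h1 : (Over.pullback k).map (Red.DSmap T f ≫ dP a₁ a₂) = 1 :=
      (hN _ f).2 (by rw [hker, hN']; exact le_sup_left)
    rw [map_eq_one_iff] at h1
    have h2 : f.comp (AddMonoidHom.inl M₁ M₂) = 0 := by
      ext m₁
      show f ((AddMonoidHom.inl M₁ M₂) m₁) = 0
      rw [← AddMonoidHom.mem_ker, hker, hN']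
      exact AddSubgroup.mem_sup_right ⟨m₁, rfl⟩
    rw [h2, MTImgD.DSmap_zero, MonObj.one_comp, Functor.map_one] at h1
    have h3 : (Over.pullback k).map (Red.DSmap T (f.comp (AddMonoidHom.inr M₁ M₂))) =
        (Over.pullback k).map (Red.DSmap T (0 : M₂ →+ (M₁ × M₂) ⧸ N')) := by
      rw [← cancel_mono ((Over.pullback k).map a₂), ← Functor.map_comp, h1,
        MTImgD.DSmap_zero, Functor.map_one, MonObj.one_comp]
    have h4 := DSmap_inj_field k _ _ h3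
    have h5 : f (0, m₂) = 0 := congrArg (fun φ : M₂ →+ (M₁ × M₂) ⧸ N' => φ m₂) h4
    rw [← AddMonoidHom.mem_ker, hker, hN', AddSubgroup.mem_sup] at h5
    obtain ⟨n, hn, y, ⟨m₁, rfl⟩, hy⟩ := h5
    refine ⟨-m₁, ?_⟩
    have h6 : n = (-m₁, m₂) := by
      rw [eq_sub_of_add_eq hy]
      ext <;> simp
    rw [← h6]
    exact hn
  by_cases hB1 : ∃ m₂ : M₂, m₂ ≠ 0 ∧ ((0 : M₁), m₂) ∈ N
  · -- the second group is not contained in the first at `t`
    obtain ⟨m₂, hm₂, hmem⟩ := hB1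
    obtain ⟨F, _, _, q, hq⟩ := exists_finite_quot hM₂ m₂ hm₂
    haveI : Finite (M₁ →+ F) := finite_hom hM₁
    have hF : AddGroup.FG F := inferInstance
    have hloc := fun σ : M₁ →+ F => triv_locus G a₁ a₂ hc hfp hF (AddMonoidHom.coprod σ q)
    choose U hUc hUiff _ using hloc
    refine ⟨⟨⋂ σ, ((U σ : Set T))ᶜ, isOpen_iInter_of_finite (fun σ => (hUc σ).isOpen_compl)⟩,
      ?_, ?_⟩
    · show t ∈ ⋂ σ, ((U σ : Set T))ᶜ
      rw [Set.mem_iInter]
      intro σ h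
      have h' : t ∈ U σ := h
      rw [hUiff σ t, ← hk] at h'
      have h2 := (hN _ _).1 h' hmem
      rw [AddMonoidHom.mem_ker, AddMonoidHom.coprod_apply, map_zero, zero_add] at h2
      exact hq h2
    · intro t' ht' hfib
      obtain ⟨ψ₀, hψ₀⟩ := hfib
      suffices key : ∀ (k' : Spec (CommRingCat.of (T.residueField t')) ⟶ T),
          k' = T.fromSpecResidueField t' →
          ∀ (ψ : Red.bc k' (Red.DS T M₁) ≅ Red.bc k' (Red.DS T M₂)),
          ψ.hom ≫ (Over.pullback k').map a₂ = (Over.pullback k').map a₁ → False from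
        key _ rfl ψ₀ hψ₀
      intro k' hk' ψ hψ
      haveI : IsMonHom ψ.hom := NilSubA.isMonHom_of_comp_mono ψ.hom ((Over.pullback k').map a₂)
        ((Over.pullback k').map a₁) hψ
      haveI : IsMonHom ψ.inv := inferInstance
      obtain ⟨τ, hτ⟩ := AutDS.exists_hom_DS k' M₁ M₂ ψ.inv
      have hinv : ψ.inv ≫ (Over.pullback k').map a₁ = (Over.pullback k').map a₂ := by
        rw [← hψ, Iso.inv_hom_id_assoc]
      have hmem' : t' ∈ U (q.comp τ) := by
        rw [hUiff (q.comp τ) t', ← hk', map_eq_one_iff, AddMonoidHom.coprod_comp_inr,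
          AddMonoidHom.coprod_comp_inl, MTImgD.DSmap_comp]
        simp only [Functor.map_comp, Category.assoc]
        rw [← hτ, hinv]
      have h3 : t' ∈ ⋂ σ, ((U σ : Set T))ᶜ := ht'
      rw [Set.mem_iInter] at h3
      exact h3 (q.comp τ) hmem'
  by_cases hB2 : ∃ m₁ : M₁, m₁ ≠ 0 ∧ (m₁, (0 : M₂)) ∈ N
  · obtain ⟨m₁, hm₁, hmem⟩ := hB2
    obtain ⟨F, _, _, q, hq⟩ := exists_finite_quot hM₁ m₁ hm₁
    haveI : Finite (M₂ →+ F) := finite_hom hM₂
    have hF : AddGroup.FG F := inferInstance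
    have hloc := fun σ : M₂ →+ F => triv_locus G a₁ a₂ hc hfp hF (AddMonoidHom.coprod q σ)
    choose U hUc hUiff _ using hloc
    refine ⟨⟨⋂ σ, ((U σ : Set T))ᶜ, isOpen_iInter_of_finite (fun σ => (hUc σ).isOpen_compl)⟩,
      ?_, ?_⟩
    · show t ∈ ⋂ σ, ((U σ : Set T))ᶜ
      rw [Set.mem_iInter]
      intro σ h
      have h' : t ∈ U σ := h
      rw [hUiff σ t, ← hk] at h'
      have h2 := (hN _ _).1 h' hmem
      rw [AddMonoidHom.mem_ker, AddMonoidHom.coprod_apply, map_zero, add_zero] at h2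
      exact hq h2
    · intro t' ht' hfib
      obtain ⟨ψ₀, hψ₀⟩ := hfib
      suffices key : ∀ (k' : Spec (CommRingCat.of (T.residueField t')) ⟶ T),
          k' = T.fromSpecResidueField t' →
          ∀ (ψ : Red.bc k' (Red.DS T M₁) ≅ Red.bc k' (Red.DS T M₂)),
          ψ.hom ≫ (Over.pullback k').map a₂ = (Over.pullback k').map a₁ → False from
        key _ rfl ψ₀ hψ₀
      intro k' hk' ψ hψ
      haveI : IsMonHom ψ.hom := NilSubA.isMonHom_of_comp_mono ψ.hom ((Over.pullback k').map a₂)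
        ((Over.pullback k').map a₁) hψ
      obtain ⟨τ, hτ⟩ := AutDS.exists_hom_DS k' M₂ M₁ ψ.hom
      have hmem' : t' ∈ U (q.comp τ) := by
        rw [hUiff (q.comp τ) t', ← hk', map_eq_one_iff, AddMonoidHom.coprod_comp_inr,
          AddMonoidHom.coprod_comp_inl, MTImgD.DSmap_comp]
        simp only [Functor.map_comp, Category.assoc]
        rw [← hτ, hψ]
      have h3 : t' ∈ ⋂ σ, ((U σ : Set T))ᶜ := ht'
      rw [Set.mem_iInter] at h3
      exact h3 (q.comp τ) hmem'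
  · -- otherwise the fibres coincide
    exfalso
    apply ht
    push_neg at hB1 hB2
    have huniq1 : ∀ (m₁ m₁' : M₁) (m₂ : M₂), (m₁, m₂) ∈ N → (m₁', m₂) ∈ N → m₁ = m₁' := by
      intro m₁ m₁' m₂ h1 h2
      by_contra h
      refine hB2 (m₁ - m₁') (sub_ne_zero.2 h) ?_
      have := N.sub_mem h1 h2
      simpa using this
    have huniq2 : ∀ (m₁ : M₁) (m₂ m₂' : M₂), (m₁, m₂) ∈ N → (m₁, m₂') ∈ N → m₂ = m₂' := by
      intro m₁ m₂ m₂' h1 h2
      by_contra h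
      refine hB1 (m₂ - m₂') (sub_ne_zero.2 h) ?_
      have := N.sub_mem h1 h2
      simpa using this
    choose c₂ hc₂ using hA2
    choose c₁ hc₁ using hA1
    let σ : M₂ →+ M₁ := AddMonoidHom.mk' (fun m₂ => -c₂ m₂) (by
      intro m m'
      have h1 : (c₂ m + c₂ m', m + m') ∈ N := by
        have := N.add_mem (hc₂ m) (hc₂ m')
        simpa using this
      rw [huniq1 _ _ _ (hc₂ (m + m')) h1, neg_add])
    let τ : M₁ →+ M₂ := AddMonoidHom.mk' (fun m₁ => -c₁ m₁) (by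
      intro m m'
      have h1 : (m + m', c₁ m + c₁ m') ∈ N := by
        have := N.add_mem (hc₁ m) (hc₁ m')
        simpa using this
      rw [huniq2 _ _ _ (hc₁ (m + m')) h1, neg_add])
    have hσN : N ≤ (AddMonoidHom.coprod (AddMonoidHom.id M₁) σ).ker := by
      rintro ⟨m₁, m₂⟩ hmem
      rw [AddMonoidHom.mem_ker, AddMonoidHom.coprod_apply]
      show m₁ + -c₂ m₂ = 0
      rw [huniq1 _ _ _ hmem (hc₂ m₂), add_neg_cancel]
    have hτN : N ≤ (AddMonoidHom.coprod τ (AddMonoidHom.id M₂)).ker := by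
      rintro ⟨m₁, m₂⟩ hmem
      rw [AddMonoidHom.mem_ker, AddMonoidHom.coprod_apply]
      show -c₁ m₁ + m₂ = 0
      rw [huniq2 _ _ _ hmem (hc₁ m₁), neg_add_cancel]
    have e1 := (hN _ _).2 hσN
    rw [map_eq_one_iff, AddMonoidHom.coprod_comp_inr, AddMonoidHom.coprod_comp_inl,
      MTImgD.DSmap_id, Category.id_comp, Functor.map_comp] at e1
    have e2 := (hN _ _).2 hτN
    rw [map_eq_one_iff, AddMonoidHom.coprod_comp_inr, AddMonoidHom.coprod_comp_inl,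
      MTImgD.DSmap_id, Category.id_comp, Functor.map_comp] at e2
    obtain ⟨ψ, hψ⟩ := iso_of_fac ((Over.pullback k).map a₁) ((Over.pullback k).map a₂)
      ((Over.pullback k).map (Red.DSmap T σ)) ((Over.pullback k).map (Red.DSmap T τ)) e1 e2.symm
    subst hk
    exact ⟨ψ, hψ⟩

end CT

end Groth.Agent.Lib.Helper14.KL4
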