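import Mathlib
import Groth.Agent.Lib.Helper14.MTHom5
import Groth.Agent.Lib.Helper14.MTDescent
import Groth.Agent.Lib.Helper3.FpqcDescInst

set_option autoImplicit false

namespace Groth.Agent.Lib.Helper14.MTGlueA

open CategoryTheory MonoidalCategory CartesianMonoidalCategory MonObj GrpObj AlgebraicGeometry
open CategoryTheory.Limits

universe v w u

section dominant

/-- a faithfully flat quasi-compact morphism is scheme-theoretically dominant -/
theorem ker_eq_bot_of_flat_surj {X Y : Scheme.{u}} (q : X ⟶ Y) [Flat q] [Surjective q]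
    [QuasiCompact q] : q.ker = ⊥ := by
  -- the base change of the inclusion of the image has a section
  have hsec : pullback.lift q.toImage (𝟙 X) (by rw [Scheme.Hom.toImage_imageι, Category.id_comp]) ≫
      pullback.snd q.imageι q = 𝟙 X := pullback.lift_snd _ _ _
  haveI : Mono (pullback.snd q.imageι q) := inferInstance
  haveI : IsSplitEpi (pullback.snd q.imageι q) := ⟨⟨⟨_, hsec⟩⟩⟩
  haveI : IsIso (pullback.snd q.imageι q) := isIso_of_mono_of_isSplitEpi _
  have hQ : (@Surjective ⊓ @Flat ⊓ @QuasiCompact : MorphismProperty Scheme.{u}) q :=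
    ⟨⟨inferInstance, inferInstance⟩, inferInstance⟩
  have hiso : (MorphismProperty.isomorphisms Scheme.{u}) q.imageι :=
    MorphismProperty.DescendsAlong.of_isPullback (P := MorphismProperty.isomorphisms Scheme.{u})
      (IsPullback.of_hasPullback q.imageι q).flip hQ
      ((MorphismProperty.isomorphisms.iff _).mpr inferInstance)
  rw [MorphismProperty.isomorphisms.iff] at hiso
  have := (IsClosedImmersion.isIso_iff_ker_eq_bot (f := q.imageι)).mp hiso
  rwa [Scheme.IdealSheafData.ker_subschemeι] at this

end dominant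

section kerbc

variable {S : Scheme.{u}}

/-- the kernel of a quasi-compact morphism commutes with restriction to an open subscheme of the
base -/
theorem ker_bc {A B : Over S} (φ : A ⟶ B) [QuasiCompact φ.left] {W : Scheme.{u}} (w : W ⟶ S)
    [IsOpenImmersion w] :
    ((Over.pullback w).map φ).left.ker = φ.left.ker.comap (pullback.fst B.hom w) := by
  have sq := Groth.Agent.Lib.Helper24.HomogSep.isPullback_pullback_map w φ
  apply Scheme.IdealSheafData.ext
  funext U
  rw [Scheme.ker_ideal_of_isPullback_of_isOpenImmersion φ.left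
    ((Over.pullback w).map φ).left (pullback.fst A.hom w) (pullback.fst B.hom w) sq U,
    Scheme.IdealSheafData.ideal_comap_of_isOpenImmersion]

end kerbc

section image

variable {S : Scheme.{u}} {D G : Over S} (m : D ⟶ G)

/-- the scheme-theoretic image of a morphism over `S`, as an object over `S` -/
noncomputable def img : Over S := Over.mk (m.left.imageι ≫ G.hom)

/-- the inclusion of the scheme-theoretic image -/
noncomputable def imgι : img m ⟶ G := Over.homMk m.left.imageι rfl

lemma imgι_left : (imgι m).left = m.left.imageι := rfl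

/-- the morphism to the scheme-theoretic image -/
noncomputable def toImg : D ⟶ img m :=
  Over.homMk m.left.toImage (by
    show m.left.toImage ≫ m.left.imageι ≫ G.hom = D.hom
    rw [← Category.assoc, Scheme.Hom.toImage_imageι, Over.w])

lemma toImg_imgι : toImg m ≫ imgι m = m := by
  ext1
  exact Scheme.Hom.toImage_imageι m.left

instance : IsClosedImmersion (imgι m).left := by
  show IsClosedImmersion (m.left.ker.subschemeι)
  infer_instance

instance : Mono (imgι m) := (Over.forget S).mono_of_mono_map
  (inferInstanceAs (Mono (imgι m).left))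

lemma ker_imgι : (imgι m).left.ker = m.left.ker := Scheme.IdealSheafData.ker_subschemeι _

/-- over an open subscheme of the base, the scheme-theoretic image is isomorphic to any closed
subscheme through which the morphism factors by a scheme-theoretically dominant morphism -/
theorem exists_iso_img [QuasiCompact m.left] {W : Scheme.{u}} (w : W ⟶ S) [IsOpenImmersion w]
    {XW : Over W} (jW : XW ⟶ (Over.pullback w).obj G) [IsClosedImmersion jW.left]
    (cW : (Over.pullback w).obj D ⟶ XW) (hc : cW ≫ jW = (Over.pullback w).map m)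
    (hdom : cW.left.ker = ⊥) :
    ∃ θ : (Over.pullback w).obj (img m) ≅ XW, θ.hom ≫ jW = (Over.pullback w).map (imgι m) := by
  obtain ⟨k₁, hk₁⟩ : ∃ k₁ : ((Over.pullback w).obj (img m)).left ⟶ ((Over.pullback w).obj G).left,
      k₁ = ((Over.pullback w).map (imgι m)).left := ⟨_, rfl⟩
  haveI : IsClosedImmersion k₁ := by
    rw [hk₁]
    exact MTHom4.map_of_map @IsClosedImmersion (imgι m) w inferInstance
  have hker : k₁.ker = jW.left.ker := by
    have h1 : ((Over.pullback w).map m).left.ker = jW.left.ker := by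
      rw [← hc, Over.comp_left, Scheme.Hom.ker_comp, hdom, Scheme.IdealSheafData.map_bot]
    rw [hk₁, ker_bc (imgι m) w, ker_imgι, ← ker_bc m w, h1]
  let l := IsClosedImmersion.lift jW.left k₁ hker.ge
  have hl : l ≫ jW.left = k₁ := IsClosedImmersion.lift_fac _ _ _
  haveI : IsIso l := IsClosedImmersion.isIso_of_ker_eq k₁ jW.left l hl hker
  have hw : l ≫ XW.hom = ((Over.pullback w).obj (img m)).hom := by
    rw [← Over.w jW, ← Category.assoc, hl, hk₁, Over.w]
  let θ₀ : (Over.pullback w).obj (img m) ⟶ XW := Over.homMk l hw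
  haveI : IsIso ((Over.forget W).map θ₀) := ‹IsIso l›
  haveI : IsIso θ₀ := isIso_of_reflects_iso θ₀ (Over.forget W)
  refine ⟨asIso θ₀, ?_⟩
  ext1
  rw [Over.comp_left, ← hk₁]
  exact hl

end image

section fact

variable {S : Scheme.{u}}

/-- a morphism over `S` which factors through a monomorphism Zariski-locally on `S` factors
through it -/
theorem exists_factor_of_local {X E G : Over S} (f : X ⟶ G) (j : E ⟶ G) [Mono j.left]
    (h : ∀ s : S, ∃ (W : Scheme.{u}) (w : W ⟶ S), IsOpenImmersion w ∧ s ∈ Set.range w ∧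
      ∃ c : (Over.pullback w).obj X ⟶ (Over.pullback w).obj E,
        c ≫ (Over.pullback w).map j = (Over.pullback w).map f) :
    ∃ g : X ⟶ E, g ≫ j = f := by
  choose W w hw hs c hc using h
  let 𝒱 : S.OpenCover := Scheme.Cover.mkOfCovers S W w (fun s => ⟨s, hs s⟩) hw
  let 𝒰 : X.left.OpenCover := 𝒱.pullback₁ X.hom
  obtain ⟨fs, hfs⟩ : ∃ fs : ∀ s : 𝒰.I₀, 𝒰.X s ⟶ E.left,
      ∀ s : 𝒰.I₀, fs s ≫ j.left = 𝒰.f s ≫ f.left := by
    refine ⟨fun s => (c s).left ≫ pullback.fst E.hom (w s), fun s => ?_⟩
    show ((c s).left ≫ pullback.fst E.hom (w s)) ≫ j.left = pullback.fst X.hom (w s) ≫ f.left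
    rw [Category.assoc, ← MTDescent.pullback_map_left_fst (w s) j, ← Category.assoc,
      ← Over.comp_left, hc s, MTDescent.pullback_map_left_fst]
  have hglue : ∀ x y : 𝒰.I₀, pullback.fst (𝒰.f x) (𝒰.f y) ≫ fs x =
      pullback.snd (𝒰.f x) (𝒰.f y) ≫ fs y := by
    intro x y
    rw [← cancel_mono j.left, Category.assoc, Category.assoc, hfs, hfs, ← Category.assoc,
      ← Category.assoc, pullback.condition]
  let g₀ : X.left ⟶ E.left := 𝒰.glueMorphisms fs hglue
  have hg₀ : ∀ s, 𝒰.f s ≫ g₀ = fs s := fun s => 𝒰.ι_glueMorphisms fs _ s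
  have hg₀j : g₀ ≫ j.left = f.left := by
    apply 𝒰.hom_ext
    intro s
    rw [← Category.assoc, hg₀, hfs]
  refine ⟨Over.homMk g₀ ?_, ?_⟩
  · rw [← Over.w j, ← Category.assoc, hg₀j, Over.w]
  · ext1
    exact hg₀j

end fact

section grp

variable {C : Type w} [Category.{v} C] [CartesianMonoidalCategory C]

/-- a subobject of a group object stable under the group operations is a group object -/
theorem exists_grpObj_of_mono {E G : C} [GrpObj G] (j : E ⟶ G) [Mono j]
    (η' : 𝟙_ C ⟶ E) (hη : η' ≫ j = η[G]) (μ' : E ⊗ E ⟶ E) (hμ : μ' ≫ j = (j ⊗ₘ j) ≫ μ[G])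
    (ι' : E ⟶ E) (hι : ι' ≫ j = j ≫ ι[G]) : ∃ _ : GrpObj E, IsMonHom j := by
  let M : MonObj E :=
    { one := η'
      mul := μ'
      one_mul := by
        rw [← cancel_mono j, Category.assoc, hμ, ← tensorHom_id, ← Category.assoc,
          tensorHom_comp_tensorHom, hη, Category.id_comp]
        have : η[G] ⊗ₘ j = (𝟙_ C ◁ j) ≫ (η[G] ▷ G) := by
          rw [← id_tensorHom, ← tensorHom_id, tensorHom_comp_tensorHom, Category.id_comp,
            Category.comp_id]
        rw [this, Category.assoc, MonObj.one_mul, leftUnitor_naturality]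
      mul_one := by
        rw [← cancel_mono j, Category.assoc, hμ, ← id_tensorHom, ← Category.assoc,
          tensorHom_comp_tensorHom, hη, Category.id_comp]
        have : j ⊗ₘ η[G] = (j ▷ 𝟙_ C) ≫ (G ◁ η[G]) := by
          rw [← id_tensorHom, ← tensorHom_id, tensorHom_comp_tensorHom, Category.id_comp,
            Category.comp_id]
        rw [this, Category.assoc, MonObj.mul_one, rightUnitor_naturality]
      mul_assoc := by
        rw [← cancel_mono j, Category.assoc, Category.assoc, Category.assoc, hμ,
          ← tensorHom_id, ← id_tensorHom, ← Category.assoc, tensorHom_comp_tensorHom,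
          ← Category.assoc (𝟙 E ⊗ₘ μ'), tensorHom_comp_tensorHom, hμ, Category.id_comp]
        have h1 : ((j ⊗ₘ j) ≫ μ[G]) ⊗ₘ j = ((j ⊗ₘ j) ⊗ₘ j) ≫ (μ[G] ▷ G) := by
          rw [← tensorHom_id, tensorHom_comp_tensorHom, Category.comp_id]
        have h2 : j ⊗ₘ ((j ⊗ₘ j) ≫ μ[G]) = (j ⊗ₘ (j ⊗ₘ j)) ≫ (G ◁ μ[G]) := by
          rw [← id_tensorHom, tensorHom_comp_tensorHom, Category.comp_id]
        rw [h1, h2, Category.assoc, MonObj.mul_assoc, associator_naturality_assoc,
          Category.assoc] }
  letI := M
  haveI hj : IsMonHom j := ⟨hη, hμ⟩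
  let Gr : GrpObj E :=
    { inv := ι'
      left_inv := by
        rw [← cancel_mono j, Category.assoc, Category.assoc]
        show lift ι' (𝟙 E) ≫ μ' ≫ j = toUnit E ≫ η' ≫ j
        rw [hμ, hη, ← Category.assoc, lift_map, hι, Category.id_comp]
        have : lift (j ≫ ι[G]) j = j ≫ lift ι[G] (𝟙 G) := by
          rw [comp_lift, Category.comp_id]
        rw [this, Category.assoc, GrpObj.left_inv, ← Category.assoc]
        congr 1
        exact toUnit_unique _ _
      right_inv := by
        rw [← cancel_mono j, Category.assoc, Category.assoc]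
        show lift (𝟙 E) ι' ≫ μ' ≫ j = toUnit E ≫ η' ≫ j
        rw [hμ, hη, ← Category.assoc, lift_map, hι, Category.id_comp]
        have : lift j (j ≫ ι[G]) = j ≫ lift (𝟙 G) ι[G] := by
          rw [comp_lift, Category.comp_id]
        rw [this, Category.assoc, GrpObj.right_inv, ← Category.assoc]
        congr 1
        exact toUnit_unique _ _ }
  exact ⟨Gr, hj⟩

end grp

end Groth.Agent.Lib.Helper14.MTGlueA
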