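import Mathlib
import Groth.Prelude.Def_Red2
import Groth.Prelude.Def_SGA3x
import Groth.Prelude.Def_TwC
import Groth.Agent.Lib.Helper14.NilSubA
import Groth.Agent.Lib.Helper14.MTHom5
import Groth.Agent.Lib.Helper14.MTSplitB
import Groth.Agent.Lib.Helper14.MTGlueA
import Groth.Agent.Lib.Helper14.MTAffine

set_option autoImplicit false

namespace Groth.Agent.Lib.Helper14.NilSubB

open CategoryTheory MonoidalCategory CartesianMonoidalCategory MonObj GrpObj AlgebraicGeometry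
open CategoryTheory.Limits TensorProduct
open Groth.Agent.Lib.Helper14 GrpBridge
open Groth.Agent.Lib.Helper9
open Groth.Agent.Lib.Helper4.FpqcCov Groth.Agent.Lib.Helper4.QuotGrp

universe u

section fac

/-- factoring through a morphism after a composite base change gives a factorization after the
iterated base change -/
theorem fac_nested_of_comp {Z T T' : Scheme.{u}} (g : T' ⟶ T) (t : T ⟶ Z) {X E Y : Over Z}
    (f : X ⟶ Y) (j : E ⟶ Y)
    (h : ∃ c : Red.bc (g ≫ t) X ⟶ Red.bc (g ≫ t) E,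
      c ≫ (Over.pullback (g ≫ t)).map j = (Over.pullback (g ≫ t)).map f) :
    ∃ c : Red.bc g (Red.bc t X) ⟶ Red.bc g (Red.bc t E),
      c ≫ (Over.pullback g).map ((Over.pullback t).map j) =
        (Over.pullback g).map ((Over.pullback t).map f) := by
  obtain ⟨c, hc⟩ := h
  obtain ⟨κ, -, hκ⟩ := MTSplitA.exists_bc_comp_family g t (g ≫ t) rfl
  refine ⟨(κ X).hom ≫ c ≫ (κ E).inv, ?_⟩
  have h1 : (κ E).inv ≫ (Over.pullback g).map ((Over.pullback t).map j) =
      (Over.pullback (g ≫ t)).map j ≫ (κ Y).inv := by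
    rw [Iso.inv_comp_eq, ← Category.assoc, ← hκ j, Category.assoc, Iso.hom_inv_id,
      Category.comp_id]
  have h2 : (Over.pullback g).map ((Over.pullback t).map f) =
      (κ X).hom ≫ (Over.pullback (g ≫ t)).map f ≫ (κ Y).inv := by
    rw [← Category.assoc, ← hκ f, Category.assoc, Iso.hom_inv_id, Category.comp_id]
  rw [Category.assoc, Category.assoc, h1, ← Category.assoc c, hc, h2]

variable {T T' : Scheme.{u}}

/-- factoring through a monomorphism descends along fpqc coverings -/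
theorem fac_of_cov (π : T' ⟶ T) (hπ : IsCov π) {X E Y : Over T} (f : X ⟶ Y) (j : E ⟶ Y) [Mono j]
    (h : ∃ c : Red.bc π X ⟶ Red.bc π E, c ≫ (Over.pullback π).map j = (Over.pullback π).map f) :
    ∃ c₀ : X ⟶ E, c₀ ≫ j = f := by
  obtain ⟨c, hc⟩ := h
  let X' : Over T := Over.mk (pullback.fst X.hom π ≫ X.hom)
  let pX : X' ⟶ X := Over.homMk (pullback.fst X.hom π) rfl
  have hφw : (c.left ≫ pullback.fst E.hom π) ≫ E.hom = pullback.fst X.hom π ≫ X.hom := by
    have h1 : c.left ≫ pullback.snd E.hom π = pullback.snd X.hom π := Over.w c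
    rw [Category.assoc, pullback.condition, ← Category.assoc, h1, pullback.condition]
  let φ : X' ⟶ E := Over.homMk (c.left ≫ pullback.fst E.hom π) hφw
  have hdom : Dom pX := dom_of_cov pX (𝟙 _) (by
    rw [Category.id_comp]
    exact IsCov.of_isPullback hπ (IsPullback.of_hasPullback X.hom π).flip)
  have hφj : φ ≫ j = pX ≫ f := by
    apply Over.OverMorphism.ext
    show (c.left ≫ pullback.fst E.hom π) ≫ j.left = pullback.fst X.hom π ≫ f.left
    rw [Category.assoc, ← MTDescent.pullback_map_left_fst π j, ← Category.assoc,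
      ← Over.comp_left, hc, MTDescent.pullback_map_left_fst]
  obtain ⟨c₀, hc₀⟩ := hdom.exists_desc φ (by
    intro W a b hab
    rw [← cancel_mono j, Category.assoc, Category.assoc, hφj, ← Category.assoc, hab,
      Category.assoc])
  refine ⟨c₀, ?_⟩
  haveI := hdom.epi
  rw [← cancel_epi pX, ← Category.assoc, hc₀, hφj]

end fac

section diag

variable (K₀ : Type u) [CommRing K₀] {B : Type u} [CommRing B] [Algebra K₀ B]
  (N₀ : Ideal B) (hN : IsNilpotent N₀) (M N : Type) [AddCommGroup M] [AddCommGroup N]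
  {D D' G : Over (Spec (CommRingCat.of B))} [GrpObj D] [GrpObj D'] [GrpObj G]
  (e : D ≅ Red.bc (Spec.map (CommRingCat.ofHom (algebraMap K₀ B))) (Red.diag K₀ M))
  [IsMonHom e.hom]
  (e' : D' ≅ Red.bc (Spec.map (CommRingCat.ofHom (algebraMap K₀ B))) (Red.diag K₀ N))
  [IsMonHom e'.hom]
  (u : D ⟶ G) (u' : D' ⟶ G) [IsMonHom u] [IsMonHom u'] [Mono u']

include hN e e' in
open scoped Obj in
theorem local_claim_diag
    (hc : (∀ (X : Over (Spec (CommRingCat.of B))) (g : X ⟶ G) (h : X ⟶ D),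
        g * (h ≫ u) = (h ≫ u) * g) ∨
      (∀ (X : Over (Spec (CommRingCat.of B))) (g : X ⟶ G) (h : X ⟶ D'),
        g * (h ≫ u') = (h ≫ u') * g))
    (φ₀ : Red.bc (NilSubA.j₀ N₀) D ⟶ Red.bc (NilSubA.j₀ N₀) D')
    (hφ₀ : φ₀ ≫ (Over.pullback (NilSubA.j₀ N₀)).map u' = (Over.pullback (NilSubA.j₀ N₀)).map u) :
    ∃ φ : D ⟶ D', φ ≫ u' = u := by
  obtain ⟨κM, hκM⟩ := MTAffine.exists_bc_spec_iso K₀ B (MonoidAlgebra K₀ (Multiplicative M))
  obtain ⟨κN, hκN⟩ := MTAffine.exists_bc_spec_iso K₀ B (MonoidAlgebra K₀ (Multiplicative N))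
  obtain ⟨GM, -⟩ := MTSplitB.exists_glb' K₀ B M
  obtain ⟨GN, -⟩ := MTSplitB.exists_glb' K₀ B N
  haveI : IsMonHom (e ≪≫ κM).hom := by
    dsimp only [Iso.trans_hom]
    infer_instance
  haveI : IsMonHom (e' ≪≫ κN).hom := by
    dsimp only [Iso.trans_hom]
    infer_instance
  exact NilSubA.local_claim N₀ hN GM GN (e ≪≫ κM) (e' ≪≫ κN) u u' hc φ₀ hφ₀

end diag

section phi0

/-- a pointwise factorization over a closed subscheme gives a factorization of the base changes -/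
theorem exists_phi0 {S S₀ T T₀ : Scheme.{u}} (i₀ : S₀ ⟶ S) (g : T ⟶ S) (j₀ : T₀ ⟶ T)
    (q : T₀ ⟶ S₀) (hq : j₀ ≫ g = q ≫ i₀) {H H' G : Over S} (i : H ⟶ G) (i' : H' ⟶ G)
    (h0 : ∀ (Y : Over S) (_ : Y ⟶ Over.mk i₀) (h : Y ⟶ H), ∃ h' : Y ⟶ H', h' ≫ i' = h ≫ i) :
    ∃ φ₀ : Red.bc j₀ (Red.bc g H) ⟶ Red.bc j₀ (Red.bc g H'),
      φ₀ ≫ (Over.pullback j₀).map ((Over.pullback g).map i') =
        (Over.pullback j₀).map ((Over.pullback g).map i) := by
  let Y' : Over T₀ := Red.bc j₀ (Red.bc g H)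
  let adj₁ := Over.mapPullbackAdj j₀
  let adj₂ := Over.mapPullbackAdj g
  let Y : Over S := (Over.map g).obj ((Over.map j₀).obj Y')
  let h : Y ⟶ H := MTTransport.ψ adj₂ (MTTransport.ψ adj₁ (𝟙 Y'))
  have hp : (Y'.hom ≫ q) ≫ (Over.mk i₀).hom = Y.hom := by
    show (Y'.hom ≫ q) ≫ i₀ = (Y'.hom ≫ j₀) ≫ g
    rw [Category.assoc, Category.assoc, hq]
  obtain ⟨h', hh'⟩ := h0 Y (Over.homMk (Y'.hom ≫ q) hp) h
  refine ⟨adj₁.homEquiv _ _ (adj₂.homEquiv _ _ h'), ?_⟩
  apply MTTransport.ψ_injective adj₁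
  apply MTTransport.ψ_injective adj₂
  rw [MTTransport.ψ_comp_map, MTTransport.ψ_comp_map]
  have e1 : MTTransport.ψ adj₂ (MTTransport.ψ adj₁ (adj₁.homEquiv _ _ (adj₂.homEquiv _ _ h'))) =
      h' := by
    show (adj₂.homEquiv _ _).symm ((adj₁.homEquiv _ _).symm _) = _
    rw [Equiv.symm_apply_apply, Equiv.symm_apply_apply]
  rw [e1, hh']
  have e2 : (Over.pullback j₀).map ((Over.pullback g).map i) =
      𝟙 Y' ≫ (Over.pullback j₀).map ((Over.pullback g).map i) := (Category.id_comp _).symm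
  rw [e2, MTTransport.ψ_comp_map, MTTransport.ψ_comp_map]

end phi0

section main

variable {R : Type u} [CommRing R] (J : Ideal R) (hJ : IsNilpotent J)
  (G H H' : Over (Spec (CommRingCat.of R))) [GrpObj G] [GrpObj H] [GrpObj H']
  (i : H ⟶ G) [IsMonHom i] (i' : H' ⟶ G) [IsMonHom i'] [Mono i']
  (hc : (∀ (X : Over (Spec (CommRingCat.of R))) (g : X ⟶ G) (h : X ⟶ H),
      g * (h ≫ i) = (h ≫ i) * g) ∨
    (∀ (X : Over (Spec (CommRingCat.of R))) (g : X ⟶ G) (h : X ⟶ H'),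
      g * (h ≫ i') = (h ≫ i') * g))
  (h0 : ∀ (Y : Over (Spec (CommRingCat.of R)))
    (_ : Y ⟶ Over.mk (Spec.map (CommRingCat.ofHom (Ideal.Quotient.mk J)))) (h : Y ⟶ H),
    ∃ h' : Y ⟶ H', h' ≫ i' = h ≫ i)

include hJ hc h0 in
open scoped Obj in
theorem chart_claim (B : Type u) [CommRing B]
    (g : Spec (CommRingCat.of B) ⟶ Spec (CommRingCat.of R))
    (M N : Type) [AddCommGroup M] [AddCommGroup N]
    (eH : Red.bc g H ≅ Red.DS (Spec (CommRingCat.of B)) M) [IsMonHom eH.hom]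
    (eH' : Red.bc g H' ≅ Red.DS (Spec (CommRingCat.of B)) N) [IsMonHom eH'.hom] :
    ∃ c : Red.bc g H ⟶ Red.bc g H',
      c ≫ (Over.pullback g).map i' = (Over.pullback g).map i := by
  let ρ : R →+* B := (Spec.preimage g).hom
  have hg : Spec.map (CommRingCat.ofHom ρ) = g := Spec.map_preimage g
  let N₀ : Ideal B := J.map ρ
  have hN : IsNilpotent N₀ := by
    obtain ⟨k, hk⟩ := hJ
    refine ⟨k, ?_⟩
    rw [← Ideal.map_pow, hk, Ideal.zero_eq_bot, Ideal.map_bot]
    rfl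
  letI : Algebra (ULift.{u} ℤ) B :=
    RingHom.toAlgebra ((Int.castRingHom B).comp (ULift.ringEquiv : ULift.{u} ℤ ≃+* ℤ).toRingHom)
  obtain ⟨cM, hcM⟩ := MTHom4.exists_bc_congr
    (Limits.IsTerminal.from specULiftZIsTerminal (Spec (CommRingCat.of B)))
    (Spec.map (CommRingCat.ofHom (algebraMap (ULift.{u} ℤ) B)))
    (specULiftZIsTerminal.hom_ext _ _) (Red.diag (ULift.{u} ℤ) M)
  obtain ⟨cN, hcN⟩ := MTHom4.exists_bc_congr
    (Limits.IsTerminal.from specULiftZIsTerminal (Spec (CommRingCat.of B)))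
    (Spec.map (CommRingCat.ofHom (algebraMap (ULift.{u} ℤ) B)))
    (specULiftZIsTerminal.hom_ext _ _) (Red.diag (ULift.{u} ℤ) N)
  haveI : IsMonHom (eH ≪≫ cM).hom := by
    dsimp only [Iso.trans_hom]
    infer_instance
  haveI : IsMonHom (eH' ≪≫ cN).hom := by
    dsimp only [Iso.trans_hom]
    infer_instance
  -- centrality
  have hc' : (∀ (X : Over (Spec (CommRingCat.of B))) (x : X ⟶ Red.bc g G) (h : X ⟶ Red.bc g H),
        x * (h ≫ (Over.pullback g).map i) = (h ≫ (Over.pullback g).map i) * x) ∨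
      (∀ (X : Over (Spec (CommRingCat.of B))) (x : X ⟶ Red.bc g G) (h : X ⟶ Red.bc g H'),
        x * (h ≫ (Over.pullback g).map i') = (h ≫ (Over.pullback g).map i') * x) := by
    rcases hc with h1 | h1
    · exact Or.inl fun X x h =>
        (RC.central_bc g i (fun X x g => (h1 X g x).symm) X h x).symm
    · exact Or.inr fun X x h =>
        (RC.central_bc g i' (fun X x g => (h1 X g x).symm) X h x).symm
  -- the factorization modulo the ideal
  have hle : J ≤ Ideal.comap ρ N₀ := Ideal.le_comap_map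
  let q : Spec (CommRingCat.of (B ⧸ N₀)) ⟶ Spec (CommRingCat.of (R ⧸ J)) :=
    Spec.map (CommRingCat.ofHom (Ideal.quotientMap N₀ ρ hle))
  have hq : NilSubA.j₀ N₀ ≫ g =
      q ≫ Spec.map (CommRingCat.ofHom (Ideal.Quotient.mk J)) := by
    rw [← hg]
    show Spec.map _ ≫ Spec.map _ = Spec.map _ ≫ Spec.map _
    rw [← Spec.map_comp, ← Spec.map_comp]
    congr 1
  obtain ⟨φ₀, hφ₀⟩ := exists_phi0 (Spec.map (CommRingCat.ofHom (Ideal.Quotient.mk J))) g
    (NilSubA.j₀ N₀) q hq i i' h0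
  haveI : Mono ((Over.pullback g).map i') := inferInstance
  exact local_claim_diag (ULift.{u} ℤ) N₀ hN M N (eH ≪≫ cM) (eH' ≪≫ cN)
    ((Over.pullback g).map i) ((Over.pullback g).map i') hc' φ₀ hφ₀

include hJ hc h0 in
open scoped Obj in
/-- **Factorization through a subgroup of multiplicative type lifts along nilpotent thickenings**,
when one of the two subgroups is central. -/
theorem factor (hH : MTHom5.LocTriv H (fun _ _ => True))
    (hH' : MTHom5.LocTriv H' (fun _ _ => True)) :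
    ∃ φ : H ⟶ H', φ ≫ i' = i := by
  obtain ⟨S'', p, hp, hloc⟩ := MTHom5.exists_common H H' _ _ hH hH'
  apply fac_of_cov p hp i i'
  haveI : Mono ((Over.pullback p).map i') := inferInstance
  apply MTGlueA.exists_factor_of_local
  intro x
  obtain ⟨R', j, hj, hx, M, iM, N, iN, -, -, ⟨eH, heH⟩, ⟨eH', heH'⟩⟩ := hloc x
  refine ⟨Spec R', j, hj, hx, ?_⟩
  apply fac_nested_of_comp j p
  exact chart_claim J hJ G H H' i i' hc h0 R' (j ≫ p) M N eH eH'

end main

end Groth.Agent.Lib.Helper14.NilSubB
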