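import Mathlib
import Groth.Prelude.Def_Red2
import Groth.Prelude.Def_SGA3x
import Groth.Agent.Lib.Helper14.KL4
import Groth.Agent.Lib.Helper14.NilSubB
import Groth.Agent.Lib.Helper14.MTProd
import Groth.Agent.Lib.Helper9.RC1
import Groth.Agent.Lib.Helper14.MTGlueA

/-! K-program, part 5: factorizations and base change; the main theorem. -/

set_option autoImplicit false

namespace Groth.Agent.Lib.Helper14.KL5

open CategoryTheory MonoidalCategory CartesianMonoidalCategory MonObj GrpObj AlgebraicGeometry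
open CategoryTheory.Limits
open Groth.Agent.Lib.Helper14.KL3 Groth.Agent.Lib.Helper14.KL4 Groth.Agent.Lib.Helper14.KerTriv
open Groth.Agent.Lib.Helper4.FpqcCov

universe u

section fac

variable {Z : Scheme.{u}} {X E Y : Over Z} (f : X ⟶ Y) (j : E ⟶ Y)

/-- `f` factors through `j` after the base change `t` -/
def Fac {T : Scheme.{u}} (t : T ⟶ Z) : Prop :=
  ∃ c : Red.bc t X ⟶ Red.bc t E, c ≫ (Over.pullback t).map j = (Over.pullback t).map f

/-- an iterated factorization gives a factorization over the composite -/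
theorem fac_unnest {T T' : Scheme.{u}} (g : T' ⟶ T) (t : T ⟶ Z)
    (h : ∃ c : Red.bc g (Red.bc t X) ⟶ Red.bc g (Red.bc t E),
      c ≫ (Over.pullback g).map ((Over.pullback t).map j) =
        (Over.pullback g).map ((Over.pullback t).map f)) : Fac f j (g ≫ t) := by
  obtain ⟨c, hc⟩ := h
  obtain ⟨κ, -, hκ⟩ := MTSplitA.exists_bc_comp_family g t (g ≫ t) rfl
  refine ⟨(κ X).inv ≫ c ≫ (κ E).hom, ?_⟩
  rw [Category.assoc, Category.assoc, ← hκ j, ← Category.assoc c, hc, hκ f,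
    Iso.inv_hom_id_assoc]

theorem fac_comp {T T' : Scheme.{u}} (g : T' ⟶ T) (t : T ⟶ Z) (h : Fac f j t) :
    Fac f j (g ≫ t) := by
  obtain ⟨c, hc⟩ := h
  apply fac_unnest
  exact ⟨(Over.pullback g).map c, by rw [← Functor.map_comp, hc]⟩

theorem fac_desc [Mono j] {T T' : Scheme.{u}} (l : T' ⟶ T) (hl : IsCov l) (t : T ⟶ Z)
    (h : Fac f j (l ≫ t)) : Fac f j t := by
  haveI : Mono ((Over.pullback t).map j) := inferInstance
  exact NilSubB.fac_of_cov l hl ((Over.pullback t).map f) ((Over.pullback t).map j)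
    (NilSubB.fac_nested_of_comp l t f j h)

theorem fac_congr {T : Scheme.{u}} {t t' : T ⟶ Z} (h : t = t') (hf : Fac f j t) : Fac f j t' := by
  subst h
  exact hf

end fac

section chartfac

variable {S T : Scheme.{u}} (q : T ⟶ S) {H₁ H₂ G : Over S} (i₁ : H₁ ⟶ G) (i₂ : H₂ ⟶ G)
  {D₁ D₂ : Over T} (e₁ : Red.bc q H₁ ≅ D₁) (e₂ : Red.bc q H₂ ≅ D₂)

/-- factorizations on a chart, in terms of the trivialized groups -/
theorem fac_chart_iff {T' : Scheme.{u}} (k : T' ⟶ T) :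
    Fac (e₁.inv ≫ (Over.pullback q).map i₁) (e₂.inv ≫ (Over.pullback q).map i₂) k ↔
      Fac i₁ i₂ (k ≫ q) := by
  constructor
  · rintro ⟨c, hc⟩
    apply fac_unnest
    refine ⟨(Over.pullback k).map e₁.hom ≫ c ≫ (Over.pullback k).map e₂.inv, ?_⟩
    rw [Category.assoc, Category.assoc, ← Functor.map_comp, hc, ← Functor.map_comp,
      Iso.hom_inv_id_assoc]
  · intro h
    obtain ⟨c', hc'⟩ := NilSubB.fac_nested_of_comp k q i₁ i₂ h
    refine ⟨(Over.pullback k).map e₁.inv ≫ c' ≫ (Over.pullback k).map e₂.hom, ?_⟩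
    rw [Category.assoc, Category.assoc, ← Functor.map_comp, Iso.hom_inv_id_assoc, hc',
      ← Functor.map_comp]

end chartfac

section GF

variable {S S'' : Scheme.{u}} (p : S'' ⟶ S) (hp : IsCov p) {X E Y : Over S} (f : X ⟶ Y)
  (j : E ⟶ Y) [Mono j]

include hp in
/-- a factorization over an open subscheme from factorizations on an fpqc cover of it -/
theorem fac_of_local (U : S.Opens)
    (h : ∀ x : S'', p x ∈ U → ∃ (V : Scheme.{u}) (v : V ⟶ S''), IsOpenImmersion v ∧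
      x ∈ Set.range v ∧ Fac f j (v ≫ p)) : Fac f j U.ι := by
  obtain ⟨π, hπ⟩ : ∃ π, π = pullback.snd p U.ι := ⟨_, rfl⟩
  have hcov : IsCov π := by rw [hπ]; exact hp.baseChange U.ι
  apply fac_desc f j π hcov U.ι
  unfold Fac
  haveI : Mono ((Over.pullback (π ≫ U.ι)).map j) := inferInstance
  apply MTGlueA.exists_factor_of_local
  intro y
  have hpy : p ((pullback.fst p U.ι) y) ∈ U := by
    have h1 : (pullback.fst p U.ι ≫ p) y = (pullback.snd p U.ι ≫ U.ι) y := by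
      rw [pullback.condition]
    have h2 : p ((pullback.fst p U.ι) y) = U.ι ((pullback.snd p U.ι) y) := h1
    rw [h2]
    exact ((pullback.snd p U.ι) y).2
  obtain ⟨V, v, hv, hxv, hfac⟩ := h _ hpy
  refine ⟨pullback (pullback.fst p U.ι) v, pullback.fst _ _, inferInstance, ?_, ?_⟩
  · rw [IsOpenImmersion.range_pullbackFst v (pullback.fst p U.ι)]
    exact hxv
  · apply NilSubB.fac_nested_of_comp (pullback.fst (pullback.fst p U.ι) v) (π ≫ U.ι) f j
    have heq : pullback.snd (pullback.fst p U.ι) v ≫ v ≫ p =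
        pullback.fst (pullback.fst p U.ι) v ≫ π ≫ U.ι := by
      rw [hπ, ← pullback.condition, ← Category.assoc, ← pullback.condition, Category.assoc]
    exact fac_congr f j heq (fac_comp f j (pullback.snd _ _) (v ≫ p) hfac)

end GF

section residue

variable {S T : Scheme.{u}} (q : T ⟶ S) {X E Y : Over S} (f : X ⟶ Y) (j : E ⟶ Y) [Mono j]

/-- factorization at a point of the base can be tested at a point of a chart above it -/
theorem fac_residue_iff (t : T) :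
    Fac f j (S.fromSpecResidueField (q t)) ↔ Fac f j (T.fromSpecResidueField t ≫ q) := by
  rw [← Scheme.Hom.SpecMap_residueFieldMap_fromSpecResidueField]
  constructor
  · intro h
    exact fac_comp f j _ _ h
  · intro h
    have hfs : Flat (Spec.map (q.residueFieldMap t)) ∧
        Surjective (Spec.map (q.residueFieldMap t)) := by
      rw [flat_and_surjective_SpecMap_iff]
      letI : Algebra (S.residueField (q t)) (T.residueField t) :=
        (q.residueFieldMap t).hom.toAlgebra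
      exact (RingHom.faithfullyFlat_algebraMap_iff).mpr inferInstance
    haveI := hfs.1
    haveI := hfs.2
    exact fac_desc f j _ (KL1.isCov_of_qc _) _ h

end residue

section pack

variable {S : Scheme.{u}} (G H₁ H₂ : Over S) [GrpObj G] [GrpObj H₁] [GrpObj H₂]
  [IsSeparated G.hom] (i₁ : H₁ ⟶ G) (i₂ : H₂ ⟶ G) [IsMonHom i₁] [IsMonHom i₂] [Mono i₁] [Mono i₂]
  (hc : ∀ (X : Over S) (g : X ⟶ G) (h : X ⟶ H₁), g * (h ≫ i₁) = (h ≫ i₁) * g)
  (hfp : LocallyOfFinitePresentation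
    (pullback.fst ((snd H₁ H₂ ≫ i₂) * (fst H₁ H₂ ≫ i₁)⁻¹).left (unitSec G)))

/-- the fibres at `s` coincide -/
def Both (s : S) : Prop :=
  Fac i₁ i₂ (S.fromSpecResidueField s) ∧ Fac i₂ i₁ (S.fromSpecResidueField s)

variable {T : Scheme.{u}} (q : T ⟶ S) {M₁ M₂ : Type} [AddCommGroup M₁] [AddCommGroup M₂]
  (hM₁ : AddGroup.FG M₁) (hM₂ : AddGroup.FG M₂)
  (e₁ : Red.bc q H₁ ≅ Red.DS T M₁) [IsMonHom e₁.hom]
  (e₂ : Red.bc q H₂ ≅ Red.DS T M₂) [IsMonHom e₂.hom]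

include hc hfp hM₁ hM₂ e₁ e₂ in
open scoped Obj in
/-- the local analysis on a chart trivializing both groups -/
theorem chart_pack (t : T) :
    (Both G H₁ H₂ i₁ i₂ (q t) → ∃ W : T.Opens, t ∈ W ∧ Fac i₁ i₂ (W.ι ≫ q) ∧
        Fac i₂ i₁ (W.ι ≫ q) ∧ ∀ t' ∈ W, Both G H₁ H₂ i₁ i₂ (q t')) ∧
    (¬ Both G H₁ H₂ i₁ i₂ (q t) → ∃ W : T.Opens, t ∈ W ∧
        ∀ t' ∈ W, ¬ Both G H₁ H₂ i₁ i₂ (q t')) := by
  haveI : IsMonHom e₁.inv := inferInstance
  haveI : IsMonHom e₂.inv := inferInstance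
  haveI : IsSeparated (Red.bc q G).hom := inferInstanceAs (IsSeparated (pullback.snd G.hom q))
  obtain ⟨a₁, ha₁⟩ : ∃ a₁ : Red.DS T M₁ ⟶ Red.bc q G, a₁ = e₁.inv ≫ (Over.pullback q).map i₁ :=
    ⟨_, rfl⟩
  obtain ⟨a₂, ha₂⟩ : ∃ a₂ : Red.DS T M₂ ⟶ Red.bc q G, a₂ = e₂.inv ≫ (Over.pullback q).map i₂ :=
    ⟨_, rfl⟩
  haveI : IsMonHom a₁ := by rw [ha₁]; infer_instance
  haveI : IsMonHom a₂ := by rw [ha₂]; infer_instance
  haveI : Mono ((Over.pullback q).map i₁) := inferInstance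
  haveI : Mono ((Over.pullback q).map i₂) := inferInstance
  haveI : Mono a₁ := by rw [ha₁]; exact mono_comp _ _
  haveI : Mono a₂ := by rw [ha₂]; exact mono_comp _ _
  have hcT : ∀ (X : Over T) (g : X ⟶ Red.bc q G) (h : X ⟶ Red.DS T M₁),
      g * (h ≫ a₁) = (h ≫ a₁) * g := by
    intro X g h
    rw [ha₁, ← Category.assoc]
    exact (Groth.Agent.Lib.Helper9.RC.central_bc q i₁ (fun X x g => (hc X g x).symm) X
      (h ≫ e₁.inv) g).symm
  -- the kernel of the difference homomorphism is locally of finite presentation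
  have hfpT : LocallyOfFinitePresentation
      (pullback.fst (dP a₁ a₂).left (unitSec (Red.bc q G))) := by
    obtain ⟨d, hd⟩ : ∃ d : H₁ ⊗ H₂ ⟶ G, d = (snd H₁ H₂ ≫ i₂) * (fst H₁ H₂ ≫ i₁)⁻¹ := ⟨_, rfl⟩
    rw [← hd] at hfp
    have hfpq := RigD.lfp_ker_bc d hfp q
    obtain ⟨θ, hθ⟩ : ∃ θ : Red.DS T (M₁ × M₂) ⟶ Red.bc q (H₁ ⊗ H₂),
        θ = lift (Red.DSmap T (AddMonoidHom.inl M₁ M₂) ≫ e₁.inv)
          (Red.DSmap T (AddMonoidHom.inr M₁ M₂) ≫ e₂.inv) ≫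
            CategoryTheory.inv (MTProd.ψ q H₁ H₂) := ⟨_, rfl⟩
    have h1 : θ ≫ (Over.pullback q).map (fst H₁ H₂) =
        Red.DSmap T (AddMonoidHom.inl M₁ M₂) ≫ e₁.inv := by
      have : CategoryTheory.inv (MTProd.ψ q H₁ H₂) ≫ (Over.pullback q).map (fst H₁ H₂) =
          fst _ _ := by
        rw [IsIso.inv_comp_eq, MTProd.ψ, lift_fst]
      rw [hθ, Category.assoc, this, lift_fst]
    have h2 : θ ≫ (Over.pullback q).map (snd H₁ H₂) =
        Red.DSmap T (AddMonoidHom.inr M₁ M₂) ≫ e₂.inv := by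
      have : CategoryTheory.inv (MTProd.ψ q H₁ H₂) ≫ (Over.pullback q).map (snd H₁ H₂) =
          snd _ _ := by
        rw [IsIso.inv_comp_eq, MTProd.ψ, lift_snd]
      rw [hθ, Category.assoc, this, lift_snd]
    have h3 : θ ≫ (Over.pullback q).map d = dP a₁ a₂ := by
      rw [hd, Functor.map_mul, Functor.map_inv', Functor.map_comp, Functor.map_comp,
        MonObj.comp_mul, GrpObj.comp_inv, ← Category.assoc, ← Category.assoc, h1, h2]
      unfold dP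
      rw [ha₁, ha₂, Category.assoc, Category.assoc]
    rw [← h3]
    exact KL1.lfp_ker_comp θ ((Over.pullback q).map d) hfpq
  -- the dictionary between the fibres
  have hfib : ∀ t : T, FibT (Red.bc q G) a₁ a₂ t ↔ Both G H₁ H₂ i₁ i₂ (q t) := by
    intro t
    unfold Both
    rw [fac_residue_iff q i₁ i₂ t, fac_residue_iff q i₂ i₁ t,
      ← fac_chart_iff q i₁ i₂ e₁ e₂, ← fac_chart_iff q i₂ i₁ e₂ e₁, ← ha₁, ← ha₂]
    constructor
    · rintro ⟨ψ, hψ⟩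
      exact ⟨⟨ψ.hom, hψ⟩, ⟨ψ.inv, by rw [← hψ, Iso.inv_hom_id_assoc]⟩⟩
    · rintro ⟨⟨c, hc1⟩, ⟨c', hc2⟩⟩
      exact iso_of_fac _ _ c c' hc1 hc2
  constructor
  · intro hb
    obtain ⟨W, htW, c, hcW⟩ := ct_open (Red.bc q G) a₁ a₂ hcT hfpT hM₁ t ((hfib t).2 hb)
    have hf1 : Fac i₁ i₂ (W.ι ≫ q) := by
      rw [← fac_chart_iff q i₁ i₂ e₁ e₂, ← ha₁, ← ha₂]
      exact ⟨c.hom, hcW⟩
    have hf2 : Fac i₂ i₁ (W.ι ≫ q) := by
      rw [← fac_chart_iff q i₂ i₁ e₂ e₁, ← ha₁, ← ha₂]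
      exact ⟨c.inv, by rw [← hcW, Iso.inv_hom_id_assoc]⟩
    refine ⟨W, htW, hf1, hf2, ?_⟩
    intro t' ht'
    have hr : Set.range (T.fromSpecResidueField t') ⊆ Set.range W.ι := by
      rw [Scheme.range_fromSpecResidueField, Scheme.Opens.range_ι]
      rintro _ rfl
      exact ht'
    have heq : IsOpenImmersion.lift W.ι (T.fromSpecResidueField t') hr ≫ W.ι ≫ q =
        T.fromSpecResidueField t' ≫ q := by
      rw [← Category.assoc, IsOpenImmersion.lift_fac]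
    unfold Both
    rw [fac_residue_iff q i₁ i₂ t', fac_residue_iff q i₂ i₁ t']
    exact ⟨fac_congr i₁ i₂ heq (fac_comp i₁ i₂ _ _ hf1),
      fac_congr i₂ i₁ heq (fac_comp i₂ i₁ _ _ hf2)⟩
  · intro hb
    obtain ⟨W, htW, hW⟩ := ct_closed (Red.bc q G) a₁ a₂ hcT hfpT hM₁ hM₂ t
      (fun h => hb ((hfib t).1 h))
    exact ⟨W, htW, fun t' ht' h => hW t' ht' ((hfib t').2 h)⟩

end pack

section main

variable {S : Scheme.{u}} (G H₁ H₂ : Over S) [GrpObj G] [GrpObj H₁] [GrpObj H₂]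
  [IsSeparated G.hom]

open scoped Obj in
/-- **SGA 3 IX 5.4bis type statement**: the locus where two subgroups of multiplicative type, one of
them central, have the same fibres is open and closed, and the subgroups coincide over it -/
theorem main
    (hG : IsLocallyNoetherian S ∨ LocallyOfFinitePresentation G.hom)
    (h₁ : SGA3x.IsMultTypeFT H₁) (h₂ : SGA3x.IsMultTypeFT H₂)
    (i₁ : H₁ ⟶ G) [IsMonHom i₁] [Mono i₁] (i₂ : H₂ ⟶ G) [IsMonHom i₂] [Mono i₂]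
    (hc : ∀ (X : Over S) (g : X ⟶ G) (h : X ⟶ H₁), g * (h ≫ i₁) = (h ≫ i₁) * g) :
    ∃ U : S.Opens, IsClosed (U : Set S) ∧
      (∀ s : S, s ∈ U ↔ Both G H₁ H₂ i₁ i₂ s) ∧ Fac i₁ i₂ U.ι ∧ Fac i₂ i₁ U.ι := by
  have hP := MTProd.isMultTypeFT_tensor H₁ H₂ h₁ h₂
  have hcb : ∀ (X : Over S) (g : X ⟶ G) (h : X ⟶ H₁ ⊗ H₂),
      g * (h ≫ fst H₁ H₂ ≫ i₁) = (h ≫ fst H₁ H₂ ≫ i₁) * g := by
    intro X g h
    rw [← Category.assoc]
    exact hc X g _
  haveI : IsMonHom ((snd H₁ H₂ ≫ i₂) * (fst H₁ H₂ ≫ i₁)⁻¹) :=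
    CentDescB.isMonHom_mul_inv _ _ hcb
  have hlft := MTLft.lft_of_multTypeFT (H₁ ⊗ H₂) hP
  have hfp := RigD.lfp_ker (H₁ ⊗ H₂) G ((snd H₁ H₂ ≫ i₂) * (fst H₁ H₂ ≫ i₁)⁻¹) hlft hG
  obtain ⟨S'', p, hp, hcharts⟩ := MTHom5.exists_common H₁ H₂ (fun M _ => AddGroup.FG M)
    (fun M _ => AddGroup.FG M) h₁ h₂
  have hpack : ∀ x : S'',
      (Both G H₁ H₂ i₁ i₂ (p x) → ∃ (V : Scheme.{u}) (v : V ⟶ S''), IsOpenImmersion v ∧
        x ∈ Set.range v ∧ Fac i₁ i₂ (v ≫ p) ∧ Fac i₂ i₁ (v ≫ p) ∧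
        ∀ y ∈ Set.range v, Both G H₁ H₂ i₁ i₂ (p y)) ∧
      (¬ Both G H₁ H₂ i₁ i₂ (p x) → ∃ (V : Scheme.{u}) (v : V ⟶ S''), IsOpenImmersion v ∧
        x ∈ Set.range v ∧ ∀ y ∈ Set.range v, ¬ Both G H₁ H₂ i₁ i₂ (p y)) := by
    intro x
    obtain ⟨R, j, hj, hx, M₁, iM₁, M₂, iM₂, hM₁, hM₂, ⟨e₁, he₁⟩, ⟨e₂, he₂⟩⟩ := hcharts x
    obtain ⟨t, rfl⟩ := hx
    obtain ⟨ho, hcl⟩ := chart_pack G H₁ H₂ i₁ i₂ hc hfp (j ≫ p) hM₁ hM₂ e₁ e₂ t
    constructor
    · intro hb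
      obtain ⟨W, htW, hf1, hf2, hW⟩ := ho hb
      refine ⟨W, W.ι ≫ j, inferInstance, ⟨⟨t, htW⟩, rfl⟩, ?_, ?_, ?_⟩
      · exact fac_congr i₁ i₂ (Category.assoc _ _ _).symm hf1
      · exact fac_congr i₂ i₁ (Category.assoc _ _ _).symm hf2
      · rintro _ ⟨w, rfl⟩
        exact hW w.1 w.2
    · intro hb
      obtain ⟨W, htW, hW⟩ := hcl hb
      refine ⟨W, W.ι ≫ j, inferInstance, ⟨⟨t, htW⟩, rfl⟩, ?_⟩
      rintro _ ⟨w, rfl⟩
      exact hW w.1 w.2
  obtain ⟨Uset, hUset⟩ : ∃ Uset : Set S, Uset = {s | Both G H₁ H₂ i₁ i₂ s} := ⟨_, rfl⟩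
  have hopen : IsOpen (p ⁻¹' Uset) := by
    rw [isOpen_iff_forall_mem_open]
    intro x hxU
    have hb : Both G H₁ H₂ i₁ i₂ (p x) := by
      have : p x ∈ Uset := hxU
      rw [hUset] at this
      exact this
    obtain ⟨V, v, hv, hxv, -, -, hV⟩ := (hpack x).1 hb
    refine ⟨Set.range v, ?_, v.isOpenEmbedding.isOpen_range, hxv⟩
    intro y hy
    show p y ∈ Uset
    rw [hUset]
    exact hV y hy
  have hclosed : IsOpen (p ⁻¹' Usetᶜ) := by
    rw [isOpen_iff_forall_mem_open]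
    intro x hxU
    have hb : ¬ Both G H₁ H₂ i₁ i₂ (p x) := by
      intro h
      apply hxU
      show p x ∈ Uset
      rw [hUset]
      exact h
    obtain ⟨V, v, hv, hxv, hV⟩ := (hpack x).2 hb
    refine ⟨Set.range v, ?_, v.isOpenEmbedding.isOpen_range, hxv⟩
    intro y hy h
    have h' : p y ∈ Uset := h
    rw [hUset] at h'
    exact hV y hy h'
  have hUo : IsOpen Uset := MTHom5.isOpen_of_isCov p hp _ hopen
  have hUc : IsClosed Uset := isOpen_compl_iff.mp (MTHom5.isOpen_of_isCov p hp _ hclosed)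
  refine ⟨⟨Uset, hUo⟩, hUc, fun s => ?_, ?_, ?_⟩
  · show s ∈ Uset ↔ _
    rw [hUset]
    rfl
  · apply fac_of_local p hp i₁ i₂
    intro x hx
    have hb : Both G H₁ H₂ i₁ i₂ (p x) := by
      have : p x ∈ Uset := hx
      rw [hUset] at this
      exact this
    obtain ⟨V, v, hv, hxv, hf1, -, -⟩ := (hpack x).1 hb
    exact ⟨V, v, hv, hxv, hf1⟩
  · apply fac_of_local p hp i₂ i₁
    intro x hx
    have hb : Both G H₁ H₂ i₁ i₂ (p x) := by
      have : p x ∈ Uset := hx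
      rw [hUset] at this
      exact this
    obtain ⟨V, v, hv, hxv, -, hf2, -⟩ := (hpack x).1 hb
    exact ⟨V, v, hv, hxv, hf2⟩

end main

end Groth.Agent.Lib.Helper14.KL5
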