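import Mathlib
import Groth.Prelude.Def_Red2
import Groth.Prelude.Def_SGA3x
import Groth.Agent.Lib.Helper14.KL5
import Groth.Agent.Lib.Helper14.CentDescB
import Groth.Agent.Lib.Helper14.CentDescA
import Groth.Agent.Lib.Helper9.RC8
import Groth.Agent.Lib.Helper3.ImmFpqcDesc
import Groth.Agent.Lib.Helper4.KummerSeq

/-! K-program, part 6: descent of central subgroups of multiplicative type along fpqc coverings with
geometrically connected fibres (transport datum). -/

set_option backward.isDefEq.respectTransparency false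
set_option maxHeartbeats 800000
set_option synthInstance.maxHeartbeats 400000
set_option autoImplicit false
set_option linter.unusedSectionVars false
set_option linter.unusedVariables false

namespace Groth.Agent.Lib.Helper14.KL6

open CategoryTheory MonoidalCategory CartesianMonoidalCategory MonObj GrpObj AlgebraicGeometry
open CategoryTheory.Limits
open Groth.Agent.Lib.Helper14.KL5
open Groth.Agent.Lib.Helper4.FpqcCov Groth.Agent.Lib.Helper4.QuotGrp
open Groth.Agent.Lib.Helper9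

universe u

section i2

variable {S S' S2 : Scheme.{u}} (G : Over S) (π : S' ⟶ S) (H' : Over S') (j' : H' ⟶ Red.bc π G)
  (p : S2 ⟶ S') (q : S2 ⟶ S) (hq : p ≫ π = q)

/-- the pulled back inclusion, with target the base change along the composite -/
noncomputable def i2 : Red.bc p H' ⟶ Red.bc q G :=
  (Over.pullback p).map j' ≫ (RC.bcc p π q hq G).hom

theorem i2_left_fst : (i2 G π H' j' p q hq).left ≫ pullback.fst G.hom q =
    pullback.fst H'.hom p ≫ j'.left ≫ pullback.fst G.hom π := by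
  change (((Over.pullback p).map j').left ≫ (RC.bcc p π q hq G).hom.left) ≫ _ = _
  rw [Category.assoc, RC.bcc_hom_left_fst]
  have := MTDescent.pullback_map_left_fst p j'
  rw [← Category.assoc, this, Category.assoc]

instance mono_i2 [Mono j'] : Mono (i2 G π H' j' p q hq) := by
  unfold i2
  haveI : Mono ((Over.pullback p).map j') := inferInstance
  infer_instance

open scoped Obj in
instance isMonHom_i2 [GrpObj G] [GrpObj H'] [IsMonHom j'] : IsMonHom (i2 G π H' j' p q hq) := by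
  unfold i2
  infer_instance

end i2

lemma bc_bc_hom_ext {T T' T'' : Scheme.{u}} (f : T' ⟶ T) (g : T'' ⟶ T') {Z : Over T''} {Y : Over T}
    (v₁ v₂ : Z ⟶ Red.bc g (Red.bc f Y))
    (h : v₁.left ≫ pullback.fst (Red.bc f Y).hom g ≫ pullback.fst Y.hom f =
      v₂.left ≫ pullback.fst (Red.bc f Y).hom g ≫ pullback.fst Y.hom f) : v₁ = v₂ := by
  apply CentDescB.bc_hom_ext
  apply pullback.hom_ext
  · simpa using h
  · have c : pullback.fst (Red.bc f Y).hom g ≫ pullback.snd Y.hom f =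
        pullback.snd (Red.bc f Y).hom g ≫ g := pullback.condition
    have h1 : v₁.left ≫ pullback.snd (Red.bc f Y).hom g = Z.hom := Over.w v₁
    have h2 : v₂.left ≫ pullback.snd (Red.bc f Y).hom g = Z.hom := Over.w v₂
    rw [Category.assoc, Category.assoc, c, ← Category.assoc, ← Category.assoc, h1, h2]

section omega

variable {S S' : Scheme.{u}} (G : Over S) [GrpObj G] [IsSeparated G.hom]
  [LocallyOfFinitePresentation G.hom]
  (π : S' ⟶ S) [GeometricallyConnected π]
  (H' : Over S') [GrpObj H'] (hH' : SGA3x.IsMultTypeFT H') (j' : H' ⟶ Red.bc π G) [IsMonHom j']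
  [Mono j']
  (hc : ∀ (X : Over S') (g : X ⟶ Red.bc π G) (h : X ⟶ H'), g * (h ≫ j') = (h ≫ j') * g)

omit [IsSeparated G.hom] [LocallyOfFinitePresentation G.hom] [GeometricallyConnected π] [Mono j'] in
include hc in
open scoped Obj in
theorem central_i2 {S2 : Scheme.{u}} (p : S2 ⟶ S') (q : S2 ⟶ S) (hq : p ≫ π = q)
    (X : Over S2) (g : X ⟶ Red.bc q G) (h : X ⟶ Red.bc p H') :
    g * (h ≫ i2 G π H' j' p q hq) = (h ≫ i2 G π H' j' p q hq) * g := by
  have hg : g = (g ≫ (RC.bcc p π q hq G).inv) ≫ (RC.bcc p π q hq G).hom := by simp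
  have e1 : h ≫ i2 G π H' j' p q hq =
      (h ≫ (Over.pullback p).map j') ≫ (RC.bcc p π q hq G).hom := by
    simp [i2]
  rw [e1, hg, ← MonObj.mul_comp, ← MonObj.mul_comp]
  congr 1
  exact (RC.central_bc p j' (fun X x g => (hc X g x).symm) X h
    (g ≫ (RC.bcc p π q hq G).inv)).symm

include hH' hc in
open scoped Obj in
theorem exists_omega :
    ∃ ω₀ : Red.bc (pullback.fst π π) H' ⟶ Red.bc (pullback.snd π π) H',
      ω₀ ≫ i2 G π H' j' (pullback.snd π π) (pullback.fst π π ≫ π) pullback.condition.symm =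
        i2 G π H' j' (pullback.fst π π) (pullback.fst π π ≫ π) rfl := by
  have hq2 : pullback.snd π π ≫ π = pullback.fst π π ≫ π := pullback.condition.symm
  haveI : IsSeparated (Red.bc (pullback.fst π π ≫ π) G).hom :=
    inferInstanceAs (IsSeparated (pullback.snd G.hom (pullback.fst π π ≫ π)))
  haveI : LocallyOfFinitePresentation (Red.bc (pullback.fst π π ≫ π) G).hom :=
    inferInstanceAs (LocallyOfFinitePresentation (pullback.snd G.hom (pullback.fst π π ≫ π)))
  have h₁ : SGA3x.IsMultTypeFT (Red.bc (pullback.fst π π) H') := MTSplitD.locTriv_bc H' _ hH' _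
  have h₂ : SGA3x.IsMultTypeFT (Red.bc (pullback.snd π π) H') := MTSplitD.locTriv_bc H' _ hH' _
  obtain ⟨U, hUcl, hUiff, hF12, hF21⟩ := KL5.main (Red.bc (pullback.fst π π ≫ π) G)
    (Red.bc (pullback.fst π π) H') (Red.bc (pullback.snd π π) H') (Or.inr inferInstance) h₁ h₂
    (i2 G π H' j' (pullback.fst π π) (pullback.fst π π ≫ π) rfl)
    (i2 G π H' j' (pullback.snd π π) (pullback.fst π π ≫ π) hq2)
    (central_i2 G π H' j' hc _ _ rfl)
  -- the diagonal
  let Δ : S' ⟶ pullback π π := pullback.lift (𝟙 S') (𝟙 S') rfl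
  have hΔ1 : Δ ≫ pullback.fst π π = 𝟙 S' := pullback.lift_fst _ _ _
  have hΔ2 : Δ ≫ pullback.snd π π = 𝟙 S' := pullback.lift_snd _ _ _
  have hfacΔ : ∀ (pa pb : pullback π π ⟶ S') (ha : pa ≫ π = pullback.fst π π ≫ π)
      (hb : pb ≫ π = pullback.fst π π ≫ π) (hΔa : Δ ≫ pa = 𝟙 S') (hΔb : Δ ≫ pb = 𝟙 S'),
      Fac (i2 G π H' j' pa (pullback.fst π π ≫ π) ha)
        (i2 G π H' j' pb (pullback.fst π π ≫ π) hb) Δ := by
    intro pa pb ha hb hΔa hΔb
    refine ⟨(RC.bcc Δ pa (𝟙 S') hΔa H').hom ≫ (RC.bcc Δ pb (𝟙 S') hΔb H').inv, ?_⟩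
    apply bc_bc_hom_ext
    rw [Over.comp_left, Category.assoc, ← Category.assoc _ (pullback.fst _ _) (pullback.fst _ _),
      MTDescent.pullback_map_left_fst Δ, ← Category.assoc _ (pullback.fst _ _) (pullback.fst _ _),
      MTDescent.pullback_map_left_fst Δ, Category.assoc, Category.assoc, i2_left_fst, i2_left_fst,
      Over.comp_left, Category.assoc]
    rw [← Category.assoc (pullback.fst _ _) (pullback.fst _ _),
      ← Category.assoc (pullback.fst _ _) (pullback.fst _ _),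
      ← Category.assoc _ (pullback.fst _ _ ≫ pullback.fst _ _), RC.bcc_inv_left_fst]
    rw [← Category.assoc, RC.bcc_hom_left_fst]
  have hΔU : ∀ s' : S', Δ s' ∈ U := by
    intro s'
    rw [hUiff]
    constructor
    · rw [fac_residue_iff Δ]
      exact fac_comp _ _ _ _ (hfacΔ _ _ rfl hq2 hΔ1 hΔ2)
    · rw [fac_residue_iff Δ]
      exact fac_comp _ _ _ _ (hfacΔ _ _ hq2 rfl hΔ2 hΔ1)
  have hUtop : ∀ z : ↥(pullback π π), z ∈ U := by
    intro z
    have hconn : _root_.IsConnected ((pullback.fst π π) ⁻¹' {(pullback.fst π π) z}) :=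
      (pullback.fst π π).isConnected_preimage_singleton ((pullback.fst π π) z)
    have hmem : Δ ((pullback.fst π π) z) ∈ (pullback.fst π π) ⁻¹' {(pullback.fst π π) z} := by
      show (pullback.fst π π) (Δ ((pullback.fst π π) z)) = (pullback.fst π π) z
      have := congrArg (fun t : S' ⟶ S' => t ((pullback.fst π π) z)) hΔ1
      exact this
    have hsub := hconn.isPreconnected.subset_isClopen ⟨hUcl, U.isOpen⟩
      ⟨Δ ((pullback.fst π π) z), hmem, hΔU _⟩
    exact hsub rfl
  have hUeq : U = ⊤ := by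
    ext z
    simp [hUtop z]
  haveI : IsIso U.ι := by
    apply isIso_of_isOpenImmersion_of_opensRange_eq_top
    rw [Scheme.Opens.opensRange_ι, hUeq]
  exact NilSubB.fac_of_cov U.ι (isCov_of_isIso _) _ _ hF12

include hH' hc in
theorem exists_transport {T : Scheme.{u}} (x₀ x₁ : T ⟶ S') (h : x₀ ≫ π = x₁ ≫ π)
    (v : T ⟶ H'.left) (hv : v ≫ H'.hom = x₀) :
    ∃ v' : T ⟶ H'.left, v' ≫ H'.hom = x₁ ∧
      v' ≫ j'.left ≫ pullback.fst G.hom π = v ≫ j'.left ≫ pullback.fst G.hom π := by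
  obtain ⟨ω₀, hω⟩ := exists_omega G π H' hH' j' hc
  let x : T ⟶ pullback π π := pullback.lift x₀ x₁ h
  have hx1 : x ≫ pullback.fst π π = x₀ := pullback.lift_fst _ _ _
  have hx2 : x ≫ pullback.snd π π = x₁ := pullback.lift_snd _ _ _
  let σ : T ⟶ (Red.bc (pullback.fst π π) H').left := pullback.lift v x (by rw [hv, hx1])
  have hσ1 : σ ≫ pullback.fst H'.hom (pullback.fst π π) = v := pullback.lift_fst _ _ _
  have hσ2 : σ ≫ pullback.snd H'.hom (pullback.fst π π) = x := pullback.lift_snd _ _ _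
  refine ⟨σ ≫ ω₀.left ≫ pullback.fst H'.hom (pullback.snd π π), ?_, ?_⟩
  · have hw' : ω₀.left ≫ pullback.snd H'.hom (pullback.snd π π) =
        pullback.snd H'.hom (pullback.fst π π) := Over.w ω₀
    rw [Category.assoc, Category.assoc, pullback.condition, reassoc_of% hw', reassoc_of% hσ2, hx2]
  · have e := congrArg (fun a => σ ≫ a.left ≫ pullback.fst G.hom _) hω
    simp only [Over.comp_left, Category.assoc, i2_left_fst] at e
    rw [Category.assoc, Category.assoc, e, reassoc_of% hσ1]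

end omega

section DD

variable {S S' : Scheme.{u}} (f : S' ⟶ S) (G : Over S) [GrpObj G] (Z' : Over S') [GrpObj Z']
  (z' : Z' ⟶ Red.bc f G) [IsMonHom z'] [Mono z']
  (hT : ∀ (T : Scheme.{u}) (x₀ x₁ : T ⟶ S') (h : x₀ ≫ f = x₁ ≫ f) (v : T ⟶ Z'.left)
    (hv : v ≫ Z'.hom = x₀), ∃ v' : T ⟶ Z'.left, v' ≫ Z'.hom = x₁ ∧
      v' ≫ z'.left ≫ pullback.fst G.hom f = v ≫ z'.left ≫ pullback.fst G.hom f)

/-- transport of points along the descent datum -/
noncomputable def tr {T : Scheme.{u}} (x₀ x₁ : T ⟶ S') (h : x₀ ≫ f = x₁ ≫ f)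
    (v : Desc.Lifts Z' x₀) : Desc.Lifts Z' x₁ :=
  ⟨(hT T x₀ x₁ h v.1 v.2).choose,
    (hT T x₀ x₁ h v.1 v.2).choose_spec.1⟩

theorem tr_spec {T : Scheme.{u}} (x₀ x₁ : T ⟶ S') (h : x₀ ≫ f = x₁ ≫ f)
    (v : Desc.Lifts Z' x₀) :
    (tr f G Z' z' hT x₀ x₁ h v).1 ≫ z'.left ≫ pullback.fst G.hom f =
      v.1 ≫ z'.left ≫ pullback.fst G.hom f :=
  (hT T x₀ x₁ h v.1 v.2).choose_spec.2

theorem eq_tr {T : Scheme.{u}} (x₀ x₁ : T ⟶ S') (h : x₀ ≫ f = x₁ ≫ f)
    (v : Desc.Lifts Z' x₀) (v' : Desc.Lifts Z' x₁)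
    (hv : v'.1 ≫ z'.left ≫ pullback.fst G.hom f = v.1 ≫ z'.left ≫ pullback.fst G.hom f) :
    v' = tr f G Z' z' hT x₀ x₁ h v := by
  apply Subtype.ext
  apply RC.transport_unique f G Z' z'
  · rw [v'.2, (tr f G Z' z' hT x₀ x₁ h v).2]
  · rw [hv, tr_spec]

/-- the descent datum on the reductive centre -/
noncomputable def dd : Desc.SchDDFam (fun _ : PUnit.{u + 1} => f) where
  obj _ := Z'
  φ T i j x₀ x₁ h :=
    { toFun := tr f G Z' z' hT x₀ x₁ h
      invFun := tr f G Z' z' hT x₁ x₀ h.symm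
      left_inv := fun v => by
        symm
        apply Subtype.ext
        apply RC.transport_unique f G Z' z'
        · rw [v.2, (tr f G Z' z' hT x₁ x₀ h.symm _).2]
        · rw [tr_spec, tr_spec]
      right_inv := fun v => by
        symm
        apply Subtype.ext
        apply RC.transport_unique f G Z' z'
        · rw [v.2, (tr f G Z' z' hT x₀ x₁ h _).2]
        · rw [tr_spec, tr_spec] }
  φ_natural T T' g i j x₀ x₁ h y₀ y₁ hy₀ hy₁ h' v v' hv' := by
    subst hy₀ hy₁
    apply RC.transport_unique f G Z' z'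
    · change (tr f G Z' z' hT (g ≫ x₀) (g ≫ x₁) h' v').1 ≫ _ =
        (g ≫ (tr f G Z' z' hT x₀ x₁ h v).1) ≫ _
      rw [(tr f G Z' z' hT (g ≫ x₀) (g ≫ x₁) h' v').2, Category.assoc,
        (tr f G Z' z' hT x₀ x₁ h v).2]
    · change (tr f G Z' z' hT (g ≫ x₀) (g ≫ x₁) h' v').1 ≫ _ =
        (g ≫ (tr f G Z' z' hT x₀ x₁ h v).1) ≫ _
      rw [tr_spec, Category.assoc, tr_spec, hv', Category.assoc]
  φ_self T i x v := by
    symm
    apply Subtype.ext
    apply RC.transport_unique f G Z' z'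
    · rw [v.2]; exact (tr f G Z' z' hT x x rfl v).2.symm
    · exact (tr_spec f G Z' z' hT x x rfl v).symm
  φ_comp T i j k x₀ x₁ x₂ h₀₁ h₁₂ v := by
    apply Subtype.ext
    apply RC.transport_unique f G Z' z'
    · change (tr f G Z' z' hT x₁ x₂ h₁₂ (tr f G Z' z' hT x₀ x₁ h₀₁ v)).1 ≫ _ =
        (tr f G Z' z' hT x₀ x₂ (h₀₁.trans h₁₂) v).1 ≫ _
      rw [(tr f G Z' z' hT x₁ x₂ h₁₂ _).2, (tr f G Z' z' hT x₀ x₂ _ v).2]
    · change (tr f G Z' z' hT x₁ x₂ h₁₂ (tr f G Z' z' hT x₀ x₁ h₀₁ v)).1 ≫ _ =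
        (tr f G Z' z' hT x₀ x₂ (h₀₁.trans h₁₂) v).1 ≫ _
      rw [tr_spec, tr_spec, tr_spec]

/-- the inclusion, as a morphism of descent data -/
noncomputable def ζ : dd f G Z' z' hT ⟶ (Desc.toDDFam (fun _ : PUnit.{u + 1} => f)).obj G where
  hom _ := Over.homMk (z'.left ≫ (pullbackSymmetry G.hom f).hom) (by
    have : z'.left ≫ pullback.snd G.hom f = Z'.hom := Over.w z'
    change (z'.left ≫ (pullbackSymmetry G.hom f).hom) ≫ pullback.fst f G.hom = Z'.hom
    rw [Category.assoc, pullbackSymmetry_hom_comp_fst, this])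
  comm T i j x₀ x₁ h v w hw := by
    change (Desc.canMapFam (fun _ : PUnit.{u + 1} => f) G (i := i) (j := j) x₀ x₁ h w).1 =
      ((tr f G Z' z' hT x₀ x₁ h v).1 ≫
        (z'.left ≫ (pullbackSymmetry G.hom f).hom) : T ⟶ pullback f G.hom)
    have hw' : w.1 = v.1 ≫ z'.left ≫ (pullbackSymmetry G.hom f).hom := hw
    rw [Desc.canMapFam_val]
    apply pullback.hom_ext
    · rw [pullback.lift_fst]
      have : z'.left ≫ pullback.snd G.hom f = Z'.hom := Over.w z'
      simp only [Category.assoc, pullbackSymmetry_hom_comp_fst]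
      rw [this]
      exact (tr f G Z' z' hT x₀ x₁ h v).2.symm
    · rw [pullback.lift_snd, hw']
      simp only [Category.assoc, pullbackSymmetry_hom_comp_snd]
      exact (tr_spec f G Z' z' hT x₀ x₁ h v).symm


variable [Flat f] [Surjective f]
  (hcov : ∀ V : S.Opens, IsAffineOpen V →
      ∃ W : S'.Opens, IsCompact (W : Set S') ∧ f.base '' (W : Set S') = (V : Set S))
  (hMT : SGA3x.IsMultTypeFT Z')

include hcov hMT hT in
theorem exists_descent : ∃ (Z₀ : Over S) (z : Z₀ ⟶ G) (e : Red.bc f Z₀ ≅ Z'),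
    e.hom ≫ z' = (Over.pullback f).map z := by
  have hf := RC.mem_fpqc_of_cov f hcov
  have hAff : IsAffineHom Z'.hom := MTGlueB.isAffineHom_of_locTriv Z' _ hMT
  have heff := DescMain.isEffective_of_isAffineHom (fun _ : PUnit.{u + 1} => f) hf
    (dd f G Z' z' hT) (fun _ => hAff)
  obtain ⟨Z₀, ⟨ε⟩⟩ := heff
  haveI := DescFF.full_toDDFam (fun _ : PUnit.{u + 1} => f) hf
  obtain ⟨z, hz⟩ := (Desc.toDDFam (fun _ : PUnit.{u + 1} => f)).map_surjective
    (ε.hom ≫ ζ f G Z' z' hT)
  -- the component isomorphism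
  let c : Over.mk (pullback.fst f Z₀.hom) ≅ Z' :=
    { hom := ε.hom.hom PUnit.unit
      inv := ε.inv.hom PUnit.unit
      hom_inv_id := by
        have := congrArg (fun a : (Desc.toDDFam (fun _ : PUnit.{u + 1} => f)).obj Z₀ ⟶ _ =>
          a.hom PUnit.unit) ε.hom_inv_id
        exact this
      inv_hom_id := by
        have := congrArg (fun a : dd f G Z' z' hT ⟶ _ => a.hom PUnit.unit) ε.inv_hom_id
        exact this }
  let sw : Red.bc f Z₀ ≅ Over.mk (pullback.fst f Z₀.hom) :=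
    Over.isoMk (pullbackSymmetry Z₀.hom f) (by simp)
  refine ⟨Z₀, z, sw ≪≫ c, ?_⟩
  apply Over.OverMorphism.ext
  have h1 := congrArg (fun a : (Desc.toDDFam (fun _ : PUnit.{u + 1} => f)).obj Z₀ ⟶ _ =>
    (a.hom PUnit.unit).left) hz
  have h2 : (ε.hom.hom PUnit.unit).left ≫ z'.left ≫ (pullbackSymmetry G.hom f).hom =
      pullback.map f Z₀.hom f G.hom (𝟙 _) z.left (𝟙 S) (by simp) (by simp) := h1.symm
  have h3 : (ε.hom.hom PUnit.unit).left ≫ z'.left =
      pullback.map f Z₀.hom f G.hom (𝟙 _) z.left (𝟙 S) (by simp) (by simp) ≫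
        (pullbackSymmetry G.hom f).inv := by
    rw [← h2]; simp
  change (pullbackSymmetry Z₀.hom f).hom ≫ (ε.hom.hom PUnit.unit).left ≫ z'.left =
    ((Over.pullback f).map z).left
  rw [h3]
  apply pullback.hom_ext
  · rw [MTDescent.pullback_map_left_fst]
    simp
  · have : ((Over.pullback f).map z).left ≫ pullback.snd G.hom f = pullback.snd Z₀.hom f :=
      Over.w ((Over.pullback f).map z)
    rw [this]
    simp


end DD

section imm

theorem isImmersion_of_isCov {Z Y T : Scheme.{u}} {q : Z ⟶ Y} (hq : IsCov q) (h : T ⟶ Y)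
    (hP : IsImmersion (pullback.snd h q)) (hP2 : QuasiCompact (pullback.snd h q)) :
    IsImmersion h :=
  (descends_of_isCov (@IsImmersion ⊓ @QuasiCompact) hq h ⟨hP, hP2⟩).1

theorem isImmersion_desc {S S' : Scheme.{u}} (π : S' ⟶ S) (hπ : IsCov π) (G Z₀ : Over S)
    (z : Z₀ ⟶ G) (Z' : Over S') (z' : Z' ⟶ Red.bc π G) (e : Red.bc π Z₀ ≅ Z')
    (he : e.hom ≫ z' = (Over.pullback π).map z)
    [IsImmersion z'.left] [QuasiCompact z'.left] : IsImmersion z.left := by
  have sq := Groth.Agent.Lib.Helper4.KummerSeq.isPullback_pullback_map π z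
  have hmap : ((Over.pullback π).map z).left = e.hom.left ≫ z'.left := by
    rw [← Over.comp_left, he]
  haveI : IsIso e.hom.left := (Over.forget _).map_isIso e.hom
  have h1 : IsImmersion ((Over.pullback π).map z).left := by rw [hmap]; infer_instance
  have h2 : QuasiCompact ((Over.pullback π).map z).left := by rw [hmap]; infer_instance
  have hcov : IsCov (pullback.fst G.hom π) := by
    have := hπ.baseChange G.hom
    have e2 : pullback.fst G.hom π = (pullbackSymmetry G.hom π).hom ≫ pullback.snd π G.hom := by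
      simp
    rw [e2]
    exact IsCov.comp (isCov_of_isIso _) this
  have h3 : pullback.snd z.left (pullback.fst G.hom π) =
      sq.isoPullback.inv ≫ ((Over.pullback π).map z).left := by
    rw [IsPullback.isoPullback_inv_snd]
  apply isImmersion_of_isCov hcov z.left
  · rw [h3]; infer_instance
  · rw [h3]; infer_instance

end imm

end Groth.Agent.Lib.Helper14.KL6
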