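import Groth.Agent.Lib.Helper14.Buchberger
import Groth.Prelude.Def_W4c1bouilletffgsL3

/-! Machine-generated Gröbner basis certificate (lex order, variables evghibwuc). -/

namespace Groth.Agent.Lib.Helper14.Lie3GBw

open MvPolynomial Groth.Agent.Lib.Helper14.Buchberger

set_option linter.unusedSimpArgs false
set_option linter.unusedTactic false
set_option linter.unreachableTactic false

variable (A : Type*) [CommRing A]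

/-- Gröbner basis element 0. -/
noncomputable def g0 : MvPolynomial (Fin 9) A := X 0 * X 2 * X 8 - X 0 * X 4 ^ 2 - X 1 * X 3 * X 7 + X 2 * X 5 ^ 2 + X 3 ^ 2 * X 8 - 2 * X 3 * X 4 * X 5 + X 3 * X 6 * X 8 - X 4 * X 5 * X 6
/-- Gröbner basis element 1. -/
noncomputable def g1 : MvPolynomial (Fin 9) A := X 0 * X 7 + X 1 * X 3 - X 5 * X 6
/-- Gröbner basis element 2. -/
noncomputable def g2 : MvPolynomial (Fin 9) A := X 1 * X 2 - X 3 * X 7 - X 4 * X 6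
/-- Gröbner basis element 3. -/
noncomputable def g3 : MvPolynomial (Fin 9) A := X 1 * X 4 + X 1 * X 7 - X 5 * X 7 - X 6 * X 8
/-- Gröbner basis element 4. -/
noncomputable def g4 : MvPolynomial (Fin 9) A := X 2 * X 5 * X 7 + X 2 * X 6 * X 8 - X 3 * X 4 * X 7 - X 3 * X 7 ^ 2 - X 4 ^ 2 * X 6 - X 4 * X 6 * X 7

/-- The Gröbner basis. -/
noncomputable def G : Fin 5 → MvPolynomial (Fin 9) A := ![g0 A, g1 A, g2 A, g3 A, g4 A]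

/-- leading exponent vectors -/
def lmv : Fin 5 → Fin 9 → ℕ := ![![1,0,1,0,0,0,0,0,1], ![1,0,0,0,0,0,0,1,0], ![0,1,1,0,0,0,0,0,0], ![0,1,0,0,1,0,0,0,0], ![0,0,1,0,0,1,0,1,0]]

/-- tails -/
def tail : Fin 5 → List (ℤ × (Fin 9 → ℕ)) := ![[(-1, ![1,0,0,0,2,0,0,0,0]), (-1, ![0,1,0,1,0,0,0,1,0]), (1, ![0,0,1,0,0,2,0,0,0]), (1, ![0,0,0,2,0,0,0,0,1]), (-2, ![0,0,0,1,1,1,0,0,0]), (1, ![0,0,0,1,0,0,1,0,1]), (-1, ![0,0,0,0,1,1,1,0,0])],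
  [(1, ![0,1,0,1,0,0,0,0,0]), (-1, ![0,0,0,0,0,1,1,0,0])],
  [(-1, ![0,0,0,1,0,0,0,1,0]), (-1, ![0,0,0,0,1,0,1,0,0])],
  [(1, ![0,1,0,0,0,0,0,1,0]), (-1, ![0,0,0,0,0,1,0,1,0]), (-1, ![0,0,0,0,0,0,1,0,1])],
  [(1, ![0,0,1,0,0,0,1,0,1]), (-1, ![0,0,0,1,1,0,0,1,0]), (-1, ![0,0,0,1,0,0,0,2,0]), (-1, ![0,0,0,0,2,0,1,0,0]), (-1, ![0,0,0,0,1,0,1,1,0])]]

def gam : Fin 5 → Fin 5 → Fin 9 → ℕ := ![![![0,0,0,0,0,0,0,0,0], ![1,0,1,0,0,0,0,1,1], ![1,1,1,0,0,0,0,0,1], ![1,1,1,0,1,0,0,0,1], ![1,0,1,0,0,1,0,1,1]],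
  ![![0,0,0,0,0,0,0,0,0], ![0,0,0,0,0,0,0,0,0], ![1,1,1,0,0,0,0,1,0], ![1,1,0,0,1,0,0,1,0], ![1,0,1,0,0,1,0,1,0]],
  ![![0,0,0,0,0,0,0,0,0], ![0,0,0,0,0,0,0,0,0], ![0,0,0,0,0,0,0,0,0], ![0,1,1,0,1,0,0,0,0], ![0,1,1,0,0,1,0,1,0]],
  ![![0,0,0,0,0,0,0,0,0], ![0,0,0,0,0,0,0,0,0], ![0,0,0,0,0,0,0,0,0], ![0,0,0,0,0,0,0,0,0], ![0,1,1,0,1,1,0,1,0]],
  ![![0,0,0,0,0,0,0,0,0], ![0,0,0,0,0,0,0,0,0], ![0,0,0,0,0,0,0,0,0], ![0,0,0,0,0,0,0,0,0], ![0,0,0,0,0,0,0,0,0]]]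

def mu1 : Fin 5 → Fin 5 → Fin 9 → ℕ := ![![![0,0,0,0,0,0,0,0,0], ![0,0,0,0,0,0,0,1,0], ![0,1,0,0,0,0,0,0,0], ![0,1,0,0,1,0,0,0,0], ![0,0,0,0,0,1,0,1,0]],
  ![![0,0,0,0,0,0,0,0,0], ![0,0,0,0,0,0,0,0,0], ![0,1,1,0,0,0,0,0,0], ![0,1,0,0,1,0,0,0,0], ![0,0,1,0,0,1,0,0,0]],
  ![![0,0,0,0,0,0,0,0,0], ![0,0,0,0,0,0,0,0,0], ![0,0,0,0,0,0,0,0,0], ![0,0,0,0,1,0,0,0,0], ![0,0,0,0,0,1,0,1,0]],
  ![![0,0,0,0,0,0,0,0,0], ![0,0,0,0,0,0,0,0,0], ![0,0,0,0,0,0,0,0,0], ![0,0,0,0,0,0,0,0,0], ![0,0,1,0,0,1,0,1,0]],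
  ![![0,0,0,0,0,0,0,0,0], ![0,0,0,0,0,0,0,0,0], ![0,0,0,0,0,0,0,0,0], ![0,0,0,0,0,0,0,0,0], ![0,0,0,0,0,0,0,0,0]]]

def mu2 : Fin 5 → Fin 5 → Fin 9 → ℕ := ![![![0,0,0,0,0,0,0,0,0], ![0,0,1,0,0,0,0,0,1], ![1,0,0,0,0,0,0,0,1], ![1,0,1,0,0,0,0,0,1], ![1,0,0,0,0,0,0,0,1]],
  ![![0,0,0,0,0,0,0,0,0], ![0,0,0,0,0,0,0,0,0], ![1,0,0,0,0,0,0,1,0], ![1,0,0,0,0,0,0,1,0], ![1,0,0,0,0,0,0,0,0]],
  ![![0,0,0,0,0,0,0,0,0], ![0,0,0,0,0,0,0,0,0], ![0,0,0,0,0,0,0,0,0], ![0,0,1,0,0,0,0,0,0], ![0,1,0,0,0,0,0,0,0]],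
  ![![0,0,0,0,0,0,0,0,0], ![0,0,0,0,0,0,0,0,0], ![0,0,0,0,0,0,0,0,0], ![0,0,0,0,0,0,0,0,0], ![0,1,0,0,1,0,0,0,0]],
  ![![0,0,0,0,0,0,0,0,0], ![0,0,0,0,0,0,0,0,0], ![0,0,0,0,0,0,0,0,0], ![0,0,0,0,0,0,0,0,0], ![0,0,0,0,0,0,0,0,0]]]

def cert : Fin 5 → Fin 5 → List (ℤ × (Fin 9 → ℕ) × Fin 5) := ![![[],
    [(-1, ![0,0,0,0,2,0,0,0,0], 1), (-1, ![0,0,0,1,0,0,0,0,1], 2), (1, ![0,0,0,1,1,0,0,0,0], 3), (-1, ![0,0,0,1,0,0,0,1,0], 3), (1, ![0,0,0,0,0,1,0,0,0], 4)],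
    [(-1, ![1,0,0,0,1,0,0,0,0], 3), (1, ![0,1,0,0,1,0,0,0,0], 1), (1, ![0,0,0,1,0,0,0,0,1], 1), (-1, ![0,0,0,0,1,1,0,0,0], 1), (-1, ![0,1,0,1,0,0,0,0,0], 3), (1, ![0,0,0,0,0,2,0,0,0], 2), (-1, ![0,0,0,1,0,1,0,0,0], 3)],
    [(-1, ![0,1,0,0,0,0,0,1,0], 0), (-1, ![1,0,0,0,2,0,0,0,0], 3), (1, ![0,0,0,0,0,1,0,1,0], 0), (1, ![0,0,0,0,0,0,1,0,1], 0), (-1, ![0,1,0,1,0,0,0,1,0], 3), (1, ![0,0,0,0,1,2,0,0,0], 2), (1, ![0,0,0,0,0,2,0,1,0], 2), (1, ![0,0,0,2,0,0,0,0,1], 3), (-2, ![0,0,0,1,1,1,0,0,0], 3), (1, ![0,0,0,1,0,0,1,0,1], 3), (-1, ![0,0,0,0,1,1,1,0,0], 3), (-1, ![0,0,0,0,0,2,0,0,0], 4)],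
    [(-1, ![0,0,0,0,0,0,1,0,1], 0), (1, ![0,0,0,1,1,0,0,0,1], 1), (1, ![0,0,0,1,0,0,0,1,1], 1), (-1, ![0,0,0,0,2,1,0,0,0], 1), (1, ![0,0,0,0,1,0,1,0,1], 1), (-1, ![0,0,0,2,0,0,0,0,1], 3), (1, ![0,0,0,1,1,1,0,0,0], 3), (-1, ![0,0,0,1,0,1,0,1,0], 3), (-1, ![0,0,0,1,0,0,1,0,1], 3), (1, ![0,0,0,0,0,2,0,0,0], 4)]],
  ![[],
    [],
    [(1, ![0,0,0,1,0,0,0,1,0], 1), (1, ![0,0,0,0,1,0,1,0,0], 1), (1, ![0,1,0,1,0,0,0,0,0], 2), (-1, ![0,0,0,0,0,1,1,0,0], 2)],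
    [(-1, ![0,1,0,0,0,0,0,1,0], 1), (1, ![0,0,0,0,0,1,0,1,0], 1), (1, ![0,0,0,0,0,0,1,0,1], 1), (1, ![0,1,0,1,0,0,0,0,0], 3), (-1, ![0,0,0,0,0,1,1,0,0], 3)],
    [(-1, ![0,0,0,0,0,0,1,0,0], 0), (1, ![0,0,0,1,1,0,0,0,0], 1), (1, ![0,0,0,1,0,0,0,1,0], 1), (1, ![0,0,0,0,1,0,1,0,0], 1), (1, ![0,0,0,1,0,1,0,0,0], 2), (-1, ![0,0,0,2,0,0,0,0,0], 3), (-1, ![0,0,0,1,0,0,1,0,0], 3)]],
  ![[],
    [],
    [],
    [(-1, ![0,0,0,0,0,0,0,1,0], 2), (1, ![0,0,0,0,0,0,0,0,0], 4)],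
    [(-1, ![0,0,0,0,0,0,1,0,1], 2), (1, ![0,0,0,1,0,0,0,1,0], 3), (1, ![0,0,0,0,1,0,1,0,0], 3)]],
  ![[],
    [],
    [],
    [],
    [(-1, ![0,0,0,0,1,0,1,0,1], 2), (1, ![0,0,0,0,0,1,0,2,0], 2), (1, ![0,0,0,1,1,0,0,1,0], 3), (1, ![0,0,0,0,2,0,1,0,0], 3), (-1, ![0,0,0,0,0,1,0,1,0], 4)]],
  ![[],
    [],
    [],
    [],
    []]]

set_option maxRecDepth 100000 in
lemma htail : ∀ i, ∀ t ∈ tail i, LexLt t.2 (lmv i) := by decide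

set_option maxRecDepth 100000 in
lemma hgam : ∀ i j, i < j → gam i j = lmv i ⊔ lmv j ∧ mu1 i j + lmv i = gam i j ∧ mu2 i j + lmv j = gam i j := by decide

set_option maxRecDepth 100000 in
lemma hcert : ∀ i j, i < j → ∀ t ∈ cert i j, LexLt (t.2.1 + lmv t.2.2) (gam i j) := by decide

lemma hG : ∀ i, G A i = mon (lmv i) + evalTerms (tail i) := by
  intro i
  fin_cases i <;>
  · simp [G, g0, g1, g2, g3, g4, lmv, tail, evalTerms, mon_eq_prod, Fin.prod_univ_succ]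
    try ring

set_option maxHeartbeats 1600000 in
lemma hid : ∀ i j, i < j → mon (mu1 i j) * G A i - mon (mu2 i j) * G A j =
    ((cert i j).map fun t => C (t.1 : A) * mon t.2.1 * G A t.2.2).sum := by
  intro i j hij
  fin_cases i <;> fin_cases j <;> first | (exfalso; revert hij; decide) | skip
  all_goals
    simp [G, g0, g1, g2, g3, g4, mu1, mu2, cert, mon_eq_prod, Fin.prod_univ_succ]
    try ring

theorem isGB : IsGB MonomialOrder.lex (fun i => vmon (lmv i)) (G A) :=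
  isGB_of_data lmv tail (G A) (hG A) htail gam mu1 mu2 cert hgam hcert (hid A)

lemma lmv_target : ∀ i, lmv i 6 = 0 := by decide

/-- coordinate change (old variables to new variables) -/
noncomputable def theta : MvPolynomial (Fin 9) A →ₐ[A] MvPolynomial (Fin 9) A :=
  aeval ![X 4 + X 7, X 5, X 8, -X 3 + X 6, X 0, X 1 - X 5, X 2, X 3, X 4]

/-- inverse coordinate change -/
noncomputable def theta' : MvPolynomial (Fin 9) A →ₐ[A] MvPolynomial (Fin 9) A :=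
  aeval ![X 4, X 1 + X 5, X 6, X 7, X 8, X 1, X 3 + X 7, X 0 - X 8, X 2]

lemma theta'_theta (x : MvPolynomial (Fin 9) A) : theta' A (theta A x) = x := by
  have : (theta' A).comp (theta A) = AlgHom.id A _ := by
    apply MvPolynomial.algHom_ext
    intro i
    fin_cases i <;> simp [theta, theta']
  exact AlgHom.congr_fun this x

lemma theta_theta' (x : MvPolynomial (Fin 9) A) : theta A (theta' A x) = x := by
  have : (theta A).comp (theta' A) = AlgHom.id A _ := by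
    apply MvPolynomial.algHom_ext
    intro i
    fin_cases i <;> simp [theta, theta']
  exact AlgHom.congr_fun this x

lemma theta_L1 : theta A (Lie3Mod.L1 A) = X 7 := by
  simp [theta, Lie3Mod.L1]

lemma theta_L2 : theta A (Lie3Mod.L2 A) = X 1 := by
  simp [theta, Lie3Mod.L2]

lemma theta_L3 : theta A (Lie3Mod.L3 A) = X 6 := by
  simp [theta, Lie3Mod.L3]


lemma theta_gen0 : theta A (Lie3Mod.Q1 A) = (-1) * g2 A := by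
  simp only [theta, Lie3Mod.Q1, Lie3Mod.Q2, Lie3Mod.Q3, Lie3Mod.detM, g0, g1, g2, g3, g4, map_add, map_sub, map_mul, map_neg, map_pow, aeval_X]
  simp
  try ring

lemma theta_gen1 : theta A (Lie3Mod.Q2 A) = (-1) * g1 A := by
  simp only [theta, Lie3Mod.Q1, Lie3Mod.Q2, Lie3Mod.Q3, Lie3Mod.detM, g0, g1, g2, g3, g4, map_add, map_sub, map_mul, map_neg, map_pow, aeval_X]
  simp
  try ring

lemma theta_gen2 : theta A (Lie3Mod.Q3 A) = (-1) * g3 A := by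
  simp only [theta, Lie3Mod.Q1, Lie3Mod.Q2, Lie3Mod.Q3, Lie3Mod.detM, g0, g1, g2, g3, g4, map_add, map_sub, map_mul, map_neg, map_pow, aeval_X]
  simp
  try ring

lemma theta_gen3 : theta A (Lie3Mod.detM A) = (-1) * g0 A + (X 5) * g2 A + (-X 3) * g3 A := by
  simp only [theta, Lie3Mod.Q1, Lie3Mod.Q2, Lie3Mod.Q3, Lie3Mod.detM, g0, g1, g2, g3, g4, map_add, map_sub, map_mul, map_neg, map_pow, aeval_X]
  simp
  try ring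

lemma theta_map_le : ∀ x ∈ ({Lie3Mod.Q1 A, Lie3Mod.Q2 A, Lie3Mod.Q3 A, Lie3Mod.detM A} : Set (MvPolynomial (Fin 9) A)),
    theta A x ∈ Ideal.span (Set.range (G A)) := by
  have hG : ∀ i, G A i ∈ Ideal.span (Set.range (G A)) := fun i => Ideal.subset_span ⟨i, rfl⟩
  have h0 : g0 A ∈ Ideal.span (Set.range (G A)) := hG 0
  have h1 : g1 A ∈ Ideal.span (Set.range (G A)) := hG 1
  have h2 : g2 A ∈ Ideal.span (Set.range (G A)) := hG 2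
  have h3 : g3 A ∈ Ideal.span (Set.range (G A)) := hG 3
  have h4 : g4 A ∈ Ideal.span (Set.range (G A)) := hG 4
  intro x hx
  simp only [Set.mem_insert_iff, Set.mem_singleton_iff] at hx
  rcases hx with rfl | rfl | rfl | rfl
  · rw [theta_gen0]
    exact (Ideal.mul_mem_left _ _ h2)
  · rw [theta_gen1]
    exact (Ideal.mul_mem_left _ _ h1)
  · rw [theta_gen2]
    exact (Ideal.mul_mem_left _ _ h3)
  · rw [theta_gen3]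
    exact (Ideal.add_mem _ (Ideal.add_mem _ (Ideal.mul_mem_left _ _ h0) (Ideal.mul_mem_left _ _ h2)) (Ideal.mul_mem_left _ _ h3))

lemma theta'_g0 : theta' A (g0 A) = (-X 1) * Lie3Mod.Q1 A + (X 7) * Lie3Mod.Q3 A + (-1) * Lie3Mod.detM A := by
  simp only [theta', Lie3Mod.Q1, Lie3Mod.Q2, Lie3Mod.Q3, Lie3Mod.detM, g0, map_add, map_sub, map_mul, map_neg, map_pow, aeval_X, map_ofNat]
  simp
  try ring

lemma theta'_g1 : theta' A (g1 A) = (-1) * Lie3Mod.Q2 A := by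
  simp only [theta', Lie3Mod.Q1, Lie3Mod.Q2, Lie3Mod.Q3, Lie3Mod.detM, g1, map_add, map_sub, map_mul, map_neg, map_pow, aeval_X, map_ofNat]
  simp
  try ring

lemma theta'_g2 : theta' A (g2 A) = (-1) * Lie3Mod.Q1 A := by
  simp only [theta', Lie3Mod.Q1, Lie3Mod.Q2, Lie3Mod.Q3, Lie3Mod.detM, g2, map_add, map_sub, map_mul, map_neg, map_pow, aeval_X, map_ofNat]
  simp
  try ring

lemma theta'_g3 : theta' A (g3 A) = (-1) * Lie3Mod.Q3 A := by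
  simp only [theta', Lie3Mod.Q1, Lie3Mod.Q2, Lie3Mod.Q3, Lie3Mod.detM, g3, map_add, map_sub, map_mul, map_neg, map_pow, aeval_X, map_ofNat]
  simp
  try ring

lemma theta'_g4 : theta' A (g4 A) = (-X 0) * Lie3Mod.Q1 A + (X 6) * Lie3Mod.Q3 A := by
  simp only [theta', Lie3Mod.Q1, Lie3Mod.Q2, Lie3Mod.Q3, Lie3Mod.detM, g4, map_add, map_sub, map_mul, map_neg, map_pow, aeval_X, map_ofNat]
  simp
  try ring

lemma theta'_map_le : ∀ i, theta' A (G A i) ∈ Lie3Mod.idJ A := by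
  have h1 : Lie3Mod.Q1 A ∈ Lie3Mod.idJ A := Ideal.subset_span (Set.mem_insert _ _)
  have h2 : Lie3Mod.Q2 A ∈ Lie3Mod.idJ A := Ideal.subset_span (Set.mem_insert_of_mem _ (Set.mem_insert _ _))
  have h3 : Lie3Mod.Q3 A ∈ Lie3Mod.idJ A := Ideal.subset_span (Set.mem_insert_of_mem _ (Set.mem_insert_of_mem _ (Set.mem_insert _ _)))
  have h4 : Lie3Mod.detM A ∈ Lie3Mod.idJ A := Ideal.subset_span (Set.mem_insert_of_mem _ (Set.mem_insert_of_mem _ (Set.mem_insert_of_mem _ (Set.mem_singleton _))))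
  intro i
  fin_cases i
  · show theta' A (g0 A) ∈ _
    rw [theta'_g0]
    exact (Ideal.add_mem _ (Ideal.add_mem _ (Ideal.mul_mem_left _ _ h1) (Ideal.mul_mem_left _ _ h3)) (Ideal.mul_mem_left _ _ h4))
  · show theta' A (g1 A) ∈ _
    rw [theta'_g1]
    exact (Ideal.mul_mem_left _ _ h2)
  · show theta' A (g2 A) ∈ _
    rw [theta'_g2]
    exact (Ideal.mul_mem_left _ _ h1)
  · show theta' A (g3 A) ∈ _
    rw [theta'_g3]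
    exact (Ideal.mul_mem_left _ _ h3)
  · show theta' A (g4 A) ∈ _
    rw [theta'_g4]
    exact (Ideal.add_mem _ (Ideal.mul_mem_left _ _ h1) (Ideal.mul_mem_left _ _ h3))

lemma mem_idJ_iff (x : MvPolynomial (Fin 9) A) :
    x ∈ Lie3Mod.idJ A ↔ theta A x ∈ Ideal.span (Set.range (G A)) := by
  constructor
  · intro hx
    have : Lie3Mod.idJ A ≤ (Ideal.span (Set.range (G A))).comap (theta A) := by
      rw [Lie3Mod.idJ, Ideal.span_le]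
      intro y hy
      exact theta_map_le A y hy
    exact this hx
  · intro hx
    have : Ideal.span (Set.range (G A)) ≤ (Lie3Mod.idJ A).comap (theta' A) := by
      rw [Ideal.span_le]
      rintro y ⟨i, rfl⟩
      exact theta'_map_le A i
    have h2 := this hx
    rw [Ideal.mem_comap, theta'_theta] at h2
    exact h2

end Groth.Agent.Lib.Helper14.Lie3GBw
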