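import Groth.Agent.Lib.Helper14.Lie3GBu
import Groth.Agent.Lib.Helper14.Lie3GBv
import Groth.Agent.Lib.Helper14.Lie3GBw
import Groth.Agent.Lib.Helper14.Lie3GBe

/-!
# The ideals `I`, `J`, `L` of the moduli of based three-dimensional Lie algebras
-/

namespace Groth.Agent.Lib.Helper14.Lie3

open MvPolynomial Lie3Mod Groth.Agent.Lib.Helper14.Buchberger

variable (A : Type*) [CommRing A]

/-! ## membership helpers -/

lemma Q1_mem_idI : Q1 A ∈ idI A := Ideal.subset_span (Set.mem_insert _ _)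
lemma Q2_mem_idI : Q2 A ∈ idI A :=
  Ideal.subset_span (Set.mem_insert_of_mem _ (Set.mem_insert _ _))
lemma Q3_mem_idI : Q3 A ∈ idI A :=
  Ideal.subset_span (Set.mem_insert_of_mem _ (Set.mem_insert_of_mem _ (Set.mem_singleton _)))

lemma L1_mem_idL : L1 A ∈ idL A := Ideal.subset_span (Set.mem_insert _ _)
lemma L2_mem_idL : L2 A ∈ idL A :=
  Ideal.subset_span (Set.mem_insert_of_mem _ (Set.mem_insert _ _))
lemma L3_mem_idL : L3 A ∈ idL A :=
  Ideal.subset_span (Set.mem_insert_of_mem _ (Set.mem_insert_of_mem _ (Set.mem_singleton _)))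

lemma Q1_mem_idJ : Q1 A ∈ idJ A := Ideal.subset_span (Set.mem_insert _ _)
lemma Q2_mem_idJ : Q2 A ∈ idJ A :=
  Ideal.subset_span (Set.mem_insert_of_mem _ (Set.mem_insert _ _))
lemma Q3_mem_idJ : Q3 A ∈ idJ A :=
  Ideal.subset_span (Set.mem_insert_of_mem _ (Set.mem_insert_of_mem _ (Set.mem_insert _ _)))
lemma detM_mem_idJ : detM A ∈ idJ A :=
  Ideal.subset_span (Set.mem_insert_of_mem _ (Set.mem_insert_of_mem _
    (Set.mem_insert_of_mem _ (Set.mem_singleton _))))

lemma idI_le_idJ : idI A ≤ idJ A := by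
  rw [idI, Ideal.span_le]
  intro x hx
  simp only [Set.mem_insert_iff, Set.mem_singleton_iff] at hx
  rcases hx with rfl | rfl | rfl
  · exact Q1_mem_idJ A
  · exact Q2_mem_idJ A
  · exact Q3_mem_idJ A

lemma Q1_eq : Q1 A = X 7 * L1 A - X 6 * L2 A + X 8 * L3 A := by
  simp only [Q1, L1, L2, L3]; ring
lemma Q2_eq : Q2 A = -X 4 * L1 A - X 7 * L2 A + X 1 * L3 A := by
  simp only [Q2, L1, L2, L3]; ring
lemma Q3_eq : Q3 A = -X 5 * L1 A - X 8 * L2 A + X 2 * L3 A := by
  simp only [Q3, L1, L2, L3]; ring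

lemma idI_le_idL : idI A ≤ idL A := by
  have h1 := L1_mem_idL A
  have h2 := L2_mem_idL A
  have h3 := L3_mem_idL A
  rw [idI, Ideal.span_le]
  intro x hx
  simp only [Set.mem_insert_iff, Set.mem_singleton_iff] at hx
  rcases hx with rfl | rfl | rfl
  · rw [Q1_eq]
    exact Ideal.add_mem _ (Ideal.sub_mem _ (Ideal.mul_mem_left _ _ h1) (Ideal.mul_mem_left _ _ h2))
      (Ideal.mul_mem_left _ _ h3)
  · rw [Q2_eq]
    exact Ideal.add_mem _ (Ideal.sub_mem _ (Ideal.mul_mem_left _ _ h1) (Ideal.mul_mem_left _ _ h2))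
      (Ideal.mul_mem_left _ _ h3)
  · rw [Q3_eq]
    exact Ideal.add_mem _ (Ideal.sub_mem _ (Ideal.mul_mem_left _ _ h1) (Ideal.mul_mem_left _ _ h2))
      (Ideal.mul_mem_left _ _ h3)

/-! ## adjugate identities -/

lemma detM_mul_L1 : detM A * L1 A =
    (-(X 7 * X 2) + X 1 * X 8) * Q1 A + (X 6 * X 2 - X 8 ^ 2) * Q2 A +
      (-(X 6 * X 1) + X 8 * X 7) * Q3 A := by
  simp only [detM, Q1, Q2, Q3, L1]; ring

lemma detM_mul_L2 : detM A * L2 A =
    (X 4 * X 2 - X 1 * X 5) * Q1 A + (X 7 * X 2 + X 8 * X 5) * Q2 A +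
      (-(X 7 * X 1) - X 8 * X 4) * Q3 A := by
  simp only [detM, Q1, Q2, Q3, L2]; ring

lemma detM_mul_L3 : detM A * L3 A =
    (X 4 * X 8 - X 7 * X 5) * Q1 A + (X 7 * X 8 + X 6 * X 5) * Q2 A +
      (-(X 7 ^ 2) - X 6 * X 4) * Q3 A := by
  simp only [detM, Q1, Q2, Q3, L3]; ring

lemma mem3 {x c1 c2 c3 : D A} (h : x = c1 * Q1 A + c2 * Q2 A + c3 * Q3 A) : x ∈ idI A := by
  rw [h]
  exact Ideal.add_mem _ (Ideal.add_mem _ (Ideal.mul_mem_left _ _ (Q1_mem_idI A))
    (Ideal.mul_mem_left _ _ (Q2_mem_idI A))) (Ideal.mul_mem_left _ _ (Q3_mem_idI A))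

lemma detM_mul_L1_mem : detM A * L1 A ∈ idI A := mem3 A (detM_mul_L1 A)
lemma detM_mul_L2_mem : detM A * L2 A ∈ idI A := mem3 A (detM_mul_L2 A)
lemma detM_mul_L3_mem : detM A * L3 A ∈ idI A := mem3 A (detM_mul_L3 A)

/-- `L * det M ⊆ I`. -/
lemma mul_detM_mem_of_mem_idL {t : D A} (ht : t ∈ idL A) : t * detM A ∈ idI A := by
  rw [idL] at ht
  induction ht using Submodule.span_induction with
  | mem x hx =>
    simp only [Set.mem_insert_iff, Set.mem_singleton_iff] at hx
    rcases hx with rfl | rfl | rfl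
    · rw [mul_comm]; exact detM_mul_L1_mem A
    · rw [mul_comm]; exact detM_mul_L2_mem A
    · rw [mul_comm]; exact detM_mul_L3_mem A
  | zero => simp
  | add x y _ _ hx hy => rw [add_mul]; exact Ideal.add_mem _ hx hy
  | smul c x _ hx => rw [smul_eq_mul, mul_assoc]; exact Ideal.mul_mem_left _ _ hx

/-- `L * J ⊆ I`. -/
lemma mul_mem_idI {t p : D A} (ht : t ∈ idL A) (hp : p ∈ idJ A) : t * p ∈ idI A := by
  rw [idJ] at hp
  induction hp using Submodule.span_induction with
  | mem x hx =>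
    simp only [Set.mem_insert_iff, Set.mem_singleton_iff] at hx
    rcases hx with rfl | rfl | rfl | rfl
    · exact Ideal.mul_mem_left _ _ (Q1_mem_idI A)
    · exact Ideal.mul_mem_left _ _ (Q2_mem_idI A)
    · exact Ideal.mul_mem_left _ _ (Q3_mem_idI A)
    · exact mul_detM_mem_of_mem_idL A ht
  | zero => simp
  | add x y _ _ hx hy => rw [mul_add]; exact Ideal.add_mem _ hx hy
  | smul c x _ hx =>
    rw [smul_eq_mul, mul_left_comm]; exact Ideal.mul_mem_left _ _ hx

/-- Every element of `J` is an element of `I` plus a multiple of `det M`. -/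
lemma exists_of_mem_idJ {x : D A} (hx : x ∈ idJ A) : ∃ y ∈ idI A, ∃ t, x = y + t * detM A := by
  rw [idJ] at hx
  induction hx using Submodule.span_induction with
  | mem x hx =>
    simp only [Set.mem_insert_iff, Set.mem_singleton_iff] at hx
    rcases hx with rfl | rfl | rfl | rfl
    · exact ⟨_, Q1_mem_idI A, 0, by simp⟩
    · exact ⟨_, Q2_mem_idI A, 0, by simp⟩
    · exact ⟨_, Q3_mem_idI A, 0, by simp⟩
    · exact ⟨0, zero_mem _, 1, by simp⟩
  | zero => exact ⟨0, zero_mem _, 0, by simp⟩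
  | add x y _ _ hx hy =>
    obtain ⟨y1, h1, t1, rfl⟩ := hx
    obtain ⟨y2, h2, t2, rfl⟩ := hy
    exact ⟨y1 + y2, add_mem h1 h2, t1 + t2, by ring⟩
  | smul c x _ hx =>
    obtain ⟨y1, h1, t1, rfl⟩ := hx
    exact ⟨c * y1, Ideal.mul_mem_left _ _ h1, c * t1, by rw [smul_eq_mul]; ring⟩

/-! ## The retraction onto `D/L` -/

/-- substitution `a ↦ i, f ↦ -b, h ↦ -d`. -/
noncomputable def phi : D A →ₐ[A] D A :=
  aeval ![X 8, X 1, X 2, X 3, X 4, -X 1, X 6, -X 3, X 8]

lemma phi_L1 : phi A (L1 A) = 0 := by simp [phi, L1]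
lemma phi_L2 : phi A (L2 A) = 0 := by simp [phi, L2]
lemma phi_L3 : phi A (L3 A) = 0 := by simp [phi, L3]

lemma sub_phi_mem (x : D A) : x - phi A x ∈ idL A := by
  induction x using MvPolynomial.induction_on with
  | C a => simp [phi]
  | add p q hp hq =>
    have : p + q - phi A (p + q) = (p - phi A p) + (q - phi A q) := by rw [map_add]; ring
    rw [this]; exact add_mem hp hq
  | mul_X p i hp =>
    have : p * X i - phi A (p * X i) = (p - phi A p) * X i + phi A p * (X i - phi A (X i)) := by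
      rw [map_mul]; ring
    rw [this]
    refine add_mem (Ideal.mul_mem_right _ _ hp) (Ideal.mul_mem_left _ _ ?_)
    fin_cases i
    · have : (X 0 : D A) - phi A (X 0) = L1 A := by simp [phi, L1]
      rw [show ((⟨0, by omega⟩ : Fin 9)) = 0 from rfl, this]; exact L1_mem_idL A
    · have : (X 1 : D A) - phi A (X 1) = 0 := by simp [phi]
      rw [show ((⟨1, by omega⟩ : Fin 9)) = 1 from rfl, this]; exact zero_mem _
    · have : (X 2 : D A) - phi A (X 2) = 0 := by simp [phi]
      rw [show ((⟨2, by omega⟩ : Fin 9)) = 2 from rfl, this]; exact zero_mem _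
    · have : (X 3 : D A) - phi A (X 3) = 0 := by simp [phi]
      rw [show ((⟨3, by omega⟩ : Fin 9)) = 3 from rfl, this]; exact zero_mem _
    · have : (X 4 : D A) - phi A (X 4) = 0 := by simp [phi]
      rw [show ((⟨4, by omega⟩ : Fin 9)) = 4 from rfl, this]; exact zero_mem _
    · have : (X 5 : D A) - phi A (X 5) = L2 A := by simp [phi, L2]; ring
      rw [show ((⟨5, by omega⟩ : Fin 9)) = 5 from rfl, this]; exact L2_mem_idL A
    · have : (X 6 : D A) - phi A (X 6) = 0 := by simp [phi]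
      rw [show ((⟨6, by omega⟩ : Fin 9)) = 6 from rfl, this]; exact zero_mem _
    · have : (X 7 : D A) - phi A (X 7) = L3 A := by simp [phi, L3]; ring
      rw [show ((⟨7, by omega⟩ : Fin 9)) = 7 from rfl, this]; exact L3_mem_idL A
    · have : (X 8 : D A) - phi A (X 8) = 0 := by simp [phi]
      rw [show ((⟨8, by omega⟩ : Fin 9)) = 8 from rfl, this]; exact zero_mem _

lemma phi_eq_zero_of_mem {x : D A} (hx : x ∈ idL A) : phi A x = 0 := by
  have : idL A ≤ RingHom.ker (phi A).toRingHom := by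
    rw [idL, Ideal.span_le]
    intro y hy
    simp only [Set.mem_insert_iff, Set.mem_singleton_iff] at hy
    rcases hy with rfl | rfl | rfl
    · exact phi_L1 A
    · exact phi_L2 A
    · exact phi_L3 A
  exact this hx

lemma mem_idL_iff (x : D A) : x ∈ idL A ↔ phi A x = 0 := by
  refine ⟨phi_eq_zero_of_mem A, fun h => ?_⟩
  have := sub_phi_mem A x
  rwa [h, sub_zero] at this

/-- `-φ(det M)`, monic for the lexicographic order. -/
noncomputable def delta0 : D A :=
  X 1 ^ 2 * X 6 + 2 * X 1 * X 3 * X 8 + X 2 * X 3 ^ 2 + X 2 * X 4 * X 6 - X 4 * X 8 ^ 2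

lemma phi_detM : phi A (detM A) = - delta0 A := by
  simp only [phi, detM, delta0, map_add, map_sub, map_mul, map_neg, map_pow, aeval_X]
  simp
  ring

lemma delta0_mem_nonZeroDivisors [Nontrivial A] : delta0 A ∈ nonZeroDivisors (D A) := by
  apply mem_nonZeroDivisors_of_data ![0,2,0,0,0,0,1,0,0]
    [(2, ![0,1,0,1,0,0,0,0,1]), (1, ![0,0,1,2,0,0,0,0,0]), (1, ![0,0,1,0,1,0,1,0,0]),
      (-1, ![0,0,0,0,1,0,0,0,2])]
  · simp [delta0, evalTerms, mon_eq_prod, Fin.prod_univ_succ]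
    ring
  · decide

/-- `det M` is a nonzerodivisor modulo `L`. -/
theorem mem_idL_of_mul_detM_mem {x : D A} (h : x * detM A ∈ idL A) : x ∈ idL A := by
  rcases subsingleton_or_nontrivial A with hA | hA
  · have : Subsingleton (D A) := inferInstance
    rw [Subsingleton.elim x 0]; exact zero_mem _
  rw [mem_idL_iff] at h ⊢
  rw [map_mul, phi_detM, mul_neg, neg_eq_zero] at h
  exact (mul_right_mem_nonZeroDivisors_eq_zero_iff (delta0_mem_nonZeroDivisors A)).mp h

lemma detM_notMem_idL [Nontrivial A] : detM A ∉ idL A := by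
  intro h
  have h1 : (1 : D A) * detM A ∈ idL A := by rwa [one_mul]
  have h2 := mem_idL_of_mul_detM_mem A h1
  rw [mem_idL_iff, map_one] at h2
  exact one_ne_zero h2

/-! ## Nonzerodivisors modulo `J` -/

theorem mem_idJ_of_L1_mul_mem {x : D A} (h : L1 A * x ∈ idJ A) : x ∈ idJ A := by
  rcases subsingleton_or_nontrivial A with hA | hA
  · have : Subsingleton (D A) := inferInstance
    rw [Subsingleton.elim x 0]; exact zero_mem _
  rw [Lie3GBu.mem_idJ_iff] at h ⊢
  rw [map_mul, Lie3GBu.theta_L1] at h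
  exact (Lie3GBu.isGB A).mem_of_X_mul_mem 8 (fun i => by
    simpa using Lie3GBu.lmv_target i) h

theorem mem_idJ_of_L2_mul_mem {x : D A} (h : L2 A * x ∈ idJ A) : x ∈ idJ A := by
  rcases subsingleton_or_nontrivial A with hA | hA
  · have : Subsingleton (D A) := inferInstance
    rw [Subsingleton.elim x 0]; exact zero_mem _
  rw [Lie3GBv.mem_idJ_iff] at h ⊢
  rw [map_mul, Lie3GBv.theta_L2] at h
  exact (Lie3GBv.isGB A).mem_of_X_mul_mem 8 (fun i => by
    simpa using Lie3GBv.lmv_target i) h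

theorem mem_idJ_of_L3_mul_mem {x : D A} (h : L3 A * x ∈ idJ A) : x ∈ idJ A := by
  rcases subsingleton_or_nontrivial A with hA | hA
  · have : Subsingleton (D A) := inferInstance
    rw [Subsingleton.elim x 0]; exact zero_mem _
  rw [Lie3GBw.mem_idJ_iff] at h ⊢
  rw [map_mul, Lie3GBw.theta_L3] at h
  exact (Lie3GBw.isGB A).mem_of_X_mul_mem 6 (fun i => by
    simpa using Lie3GBw.lmv_target i) h

theorem mem_idJ_of_smul_mem (a : A) (ha : ∀ b : A, a * b = 0 → b = 0) {x : D A}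
    (h : a • x ∈ idJ A) : x ∈ idJ A := by
  rcases subsingleton_or_nontrivial A with hA | hA
  · have : Subsingleton (D A) := inferInstance
    rw [Subsingleton.elim x 0]; exact zero_mem _
  rw [Lie3GBe.mem_idJ_iff] at h ⊢
  rw [map_smul] at h
  exact (Lie3GBe.isGB A).mem_of_smul_mem a ha h

end Groth.Agent.Lib.Helper14.Lie3
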