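import Groth.Agent.Lib.Helper14.Lie3Basic

/-!
# Primality of the ideal `J` over a domain
-/

namespace Groth.Agent.Lib.Helper14.Lie3

open MvPolynomial Lie3Mod Groth.Agent.Lib.Helper14.Buchberger

variable (A : Type*) [CommRing A]

/-- The ideal `J` in the elimination coordinates. -/
noncomputable abbrev J' : Ideal (MvPolynomial (Fin 9) A) := Ideal.span (Set.range (Lie3GBe.G A))

/-- The ideal `I` in the elimination coordinates. -/
noncomputable abbrev I' : Ideal (MvPolynomial (Fin 9) A) :=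
  Ideal.span {Lie3GBe.g1 A, Lie3GBe.g2 A, Lie3GBe.g3 A}

lemma I'_le_J' : I' A ≤ J' A := by
  rw [Ideal.span_le]
  intro x hx
  simp only [Set.mem_insert_iff, Set.mem_singleton_iff] at hx
  rcases hx with rfl | rfl | rfl
  · exact Ideal.subset_span ⟨1, rfl⟩
  · exact Ideal.subset_span ⟨2, rfl⟩
  · exact Ideal.subset_span ⟨3, rfl⟩

lemma g1_mem : Lie3GBe.g1 A ∈ I' A := Ideal.subset_span (Set.mem_insert _ _)
lemma g2_mem : Lie3GBe.g2 A ∈ I' A :=
  Ideal.subset_span (Set.mem_insert_of_mem _ (Set.mem_insert _ _))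
lemma g3_mem : Lie3GBe.g3 A ∈ I' A :=
  Ideal.subset_span (Set.mem_insert_of_mem _ (Set.mem_insert_of_mem _ (Set.mem_singleton _)))

/-- the free variables -/
def RS : Set (Fin 9) := {3, 4, 5, 6, 7, 8}

/-- the product `u v w`. -/
noncomputable def sE : MvPolynomial (Fin 9) A := X 6 * X 7 * X 8

lemma X_mem_R {k : Fin 9} (hk : k ∈ RS) : (X k : MvPolynomial (Fin 9) A) ∈ supported A RS := by
  rw [supported_eq_adjoin_X]
  exact Algebra.subset_adjoin ⟨k, hk, rfl⟩

lemma sE_mem : sE A ∈ supported A RS := by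
  unfold sE
  exact mul_mem (mul_mem (X_mem_R A (by simp [RS])) (X_mem_R A (by simp [RS])))
    (X_mem_R A (by simp [RS]))

/-- Normal form up to a power of `u v w`. -/
theorem exists_normal (x : MvPolynomial (Fin 9) A) :
    ∃ n : ℕ, ∃ r ∈ supported A RS, sE A ^ n * x - r ∈ I' A := by
  have key : ∀ (p : MvPolynomial (Fin 9) A) (k : Fin 9)
      (cof t g : MvPolynomial (Fin 9) A), cof ∈ supported A RS → t ∈ supported A RS →
      g ∈ I' A → sE A * X k = cof * (g + t) →
      (∃ n : ℕ, ∃ r ∈ supported A RS, sE A ^ n * p - r ∈ I' A) →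
      ∃ n : ℕ, ∃ r ∈ supported A RS, sE A ^ n * (p * X k) - r ∈ I' A := by
    intro p k cof t g hcof ht hg hk ⟨n, r, hr, hn⟩
    refine ⟨n + 1, r * (cof * t), mul_mem hr (mul_mem hcof ht), ?_⟩
    have : sE A ^ (n + 1) * (p * X k) - r * (cof * t) =
        (sE A ^ n * p - r) * (cof * t) + sE A ^ n * p * cof * g := by
      have : sE A ^ (n + 1) * (p * X k) = sE A ^ n * p * (sE A * X k) := by ring
      rw [this, hk]; ring
    rw [this]
    exact add_mem (Ideal.mul_mem_right _ _ hn) (Ideal.mul_mem_left _ _ hg)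
  induction x using MvPolynomial.induction_on with
  | C a =>
    exact ⟨0, C a, (supported A RS).algebraMap_mem a, by simp⟩
  | add p q hp hq =>
    obtain ⟨n, r, hr, hn⟩ := hp
    obtain ⟨m, r', hr', hm⟩ := hq
    refine ⟨n + m, sE A ^ m * r + sE A ^ n * r',
      add_mem (mul_mem (pow_mem (sE_mem A) _) hr) (mul_mem (pow_mem (sE_mem A) _) hr'), ?_⟩
    have : sE A ^ (n + m) * (p + q) - (sE A ^ m * r + sE A ^ n * r') =
        sE A ^ m * (sE A ^ n * p - r) + sE A ^ n * (sE A ^ m * q - r') := by ring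
    rw [this]
    exact add_mem (Ideal.mul_mem_left _ _ hn) (Ideal.mul_mem_left _ _ hm)
  | mul_X p k hp =>
    by_cases hk : k ∈ RS
    · obtain ⟨n, r, hr, hn⟩ := hp
      refine ⟨n, r * X k, mul_mem hr (X_mem_R A hk), ?_⟩
      have : sE A ^ n * (p * X k) - r * X k = (sE A ^ n * p - r) * X k := by ring
      rw [this]
      exact Ideal.mul_mem_right _ _ hn
    · have hk' : k = 0 ∨ k = 1 ∨ k = 2 := by
        fin_cases k <;> simp [RS] at hk ⊢
      rcases hk' with rfl | rfl | rfl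
      · refine key p 0 (X 6 * X 7) (-(X 3 * X 6) + X 5 * X 7 + X 6 * X 7) (Lie3GBe.g1 A)
          (mul_mem (X_mem_R A (by simp [RS])) (X_mem_R A (by simp [RS]))) ?_ (g1_mem A) ?_ hp
        · exact add_mem (add_mem (neg_mem (mul_mem (X_mem_R A (by simp [RS]))
            (X_mem_R A (by simp [RS])))) (mul_mem (X_mem_R A (by simp [RS]))
            (X_mem_R A (by simp [RS])))) (mul_mem (X_mem_R A (by simp [RS]))
            (X_mem_R A (by simp [RS])))
        · simp only [sE, Lie3GBe.g1]; ring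
      · refine key p 1 (X 7 * X 8) (X 3 * X 8 - X 4 * X 7) (Lie3GBe.g2 A)
          (mul_mem (X_mem_R A (by simp [RS])) (X_mem_R A (by simp [RS]))) ?_ (g2_mem A) ?_ hp
        · exact sub_mem (mul_mem (X_mem_R A (by simp [RS])) (X_mem_R A (by simp [RS])))
            (mul_mem (X_mem_R A (by simp [RS])) (X_mem_R A (by simp [RS])))
        · simp only [sE, Lie3GBe.g2]; ring
      · refine key p 2 (X 6 * X 8) (X 4 * X 6 + X 5 * X 8) (Lie3GBe.g3 A)
          (mul_mem (X_mem_R A (by simp [RS])) (X_mem_R A (by simp [RS]))) ?_ (g3_mem A) ?_ hp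
        · exact add_mem (mul_mem (X_mem_R A (by simp [RS])) (X_mem_R A (by simp [RS])))
            (mul_mem (X_mem_R A (by simp [RS])) (X_mem_R A (by simp [RS])))
        · simp only [sE, Lie3GBe.g3]; ring

lemma lmv_elim : ∀ i, ∃ x ∈ ({0, 1, 2} : Set (Fin 9)), vmon (Lie3GBe.lmv i) x ≠ 0 := by
  intro i
  fin_cases i
  · exact ⟨0, by simp, by simp [Lie3GBe.lmv]⟩
  · exact ⟨0, by simp, by simp [Lie3GBe.lmv]⟩
  · exact ⟨1, by simp, by simp [Lie3GBe.lmv]⟩
  · exact ⟨2, by simp, by simp [Lie3GBe.lmv]⟩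

/-- Elimination: `J' ∩ A[b,h,i,u,v,w] = 0`. -/
theorem eq_zero_of_mem_J'_of_supported {f : MvPolynomial (Fin 9) A} (hf : f ∈ J' A)
    (hs : f ∈ supported A RS) : f = 0 := by
  apply (Lie3GBe.isGB A).eq_zero_of_support_avoid {0, 1, 2} (lmv_elim) hf
  intro β hβ x hx
  by_contra hne
  have hxv : x ∈ f.vars := by
    rw [MvPolynomial.mem_vars_iff_mem_support]
    exact ⟨β, hβ, Finsupp.mem_support_iff.mpr hne⟩
  have hxS : x ∈ RS := (MvPolynomial.mem_supported.mp hs) hxv
  simp only [Set.mem_insert_iff, Set.mem_singleton_iff] at hx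
  rcases hx with rfl | rfl | rfl <;> simp [RS] at hxS

/-- transport of nonzerodivisors to the elimination coordinates -/
lemma mem_J'_of_X6_mul {y : MvPolynomial (Fin 9) A} (h : X 6 * y ∈ J' A) : y ∈ J' A := by
  have h1 : L1 A * Lie3GBe.theta' A y ∈ idJ A := by
    rw [Lie3GBe.mem_idJ_iff, map_mul, Lie3GBe.theta_L1, Lie3GBe.theta_theta']
    exact h
  have h2 := mem_idJ_of_L1_mul_mem A h1
  rw [Lie3GBe.mem_idJ_iff, Lie3GBe.theta_theta'] at h2
  exact h2

lemma mem_J'_of_X7_mul {y : MvPolynomial (Fin 9) A} (h : X 7 * y ∈ J' A) : y ∈ J' A := by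
  have h1 : L2 A * Lie3GBe.theta' A y ∈ idJ A := by
    rw [Lie3GBe.mem_idJ_iff, map_mul, Lie3GBe.theta_L2, Lie3GBe.theta_theta']
    exact h
  have h2 := mem_idJ_of_L2_mul_mem A h1
  rw [Lie3GBe.mem_idJ_iff, Lie3GBe.theta_theta'] at h2
  exact h2

lemma mem_J'_of_X8_mul {y : MvPolynomial (Fin 9) A} (h : X 8 * y ∈ J' A) : y ∈ J' A := by
  have h1 : L3 A * Lie3GBe.theta' A y ∈ idJ A := by
    rw [Lie3GBe.mem_idJ_iff, map_mul, Lie3GBe.theta_L3, Lie3GBe.theta_theta']
    exact h
  have h2 := mem_idJ_of_L3_mul_mem A h1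
  rw [Lie3GBe.mem_idJ_iff, Lie3GBe.theta_theta'] at h2
  exact h2

lemma mem_J'_of_sE_mul {y : MvPolynomial (Fin 9) A} (h : sE A * y ∈ J' A) : y ∈ J' A := by
  apply mem_J'_of_X8_mul
  apply mem_J'_of_X7_mul
  apply mem_J'_of_X6_mul
  have : X 6 * (X 7 * (X 8 * y)) = sE A * y := by unfold sE; ring
  rw [this]; exact h

lemma mem_J'_of_sE_pow_mul (n : ℕ) {y : MvPolynomial (Fin 9) A} (h : sE A ^ n * y ∈ J' A) :
    y ∈ J' A := by
  induction n with
  | zero => simpa using h
  | succ n ih =>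
    apply ih
    apply mem_J'_of_sE_mul
    have : sE A * (sE A ^ n * y) = sE A ^ (n + 1) * y := by ring
    rw [this]; exact h

theorem J'_isPrime [IsDomain A] : (J' A).IsPrime := by
  have hne : ∀ i, vmon (Lie3GBe.lmv i) ≠ 0 := by
    intro i h0
    obtain ⟨x, -, hx⟩ := lmv_elim i
    rw [h0] at hx
    exact hx rfl
  refine ⟨?_, ?_⟩
  · intro htop
    exact (Lie3GBe.isGB A).one_notMem hne (by rw [show Ideal.span (Set.range (Lie3GBe.G A)) = ⊤ from htop]; exact Submodule.mem_top)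
  · intro x y hxy
    obtain ⟨n, r, hr, hn⟩ := exists_normal A x
    obtain ⟨m, r', hr', hm⟩ := exists_normal A y
    have h1 : sE A ^ n * x * (sE A ^ m * y) - r * r' ∈ J' A := by
      have : sE A ^ n * x * (sE A ^ m * y) - r * r' =
          (sE A ^ n * x - r) * (sE A ^ m * y) + r * (sE A ^ m * y - r') := by ring
      rw [this]
      exact add_mem (Ideal.mul_mem_right _ _ (I'_le_J' A hn))
        (Ideal.mul_mem_left _ _ (I'_le_J' A hm))
    have h2 : r * r' ∈ J' A := by
      have h3 : sE A ^ n * x * (sE A ^ m * y) ∈ J' A := by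
        have : sE A ^ n * x * (sE A ^ m * y) = sE A ^ n * sE A ^ m * (x * y) := by ring
        rw [this]
        exact Ideal.mul_mem_left _ _ hxy
      have := sub_mem h3 h1
      simpa using this
    have h3 := eq_zero_of_mem_J'_of_supported A h2 (mul_mem hr hr')
    rcases mul_eq_zero.mp h3 with h0 | h0
    · left
      rw [h0, sub_zero] at hn
      exact mem_J'_of_sE_pow_mul A n (I'_le_J' A hn)
    · right
      rw [h0, sub_zero] at hm
      exact mem_J'_of_sE_pow_mul A m (I'_le_J' A hm)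

lemma idJ_eq_comap : idJ A = (J' A).comap (Lie3GBe.theta A) := by
  ext x
  rw [Ideal.mem_comap]
  exact Lie3GBe.mem_idJ_iff A x

/-- `J` is prime over a domain. -/
theorem idJ_isPrime [IsDomain A] : (idJ A).IsPrime := by
  rw [idJ_eq_comap]
  have := J'_isPrime A
  exact Ideal.comap_isPrime _ _

/-- `L` is prime over a domain. -/
theorem idL_isPrime [IsDomain A] : (idL A).IsPrime := by
  have : idL A = RingHom.ker (phi A).toRingHom := by
    ext x
    rw [mem_idL_iff, RingHom.mem_ker]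
    rfl
  rw [this]
  exact RingHom.ker_isPrime _

lemma L1_notMem_idJ [Nontrivial A] : L1 A ∉ idJ A := by
  intro h
  rw [Lie3GBe.mem_idJ_iff, Lie3GBe.theta_L1] at h
  have h2 := eq_zero_of_mem_J'_of_supported A h (X_mem_R A (by simp [RS]))
  exact MvPolynomial.X_ne_zero _ h2

end Groth.Agent.Lib.Helper14.Lie3

namespace Groth.Agent.Lib.Helper14.Lie3

open MvPolynomial Lie3Mod Groth.Agent.Lib.Helper14.Buchberger

variable (A : Type*) [CommRing A]

/-- `I = J ∩ L` over any commutative ring. -/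
theorem idI_eq_inf : idI A = idJ A ⊓ idL A := by
  apply le_antisymm
  · exact le_inf (idI_le_idJ A) (idI_le_idL A)
  · rintro x ⟨hJ, hL⟩
    obtain ⟨y, hy, t, rfl⟩ := exists_of_mem_idJ A hJ
    have ht : t * detM A ∈ idL A := by
      have := sub_mem hL (idI_le_idL A hy)
      simpa using this
    have := mem_idL_of_mul_detM_mem A ht
    exact add_mem hy (mul_detM_mem_of_mem_idL A this)

theorem mem_idL_of_smul_mem (a : A) (ha : ∀ b : A, a * b = 0 → b = 0) {x : D A}
    (h : a • x ∈ idL A) : x ∈ idL A := by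
  rw [mem_idL_iff] at h ⊢
  rw [map_smul] at h
  ext β
  have := congrArg (MvPolynomial.coeff β) h
  rw [coeff_smul, smul_eq_mul, coeff_zero] at this
  rw [coeff_zero]
  exact ha _ this

theorem mem_idI_of_smul_mem (a : A) (ha : ∀ b : A, a * b = 0 → b = 0) {x : D A}
    (h : a • x ∈ idI A) : x ∈ idI A := by
  rw [idI_eq_inf] at h ⊢
  exact ⟨mem_idJ_of_smul_mem A a ha h.1, mem_idL_of_smul_mem A a ha h.2⟩

theorem idI_isRadical [IsDomain A] : (idI A).IsRadical := by
  rw [idI_eq_inf]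
  exact (idJ_isPrime A).isRadical.inf (idL_isPrime A).isRadical

end Groth.Agent.Lib.Helper14.Lie3
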