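import Mathlib
import Groth.Prelude.Def_Red2
import Groth.Prelude.Def_SGA3x
import Groth.Agent.Lib.Helper14.CentDescB
import Groth.Agent.Lib.Helper14.CommTorus
import Groth.Agent.Lib.Helper14.MTQuot
import Groth.Agent.Lib.Helper9.GalGrp3

/-! Calculus of pulled-back homomorphisms (`CentDescB.tw`), gluing of morphisms given locally on
the base, and rigidity of homomorphisms of groups of multiplicative type over a connected base. -/

set_option autoImplicit false
set_option linter.style.haveILetI false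

namespace Groth.Agent.Lib.Helper14.TwGlue

open CategoryTheory MonoidalCategory CartesianMonoidalCategory MonObj GrpObj AlgebraicGeometry
open CategoryTheory.Limits
open Groth.Agent.Lib.Helper9
open Groth.Agent.Lib.Helper14.CentDescB

universe u

section tw

variable {S S' : Scheme.{u}} (H G : Over S) [GrpObj H] [GrpObj G] (π : S' ⟶ S)
  {S2 : Scheme.{u}} (p : S2 ⟶ S') (q : S2 ⟶ S) (hq : p ≫ π = q)

lemma tw_comp {K : Over S} [GrpObj K] (u' : Red.bc π H ⟶ Red.bc π G)
    (v' : Red.bc π G ⟶ Red.bc π K) :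
    tw H K π p q hq (u' ≫ v') = tw H G π p q hq u' ≫ tw G K π p q hq v' := by
  unfold tw
  simp only [Functor.map_comp, Category.assoc, Iso.hom_inv_id_assoc]

lemma tw_map (m : H ⟶ G) :
    tw H G π p q hq ((Over.pullback π).map m) = (Over.pullback q).map m := by
  apply bc_hom_ext
  rw [tw_left_fst, MTDescent.pullback_map_left_fst, MTDescent.pullback_map_left_fst,
    ← Category.assoc, α_fst]

lemma α_α {S3 : Scheme.{u}} (p' : S3 ⟶ S2) (q' : S3 ⟶ S) (hq' : p' ≫ q = q') :
    α H q p' q' hq' ≫ α H π p q hq =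
      α H π (p' ≫ p) q' (by rw [Category.assoc, hq, hq']) := by
  apply pullback.hom_ext
  · rw [Category.assoc, α_fst, α_fst, α_fst]
  · rw [Category.assoc, α_snd, ← Category.assoc, α_snd, α_snd, Category.assoc]

lemma tw_tw {S3 : Scheme.{u}} (p' : S3 ⟶ S2) (q' : S3 ⟶ S) (hq' : p' ≫ q = q')
    (u' : Red.bc π H ⟶ Red.bc π G) :
    tw H G q p' q' hq' (tw H G π p q hq u') =
      tw H G π (p' ≫ p) q' (by rw [Category.assoc, hq, hq']) u' := by
  apply bc_hom_ext
  rw [tw_left_fst, tw_left_fst, tw_left_fst, ← Category.assoc, α_α]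

lemma tw_congr (p₁ p₂ : S2 ⟶ S') (h : p₁ = p₂) (hq₁ : p₁ ≫ π = q) (hq₂ : p₂ ≫ π = q)
    (u' : Red.bc π H ⟶ Red.bc π G) : tw H G π p₁ q hq₁ u' = tw H G π p₂ q hq₂ u' := by
  subst h
  rfl

theorem isIso_tw (u' : Red.bc π H ⟶ Red.bc π G) [IsIso u'] : IsIso (tw H G π p q hq u') := by
  unfold tw
  infer_instance

open scoped Obj in
theorem isMonHom_tw (u' : Red.bc π H ⟶ Red.bc π G) [IsMonHom u'] :
    IsMonHom (tw H G π p q hq u') := inferInstance

lemma map_eq_of_tw_eq (u' v' : Red.bc π H ⟶ Red.bc π G)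
    (h : tw H G π p q hq u' = tw H G π p q hq v') :
    (Over.pullback p).map u' = (Over.pullback p).map v' := by
  unfold tw at h
  rw [Iso.cancel_iso_inv_left] at h
  exact (cancel_mono _).mp h

end tw


section rigid

variable {W : Scheme.{u}}

open scoped Obj in
/-- **rigidity**: over a connected base two homomorphisms between groups of multiplicative type
which agree after one base change with non-empty source agree -/
theorem eq_of_eq_at [ConnectedSpace W] {X Y : Over W} [GrpObj X] [GrpObj Y]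
    (hX : SGA3x.IsMultTypeFT X) (hY : SGA3x.IsMultTypeFT Y) [IsSeparated Y.hom]
    (hG : IsLocallyNoetherian W ∨ LocallyOfFinitePresentation Y.hom)
    (u v : X ⟶ Y) [IsMonHom u] [IsMonHom v] {Z : Scheme.{u}} [Nonempty Z] (z : Z ⟶ W)
    (h : (Over.pullback z).map u = (Over.pullback z).map v) : u = v := by
  haveI : IsMonHom (u * v⁻¹) := isMonHom_mul_inv u v
    (fun X' g h' => MTQuot.comm_of_multType Y hY X' g (h' ≫ v))
  obtain ⟨U, hUcl, hUiff, hUtriv⟩ := RigD.main X Y hX hG (u * v⁻¹)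
  obtain ⟨z₀⟩ := ‹Nonempty Z›
  have hz : (Over.pullback z).map (u * v⁻¹) = 1 := by
    rw [Functor.map_mul, Functor.map_inv', h, mul_inv_cancel]
  have hmem : z z₀ ∈ U := by
    rw [hUiff]
    exact CommTorus.fibre_eq_one_of_bc (u * v⁻¹) z hz z₀
  have hU : (U : Set W) = Set.univ := IsClopen.eq_univ ⟨hUcl, U.isOpen⟩ ⟨_, hmem⟩
  have hsurj : Surjective U.ι := by
    constructor
    intro w
    have hw : w ∈ (U : Set W) := by rw [hU]; trivial
    exact ⟨⟨w, hw⟩, rfl⟩
  have h1 : u * v⁻¹ = 1 := by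
    apply MTDescent.hom_ext_of_flat_surj U.ι
    rw [hUtriv, Functor.map_one]
  exact mul_inv_eq_one.mp h1

end rigid


section glue

variable {S : Scheme.{u}}

/-- the open cover of `S` attached to a family of open neighbourhoods -/
noncomputable def cov (U : S → S.Opens) (hU : ∀ s, s ∈ U s) : S.OpenCover :=
  Scheme.Cover.mkOfCovers S (fun s => (U s : Scheme.{u})) (fun s => (U s).ι)
    (fun s => ⟨s, ⟨s, hU s⟩, rfl⟩) (fun _ => inferInstance)

/-- **gluing**: morphisms given over the members of an open cover of the base which agree on the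
overlaps glue -/
theorem exists_glue {X Y : Over S} [GrpObj X] [GrpObj Y] (U : S → S.Opens) (hU : ∀ s, s ∈ U s)
    (c : ∀ s, Red.bc (U s).ι X ⟶ Red.bc (U s).ι Y)
    (hc : ∀ s t, tw X Y (U s).ι (S.homOfLE inf_le_left) (U s ⊓ U t).ι (S.homOfLE_ι _) (c s) =
      tw X Y (U t).ι (S.homOfLE inf_le_right) (U s ⊓ U t).ι (S.homOfLE_ι _) (c t)) :
    ∃ g : X ⟶ Y, ∀ s, (Over.pullback (U s).ι).map g = c s := by
  let 𝒱 : S.OpenCover := cov U hU
  let 𝒰 : X.left.OpenCover := 𝒱.pullback₁ X.hom
  let fs : ∀ s : 𝒰.I₀, 𝒰.X s ⟶ Y.left := fun s => (c s).left ≫ pullback.fst Y.hom (U s).ι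
  have hglue' : ∀ x y : S,
      pullback.fst (pullback.fst X.hom (U x).ι) (pullback.fst X.hom (U y).ι) ≫
        (c x).left ≫ pullback.fst Y.hom (U x).ι =
      pullback.snd (pullback.fst X.hom (U x).ι) (pullback.fst X.hom (U y).ι) ≫
        (c y).left ≫ pullback.fst Y.hom (U y).ι := by
    intro x y
    set P1 := pullback.fst (pullback.fst X.hom (U x).ι) (pullback.fst X.hom (U y).ι) with hP1
    set P2 := pullback.snd (pullback.fst X.hom (U x).ι) (pullback.fst X.hom (U y).ι) with hP2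
    have hcond : P1 ≫ pullback.fst X.hom (U x).ι = P2 ≫ pullback.fst X.hom (U y).ι :=
      pullback.condition
    have hx1 : P1 ≫ pullback.fst X.hom (U x).ι ≫ X.hom =
        (P1 ≫ pullback.snd X.hom (U x).ι) ≫ (U x).ι := by
      rw [Category.assoc, pullback.condition]
    have hy1 : P1 ≫ pullback.fst X.hom (U x).ι ≫ X.hom =
        (P2 ≫ pullback.snd X.hom (U y).ι) ≫ (U y).ι := by
      rw [← Category.assoc, hcond, Category.assoc, Category.assoc, pullback.condition]
    have hrange : Set.range (P1 ≫ pullback.fst X.hom (U x).ι ≫ X.hom) ⊆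
        Set.range (U x ⊓ U y).ι := by
      rintro _ ⟨z, rfl⟩
      rw [Scheme.Opens.range_ι]
      constructor
      · rw [hx1, Scheme.Hom.comp_apply]
        exact ((P1 ≫ pullback.snd X.hom (U x).ι) z).2
      · rw [hy1, Scheme.Hom.comp_apply]
        exact ((P2 ≫ pullback.snd X.hom (U y).ι) z).2
    let ℓ := IsOpenImmersion.lift (U x ⊓ U y).ι (P1 ≫ pullback.fst X.hom (U x).ι ≫ X.hom) hrange
    have hℓ : ℓ ≫ (U x ⊓ U y).ι = P1 ≫ pullback.fst X.hom (U x).ι ≫ X.hom :=
      IsOpenImmersion.lift_fac _ _ _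
    let κ : pullback (pullback.fst X.hom (U x).ι) (pullback.fst X.hom (U y).ι) ⟶
        (Red.bc (U x ⊓ U y).ι X).left :=
      pullback.lift (P1 ≫ pullback.fst X.hom (U x).ι) ℓ (by rw [Category.assoc, hℓ])
    have hκ1 : κ ≫ pullback.fst X.hom (U x ⊓ U y).ι = P1 ≫ pullback.fst X.hom (U x).ι :=
      pullback.lift_fst _ _ _
    have hκ2 : κ ≫ pullback.snd X.hom (U x ⊓ U y).ι = ℓ := pullback.lift_snd _ _ _
    have hκx : κ ≫ α X (U x).ι (S.homOfLE inf_le_left) (U x ⊓ U y).ι (S.homOfLE_ι _) = P1 := by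
      apply pullback.hom_ext
      · rw [Category.assoc, α_fst, hκ1]
      · rw [Category.assoc, α_snd, ← Category.assoc, hκ2, ← cancel_mono (U x).ι, Category.assoc,
          Scheme.homOfLE_ι, hℓ, hx1]
    have hκy : κ ≫ α X (U y).ι (S.homOfLE inf_le_right) (U x ⊓ U y).ι (S.homOfLE_ι _) = P2 := by
      apply pullback.hom_ext
      · rw [Category.assoc, α_fst, hκ1, hcond]
      · rw [Category.assoc, α_snd, ← Category.assoc, hκ2, ← cancel_mono (U y).ι, Category.assoc,
          Scheme.homOfLE_ι, hℓ, hy1]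
    rw [← hκx, ← hκy, Category.assoc, Category.assoc, ← tw_left_fst, ← tw_left_fst, hc x y]
  have hglue : ∀ x y : 𝒰.I₀, pullback.fst (𝒰.f x) (𝒰.f y) ≫ fs x =
      pullback.snd (𝒰.f x) (𝒰.f y) ≫ fs y := fun x y => hglue' x y
  let g₀ : X.left ⟶ Y.left := 𝒰.glueMorphisms fs hglue
  have hg₀ : ∀ s, pullback.fst X.hom (U s).ι ≫ g₀ = fs s := fun s => 𝒰.ι_glueMorphisms fs _ s
  have hw' : ∀ s : S, pullback.fst X.hom (U s).ι ≫ g₀ ≫ Y.hom =
      pullback.fst X.hom (U s).ι ≫ X.hom := by
    intro s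
    rw [← Category.assoc, hg₀]
    show ((c s).left ≫ pullback.fst Y.hom (U s).ι) ≫ Y.hom = _
    rw [Category.assoc, pullback.condition, ← Category.assoc]
    have h1 : (c s).left ≫ pullback.snd Y.hom (U s).ι = pullback.snd X.hom (U s).ι := Over.w (c s)
    rw [h1, pullback.condition]
  have hw : g₀ ≫ Y.hom = X.hom := by
    apply 𝒰.hom_ext
    intro s
    exact hw' s
  refine ⟨Over.homMk g₀ hw, fun s => ?_⟩
  apply bc_hom_ext
  rw [MTDescent.pullback_map_left_fst]
  exact hg₀ s

/-- being a homomorphism is local on the base -/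
theorem isMonHom_of_local {X Y : Over S} [GrpObj X] [GrpObj Y] (g : X ⟶ Y) (𝒱 : S.OpenCover)
    (h : ∀ i, IsMonHom ((Over.pullback (𝒱.f i)).map g)) : IsMonHom g := by
  apply GalGrp.isMonHom_of_hom
  · intro X'
    apply MTDescent.hom_ext_of_cover 𝒱
    intro i
    haveI := h i
    rw [Functor.map_comp, Functor.map_one, Functor.map_one, MonObj.one_comp]
  · intro X' a b
    apply MTDescent.hom_ext_of_cover 𝒱
    intro i
    haveI := h i
    rw [Functor.map_comp, Functor.map_mul, Functor.map_mul, Functor.map_comp, Functor.map_comp,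
      MonObj.mul_comp]

end glue

end Groth.Agent.Lib.Helper14.TwGlue
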