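import Mathlib
import Groth.Prelude.Def_Red2
import Groth.Agent.Lib.Helper14.MTImgD
import Groth.Agent.Lib.Helper14.MTSplitD
import Groth.Agent.Lib.Helper14.MTGlueA
import Groth.Agent.Lib.Helper14.MTGlueB

set_option autoImplicit false

namespace Groth.Agent.Lib.Helper14.MTGlueC

open CategoryTheory MonoidalCategory CartesianMonoidalCategory MonObj GrpObj AlgebraicGeometry
open CategoryTheory.Limits
open Groth.Agent.Lib.Helper14 GrpBridge
open Groth.Agent.Lib.Helper4.FpqcCov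

universe u

section imgBC

variable {S : Scheme.{u}} {G : Over S} [GrpObj G] {N : Type} [AddCommGroup N]
  (m : Red.DS S N ⟶ G) [IsMonHom m]

/-- precomposing with an isomorphism does not change triviality -/
theorem iso_comp_eq_one_iff {X X' Y : Over S} [GrpObj Y] (c : X ≅ X') (v : X' ⟶ Y) :
    c.hom ≫ v = 1 ↔ v = 1 := by
  constructor
  · intro h
    have : v = c.inv ≫ c.hom ≫ v := by rw [Iso.inv_hom_id_assoc]
    rw [this, h]
    exact MonObj.comp_one _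
  · intro h
    rw [h]
    exact MonObj.comp_one _

open scoped Obj in
/-- base change of a homomorphism from a split torus, compatibly with the images of the
homomorphisms of character groups on the fibres -/
theorem exists_bc_data_img {Z : Scheme.{u}} (g : Z ⟶ S) :
    ∃ (mZ : Red.DS Z N ⟶ Red.bc g G) (cN : Red.bc g (Red.DS S N) ≅ Red.DS Z N),
      IsMonHom mZ ∧ cN.hom ≫ mZ = (Over.pullback g).map m ∧
      ∀ z : Z, MTImgB.Img mZ z = MTImgB.Img m (g z) := by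
  obtain ⟨c, hc1, hc2⟩ := MTSplitA.exists_bc_comp_family g
    (Limits.IsTerminal.from specULiftZIsTerminal S)
    (Limits.IsTerminal.from specULiftZIsTerminal Z) (specULiftZIsTerminal.hom_ext _ _)
  haveI := hc1 (Red.diag (ULift.{u} ℤ) N)
  haveI : IsMonHom (c (Red.diag (ULift.{u} ℤ) N)).inv := inferInstance
  obtain ⟨mZ, hmZ⟩ : ∃ mZ : Red.DS Z N ⟶ Red.bc g G,
      mZ = (c (Red.diag (ULift.{u} ℤ) N)).inv ≫ (Over.pullback g).map m := ⟨_, rfl⟩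
  haveI : IsMonHom mZ := by
    rw [hmZ]
    infer_instance
  refine ⟨mZ, c (Red.diag (ULift.{u} ℤ) N), inferInstance, by rw [hmZ, Iso.hom_inv_id_assoc],
    fun z => ?_⟩
  have hI : MTImgB.Iset mZ z = MTImgB.Iset m (g z) := by
    ext L'
    show (Over.pullback (Z.fromSpecResidueField z)).map
        (Red.DSmap Z (QuotientAddGroup.mk' L') ≫ mZ) = 1 ↔
      (Over.pullback (S.fromSpecResidueField (g z))).map
        (Red.DSmap S (QuotientAddGroup.mk' L') ≫ m) = 1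
    have h1 : Red.DSmap Z (QuotientAddGroup.mk' L') ≫ mZ =
        (c (Red.diag (ULift.{u} ℤ) (N ⧸ L'))).inv ≫
          (Over.pullback g).map (Red.DSmap S (QuotientAddGroup.mk' L') ≫ m) := by
      have h2 := hc2 (Red.diagMap (ULift.{u} ℤ) (QuotientAddGroup.mk' L'))
      rw [hmZ, Functor.map_comp, ← Category.assoc, ← Category.assoc]
      congr 1
      rw [Iso.eq_inv_comp, ← Category.assoc, Iso.comp_inv_eq]
      exact h2.symm
    rw [h1, Functor.map_comp]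
    obtain ⟨cz, hcz⟩ : ∃ cz : (Over.pullback (Z.fromSpecResidueField z)).obj
        (Red.DS Z (N ⧸ L')) ≅ (Over.pullback (Z.fromSpecResidueField z)).obj
          (Red.bc g (Red.DS S (N ⧸ L'))),
        cz.hom = (Over.pullback (Z.fromSpecResidueField z)).map
          (c (Red.diag (ULift.{u} ℤ) (N ⧸ L'))).inv :=
      ⟨(Over.pullback (Z.fromSpecResidueField z)).mapIso
        (c (Red.diag (ULift.{u} ℤ) (N ⧸ L'))).symm, rfl⟩
    rw [← hcz, iso_comp_eq_one_iff, MTSplitD.bc_bc_eq_one_iff]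
    have hfs : Flat (Spec.map (g.residueFieldMap z)) ∧
        Surjective (Spec.map (g.residueFieldMap z)) := by
      rw [flat_and_surjective_SpecMap_iff]
      letI : Algebra (S.residueField (g z)) (Z.residueField z) :=
        (g.residueFieldMap z).hom.toAlgebra
      exact (RingHom.faithfullyFlat_algebraMap_iff).mpr inferInstance
    haveI := hfs.1
    haveI := hfs.2
    rw [← Scheme.Hom.SpecMap_residueFieldMap_fromSpecResidueField, MTSplitA.bc_eq_one_iff]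
  show sInf (MTImgB.Iset mZ z) = sInf (MTImgB.Iset m (g z))
  rw [hI]

end imgBC

section localCore

variable {S : Scheme.{u}} {G : Over S} [GrpObj G] {N : Type} [AddCommGroup N]
  (m : Red.DS S N ⟶ G) [IsMonHom m]

open scoped Obj in
/-- locally on the base, a homomorphism from a split torus to a group of multiplicative type and of
finite type factors as a faithfully flat homomorphism to a split torus followed by a closed
immersion -/
theorem exists_local_core (hG : MTHom5.LocTriv G (fun M _ => AddGroup.FG M))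
    (hN : AddGroup.FG N) (hfree : Module.Free ℤ N) (s : S) :
    ∃ V : S.Opens, s ∈ V ∧ ∃ (r : ℕ) (mbar : Red.DS V (Fin r → ℤ) ⟶ Red.bc V.ι G)
      (q' : Red.bc V.ι (Red.DS S N) ⟶ Red.DS V (Fin r → ℤ)),
      IsMonHom mbar ∧ IsClosedImmersion mbar.left ∧ q'.left.ker = ⊥ ∧
        q' ≫ mbar = (Over.pullback V.ι).map m := by
  obtain ⟨r, jK, -, hjinj, hjrange⟩ := MTSplitC.exists_fin_hom hN hfree (MTImgB.Img m s)
  refine ⟨⟨{t | MTImgB.Img m t = MTImgB.Img m s}, MTImgB.isOpen_img_eq m hG _⟩, rfl, r, ?_⟩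
  set V : S.Opens := ⟨{t | MTImgB.Img m t = MTImgB.Img m s}, MTImgB.isOpen_img_eq m hG _⟩ with hV
  obtain ⟨mZ, cN, hmZ, hcomp, himg⟩ := exists_bc_data_img m V.ι
  have hGV := MTSplitD.locTriv_bc G _ hG V.ι
  obtain ⟨mbar, hmm, -, hfac, hcl⟩ := MTImgC.core_img mZ hGV jK hjinj (fun v => by
    rw [himg v, hjrange]
    exact v.2)
  obtain ⟨hfl, hsj⟩ := MTImgC.flat_surj_DSmap (V : Scheme.{u}) jK hjinj
  haveI := MTImgC.isAffineHom_DSmap (V : Scheme.{u}) jK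
  haveI : IsIso cN.hom.left := inferInstanceAs (IsIso ((Over.forget _).map cN.hom))
  refine ⟨mbar, cN.hom ≫ Red.DSmap (V : Scheme.{u}) jK, hmm, hcl, ?_, ?_⟩
  · rw [Over.comp_left]
    exact MTGlueA.ker_eq_bot_of_flat_surj _
  · rw [Category.assoc, hfac, hcomp]

end localCore

section localPair

variable {S : Scheme.{u}}

open scoped Obj in
/-- locally on the base, the product of two homomorphisms from split tori to a group of
multiplicative type and of finite type factors as a scheme-theoretically dominant morphism to a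
split torus followed by a closed immersion -/
theorem exists_local_pair {G : Over S} [GrpObj G] (hG : SGA3x.IsMultTypeFT G)
    {T₁ T₂ D' : Over S} [GrpObj T₁] [GrpObj T₂] (j₁ : T₁ ⟶ G) [IsMonHom j₁] (j₂ : T₂ ⟶ G)
    [IsMonHom j₂] (r₁ r₂ : ℕ) (h₁ : Red.IsSplitTorusWith (Fin r₁ → ℤ) T₁)
    (h₂ : Red.IsSplitTorusWith (Fin r₂ → ℤ) T₂) (p₁ : D' ⟶ T₁) (p₂ : D' ⟶ T₂)
    (hprod : ∀ (x₁ : Red.DS S ((Fin r₁ → ℤ) × (Fin r₂ → ℤ)) ⟶ T₁)
      (x₂ : Red.DS S ((Fin r₁ → ℤ) × (Fin r₂ → ℤ)) ⟶ T₂),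
      ∃ σ : Red.DS S ((Fin r₁ → ℤ) × (Fin r₂ → ℤ)) ⟶ D', σ ≫ p₁ = x₁ ∧ σ ≫ p₂ = x₂)
    (s : S) :
    ∃ V : S.Opens, s ∈ V ∧ ∃ (r : ℕ) (jV : Red.DS V (Fin r → ℤ) ⟶ Red.bc V.ι G)
      (c : Red.bc V.ι D' ⟶ Red.DS V (Fin r → ℤ)),
      IsMonHom jV ∧ IsClosedImmersion jV.left ∧ c.left.ker = ⊥ ∧
        c ≫ jV = (Over.pullback V.ι).map (p₁ ≫ j₁ * p₂ ≫ j₂) := by
  have hG' : MTHom5.LocTriv G (fun M _ => AddGroup.FG M) := hG
  have hG'' : MTHom5.LocTriv G (fun _ _ => True) := by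
    obtain ⟨S', f, h1, h2, h3, h4⟩ := hG
    refine ⟨S', f, h1, h2, h3, fun s' => ?_⟩
    obtain ⟨U, hU, M, iM, -, hM⟩ := h4 s'
    exact ⟨U, hU, M, iM, trivial, hM⟩
  haveI := MTImgD.isCommMonObj_of_locTriv G hG''
  obtain ⟨e₀⟩ := h₁
  obtain ⟨e, he⟩ := MTDescent.exists_iso_of_grp_iso e₀
  obtain ⟨e₀'⟩ := h₂
  obtain ⟨e', he'⟩ := MTDescent.exists_iso_of_grp_iso e₀'
  haveI : IsMonHom e.inv := inferInstance
  haveI : IsMonHom e'.inv := inferInstance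
  haveI : ∀ {M N : Type} [AddCommGroup M] [AddCommGroup N] (φ : M →+ N),
      IsMonHom (Red.DSmap S φ) := fun φ => Groth.Agent.Lib.Helper4.KummerSeq.isMonHom_DSmap S φ
  obtain ⟨a, ha⟩ : ∃ a : Red.DS S (Fin r₁ → ℤ) ⟶ G, a = e.inv ≫ j₁ := ⟨_, rfl⟩
  obtain ⟨b, hb⟩ : ∃ b : Red.DS S (Fin r₂ → ℤ) ⟶ G, b = e'.inv ≫ j₂ := ⟨_, rfl⟩
  haveI : IsMonHom a := by rw [ha]; infer_instance
  haveI : IsMonHom b := by rw [hb]; infer_instance
  obtain ⟨m, hm⟩ : ∃ m : Red.DS S ((Fin r₁ → ℤ) × (Fin r₂ → ℤ)) ⟶ G,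
      m = lift (Red.DSmap S (AddMonoidHom.inl (Fin r₁ → ℤ) (Fin r₂ → ℤ)) ≫ a)
        (Red.DSmap S (AddMonoidHom.inr (Fin r₁ → ℤ) (Fin r₂ → ℤ)) ≫ b) ≫ μ[G] := ⟨_, rfl⟩
  haveI : IsMonHom m := by rw [hm]; infer_instance
  have hm' : m = (Red.DSmap S (AddMonoidHom.inl (Fin r₁ → ℤ) (Fin r₂ → ℤ)) ≫ a) *
      (Red.DSmap S (AddMonoidHom.inr (Fin r₁ → ℤ) (Fin r₂ → ℤ)) ≫ b) := by
    rw [hm, Hom.mul_def]
  have hN : AddGroup.FG ((Fin r₁ → ℤ) × (Fin r₂ → ℤ)) :=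
    Module.Finite.iff_addGroup_fg.mp inferInstance
  have h1 : Red.DSmap S (AddMonoidHom.fst (Fin r₁ → ℤ) (Fin r₂ → ℤ)) ≫ m = a := by
    rw [hm', MonObj.comp_mul, ← Category.assoc, ← Category.assoc, ← MTImgD.DSmap_comp,
      ← MTImgD.DSmap_comp, AddMonoidHom.fst_comp_inl, AddMonoidHom.fst_comp_inr,
      MTImgD.DSmap_id, MTImgD.DSmap_zero, Category.id_comp, MonObj.one_comp, _root_.mul_one]
  have h2 : Red.DSmap S (AddMonoidHom.snd (Fin r₁ → ℤ) (Fin r₂ → ℤ)) ≫ m = b := by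
    rw [hm', MonObj.comp_mul, ← Category.assoc, ← Category.assoc, ← MTImgD.DSmap_comp,
      ← MTImgD.DSmap_comp, AddMonoidHom.snd_comp_inl, AddMonoidHom.snd_comp_inr,
      MTImgD.DSmap_id, MTImgD.DSmap_zero, Category.id_comp, MonObj.one_comp, _root_.one_mul]
  obtain ⟨x, hx1, hx2⟩ := hprod
    (Red.DSmap S (AddMonoidHom.inl (Fin r₁ → ℤ) (Fin r₂ → ℤ)) ≫ e.inv)
    (Red.DSmap S (AddMonoidHom.inr (Fin r₁ → ℤ) (Fin r₂ → ℤ)) ≫ e'.inv)
  have hxm : x ≫ (p₁ ≫ j₁ * p₂ ≫ j₂) = m := by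
    rw [MonObj.comp_mul, ← Category.assoc, ← Category.assoc, hx1, hx2, Category.assoc,
      Category.assoc, ← ha, ← hb, hm']
  obtain ⟨y, hy⟩ : ∃ y : D' ⟶ Red.DS S ((Fin r₁ → ℤ) × (Fin r₂ → ℤ)),
      y = (p₁ ≫ e.hom ≫ Red.DSmap S (AddMonoidHom.fst (Fin r₁ → ℤ) (Fin r₂ → ℤ))) *
        (p₂ ≫ e'.hom ≫ Red.DSmap S (AddMonoidHom.snd (Fin r₁ → ℤ) (Fin r₂ → ℤ))) := ⟨_, rfl⟩
  have hym : y ≫ m = p₁ ≫ j₁ * p₂ ≫ j₂ := by
    rw [hy, MonObj.mul_comp, Category.assoc, Category.assoc, Category.assoc, Category.assoc, h1,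
      h2, ha, hb, Iso.hom_inv_id_assoc, Iso.hom_inv_id_assoc]
  obtain ⟨V, hsV, r, mbar, q', hmm, hcl, hker, hq'⟩ :=
    exists_local_core m hG' hN inferInstance s
  haveI : Mono mbar.left := inferInstance
  haveI : Mono mbar := (Over.forget _).mono_of_mono_map ‹_›
  refine ⟨V, hsV, r, mbar, (Over.pullback V.ι).map y ≫ q', hmm, hcl, ?_, ?_⟩
  · have hxc : (Over.pullback V.ι).map x ≫ (Over.pullback V.ι).map y ≫ q' = q' := by
      rw [← cancel_mono mbar, Category.assoc, Category.assoc, hq', ← Functor.map_comp,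
        ← Functor.map_comp, hym, hxm]
    have hle := Scheme.Hom.le_ker_comp ((Over.pullback V.ι).map x).left
      ((Over.pullback V.ι).map y ≫ q').left
    rw [← Over.comp_left, hxc, hker] at hle
    exact le_bot_iff.mp hle
  · rw [Category.assoc, hq', ← Functor.map_comp, hym]

end localPair

section localData

variable {S : Scheme.{u}}

open scoped Obj in
/-- the local structure of the product of two locally split subtori -/
theorem exists_local_data {G : Over S} [GrpObj G] (hG : SGA3x.IsMultTypeFT G)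
    {E₁ E₂ : Over S} [GrpObj E₁] [GrpObj E₂] (j₁ : E₁ ⟶ G) [IsMonHom j₁] (j₂ : E₂ ⟶ G)
    [IsMonHom j₂]
    (h₁ : ∀ s : S, ∃ U : S.Opens, s ∈ U ∧ ∃ r : ℕ,
      Red.IsSplitTorusWith (Fin r → ℤ) (Red.bc U.ι E₁))
    (h₂ : ∀ s : S, ∃ U : S.Opens, s ∈ U ∧ ∃ r : ℕ,
      Red.IsSplitTorusWith (Fin r → ℤ) (Red.bc U.ι E₂)) (s : S) :
    ∃ (W : Scheme.{u}) (w : W ⟶ S), IsOpenImmersion w ∧ s ∈ Set.range w ∧
      ∃ (r : ℕ) (jW : Red.DS W (Fin r → ℤ) ⟶ Red.bc w G)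
        (cW : Red.bc w (E₁ ⊗ E₂) ⟶ Red.DS W (Fin r → ℤ)),
        IsMonHom jW ∧ IsClosedImmersion jW.left ∧ cW.left.ker = ⊥ ∧
          cW ≫ jW = (Over.pullback w).map (fst E₁ E₂ ≫ j₁ * snd E₁ E₂ ≫ j₂) := by
  obtain ⟨U₁, hs₁, r₁, ⟨e₁₀⟩⟩ := h₁ s
  obtain ⟨U₂, hs₂, r₂, ⟨e₂₀⟩⟩ := h₂ s
  obtain ⟨e₁, he₁⟩ := MTDescent.exists_iso_of_grp_iso e₁₀
  obtain ⟨e₂, he₂⟩ := MTDescent.exists_iso_of_grp_iso e₂₀
  obtain ⟨U, hU⟩ : ∃ U : S.Opens, U = U₁ ⊓ U₂ := ⟨_, rfl⟩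
  have hsU : s ∈ U := by
    rw [hU]
    exact ⟨hs₁, hs₂⟩
  have hle₁ : U ≤ U₁ := by rw [hU]; exact inf_le_left
  have hle₂ : U ≤ U₂ := by rw [hU]; exact inf_le_right
  obtain ⟨e₁', he₁'⟩ := MTHom5.triv_of_factor E₁ U₁.ι (Fin r₁ → ℤ) e₁ (S.homOfLE hle₁) U.ι
    (S.homOfLE_ι hle₁)
  obtain ⟨e₂', he₂'⟩ := MTHom5.triv_of_factor E₂ U₂.ι (Fin r₂ → ℤ) e₂ (S.homOfLE hle₂) U.ι
    (S.homOfLE_ι hle₂)
  have hGU : SGA3x.IsMultTypeFT (Red.bc U.ι G) := MTSplitD.locTriv_bc G _ hG U.ι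
  obtain ⟨V, hsV, r, jV, c, hjV, hcl, hker, hfac⟩ := exists_local_pair hGU
    ((Over.pullback U.ι).map j₁) ((Over.pullback U.ι).map j₂) r₁ r₂ ⟨Grp.mkIso' e₁'⟩
    ⟨Grp.mkIso' e₂'⟩ ((Over.pullback U.ι).map (fst E₁ E₂)) ((Over.pullback U.ι).map (snd E₁ E₂))
    (fun x₁ x₂ => ⟨lift x₁ x₂ ≫ Functor.LaxMonoidal.μ (Over.pullback U.ι) E₁ E₂, by
      rw [Category.assoc, Functor.Monoidal.μ_fst, lift_fst], by
      rw [Category.assoc, Functor.Monoidal.μ_snd, lift_snd]⟩) ⟨s, hsU⟩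
  obtain ⟨κ, hκ1, hκ2⟩ := MTSplitA.exists_bc_comp_family V.ι U.ι (V.ι ≫ U.ι) rfl
  haveI := hκ1 G
  haveI : IsIso (κ G).hom.left := inferInstanceAs (IsIso ((Over.forget _).map (κ G).hom))
  haveI : IsIso (κ (E₁ ⊗ E₂)).inv.left :=
    inferInstanceAs (IsIso ((Over.forget _).map (κ (E₁ ⊗ E₂)).inv))
  refine ⟨V, V.ι ≫ U.ι, inferInstance, ⟨⟨⟨s, hsU⟩, hsV⟩, rfl⟩, r, jV ≫ (κ G).hom,
    (κ (E₁ ⊗ E₂)).inv ≫ c, inferInstance, ?_, ?_, ?_⟩
  · rw [Over.comp_left]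
    infer_instance
  · rw [Over.comp_left, Scheme.Hom.ker_comp_of_isIso]
    exact hker
  · rw [Category.assoc, ← Category.assoc c, hfac, Iso.inv_comp_eq, ← hκ2]
    congr 1
    simp only [Functor.map_mul, Functor.map_comp]

end localData

end Groth.Agent.Lib.Helper14.MTGlueC
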