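import Mathlib
import Groth.Prelude.Def_Red2
import Groth.Agent.Lib.Helper14.MTHom5

set_option autoImplicit false

namespace Groth.Agent.Lib.Helper14.MTHom6

open CategoryTheory MonoidalCategory CartesianMonoidalCategory MonObj GrpObj AlgebraicGeometry
open CategoryTheory.Limits TensorProduct
open Groth.Agent.Lib.Helper14 GrpBridge

universe u

section field

variable (P₁ P₂ : MorphismProperty Scheme.{u}) [P₁.RespectsIso] [P₂.RespectsIso]
  (Q₁ Q₂ : ∀ (M N : Type) [AddCommGroup M] [AddCommGroup N], (N →+ M) → Prop)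
variable {S : Scheme.{u}} {G H : Over S} (u : G ⟶ H)

/-- over a field the homomorphism of character groups is constant, and the two properties are
read off on it -/
theorem chart_field_aux (h₁ : MTHom4.ChartHyp P₁ Q₁) (h₂ : MTHom4.ChartHyp P₂ Q₂)
    {B : Type u} [Field B] (k : Spec (CommRingCat.of B) ⟶ S)
    {HM HN : Type u} [CommRing HM] [CommRing HN] [Bialgebra B HM] [Bialgebra B HN]
    {M N : Type} [AddCommGroup M] [AddCommGroup N]
    (GM : MTHom1.GLB B HM M) (GN : MTHom1.GLB B HN N) (f : HN →ₐc[B] HM)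
    (εG : Red.bc k G ≅ (Spec (.of HM)).asOver (Spec (.of B)))
    (εH : Red.bc k H ≅ (Spec (.of HN)).asOver (Spec (.of B)))
    (hf : εG.inv ≫ (Over.pullback k).map u ≫ εH.hom = specHom B HN (f : HN →ₐ[B] HM)) :
    ∃ φ₀ : N →+ M, (P₁ ((Over.pullback k).map u).left ↔ Q₁ M N φ₀) ∧
      (P₂ ((Over.pullback k).map u).left ↔ Q₂ M N φ₀) := by
  refine ⟨MTHom1.φP f GM GN default, ?_, ?_⟩
  · have hconst : ∀ 𝔮 : PrimeSpectrum B, MTHom1.φP f GM GN (𝔮.comap (algebraMap B B)) =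
        MTHom1.φP f GM GN default := fun 𝔮 => congrArg _ (Subsingleton.elim _ _)
    have h := h₁ B HM HN M N GM GN f B _ hconst
    have ht := MTHom3.transfer u k εG εH (f : HN →ₐ[B] HM) hf P₁ B
    have hid : Spec.map (CommRingCat.ofHom (algebraMap B B)) ≫ k = k := by
      rw [Algebra.algebraMap_self]
      exact (congrArg (· ≫ k) (Spec.map_id _)).trans (Category.id_comp k)
    rw [hid] at ht
    rw [ht]
    exact ⟨h.2 inferInstance, h.1⟩
  · have hconst : ∀ 𝔮 : PrimeSpectrum B, MTHom1.φP f GM GN (𝔮.comap (algebraMap B B)) =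
        MTHom1.φP f GM GN default := fun 𝔮 => congrArg _ (Subsingleton.elim _ _)
    have h := h₂ B HM HN M N GM GN f B _ hconst
    have ht := MTHom3.transfer u k εG εH (f : HN →ₐ[B] HM) hf P₂ B
    have hid : Spec.map (CommRingCat.ofHom (algebraMap B B)) ≫ k = k := by
      rw [Algebra.algebraMap_self]
      exact (congrArg (· ≫ k) (Spec.map_id _)).trans (Category.id_comp k)
    rw [hid] at ht
    rw [ht]
    exact ⟨h.2 inferInstance, h.1⟩

variable [GrpObj G] [GrpObj H] [IsMonHom u]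

open scoped Obj in
theorem chart_field_diag (h₁ : MTHom4.ChartHyp P₁ Q₁) (h₂ : MTHom4.ChartHyp P₂ Q₂)
    (K R : Type u) [CommRing K] [Field R] [Algebra K R]
    (k : Spec (CommRingCat.of R) ⟶ S) (M N : Type) [AddCommGroup M] [AddCommGroup N]
    (eG : Red.bc k G ≅ Red.bc (Spec.map (CommRingCat.ofHom (algebraMap K R))) (Red.diag K M))
    [IsMonHom eG.hom]
    (eH : Red.bc k H ≅ Red.bc (Spec.map (CommRingCat.ofHom (algebraMap K R))) (Red.diag K N))
    [IsMonHom eH.hom] :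
    ∃ φ₀ : N →+ M, (P₁ ((Over.pullback k).map u).left ↔ Q₁ M N φ₀) ∧
      (P₂ ((Over.pullback k).map u).left ↔ Q₂ M N φ₀) := by
  obtain ⟨κG, hκG⟩ := MTAffine.exists_bc_spec_iso K R (MonoidAlgebra K (Multiplicative M))
  obtain ⟨κH, hκH⟩ := MTAffine.exists_bc_spec_iso K R (MonoidAlgebra K (Multiplicative N))
  obtain ⟨εG, hεG⟩ : ∃ ε : Red.bc k G ≅ (Spec (.of (R ⊗[K]
      MonoidAlgebra K (Multiplicative M)))).asOver (Spec (.of R)), IsMonHom ε.hom := by
    refine ⟨eG ≪≫ κG, ?_⟩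
    dsimp only [Iso.trans_hom]
    infer_instance
  obtain ⟨εH, hεH⟩ : ∃ ε : Red.bc k H ≅ (Spec (.of (R ⊗[K]
      MonoidAlgebra K (Multiplicative N)))).asOver (Spec (.of R)), IsMonHom ε.hom := by
    refine ⟨eH ≪≫ κH, ?_⟩
    dsimp only [Iso.trans_hom]
    infer_instance
  haveI : IsMonHom εG.inv := inferInstance
  obtain ⟨f, hf⟩ := GrpBridge.exists_bialgHom R _ _ (εG.inv ≫ (Over.pullback k).map u ≫ εH.hom)
  obtain ⟨GM⟩ := MTHom4.exists_glb K R M
  obtain ⟨GN⟩ := MTHom4.exists_glb K R N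
  exact chart_field_aux P₁ P₂ Q₁ Q₂ u h₁ h₂ k GM GN f εG εH hf

open scoped Obj in
theorem chart_field (h₁ : MTHom4.ChartHyp P₁ Q₁) (h₂ : MTHom4.ChartHyp P₂ Q₂)
    (R : Type u) [Field R]
    (k : Spec (CommRingCat.of R) ⟶ S) (M N : Type) [AddCommGroup M] [AddCommGroup N]
    (eG : Red.bc k G ≅ Red.DS (Spec (CommRingCat.of R)) M) [IsMonHom eG.hom]
    (eH : Red.bc k H ≅ Red.DS (Spec (CommRingCat.of R)) N) [IsMonHom eH.hom] :
    ∃ φ₀ : N →+ M, (P₁ ((Over.pullback k).map u).left ↔ Q₁ M N φ₀) ∧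
      (P₂ ((Over.pullback k).map u).left ↔ Q₂ M N φ₀) := by
  letI : Algebra (ULift.{u} ℤ) R :=
    RingHom.toAlgebra ((Int.castRingHom R).comp (ULift.ringEquiv : ULift.{u} ℤ ≃+* ℤ).toRingHom)
  have hterm : Limits.IsTerminal.from specULiftZIsTerminal (Spec (CommRingCat.of R)) =
      Spec.map (CommRingCat.ofHom (algebraMap (ULift.{u} ℤ) R)) :=
    specULiftZIsTerminal.hom_ext _ _
  obtain ⟨cG, hcG⟩ := MTHom4.exists_bc_congr _ _ hterm (Red.diag (ULift.{u} ℤ) M)
  obtain ⟨cH, hcH⟩ := MTHom4.exists_bc_congr _ _ hterm (Red.diag (ULift.{u} ℤ) N)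
  haveI : IsMonHom (eG ≪≫ cG).hom := by
    dsimp only [Iso.trans_hom]
    infer_instance
  haveI : IsMonHom (eH ≪≫ cH).hom := by
    dsimp only [Iso.trans_hom]
    infer_instance
  exact chart_field_diag P₁ P₂ Q₁ Q₂ u h₁ h₂ (ULift.{u} ℤ) R k M N (eG ≪≫ cG) (eH ≪≫ cH)

end field

end Groth.Agent.Lib.Helper14.MTHom6
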