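import Mathlib
import Groth.Prelude.Def_Red2
import Groth.Agent.Lib.Helper14.MTGlueC
import Groth.Agent.S16614

set_option autoImplicit false

namespace Groth.Agent.Lib.Helper14.MTGlueD

open CategoryTheory MonoidalCategory CartesianMonoidalCategory MonObj GrpObj AlgebraicGeometry
open CategoryTheory.Limits
open Groth.Agent.Lib.Helper14 GrpBridge
open Groth.Agent.Lib.Helper4.FpqcCov

universe u

section main

variable {S : Scheme.{u}}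

open scoped Obj in
/-- the locally split subtori of a group of multiplicative type and of finite type form a directed
family -/
theorem exists_sup_local {G : Over S} [GrpObj G] (hG : SGA3x.IsMultTypeFT G)
    {E₁ E₂ : Over S} [GrpObj E₁] [GrpObj E₂] (j₁ : E₁ ⟶ G) [IsMonHom j₁] (j₂ : E₂ ⟶ G)
    [IsMonHom j₂]
    (h₁ : ∀ s : S, ∃ U : S.Opens, s ∈ U ∧ ∃ r : ℕ,
      Red.IsSplitTorusWith (Fin r → ℤ) (Red.bc U.ι E₁))
    (h₂ : ∀ s : S, ∃ U : S.Opens, s ∈ U ∧ ∃ r : ℕ,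
      Red.IsSplitTorusWith (Fin r → ℤ) (Red.bc U.ι E₂)) :
    ∃ (E₃ : Over S) (_ : GrpObj E₃) (j₃ : E₃ ⟶ G) (g₁ : E₁ ⟶ E₃) (g₂ : E₂ ⟶ E₃),
      IsMonHom j₃ ∧ Mono j₃ ∧
      (∀ s : S, ∃ U : S.Opens, s ∈ U ∧ ∃ r : ℕ,
        Red.IsSplitTorusWith (Fin r → ℤ) (Red.bc U.ι E₃)) ∧
      g₁ ≫ j₃ = j₁ ∧ g₂ ≫ j₃ = j₂ := by
  obtain ⟨m, hm⟩ : ∃ m : E₁ ⊗ E₂ ⟶ G, m = fst E₁ E₂ ≫ j₁ * snd E₁ E₂ ≫ j₂ := ⟨_, rfl⟩
  haveI : QuasiCompact m.left := MTGlueB.quasiCompact_left m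
    (MTGlueB.isAffineHom_tensor _ _ (MTGlueB.isAffineHom_of_locSplit E₁ h₁)
      (MTGlueB.isAffineHom_of_locSplit E₂ h₂)) (MTGlueB.isAffineHom_of_locTriv G _ hG)
  obtain ⟨E₃, j₃, t, hE₃, hj₃, ht⟩ : ∃ (E₃ : Over S) (j₃ : E₃ ⟶ G) (t : E₁ ⊗ E₂ ⟶ E₃),
      E₃ = MTGlueA.img m ∧ HEq j₃ (MTGlueA.imgι m) ∧ HEq t (MTGlueA.toImg m) :=
    ⟨_, _, _, rfl, HEq.rfl, HEq.rfl⟩
  subst hE₃
  have hj₃' : j₃ = MTGlueA.imgι m := eq_of_heq hj₃
  have ht' : t = MTGlueA.toImg m := eq_of_heq ht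
  haveI : IsClosedImmersion j₃.left := by rw [hj₃']; infer_instance
  haveI hmono : Mono j₃ := by rw [hj₃']; infer_instance
  have htj : t ≫ j₃ = m := by rw [hj₃', ht']; exact MTGlueA.toImg_imgι m
  -- the local structure of the image
  have hloc : ∀ s : S, ∃ (W : Scheme.{u}) (w : W ⟶ S), IsOpenImmersion w ∧ s ∈ Set.range w ∧
      ∃ (r : ℕ) (jW : Red.DS W (Fin r → ℤ) ⟶ Red.bc w G)
        (θ : Red.bc w (MTGlueA.img m) ≅ Red.DS W (Fin r → ℤ)),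
        IsMonHom jW ∧ Mono jW ∧ θ.hom ≫ jW = (Over.pullback w).map j₃ := by
    intro s
    obtain ⟨W, w, hw, hs, r, jW, cW, hjW, hcl, hker, hfac⟩ :=
      MTGlueC.exists_local_data hG j₁ j₂ h₁ h₂ s
    rw [← hm] at hfac
    obtain ⟨θ, hθ⟩ := MTGlueA.exists_iso_img m w jW cW hfac hker
    haveI : Mono jW.left := inferInstance
    exact ⟨W, w, hw, hs, r, jW, θ, hjW, (Over.forget _).mono_of_mono_map ‹_›, by rw [hθ, hj₃']⟩
  -- factorization through the image, locally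
  have hfact : ∀ {X : Over S} (f : X ⟶ G),
      (∀ (W : Scheme.{u}) (w : W ⟶ S) (r : ℕ) (jW : Red.DS W (Fin r → ℤ) ⟶ Red.bc w G)
        (θ : Red.bc w (MTGlueA.img m) ≅ Red.DS W (Fin r → ℤ)), IsMonHom jW →
        θ.hom ≫ jW = (Over.pullback w).map j₃ →
        ∃ c' : Red.bc w X ⟶ Red.DS W (Fin r → ℤ), c' ≫ jW = (Over.pullback w).map f) →
      ∃ g : X ⟶ MTGlueA.img m, g ≫ j₃ = f := by
    intro X f hf
    haveI : Mono j₃.left := inferInstance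
    apply MTGlueA.exists_factor_of_local f j₃
    intro s
    obtain ⟨W, w, hw, hs, r, jW, θ, hjW, -, hθ⟩ := hloc s
    obtain ⟨c', hc'⟩ := hf W w r jW θ hjW hθ
    refine ⟨W, w, hw, hs, c' ≫ θ.inv, ?_⟩
    rw [Category.assoc, ← hθ, Iso.inv_hom_id_assoc, hc']
  -- the group structure
  obtain ⟨η', hη'⟩ : ∃ η' : 𝟙_ (Over S) ⟶ MTGlueA.img m, η' ≫ j₃ = η[G] := by
    apply hfact
    intro W w r jW θ hjW hθ
    refine ⟨1, ?_⟩
    have h1 : η[G] = (1 : 𝟙_ (Over S) ⟶ G) := by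
      rw [Hom.one_def, toUnit_unique (toUnit (𝟙_ (Over S))) (𝟙 _), Category.id_comp]
    rw [h1, Functor.map_one, MonObj.one_comp]
  obtain ⟨μ', hμ'⟩ : ∃ μ' : MTGlueA.img m ⊗ MTGlueA.img m ⟶ MTGlueA.img m,
      μ' ≫ j₃ = (j₃ ⊗ₘ j₃) ≫ μ[G] := by
    apply hfact
    intro W w r jW θ hjW hθ
    refine ⟨((Over.pullback w).map (fst _ _) ≫ θ.hom) * ((Over.pullback w).map (snd _ _) ≫ θ.hom),
      ?_⟩
    have h1 : (j₃ ⊗ₘ j₃) ≫ μ[G] = fst _ _ ≫ j₃ * snd _ _ ≫ j₃ := by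
      rw [Hom.mul_def, lift_fst_comp_snd_comp]
    rw [h1, MonObj.mul_comp, Category.assoc, Category.assoc, hθ, Functor.map_mul,
      Functor.map_comp, Functor.map_comp]
  obtain ⟨ι', hι'⟩ : ∃ ι' : MTGlueA.img m ⟶ MTGlueA.img m, ι' ≫ j₃ = j₃ ≫ ι[G] := by
    apply hfact
    intro W w r jW θ hjW hθ
    refine ⟨θ.hom ≫ ι[Red.DS W (Fin r → ℤ)], ?_⟩
    rw [Category.assoc, GrpObj.inv_hom, ← Category.assoc, hθ, Functor.map_comp]
    rfl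
  obtain ⟨instE₃, hj₃mon⟩ := MTGlueA.exists_grpObj_of_mono j₃ η' hη' μ' hμ' ι' hι'
  refine ⟨MTGlueA.img m, instE₃, j₃, lift (𝟙 E₁) 1 ≫ t, lift 1 (𝟙 E₂) ≫ t, hj₃mon, hmono, ?_, ?_,
    ?_⟩
  · intro s
    obtain ⟨W, w, hw, hs, r, jW, θ, hjW, hjWm, hθ⟩ := hloc s
    haveI : IsMonHom θ.hom := Groth.Agent.S16614.isMonHom_of_comp_mono θ.hom jW (by
      rw [hθ]
      infer_instance)
    obtain ⟨e', he'⟩ := MTHom5.triv_of_factor (MTGlueA.img m) w (Fin r → ℤ) θ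
      w.isoOpensRange.inv w.opensRange.ι (Scheme.Hom.isoOpensRange_inv_comp w)
    refine ⟨w.opensRange, ?_, r, ⟨Grp.mkIso' e'⟩⟩
    simpa using hs
  · rw [Category.assoc, htj, hm, MonObj.comp_mul, lift_fst_assoc, lift_snd_assoc, Category.id_comp,
      MonObj.one_comp, _root_.mul_one]
  · rw [Category.assoc, htj, hm, MonObj.comp_mul, lift_fst_assoc, lift_snd_assoc, Category.id_comp,
      MonObj.one_comp, _root_.one_mul]

end main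

end Groth.Agent.Lib.Helper14.MTGlueD
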