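import Mathlib
import Groth.Prelude.Def_Red2
import Groth.Prelude.Def_SGA3x
import Groth.Agent.Lib.Helper14.TwGlue
import Groth.Agent.Lib.Helper14.AutDS
import Groth.Agent.Lib.Helper14.TorConn
import Groth.Agent.Lib.Helper14.MTGlueB
import Groth.Agent.Lib.Helper4.KummerSeq
import Groth.Agent.S16613
import Groth.Agent.S5275

/-! Over an irreducible locally Noetherian base a group which is Zariski-locally a split torus is
a split torus. -/

set_option autoImplicit false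
set_option linter.style.haveILetI false

namespace Groth.Agent.Lib.Helper14.LocSplitIrr

open CategoryTheory MonoidalCategory CartesianMonoidalCategory MonObj GrpObj AlgebraicGeometry
open CategoryTheory.Limits
open Groth.Agent.Lib.Helper9
open Groth.Agent.Lib.Helper14.CentDescB Groth.Agent.Lib.Helper14.TwGlue

universe u

variable {S : Scheme.{u}}

open scoped Obj in
/-- a splitting over an open, as an isomorphism with the restriction of the split group -/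
lemma exists_iso_bc (T₁ : Over S) [GrpObj T₁] (M : Type) [AddCommGroup M] (U : S.Opens)
    (h : Red.IsSplitTorusWith M (Red.bc U.ι T₁)) :
    ∃ c : Red.bc U.ι T₁ ≅ Red.bc U.ι (Red.DS S M), IsMonHom c.hom := by
  obtain ⟨e₀⟩ := h
  obtain ⟨e, he⟩ := MTDescent.exists_iso_of_grp_iso e₀
  obtain ⟨c, hc1, -⟩ := MTSplitA.exists_bc_comp_family U.ι
    (Limits.IsTerminal.from specULiftZIsTerminal S)
    (Limits.IsTerminal.from specULiftZIsTerminal (U : Scheme.{u}))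
    (specULiftZIsTerminal.hom_ext _ _)
  haveI := hc1 (Red.diag (ULift.{u} ℤ) M)
  haveI : IsMonHom (c (Red.diag (ULift.{u} ℤ) M)).inv := inferInstance
  refine ⟨e ≪≫ (c (Red.diag (ULift.{u} ℤ) M)).symm, ?_⟩
  dsimp only [Iso.trans_hom, Iso.symm_hom]
  infer_instance

open scoped Obj in
/-- the split group is locally split -/
lemma ls_DS (r : ℕ) :
    Groth.Agent.S16613.LS (Red.DS S (Fin r → ℤ)) := by
  intro s
  refine ⟨⊤, trivial, r, ?_⟩
  obtain ⟨c, hc1, -⟩ := MTSplitA.exists_bc_comp_family (⊤ : S.Opens).ι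
    (Limits.IsTerminal.from specULiftZIsTerminal S)
    (Limits.IsTerminal.from specULiftZIsTerminal ((⊤ : S.Opens) : Scheme.{u}))
    (specULiftZIsTerminal.hom_ext _ _)
  haveI := hc1 (Red.diag (ULift.{u} ℤ) (Fin r → ℤ))
  exact ⟨Grp.mkIso' (c (Red.diag (ULift.{u} ℤ) (Fin r → ℤ)))⟩


/-- **main theorem**: over an irreducible locally Noetherian base a group which is Zariski-locally
a split torus is a split torus -/
theorem split_of_locSplit [IrreducibleSpace S] [IsLocallyNoetherian S] (T₁ : Over S) [GrpObj T₁]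
    (hT₁ : ∀ s : S, ∃ U : S.Opens, s ∈ U ∧ ∃ r : ℕ,
      Red.IsSplitTorusWith (Fin r → ℤ) (Red.bc U.ι T₁)) :
    ∃ r : ℕ, Red.IsSplitTorusWith (Fin r → ℤ) T₁ := by
  obtain ⟨ξ, hξ⟩ : ∃ ξ : S, ξ = genericPoint S := ⟨_, rfl⟩
  have hξmem : ∀ (U : S.Opens) (s : S), s ∈ U → ξ ∈ U := fun U s hs => by
    rw [hξ]
    exact (genericPoint_specializes s).mem_open U.isOpen hs
  -- the rank is constant
  obtain ⟨U₀, hξ₀, r, h₀⟩ := hT₁ ξ
  have hT' : ∀ s : S, ∃ U : S.Opens, s ∈ U ∧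
      Red.IsSplitTorusWith (Fin r → ℤ) (Red.bc U.ι T₁) := by
    intro s
    obtain ⟨U, hsU, r', h'⟩ := hT₁ s
    have g1 := Groth.Agent.S16613.gsplit_of_local T₁ U₀ r h₀ ξ hξ₀
    have g2 := Groth.Agent.S16613.gsplit_of_local T₁ U r' h' ξ (hξmem U s hsU)
    obtain ⟨y⟩ := Groth.Agent.S16613.nonempty_geom ξ
    have := Groth.Agent.S16613.rank_unique r r' g1 g2 y
    subst this
    exact ⟨U, hsU, h'⟩
  choose U hU hsplit using hT'
  have hcs := fun s => exists_iso_bc T₁ (Fin r → ℤ) (U s) (hsplit s)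
  choose cs hcs using hcs
  haveI := hcs
  haveI hDS : ∀ (φ : (Fin r → ℤ) →+ (Fin r → ℤ)), IsMonHom (Red.DSmap S φ) :=
    fun φ => Groth.Agent.Lib.Helper4.KummerSeq.isMonHom_DSmap S φ
  -- the generic point
  obtain ⟨gξ, hgξ⟩ : ∃ g : Spec (S.residueField ξ) ⟶ S, g = S.fromSpecResidueField ξ := ⟨_, rfl⟩
  have hrange : ∀ (V : S.Opens), ξ ∈ V → Set.range gξ ⊆ Set.range V.ι := by
    intro V hV
    rw [hgξ, Scheme.range_fromSpecResidueField, Scheme.Opens.range_ι]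
    exact Set.singleton_subset_iff.mpr hV
  have hξU : ∀ s, ξ ∈ U s := fun s => hξmem (U s) s (hU s)
  have hp : ∀ s, ∃ p : Spec (S.residueField ξ) ⟶ (U s : Scheme.{u}), p ≫ (U s).ι = gξ :=
    fun s => ⟨IsOpenImmersion.lift (U s).ι gξ (hrange (U s) (hξU s)),
      IsOpenImmersion.lift_fac _ _ _⟩
  choose p hp using hp
  obtain ⟨f, hf⟩ : ∃ f : ∀ s, Red.bc gξ T₁ ⟶ Red.bc gξ (Red.DS S (Fin r → ℤ)),
      ∀ s, f s = tw T₁ (Red.DS S (Fin r → ℤ)) (U s).ι (p s) gξ (hp s) (cs s).hom :=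
    ⟨_, fun _ => rfl⟩
  haveI hfiso : ∀ s, IsIso (f s) := fun s => by
    rw [hf]
    exact isIso_tw _ _ _ _ _ _ _
  haveI hfmon : ∀ s, IsMonHom (f s) := fun s => by
    rw [hf]
    exact isMonHom_tw _ _ _ _ _ _ _
  have hφ : ∀ s, ∃ φ : (Fin r → ℤ) →+ (Fin r → ℤ),
      (asIso (f s)).inv ≫ f ξ = (Over.pullback gξ).map (Red.DSmap S φ) := by
    intro s
    haveI : IsMonHom (asIso (f s)).inv := inferInstance
    have := @AutDS.exists_hom_DS S (S.residueField ξ) _ gξ (Fin r → ℤ) (Fin r → ℤ) _ _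
      ((asIso (f s)).inv ≫ f ξ) ?_
    · exact this
    · infer_instance
  choose φ hφ using hφ
  obtain ⟨c', hc'⟩ : ∃ c' : ∀ s, Red.bc (U s).ι T₁ ⟶ Red.bc (U s).ι (Red.DS S (Fin r → ℤ)),
      ∀ s, c' s = (cs s).hom ≫ (Over.pullback (U s).ι).map (Red.DSmap S (φ s)) :=
    ⟨_, fun _ => rfl⟩
  haveI hc'mon : ∀ s, IsMonHom (c' s) := fun s => by
    rw [hc']
    infer_instance
  have hc'f : ∀ s, tw T₁ (Red.DS S (Fin r → ℤ)) (U s).ι (p s) gξ (hp s) (c' s) = f ξ := by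
    intro s
    rw [hc', tw_comp, tw_map, ← hφ s, ← hf s, ← Category.assoc]
    simp
  -- multiplicative type
  have hT₁mt : SGA3x.IsMultTypeFT T₁ :=
    TorConn.isMultTypeFT_of_isTorus T₁ (Groth.Agent.S16613.isTorus_of_LS T₁ hT₁)
  have hDmt : SGA3x.IsMultTypeFT (Red.DS S (Fin r → ℤ)) :=
    TorConn.isMultTypeFT_of_isTorus _ (Groth.Agent.S16613.isTorus_of_LS _ (ls_DS r))
  have hcompat : ∀ s t, tw T₁ (Red.DS S (Fin r → ℤ)) (U s).ι (S.homOfLE inf_le_left)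
      (U s ⊓ U t).ι (S.homOfLE_ι _) (c' s) =
      tw T₁ (Red.DS S (Fin r → ℤ)) (U t).ι (S.homOfLE inf_le_right) (U s ⊓ U t).ι
        (S.homOfLE_ι _) (c' t) := by
    intro s t
    have hξW : ξ ∈ U s ⊓ U t := ⟨hξU s, hξU t⟩
    haveI : ConnectedSpace ↥((U s ⊓ U t : S.Opens) : Scheme.{u}) := by
      have h1 : IsPreirreducible ((U s ⊓ U t : S.Opens) : Set S) :=
        (IrreducibleSpace.isIrreducible_univ S).isPreirreducible.open_subset
          (U s ⊓ U t).isOpen (Set.subset_univ _)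
      have h2 : IsIrreducible ((U s ⊓ U t : S.Opens) : Set S) := ⟨⟨ξ, hξW⟩, h1⟩
      exact isConnected_iff_connectedSpace.mp h2.isConnected
    obtain ⟨z, hz⟩ : ∃ z : Spec (S.residueField ξ) ⟶ ((U s ⊓ U t : S.Opens) : Scheme.{u}),
        z ≫ (U s ⊓ U t).ι = gξ :=
      ⟨IsOpenImmersion.lift _ gξ (hrange _ hξW), IsOpenImmersion.lift_fac _ _ _⟩
    haveI : IsAffineHom (Red.DS S (Fin r → ℤ)).hom := MTGlueB.isAffineHom_DS _
    haveI : IsSeparated (Red.bc (U s ⊓ U t).ι (Red.DS S (Fin r → ℤ))).hom :=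
      inferInstanceAs (IsSeparated (pullback.snd (Red.DS S (Fin r → ℤ)).hom (U s ⊓ U t).ι))
    haveI := isMonHom_tw T₁ (Red.DS S (Fin r → ℤ)) (U s).ι (S.homOfLE inf_le_left)
      (U s ⊓ U t).ι (S.homOfLE_ι _) (c' s)
    haveI := isMonHom_tw T₁ (Red.DS S (Fin r → ℤ)) (U t).ι (S.homOfLE inf_le_right)
      (U s ⊓ U t).ι (S.homOfLE_ι _) (c' t)
    refine eq_of_eq_at (MTSplitD.locTriv_bc T₁ _ hT₁mt _) (MTSplitD.locTriv_bc _ _ hDmt _)
      (Or.inl inferInstance) _ _ z ?_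
    apply map_eq_of_tw_eq T₁ (Red.DS S (Fin r → ℤ)) (U s ⊓ U t).ι z gξ hz
    rw [tw_tw, tw_tw]
    have e1 : z ≫ S.homOfLE (inf_le_left : U s ⊓ U t ≤ U s) = p s := by
      rw [← cancel_mono (U s).ι, Category.assoc, Scheme.homOfLE_ι, hz, hp]
    have e2 : z ≫ S.homOfLE (inf_le_right : U s ⊓ U t ≤ U t) = p t := by
      rw [← cancel_mono (U t).ι, Category.assoc, Scheme.homOfLE_ι, hz, hp]
    rw [tw_congr T₁ (Red.DS S (Fin r → ℤ)) (U s).ι gξ _ (p s) e1 _ (hp s),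
      tw_congr T₁ (Red.DS S (Fin r → ℤ)) (U t).ι gξ _ (p t) e2 _ (hp t), hc'f s, hc'f t]
  -- gluing
  obtain ⟨g, hg⟩ := exists_glue U hU c' hcompat
  have hmon : ∀ s : S, IsMonHom ((Over.pullback (U s).ι).map g) := fun s => by
    rw [hg]
    infer_instance
  haveI : IsMonHom g := isMonHom_of_local g (cov U hU) (fun s => hmon s)
  -- the glued homomorphism is an isomorphism
  obtain ⟨V, hVcl, hViff, hViso⟩ :=
    Groth.Agent.S5275.result T₁ (Red.DS S (Fin r → ℤ)) hT₁mt hDmt g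
  have hgξ' : (Over.pullback gξ).map g = f ξ := by
    rw [← tw_map T₁ (Red.DS S (Fin r → ℤ)) (U ξ).ι (p ξ) gξ (hp ξ) g, hg, hc'f]
  have hξV : ξ ∈ V := by
    rw [hViff, ← hgξ, hgξ']
    exact inferInstanceAs (IsIso ((Over.forget _).map (f ξ)))
  have hV : V = ⊤ := by
    apply SetLike.coe_injective
    exact IsClopen.eq_univ ⟨hVcl, V.isOpen⟩ ⟨ξ, hξV⟩
  subst hV
  have sq := Groth.Agent.Lib.Helper4.KummerSeq.isPullback_pullback_map (⊤ : S.Opens).ι g
  haveI : IsIso (⊤ : S.Opens).ι := inferInstanceAs (IsIso S.topIso.hom)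
  have hgl : g.left = CategoryTheory.inv (pullback.fst T₁.hom (⊤ : S.Opens).ι) ≫
      ((Over.pullback (⊤ : S.Opens).ι).map g).left ≫
        pullback.fst (Red.DS S (Fin r → ℤ)).hom (⊤ : S.Opens).ι := by
    rw [← sq.w, IsIso.inv_hom_id_assoc]
  haveI : IsIso g.left := by
    rw [hgl]
    infer_instance
  haveI : IsIso ((Over.forget S).map g) := ‹IsIso g.left›
  haveI : IsIso g := isIso_of_reflects_iso g (Over.forget S)
  exact ⟨r, ⟨Grp.mkIso' (asIso g)⟩⟩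

end Groth.Agent.Lib.Helper14.LocSplitIrr
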