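import Groth.Prelude.Def_Found
import Mathlib.LinearAlgebra.TensorProduct.Quotient
import Mathlib.LinearAlgebra.TensorProduct.Pi
import Mathlib.LinearAlgebra.TensorProduct.Tower
import Mathlib.LinearAlgebra.TensorProduct.Vanishing
import Mathlib.Algebra.Module.FinitePresentation
import Mathlib.RingTheory.Flat.Basic

/-! Helper library (helper14): tensor products with finitely presented modules commute with
arbitrary products; transfer of the Mittag-Leffler property (product definition) along ring maps. -/

set_option autoImplicit false
universe u v w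

namespace Groth.Agent.Lib.Helper14.MLProd

open TensorProduct

section

variable {R : Type u} [CommRing R] {P : Type v} [AddCommGroup P] [Module R P]

/-- If the `s j` span `P`, every element of `P ⊗ N` is of the form `∑ s j ⊗ q j`. -/
lemma exists_sum_tmul {n : ℕ} (s : Fin n → P) (hs : Submodule.span R (Set.range s) = ⊤)
    {N : Type w} [AddCommGroup N] [Module R N] (y : P ⊗[R] N) :
    ∃ q : Fin n → N, y = ∑ j, s j ⊗ₜ[R] q j := by
  induction y using TensorProduct.induction_on with
  | zero => exact ⟨0, by simp⟩
  | tmul p x =>
    have hp : p ∈ Submodule.span R (Set.range s) := by rw [hs]; trivial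
    obtain ⟨c, rfl⟩ := (Submodule.mem_span_range_iff_exists_fun R).mp hp
    refine ⟨fun j => c j • x, ?_⟩
    rw [TensorProduct.sum_tmul]
    refine Finset.sum_congr rfl fun j _ => ?_
    rw [TensorProduct.smul_tmul]
  | add x y hx hy =>
    obtain ⟨q, rfl⟩ := hx
    obtain ⟨q', rfl⟩ := hy
    refine ⟨q + q', ?_⟩
    simp [TensorProduct.tmul_add, Finset.sum_add_distrib]

/-- Tensoring with a finitely presented module commutes with arbitrary products. -/
theorem piRightHom_bijective_of_finitePresentation [Module.FinitePresentation R P]
    {ι : Type w} (Q : ι → Type w) [∀ i, AddCommGroup (Q i)] [∀ i, Module R (Q i)] :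
    Function.Bijective (TensorProduct.piRightHom R R P Q) := by
  classical
  obtain ⟨n, s, hs⟩ := Module.Finite.exists_fin (R := R) (M := P)
  -- the presentation
  let π : (Fin n → R) →ₗ[R] P := Fintype.linearCombination R s
  have hπ : Function.Surjective π := by
    rw [← LinearMap.range_eq_top, Fintype.range_linearCombination, hs]
  have hK : (LinearMap.ker π).FG := Module.FinitePresentation.fg_ker π hπ
  obtain ⟨m, k, hk⟩ := Submodule.fg_iff_exists_fin_generating_family.mp hK
  have hkπ : ∀ l, ∑ j, k l j • s j = 0 := by
    intro l
    have : k l ∈ LinearMap.ker π := by rw [← hk]; exact Submodule.subset_span ⟨l, rfl⟩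
    simpa [π, Fintype.linearCombination_apply] using this
  constructor
  · rw [injective_iff_map_eq_zero]
    intro x hx
    obtain ⟨q, rfl⟩ := exists_sum_tmul s hs x
    have hx' : ∀ i, ∑ j, s j ⊗ₜ[R] q j i = (0 : P ⊗[R] Q i) := by
      intro i
      have := congrFun hx i
      simpa [map_sum, TensorProduct.piRightHom_tmul] using this
    have hz : ∀ i, ∃ z : Fin m → Q i, ∀ j, q j i = ∑ l, k l j • z l := by
      intro i
      obtain ⟨κ, a, y, h1, h2⟩ :=
        TensorProduct.vanishesTrivially_of_sum_tmul_eq_zero R hs (hx' i)
      have hmem : ∀ t, (fun j => a j t) ∈ Submodule.span R (Set.range k) := by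
        intro t
        rw [hk, LinearMap.mem_ker]
        simpa [π, Fintype.linearCombination_apply] using h2 t
      choose c hc using fun t => (Submodule.mem_span_range_iff_exists_fun R).mp (hmem t)
      refine ⟨fun l => ∑ t, c t l • y t, fun j => ?_⟩
      have h1j : q j i = ∑ t, a j t • y t := h1 j
      rw [h1j]
      show ∑ t, a j t • y t = ∑ l, k l j • ∑ t, c t l • y t
      have hajt : ∀ t, a j t = ∑ l, c t l * k l j := by
        intro t
        have := congrFun (hc t) j
        simpa [Finset.sum_apply] using this.symm
      simp_rw [hajt, Finset.sum_smul, Finset.smul_sum]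
      rw [Finset.sum_comm]
      refine Finset.sum_congr rfl fun l _ => Finset.sum_congr rfl fun t _ => ?_
      rw [smul_smul, mul_comm]
    choose z hz using hz
    have hq : ∀ j, q j = ∑ l, k l j • (fun i => z i l) := by
      intro j
      ext i
      rw [hz i j, Finset.sum_apply]
      rfl
    simp_rw [hq, TensorProduct.tmul_sum]
    rw [Finset.sum_comm]
    refine Finset.sum_eq_zero fun l _ => ?_
    simp_rw [← TensorProduct.smul_tmul]
    rw [← TensorProduct.sum_tmul, hkπ l, TensorProduct.zero_tmul]
  · intro y
    choose q hq using fun i => exists_sum_tmul s hs (y i)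
    refine ⟨∑ j, s j ⊗ₜ[R] (fun i => q i j), ?_⟩
    ext i
    rw [hq i]
    simp [map_sum, TensorProduct.piRightHom_tmul]

end

section

variable {R S : Type u} [CommRing R] [CommRing S] [Algebra R S]

/-- the `S`-linear and the `R`-linear versions of `piRightHom` agree as functions. -/
lemma piRightHom_coe_eq (N : Type u) [AddCommGroup N] [Module R N] [Module S N]
    [IsScalarTower R S N] {ι : Type u} (Q : ι → Type u)
    [∀ i, AddCommGroup (Q i)] [∀ i, Module R (Q i)] :
    ⇑(TensorProduct.piRightHom R S N Q) = ⇑(TensorProduct.piRightHom R R N Q) := by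
  ext x i
  induction x using TensorProduct.induction_on with
  | zero => simp
  | tmul a q => simp
  | add x y hx hy => simp only [map_add, Pi.add_apply, hx, hy]

/-- Transfer of the Mittag-Leffler property from `S` to `R`, for an `S`-module `M`, as soon as
`M ⊗[S] (S ⊗[R] ∏ Q i) → M ⊗[S] ∏ (S ⊗[R] Q i)` is injective for all families. -/
theorem ml_of_algebra (M : Type u) [AddCommGroup M] [Module S M] [Module R M]
    [IsScalarTower R S M]
    (hinj : ∀ (ι : Type u) (Q : ι → Type u) [∀ i, AddCommGroup (Q i)] [∀ i, Module R (Q i)],
      Function.Injective (LinearMap.lTensor M (TensorProduct.piRightHom R S S Q)))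
    (h : CAlg.IsMittagLeffler S M) : CAlg.IsMittagLeffler R M := by
  intro ι Q _ _
  let e1 : M ⊗[R] (∀ i, Q i) ≃ₗ[S] M ⊗[S] (S ⊗[R] (∀ i, Q i)) :=
    (TensorProduct.AlgebraTensorModule.cancelBaseChange R S S M (∀ i, Q i)).symm
  let e3 : (∀ i, M ⊗[S] (S ⊗[R] Q i)) ≃ₗ[S] (∀ i, M ⊗[R] Q i) :=
    LinearEquiv.piCongrRight fun i =>
      TensorProduct.AlgebraTensorModule.cancelBaseChange R S S M (Q i)
  have hT := h ι (fun i => S ⊗[R] Q i)
  have key : ∀ x, TensorProduct.piRightHom R R M Q x =
      e3 (TensorProduct.piRightHom S S M (fun i => S ⊗[R] Q i)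
        (LinearMap.lTensor M (TensorProduct.piRightHom R S S Q) (e1 x))) := by
    intro x
    induction x using TensorProduct.induction_on with
    | zero => simp
    | tmul m q =>
      ext i
      simp [e1, e3]
    | add x y hx hy => simp only [map_add, hx, hy]
  intro x y hxy
  apply e1.injective
  apply hinj ι Q
  apply hT
  apply e3.injective
  rw [← key, ← key, hxy]

/-- `lTensor` of a bijective linear map is injective. -/
lemma lTensor_injective_of_bijective (M : Type u) [AddCommGroup M] [Module S M]
    {A B : Type u} [AddCommGroup A] [Module S A] [AddCommGroup B] [Module S B]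
    (f : A →ₗ[S] B) (hf : Function.Bijective f) :
    Function.Injective (LinearMap.lTensor M f) := by
  have : LinearMap.lTensor M f =
      (LinearEquiv.lTensor M (LinearEquiv.ofBijective f hf)).toLinearMap := by
    ext m a
    simp
  rw [this]
  exact (LinearEquiv.lTensor M (LinearEquiv.ofBijective f hf)).injective

end

section

variable {R : Type u} [CommRing R]

/-- naturality of `piRightHom` in the first factor. -/
lemma piRightHom_natural {M M' : Type u} [AddCommGroup M] [Module R M] [AddCommGroup M']
    [Module R M'] (f : M →ₗ[R] M') {ι : Type u} (Q : ι → Type u)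
    [∀ i, AddCommGroup (Q i)] [∀ i, Module R (Q i)] (x : M ⊗[R] (∀ i, Q i)) :
    TensorProduct.piRightHom R R M' Q (LinearMap.rTensor (∀ i, Q i) f x) =
      fun i => LinearMap.rTensor (Q i) f (TensorProduct.piRightHom R R M Q x i) := by
  induction x using TensorProduct.induction_on with
  | zero => ext i; simp
  | tmul m q => ext i; simp
  | add y z hy hz =>
    rw [map_add, map_add, hy, hz, map_add]
    ext i
    simp

/-- for a finitely generated module the comparison map with a product is surjective. -/
lemma piRightHom_surjective_of_fg {N : Type u} [AddCommGroup N] [Module R N] [Module.Finite R N]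
    {ι : Type u} (Q : ι → Type u) [∀ i, AddCommGroup (Q i)] [∀ i, Module R (Q i)] :
    Function.Surjective (TensorProduct.piRightHom R R N Q) := by
  obtain ⟨n, s, hs⟩ := Module.Finite.exists_fin (R := R) (M := N)
  intro y
  choose q hq using fun i => exists_sum_tmul s hs (y i)
  refine ⟨∑ j, s j ⊗ₜ[R] (fun i => q i j), ?_⟩
  ext i
  rw [hq i]
  simp [map_sum, TensorProduct.piRightHom_tmul]

end

end Groth.Agent.Lib.Helper14.MLProd
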