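import Mathlib.CategoryTheory.Monoidal.Cartesian.Over
import Mathlib.CategoryTheory.Monoidal.Grp
import Groth.Prelude.Def_AlgGrp

set_option autoImplicit false

namespace Groth.Agent.Lib.Helper14.MTCentral

open CategoryTheory MonoidalCategory CartesianMonoidalCategory MonObj GrpObj AlgebraicGeometry

universe u

variable {S : Scheme.{u}} {G X : Over S} [GrpObj G]

/-- an action from its description on points -/
def actionOfPts (act : G ⊗ X ⟶ X)
    (one : ∀ (Y : Over S) (x : Y ⟶ X), lift (1 : Y ⟶ G) x ≫ act = x)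
    (mul : ∀ (Y : Over S) (g h : Y ⟶ G) (x : Y ⟶ X),
      lift (g * h) x ≫ act = lift g (lift h x ≫ act) ≫ act) : AlgGrp.Action G X where
  act := act
  one_act := by
    have h : (η[G] ▷ X) = lift (1 : 𝟙_ (Over S) ⊗ X ⟶ G) (snd _ _) := by
      apply CartesianMonoidalCategory.hom_ext
      · rw [whiskerRight_fst, lift_fst, Hom.one_def]
        congr 1
      · rw [whiskerRight_snd, lift_snd]
    rw [h, one, leftUnitor_hom]
  mul_act := by
    have h : (μ[G] ▷ X) = lift ((fst (G ⊗ G) X ≫ fst G G) * (fst (G ⊗ G) X ≫ snd G G))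
        (snd (G ⊗ G) X) := by
      apply CartesianMonoidalCategory.hom_ext
      · rw [whiskerRight_fst, lift_fst, Hom.mul_def, ← comp_lift, lift_fst_snd, Category.comp_id]
      · rw [whiskerRight_snd, lift_snd]
    have h' : (α_ G G X).hom = lift (fst (G ⊗ G) X ≫ fst G G)
        (lift (fst (G ⊗ G) X ≫ snd G G) (snd (G ⊗ G) X)) := by
      apply CartesianMonoidalCategory.hom_ext
      · simp
      · apply CartesianMonoidalCategory.hom_ext <;> simp
    rw [h, mul, h', lift_whiskerLeft_assoc]

variable {H : Over S} [GrpObj H] (v : G ⟶ H) [IsMonHom v]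

/-- the conjugation action of `G` on `H` through `v : G ⟶ H` -/
noncomputable def conjAct : G ⊗ H ⟶ H := (fst G H ≫ v) * snd G H * (fst G H ≫ v)⁻¹

lemma lift_conjAct (Y : Over S) (g : Y ⟶ G) (h : Y ⟶ H) :
    lift g h ≫ conjAct v = (g ≫ v) * h * (g ≫ v)⁻¹ := by
  rw [conjAct, MonObj.comp_mul, MonObj.comp_mul, GrpObj.comp_inv, lift_fst_assoc, lift_snd]

/-- the conjugation action -/
noncomputable def conjAction : AlgGrp.Action G H :=
  actionOfPts (conjAct v)
    (fun Y x => by rw [lift_conjAct, MonObj.one_comp, inv_one, _root_.mul_one, _root_.one_mul])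
    (fun Y g h x => by
      rw [lift_conjAct, lift_conjAct, lift_conjAct, MonObj.mul_comp, _root_.mul_inv_rev]
      simp only [_root_.mul_assoc])

lemma conjAction_act : (conjAction v).act = conjAct v := rfl

end Groth.Agent.Lib.Helper14.MTCentral
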