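import Mathlib
import Groth.Prelude.Def_Red2
import Groth.Prelude.Def_AlgGrp
import Groth.Agent.Lib.Helper14.MTSplitB

set_option autoImplicit false

namespace Groth.Agent.Lib.Helper14.MTField

open CategoryTheory MonoidalCategory CartesianMonoidalCategory MonObj GrpObj AlgebraicGeometry
open CategoryTheory.Limits TensorProduct
open Groth.Agent.Lib.Helper14 GrpBridge

universe u

section alg

variable {k : Type u} [Field k] {HM HN : Type u} [CommRing HM] [CommRing HN]
  [Bialgebra k HM] [Bialgebra k HN] {M N : Type} [AddCommGroup M] [AddCommGroup N]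
  (GM : MTHom1.GLB k HM M) (GN : MTHom1.GLB k HN N)

/-- over a field, a homomorphism of bialgebras with group-like bases is induced by a homomorphism
of the index groups -/
theorem exists_hom_of_field (f : HN →ₐc[k] HM) : ∃ φ : N →+ M, ∀ n, f (GN.b n) = GM.b (φ n) := by
  let pt : PrimeSpectrum k := ⟨⊥, Ideal.isPrime_bot⟩
  refine ⟨MTHom1.φP f GM GN pt, fun n => ?_⟩
  have hconst : ∀ 𝔮 : PrimeSpectrum k,
      MTHom1.φP f GM GN (𝔮.comap (algebraMap k k)) = MTHom1.φP f GM GN pt := by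
    intro 𝔮
    congr 1
    exact Subsingleton.elim _ _
  have h := MTHom1.tmul_f_eq f GM GN k (MTHom1.φP f GM GN pt) hconst n
  have h2 := congrArg (TensorProduct.lid k HM) h
  simpa using h2

/-- surjectivity of a homomorphism of bialgebras with group-like bases read on the index groups -/
theorem surjective_of_surjective (f : HN →ₐ[k] HM) (φ : N →+ M)
    (hf : ∀ n, f (GN.b n) = GM.b (φ n)) (hs : Function.Surjective f) : Function.Surjective φ := by
  classical
  intro m
  by_contra hm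
  push_neg at hm
  have hlin : (GM.b.coord m) ∘ₗ f.toLinearMap = 0 := by
    apply GN.b.ext
    intro n
    show GM.b.coord m (f (GN.b n)) = 0
    rw [hf, Module.Basis.coord_apply, Module.Basis.repr_self, Finsupp.single_apply,
      if_neg (hm n)]
  have hrange : ∀ x : HN, GM.b.coord m (f x) = 0 := fun x => LinearMap.congr_fun hlin x
  obtain ⟨x, hx⟩ := hs (GM.b m)
  have h1 := hrange x
  rw [hx, Module.Basis.coord_apply, Module.Basis.repr_self, Finsupp.single_eq_same] at h1
  exact one_ne_zero h1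

/-- injectivity of a homomorphism of bialgebras with group-like bases read on the index groups -/
theorem injective_of_injective (f : HN →ₐ[k] HM) (φ : N →+ M)
    (hf : ∀ n, f (GN.b n) = GM.b (φ n)) (hi : Function.Injective f) : Function.Injective φ := by
  intro n n' h
  apply GN.b.injective
  apply hi
  rw [hf, hf, h]

end alg

section split

variable {k : Type u} [Field k] {HK HG HQ : Type u} [CommRing HK] [CommRing HG] [CommRing HQ]
  [Bialgebra k HK] [Bialgebra k HG] [Bialgebra k HQ]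
  {NK NG NQ : Type} [AddCommGroup NK] [AddCommGroup NG] [AddCommGroup NQ]
  (GK : MTHom1.GLB k HK NK) (GG : MTHom1.GLB k HG NG) (GQ : MTHom1.GLB k HQ NQ)
  [Module.Free ℤ NK]
  (fi : HG →ₐc[k] HK) (fπ : HQ →ₐc[k] HG)
  (hsurj : Function.Surjective fi) (hinj : Function.Injective fπ)
  (hker : IsPullback (specHom k HG (fi : HG →ₐ[k] HK)) (toUnit _)
    (specHom k HQ (fπ : HQ →ₐ[k] HG)) η[(Spec (.of HQ)).asOver (Spec (.of k))])

/-- an opaque bialgebra with a group-like basis indexed by a given group -/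
lemma exists_model (C : Type) [AddCommGroup C] : ∃ (HC : Type u) (_ : CommRing HC)
    (_ : Bialgebra k HC), Nonempty (MTHom1.GLB k HC C) := by
  obtain ⟨GC, -⟩ := MTSplitB.exists_glb' k k C
  exact ⟨_, _, _, ⟨GC⟩⟩

lemma specHom_injective {A T : Type u} [CommRing A] [CommRing T] [Algebra k A] [Algebra k T]
    (x y : A →ₐ[k] T) (h : specHom k A x = specHom k A y) : x = y := by
  have h1 := congrArg (fun m => m.left) h
  have h2 : Spec.map (CommRingCat.ofHom (x : A →+* T)) =
      Spec.map (CommRingCat.ofHom (y : A →+* T)) := h1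
  have h3 := Spec.map_injective h2
  ext a
  exact congrArg (fun m => m.hom a) h3

include GK GG GQ hsurj hinj hker in
/-- an exact sequence of split tori over a field splits: the algebraic statement -/
theorem exists_retraction :
    ∃ fs : HG →ₐc[k] HQ, (fs : HG →ₐ[k] HQ).comp (fπ : HQ →ₐ[k] HG) = AlgHom.id k HQ := by
  obtain ⟨φ, hφ⟩ := exists_hom_of_field GG GQ fπ
  obtain ⟨ψ, hψ⟩ := exists_hom_of_field GK GG fi
  have hψs : Function.Surjective ψ :=
    surjective_of_surjective GK GG (fi : HG →ₐ[k] HK) ψ hψ hsurj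
  have hφi : Function.Injective φ :=
    injective_of_injective GG GQ (fπ : HQ →ₐ[k] HG) φ hφ hinj
  -- the composite is zero
  have hc : ∀ n, ψ (φ n) = 0 := by
    have hcomp : ∀ n, ((fi : HG →ₐ[k] HK).comp (fπ : HQ →ₐ[k] HG)) (GQ.b n) =
        GK.b ((ψ.comp φ) n) := by
      intro n
      show fi (fπ (GQ.b n)) = _
      rw [hφ, hψ]
      rfl
    have h1 := (MTSplitA.specHom_eq_one_iff GK GQ (ψ.comp φ) _ hcomp).mp (by
      rw [specHom_comp]
      exact hker.w)
    exact h1
  -- exactness in the middle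
  have hd : ∀ n, ψ n = 0 → n ∈ φ.range := by
    intro n hn
    obtain ⟨HC, _, _, ⟨GC⟩⟩ := exists_model (k := k) (NG ⧸ φ.range)
    obtain ⟨fc, hfc⟩ := MTQuotE.exists_bialgHom_of_glb GG GC (QuotientAddGroup.mk' φ.range)
    have hcomp : ∀ m, ((fc : HG →ₐ[k] HC).comp (fπ : HQ →ₐ[k] HG)) (GQ.b m) =
        GC.b (((QuotientAddGroup.mk' φ.range).comp φ) m) := by
      intro m
      show fc (fπ (GQ.b m)) = _
      rw [hφ, hfc]
      rfl
    have h1 := (MTSplitA.specHom_eq_one_iff GC GQ ((QuotientAddGroup.mk' φ.range).comp φ) _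
      hcomp).mpr (by
        intro m
        show (QuotientAddGroup.mk' φ.range) (φ m) = 0
        rw [QuotientAddGroup.mk'_apply, QuotientAddGroup.eq_zero_iff]
        exact ⟨m, rfl⟩)
    rw [specHom_comp] at h1
    obtain ⟨l, hl⟩ : ∃ l, l ≫ specHom k HG (fi : HG →ₐ[k] HK) =
        specHom k HG (fc : HG →ₐ[k] HC) := ⟨hker.lift _ _ h1, hker.lift_fst _ _ _⟩
    obtain ⟨fl, hfl⟩ : ∃ fl : HK →ₐ[k] HC, specHom k HK fl = l :=
      ⟨((Spec.mapMulEquiv (R := k) (S := HK)).symm l).ofConv,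
        (Spec.mapMulEquiv (R := k) (S := HK)).apply_symm_apply l⟩
    have h2 : fl.comp (fi : HG →ₐ[k] HK) = (fc : HG →ₐ[k] HC) := by
      apply specHom_injective
      rw [specHom_comp, hfl, hl]
    have h3 : GC.b ((QuotientAddGroup.mk' φ.range) n) = GC.b 0 := by
      rw [← hfc]
      have h5 : fc (GG.b n) = fl (fi (GG.b n)) := (AlgHom.congr_fun h2 (GG.b n)).symm
      rw [h5, hψ, hn, GK.zero, map_one, GC.zero]
    have h4 := GC.b.injective h3
    rw [QuotientAddGroup.mk'_apply, QuotientAddGroup.eq_zero_iff] at h4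
    exact h4
  -- splitting
  have hexact : Function.Exact φ.toIntLinearMap ψ.toIntLinearMap := by
    intro y
    constructor
    · intro hy
      obtain ⟨x, hx⟩ := hd y hy
      exact ⟨x, hx⟩
    · rintro ⟨x, rfl⟩
      exact hc x
  obtain ⟨sec, hsec⟩ := Module.projective_lifting_property ψ.toIntLinearMap LinearMap.id hψs
  obtain ⟨-, ρ, hρ⟩ := ((Function.Exact.split_tfae' hexact).out 0 1 rfl rfl).mp
    ⟨hφi, sec, by rw [hsec]⟩
  obtain ⟨fs, hfs⟩ := MTQuotE.exists_bialgHom_of_glb GG GQ ρ.toAddMonoidHom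
  refine ⟨fs, ?_⟩
  apply AlgHom.toLinearMap_injective
  apply GQ.b.ext
  intro n
  show fs (fπ (GQ.b n)) = GQ.b n
  rw [hφ, hfs]
  congr 1
  exact LinearMap.congr_fun hρ n

end split

section geom

theorem surjective_of_isClosedImmersion_specMap {R S : CommRingCat.{u}} (ψ : R ⟶ S)
    (h : IsClosedImmersion (Spec.map ψ)) : Function.Surjective ψ.hom := by
  have h1 := (IsClosedImmersion.isAffine_surjective_of_isAffine (Spec.map ψ)).2
  have h2 := Scheme.ΓSpecIso_naturality ψ
  intro y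
  obtain ⟨x, hx⟩ := h1 ((Scheme.ΓSpecIso S).inv.hom y)
  refine ⟨(Scheme.ΓSpecIso R).hom.hom x, ?_⟩
  have h3 := congrArg (fun k => k.hom x) h2
  simp only [CommRingCat.hom_comp, RingHom.comp_apply] at h3
  rw [← h3, hx]
  exact congrArg (fun k => k.hom y) (Scheme.ΓSpecIso S).inv_hom_id

variable (K₀ : Type u) [CommRing K₀] (k : Type u) [Field k] [Algebra K₀ k]
  {K G Q : Over (Spec (CommRingCat.of k))} [GrpObj K] [GrpObj G] [GrpObj Q]
  (NK NG NQ : Type) [AddCommGroup NK] [AddCommGroup NG] [AddCommGroup NQ] [Module.Free ℤ NK]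
  (eK : K ≅ Red.bc (Spec.map (CommRingCat.ofHom (algebraMap K₀ k))) (Red.diag K₀ NK))
  [IsMonHom eK.hom]
  (eG : G ≅ Red.bc (Spec.map (CommRingCat.ofHom (algebraMap K₀ k))) (Red.diag K₀ NG))
  [IsMonHom eG.hom]
  (eQ : Q ≅ Red.bc (Spec.map (CommRingCat.ofHom (algebraMap K₀ k))) (Red.diag K₀ NQ))
  [IsMonHom eQ.hom]
  (i : K ⟶ G) [IsMonHom i] [IsClosedImmersion i.left] (π : G ⟶ Q) [IsMonHom π] [Flat π.left]
  [Surjective π.left] (hker : AlgGrp.IsKernel i π)

include eK eG eQ hker in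
open scoped Obj in
/-- an exact sequence of split tori over a field splits -/
theorem split_exact : ∃ s : Q ⟶ G, IsMonHom s ∧ s ≫ π = 𝟙 Q := by
  obtain ⟨κK, hκK⟩ := MTAffine.exists_bc_spec_iso K₀ k (MonoidAlgebra K₀ (Multiplicative NK))
  obtain ⟨κG, hκG⟩ := MTAffine.exists_bc_spec_iso K₀ k (MonoidAlgebra K₀ (Multiplicative NG))
  obtain ⟨κQ, hκQ⟩ := MTAffine.exists_bc_spec_iso K₀ k (MonoidAlgebra K₀ (Multiplicative NQ))
  obtain ⟨εK, hεK⟩ : ∃ ε : K ≅ (Spec (.of (k ⊗[K₀]
      MonoidAlgebra K₀ (Multiplicative NK)))).asOver (Spec (.of k)), IsMonHom ε.hom := by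
    refine ⟨eK ≪≫ κK, ?_⟩
    dsimp only [Iso.trans_hom]
    infer_instance
  obtain ⟨εG, hεG⟩ : ∃ ε : G ≅ (Spec (.of (k ⊗[K₀]
      MonoidAlgebra K₀ (Multiplicative NG)))).asOver (Spec (.of k)), IsMonHom ε.hom := by
    refine ⟨eG ≪≫ κG, ?_⟩
    dsimp only [Iso.trans_hom]
    infer_instance
  obtain ⟨εQ, hεQ⟩ : ∃ ε : Q ≅ (Spec (.of (k ⊗[K₀]
      MonoidAlgebra K₀ (Multiplicative NQ)))).asOver (Spec (.of k)), IsMonHom ε.hom := by
    refine ⟨eQ ≪≫ κQ, ?_⟩
    dsimp only [Iso.trans_hom]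
    infer_instance
  haveI : IsMonHom εK.inv := inferInstance
  haveI : IsMonHom εG.inv := inferInstance
  haveI : IsMonHom εQ.inv := inferInstance
  obtain ⟨fi, hfi⟩ := GrpBridge.exists_bialgHom k _ _ (εK.inv ≫ i ≫ εG.hom)
  obtain ⟨fπ, hfπ⟩ := GrpBridge.exists_bialgHom k _ _ (εG.inv ≫ π ≫ εQ.hom)
  obtain ⟨GK⟩ := MTHom4.exists_glb K₀ k NK
  obtain ⟨GG⟩ := MTHom4.exists_glb K₀ k NG
  obtain ⟨GQ⟩ := MTHom4.exists_glb K₀ k NQ
  -- surjectivity of `fi`
  have hsurj : Function.Surjective fi := by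
    have h1 : IsClosedImmersion (εK.inv ≫ i ≫ εG.hom).left := by
      rw [Over.comp_left, Over.comp_left]
      haveI : IsIso εK.inv.left := by
        show IsIso ((Over.forget _).map εK.inv)
        infer_instance
      haveI : IsIso εG.hom.left := by
        show IsIso ((Over.forget _).map εG.hom)
        infer_instance
      infer_instance
    rw [hfi] at h1
    exact surjective_of_isClosedImmersion_specMap _ h1
  -- injectivity of `fπ`
  have hinj : Function.Injective fπ := by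
    have h1 : Flat (εG.inv ≫ π ≫ εQ.hom).left ∧ Surjective (εG.inv ≫ π ≫ εQ.hom).left := by
      rw [Over.comp_left, Over.comp_left]
      haveI : IsIso εG.inv.left := by
        show IsIso ((Over.forget _).map εG.inv)
        infer_instance
      haveI : IsIso εQ.hom.left := by
        show IsIso ((Over.forget _).map εQ.hom)
        infer_instance
      exact ⟨inferInstance, inferInstance⟩
    rw [hfπ] at h1
    obtain ⟨g, hg⟩ : ∃ g : k ⊗[K₀] MonoidAlgebra K₀ (Multiplicative NQ) →+*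
        k ⊗[K₀] MonoidAlgebra K₀ (Multiplicative NG),
        g = ((fπ : k ⊗[K₀] MonoidAlgebra K₀ (Multiplicative NQ) →ₐ[k]
          k ⊗[K₀] MonoidAlgebra K₀ (Multiplicative NG)) :
          k ⊗[K₀] MonoidAlgebra K₀ (Multiplicative NQ) →+*
          k ⊗[K₀] MonoidAlgebra K₀ (Multiplicative NG)) := ⟨_, rfl⟩
    have h2 : Flat (Spec.map (CommRingCat.ofHom g)) ∧
        Surjective (Spec.map (CommRingCat.ofHom g)) := by
      rw [hg]
      exact h1
    rw [flat_and_surjective_SpecMap_iff] at h2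
    have h3 : Function.Injective g := RingHom.FaithfullyFlat.injective h2
    rw [hg] at h3
    exact h3
  -- the kernel square
  have hker' : IsPullback (specHom k _ (fi : k ⊗[K₀] MonoidAlgebra K₀ (Multiplicative NG) →ₐ[k]
        k ⊗[K₀] MonoidAlgebra K₀ (Multiplicative NK))) (toUnit _)
      (specHom k _ (fπ : k ⊗[K₀] MonoidAlgebra K₀ (Multiplicative NQ) →ₐ[k]
        k ⊗[K₀] MonoidAlgebra K₀ (Multiplicative NG)))
      η[(Spec (.of (k ⊗[K₀] MonoidAlgebra K₀ (Multiplicative NQ)))).asOver (Spec (.of k))] := by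
    unfold AlgGrp.IsKernel at hker
    refine IsPullback.of_iso hker εK εG (Iso.refl _) εQ ?_ ?_ ?_ ?_
    · rw [← hfi, Iso.hom_inv_id_assoc]
    · apply toUnit_unique
    · rw [← hfπ, Iso.hom_inv_id_assoc]
    · rw [Iso.refl_hom, Category.id_comp]
      exact IsMonHom.one_hom (f := εQ.hom)
  obtain ⟨fs, hfs⟩ := exists_retraction GK GG GQ fi fπ hsurj hinj hker'
  haveI := MTQuotC.isMonHom_specHom k fs
  refine ⟨εQ.hom ≫ specHom k _ (fs : k ⊗[K₀] MonoidAlgebra K₀ (Multiplicative NG) →ₐ[k]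
        k ⊗[K₀] MonoidAlgebra K₀ (Multiplicative NQ)) ≫ εG.inv, inferInstance, ?_⟩
  have h1 : εG.inv ≫ π = specHom k _ (fπ : k ⊗[K₀] MonoidAlgebra K₀ (Multiplicative NQ) →ₐ[k]
        k ⊗[K₀] MonoidAlgebra K₀ (Multiplicative NG)) ≫ εQ.inv := by
    rw [← hfπ, Category.assoc, Category.assoc, Iso.hom_inv_id, Category.comp_id]
  rw [Category.assoc, Category.assoc, h1, ← Category.assoc (specHom k _ _), ← specHom_comp, hfs]
  have h2 : specHom k (k ⊗[K₀] MonoidAlgebra K₀ (Multiplicative NQ))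
      (AlgHom.id k (k ⊗[K₀] MonoidAlgebra K₀ (Multiplicative NQ))) = 𝟙 _ := by
    apply Over.OverMorphism.ext
    show Spec.map (CommRingCat.ofHom (RingHom.id _)) = 𝟙 _
    exact Spec.map_id _
  rw [h2, Category.id_comp, Iso.hom_inv_id]

end geom

end Groth.Agent.Lib.Helper14.MTField
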