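import Mathlib
import Groth.Agent.Lib.Helper14.MaxSpecPi

/-!
# Pairs (maximal ideal, embedding of its residue field) as ring homs with maximal kernel

`Helper14.PairEmb f φ` is the type of pairs `(n, σ)` where `n` is a maximal ideal of `S` and
`σ : S/n → Ω` a ring hom with `σ ∘ (A → S → S/n) = φ`.  It is in bijection with
`Helper14.MaxHom f φ`, the ring homs `τ : S → Ω` with maximal kernel and `τ ∘ f = φ`; the latter
is easy to transport along isomorphisms and to decompose for finite products.
-/

set_option autoImplicit false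

namespace Helper14

section Defs

variable {A : Type*} {S : Type*} {Ω : Type*} [CommRing A] [CommRing S] [Field Ω]

/-- ring homs `S → Ω` with maximal kernel, compatible with `φ : A → Ω` along `f : A → S` -/
def MaxHom (f : A →+* S) (φ : A →+* Ω) : Type _ :=
  {τ : S →+* Ω // τ.comp f = φ ∧ (RingHom.ker τ).IsMaximal}

/-- pairs (maximal ideal, embedding of the residue field) -/
abbrev PairEmb (f : A →+* S) (φ : A →+* Ω) : Type _ :=
  Σ n : MaximalSpectrum S,
    {σ : S ⧸ n.asIdeal →+* Ω // σ.comp ((Ideal.Quotient.mk n.asIdeal).comp f) = φ}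

variable (f : A →+* S) (φ : A →+* Ω)

lemma ker_comp_mk (n : Ideal S) [n.IsMaximal] (σ : S ⧸ n →+* Ω) :
    RingHom.ker (σ.comp (Ideal.Quotient.mk n)) = n := by
  letI : Field (S ⧸ n) := Ideal.Quotient.field n
  rw [RingHom.ker_comp_of_injective _ σ.injective, Ideal.mk_ker]

/-- the map from pairs to homs -/
def pairToMaxHom : PairEmb f φ → MaxHom f φ := fun x =>
  ⟨x.2.1.comp (Ideal.Quotient.mk x.1.asIdeal), by rw [RingHom.comp_assoc]; exact x.2.2, by
    haveI := x.1.isMaximal
    rw [ker_comp_mk]; exact x.1.isMaximal⟩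

lemma pairToMaxHom_bijective : Function.Bijective (pairToMaxHom f φ) := by
  constructor
  · rintro ⟨⟨n, hn⟩, σ, h⟩ ⟨⟨n', hn'⟩, σ', h'⟩ hxy
    have h1 : σ.comp (Ideal.Quotient.mk n) = σ'.comp (Ideal.Quotient.mk n') :=
      congrArg Subtype.val hxy
    have h2 : n = n' := by
      rw [← ker_comp_mk n σ, h1, ker_comp_mk n' σ']
    subst h2
    have h3 : σ = σ' := Ideal.Quotient.ringHom_ext h1
    subst h3
    rfl
  · rintro ⟨τ, hτ, hmax⟩
    refine ⟨⟨⟨RingHom.ker τ, hmax⟩, RingHom.kerLift τ, ?_⟩, ?_⟩
    · ext a
      simp only [RingHom.comp_apply, RingHom.kerLift_mk]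
      exact RingHom.congr_fun hτ a
    · apply Subtype.ext
      ext s
      exact RingHom.kerLift_mk τ s

theorem card_pairEmb : ENat.card (PairEmb f φ) = ENat.card (MaxHom f φ) :=
  ENat.card_congr (Equiv.ofBijective _ (pairToMaxHom_bijective f φ))

end Defs

section Congr

variable {A : Type*} {S : Type*} {Ω : Type*} [CommRing A] [CommRing S] [Field Ω]
variable (f : A →+* S) (φ : A →+* Ω)

/-- transport along an isomorphism of the middle ring -/
def MaxHom.congrRing {S' : Type*} [CommRing S'] (e : S ≃+* S') (f' : A →+* S')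
    (hf : f' = (e : S →+* S').comp f) : MaxHom f φ ≃ MaxHom f' φ where
  toFun τ := ⟨τ.1.comp (e.symm : S' →+* S), by
    subst hf
    ext a
    simp only [RingHom.comp_apply, RingHom.coe_coe, RingEquiv.symm_apply_apply]
    exact RingHom.congr_fun τ.2.1 a, by
    rw [← RingHom.comap_ker]
    haveI := τ.2.2
    exact Ideal.comap_isMaximal_of_surjective _ e.symm.surjective⟩
  invFun τ := ⟨τ.1.comp (e : S →+* S'), by
    subst hf
    rw [RingHom.comp_assoc]
    exact τ.2.1, by
    rw [← RingHom.comap_ker]
    haveI := τ.2.2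
    exact Ideal.comap_isMaximal_of_surjective _ e.surjective⟩
  left_inv τ := by
    apply Subtype.ext
    ext s
    simp
  right_inv τ := by
    apply Subtype.ext
    ext s
    simp

/-- transport along an isomorphism of the target field -/
def MaxHom.congrField {Ω' : Type*} [Field Ω'] (j : Ω ≃+* Ω') (φ' : A →+* Ω')
    (hφ : φ' = (j : Ω →+* Ω').comp φ) : MaxHom f φ ≃ MaxHom f φ' where
  toFun τ := ⟨(j : Ω →+* Ω').comp τ.1, by
    subst hφ
    rw [RingHom.comp_assoc, τ.2.1], by
    rw [RingHom.ker_comp_of_injective _ (f := (j : Ω →+* Ω')) j.injective]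
    exact τ.2.2⟩
  invFun τ := ⟨(j.symm : Ω' →+* Ω).comp τ.1, by
    subst hφ
    rw [RingHom.comp_assoc, τ.2.1]
    ext a
    simp, by
    rw [RingHom.ker_comp_of_injective _ (f := (j.symm : Ω' →+* Ω)) j.symm.injective]
    exact τ.2.2⟩
  left_inv τ := by
    apply Subtype.ext
    ext s
    simp
  right_inv τ := by
    apply Subtype.ext
    ext s
    simp

/-- precomposition with a surjection on the base -/
def MaxHom.congrBase {A' : Type*} [CommRing A'] (g : A' →+* A) (hg : Function.Surjective g) :
    MaxHom f φ ≃ MaxHom (f.comp g) (φ.comp g) where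
  toFun τ := ⟨τ.1, by rw [← RingHom.comp_assoc, τ.2.1], τ.2.2⟩
  invFun τ := ⟨τ.1, by
    have h := τ.2.1
    rw [← RingHom.comp_assoc] at h
    exact (RingHom.cancel_right hg).1 h, τ.2.2⟩
  left_inv τ := rfl
  right_inv τ := rfl

end Congr

section Pi

variable {A : Type*} {Ω : Type*} [CommRing A] [Field Ω]
variable {ι : Type*} [Fintype ι] [DecidableEq ι] (D : ι → Type*) [∀ i, CommRing (D i)]
variable (f : A →+* ∀ i, D i) (φ : A →+* Ω)

/-- from a factor to the product -/
def sigmaToPiHom : (Σ i, MaxHom ((Pi.evalRingHom D i).comp f) φ) → MaxHom f φ := fun x =>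
  ⟨x.2.1.comp (Pi.evalRingHom D x.1), by rw [RingHom.comp_assoc]; exact x.2.2.1, by
    rw [← RingHom.comap_ker]
    haveI := x.2.2.2
    exact Ideal.comap_isMaximal_of_surjective _ (Function.surjective_eval x.1)⟩

lemma sigmaToPiHom_bijective : Function.Bijective (sigmaToPiHom D f φ) := by
  constructor
  · rintro ⟨i, τ, h, hm⟩ ⟨i', τ', h', hm'⟩ hxy
    have h1 : τ.comp (Pi.evalRingHom D i) = τ'.comp (Pi.evalRingHom D i') :=
      congrArg Subtype.val hxy
    have h2 : i = i' := by
      by_contra hne
      have := RingHom.congr_fun h1 (Pi.single i 1)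
      simp only [RingHom.comp_apply, Pi.evalRingHom_apply, Pi.single_eq_same, map_one] at this
      rw [Pi.single_eq_of_ne (Ne.symm hne), map_zero] at this
      exact one_ne_zero this
    subst h2
    have h3 : τ = τ' := by
      ext d
      have := RingHom.congr_fun h1 (Pi.single i d)
      simpa using this
    subst h3
    rfl
  · rintro ⟨T, hT, hmax⟩
    -- find the factor
    have hsum : ∑ i, T (Pi.single i 1) = 1 := by
      rw [← map_sum, Finset.univ_sum_single]
      exact map_one T
    obtain ⟨i, hi⟩ : ∃ i, T (Pi.single i 1) ≠ 0 := by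
      by_contra hcon
      push Not at hcon
      rw [Finset.sum_eq_zero (fun i _ => hcon i)] at hsum
      exact zero_ne_one hsum
    have hidem : T (Pi.single i 1) * T (Pi.single i 1) = T (Pi.single i 1) := by
      rw [← map_mul, ← Pi.single_mul, mul_one]
    have hone : T (Pi.single i 1) = 1 := by
      have := mul_right_cancel₀ hi (hidem.trans (one_mul _).symm)
      exact this
    let τ : D i →+* Ω :=
      { toFun := fun d => T (Pi.single i d)
        map_one' := hone
        map_mul' := fun a b => by rw [Pi.single_mul, map_mul]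
        map_zero' := by rw [Pi.single_zero, map_zero]
        map_add' := fun a b => by rw [Pi.single_add, map_add] }
    have hτ : τ.comp (Pi.evalRingHom D i) = T := by
      refine RingHom.ext fun x => ?_
      show T (Pi.single i (x i)) = T x
      have h1 : Pi.single i (x i) = x * Pi.single i 1 := by
        ext j
        by_cases hj : j = i
        · subst hj; simp
        · simp [Pi.single_eq_of_ne hj]
      rw [h1, map_mul, hone, mul_one]
    have hker : (RingHom.ker τ).IsMaximal := by
      have h1 : RingHom.ker T = (RingHom.ker τ).comap (Pi.evalRingHom D i) := by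
        rw [RingHom.comap_ker, hτ]
      have h2 : (RingHom.ker T).map (Pi.evalRingHom D i) = RingHom.ker τ := by
        rw [h1, Ideal.map_comap_of_surjective _ (Function.surjective_eval i)]
      rcases Ideal.map_eq_top_or_isMaximal_of_surjective (Pi.evalRingHom D i)
        (Function.surjective_eval i) hmax with h3 | h3
      · rw [h2] at h3
        exact absurd h3 (RingHom.ker_ne_top τ)
      · rwa [h2] at h3
    refine ⟨⟨i, τ, ?_, hker⟩, ?_⟩
    · rw [← RingHom.comp_assoc, hτ, hT]
    · apply Subtype.ext
      exact hτ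

theorem card_maxHom_pi :
    ENat.card (MaxHom f φ) = ∑ i, ENat.card (MaxHom ((Pi.evalRingHom D i).comp f) φ) := by
  rw [← enat_card_sigma]
  exact (ENat.card_congr (Equiv.ofBijective _ (sigmaToPiHom_bijective D f φ))).symm

end Pi

end Helper14
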