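import Mathlib.RingTheory.MvPolynomial.Homogeneous
import Mathlib.LinearAlgebra.Basis.VectorSpace
import Mathlib.LinearAlgebra.LinearIndependent.Lemmas
import Mathlib.LinearAlgebra.Dimension.Constructions
import Mathlib.LinearAlgebra.Dimension.Finrank
import Mathlib.LinearAlgebra.FiniteDimensional.Lemmas
import Mathlib.Algebra.Order.Antidiag.FinsuppEquiv
import Mathlib.Algebra.MonoidAlgebra.Module
import Mathlib.Data.Finsupp.Weight

/-!
Helpers about homogeneous forms in three variables vanishing at rational points of the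
projective plane (used by S14427, S14428).
-/

set_option autoImplicit false

namespace Groth.Agent.Lib.Helper14

open MvPolynomial

variable {k : Type*} [Field k]

/-- The polynomial of a linear form on `k^3`. -/
noncomputable def linForm (ℓ : (Fin 3 → k) →ₗ[k] k) : MvPolynomial (Fin 3) k :=
  ∑ i, C (ℓ (fun j => if i = j then 1 else 0)) * X i

lemma linForm_isHomogeneous (ℓ : (Fin 3 → k) →ₗ[k] k) : (linForm ℓ).IsHomogeneous 1 := by
  unfold linForm
  apply IsHomogeneous.sum
  intro i _
  exact isHomogeneous_C_mul_X _ _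

lemma aeval_linForm (ℓ : (Fin 3 → k) →ₗ[k] k) (v : Fin 3 → k) :
    aeval v (linForm ℓ) = ℓ v := by
  rw [LinearMap.pi_apply_eq_sum_univ ℓ v]
  simp [linForm, mul_comm]

/-- A linear form separating two linearly independent vectors. -/
lemma exists_linForm_sep {v w : Fin 3 → k} (h : LinearIndependent k ![v, w]) :
    ∃ ℓ : (Fin 3 → k) →ₗ[k] k, ℓ v ≠ 0 ∧ ℓ w = 0 := by
  have hv : v ∉ Submodule.span k {w} := by
    rw [Submodule.mem_span_singleton]
    rintro ⟨a, ha⟩
    have := (linearIndependent_fin2.mp h).2 a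
    exact this (by simpa using ha)
  obtain ⟨f, hfv, hf⟩ := Submodule.exists_le_ker_of_notMem hv
  exact ⟨f, hfv, hf (Submodule.mem_span_singleton_self w)⟩

/-- For `v ∈ Λ` (pairwise independent vectors) there is a form of degree `#Λ - 1` vanishing on
`Λ \ {v}` and not at `v`. -/
lemma exists_sep_poly (Λ : Finset (Fin 3 → k))
    (hdist : ∀ v ∈ Λ, ∀ w ∈ Λ, v ≠ w → LinearIndependent k ![v, w])
    (v : Fin 3 → k) (hv : v ∈ Λ) :
    ∃ p : MvPolynomial (Fin 3) k, p.IsHomogeneous (Λ.card - 1) ∧ aeval v p ≠ 0 ∧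
      ∀ w ∈ Λ, w ≠ v → aeval w p = 0 := by
  classical
  have hex : ∀ w, w ∈ Λ.erase v → ∃ ℓ : (Fin 3 → k) →ₗ[k] k, ℓ v ≠ 0 ∧ ℓ w = 0 := fun w hw =>
    exists_linForm_sep (hdist v hv w (Finset.mem_of_mem_erase hw) (Finset.ne_of_mem_erase hw).symm)
  choose! ℓ hℓ using hex
  refine ⟨∏ w ∈ Λ.erase v, linForm (ℓ w), ?_, ?_, ?_⟩
  · have := IsHomogeneous.prod (Λ.erase v) (fun w => linForm (ℓ w)) (fun _ => 1)
      (fun w _ => linForm_isHomogeneous _)
    simpa [Finset.card_erase_of_mem hv] using this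
  · rw [map_prod]
    apply Finset.prod_ne_zero_iff.mpr
    intro w hw
    rw [aeval_linForm]
    exact (hℓ w hw).1
  · intro w hw hwv
    have hw' : w ∈ Λ.erase v := Finset.mem_erase.mpr ⟨hwv, hw⟩
    rw [map_prod]
    apply Finset.prod_eq_zero hw'
    rw [aeval_linForm]
    exact (hℓ w hw').2

/-- The space of forms of degree `m` in three variables has dimension `C(m+2, 2)`. -/
lemma finrank_homogeneousSubmodule (m : ℕ) :
    Module.finrank k (homogeneousSubmodule (Fin 3) k m) = (m + 2).choose 2 := by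
  classical
  have hs : {d : Fin 3 →₀ ℕ | d.degree = m} =
      ↑((Finset.univ : Finset (Fin 3)).finsuppAntidiag m) := by
    ext d
    simp [Finsupp.degree_eq_sum]
  rw [homogeneousSubmodule_eq_finsupp_supported, hs,
    (AddMonoidAlgebra.supportedEquivFinsupp (R := k) (S := k)
      (↑((Finset.univ : Finset (Fin 3)).finsuppAntidiag m) : Set (Fin 3 →₀ ℕ))).finrank_eq,
    Module.finrank_finsupp_self]
  have hc : Fintype.card ↑(↑((Finset.univ : Finset (Fin 3)).finsuppAntidiag m) : Set (Fin 3 →₀ ℕ)) =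
      ((Finset.univ : Finset (Fin 3)).finsuppAntidiag m).card := by
    rw [← Nat.card_eq_fintype_card]
    exact Nat.card_eq_card_toFinset _ |>.trans (by simp)
  rw [hc, Finset.card_finsuppAntidiag_nat_eq_choose]
  simp only [Finset.card_univ, Fintype.card_fin]
  have : 3 + m - 1 = m + 2 := by omega
  rw [this, Nat.choose_symm_add]

end Groth.Agent.Lib.Helper14
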