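import Groth.Agent.Lib.Helper14.TPiece2

universe u
open MvPolynomial W4c1hilbpn

namespace Groth.Agent.Lib.Helper14.TPiece

variable {k : Type u} [Field k] {n : ℕ} (I : Ideal (MvPolynomial (Fin n) k)) (α : Fin n → ℤ)

section Surj2

variable {φ : Tgt I} (hφ : φ ∈ tPiece I α)

include hφ in
lemma co_exists (v : ↥(region I α)) :
    ∃ a : k, (∀ i, 0 ≤ v.1 i) → fv I φ (bv I α v) = a • q I α (bv I α v) := by
  by_cases h : ∀ i, 0 ≤ v.1 i
  · obtain ⟨a, ha⟩ := fv_span I α hφ _ (bv_mem I α v) (nonneg_bv I α v h)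
    exact ⟨a, fun _ => ha⟩
  · exact ⟨0, fun h' => absurd h' h⟩

/-- coefficient at a vertex -/
noncomputable def co (v : ↥(region I α)) : k := Classical.choose (co_exists I α hφ v)

lemma co_spec (v : ↥(region I α)) (h : ∀ i, 0 ≤ v.1 i) :
    fv I φ (bv I α v) = co I α hφ v • q I α (bv I α v) :=
  Classical.choose_spec (co_exists I α hφ v) h

/-- weight function of `φ` -/
noncomputable def wphi : {c : (G I α).ConnectedComponent // c.supp.Finite} → k :=
  fun C => co I α hφ (Quot.out C.1)

variable (hI : IsMonomial I)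

include hI in
lemma fv_eq (hn : 2 ≤ n) [Module.Finite k (MvPolynomial (Fin n) k ⧸ I)]
    (β : Fin n →₀ ℕ) (hβ : β ∈ exps I) :
    fv I φ β = cw I α (wphi I α hφ) β • q I α β := by
  by_cases h : vz α β ∈ region I α
  · set v := mkV I α β h with hv
    have hbv : bv I α v = β := bv_mkV I α β h
    rw [cw_of_mem I α _ β h]
    by_cases hb : ((G I α).connectedComponentMk v).supp.Finite
    · set C := (G I α).connectedComponentMk v with hC
      have hw : wc I α (wphi I α hφ) C = co I α hφ (Quot.out C) := dif_pos hb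
      rw [hw]
      set u := Quot.out C with hu
      have huC : (G I α).connectedComponentMk u = C := Quot.out_eq C
      have hu_mem : u ∈ C.supp := (SimpleGraph.ConnectedComponent.mem_supp_iff _ _).2 huC
      have hreach : (G I α).Reachable u v := SimpleGraph.ConnectedComponent.eq.1 huC
      have hunn := nonneg_of_finite I α hn C hb u hu_mem
      have := reach_induct I α (P := fun x => x ∈ C.supp ∧
          fv I φ (bv I α x) = co I α hφ u • q I α (bv I α x))
        (fun x x' hadj hx => prop_bdd I α hφ hn C hb _ x x' hadj hx) hreach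
        ⟨hu_mem, co_spec I α hφ u hunn⟩
      rw [← hbv]
      exact this.2
    · rw [wc_of_infinite I α _ _ hb, zero_smul]
      have hex : ∃ u ∈ ((G I α).connectedComponentMk v).supp, ∃ i, u.1 i < 0 := by
        by_contra hcon
        push Not at hcon
        exact hb (finite_of_nonneg I α hI _ hcon)
      obtain ⟨u, hu_mem, i, hi⟩ := hex
      have hreach : (G I α).Reachable u v :=
        SimpleGraph.ConnectedComponent.eq.1 ((SimpleGraph.ConnectedComponent.mem_supp_iff _ _).1 hu_mem)
      have h0 : fv I φ (bv I α u) = 0 :=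
        fv_neg I α hφ _ (bv_mem I α u) i (by rw [vz_bv]; exact hi)
      have := reach_induct I α (P := fun x => fv I φ (bv I α x) = 0)
        (fun x x' hadj hx => prop_zero I α hφ x x' hadj hx) hreach h0
      rw [← hbv]
      exact this
  · rw [cw_of_not_mem I α _ β h, zero_smul]
    have h' : (∀ i, 0 ≤ vz α β i) ∧ shift β α ∈ exps I := by
      by_contra hcon
      exact h ((mem_region_iff I α β).2 ⟨hβ, hcon⟩)
    obtain ⟨a, ha⟩ := fv_span I α hφ β hβ h'.1
    rw [ha, (q_eq_zero_iff I α β).2 h'.2, smul_zero]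

end Surj2


lemma tgt_ext (hI : IsMonomial I) (φ ψ : Tgt I)
    (h : ∀ (β : Fin n →₀ ℕ) (hβ : β ∈ exps I), φ (mI I β hβ) = ψ (mI I β hβ)) : φ = ψ := by
  apply LinearMap.ext
  rintro ⟨p, hp⟩
  have hsum : (⟨p, hp⟩ : ↥I) = ∑ β ∈ p.support.attach,
      (C (coeff β.1 p) : MvPolynomial (Fin n) k) • mI I β.1 (hI p hp β.1 β.2) := by
    apply Subtype.ext
    rw [Submodule.coe_sum]
    simp only [Submodule.coe_smul, mI, smul_eq_mul, C_mul_monomial, mul_one]
    rw [Finset.sum_attach p.support (fun β => monomial β (coeff β p))]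
    exact p.as_sum
  rw [hsum, map_sum, map_sum]
  refine Finset.sum_congr rfl fun β _ => ?_
  rw [map_smul, map_smul]
  exact congrArg _ (h _ _)

lemma Psi_surjective (hn : 2 ≤ n) (hI : IsMonomial I)
    [Module.Finite k (MvPolynomial (Fin n) k ⧸ I)] : Function.Surjective (Psi I α hn hI) := by
  rintro ⟨φ, hφ⟩
  refine ⟨wphi I α hφ, Subtype.ext ?_⟩
  refine tgt_ext I hI _ _ fun β hβ => ?_
  change phiw I α (wphi I α hφ) hn hI (mI I β hβ) = φ (mI I β hβ)
  rw [phiw_mI, ← fv_eq I α hφ hI hn β hβ, fv_of_mem I φ β hβ]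

theorem finrank_tPiece (hn : 2 ≤ n) (hI : IsMonomial I)
    [Module.Finite k (MvPolynomial (Fin n) k ⧸ I)] :
    Module.finrank k ↥(tPiece I α) = nBddComp I α := by
  have hfin : Finite {c : (G I α).ConnectedComponent // c.supp.Finite} := finite_bdd I α hI hn
  have := Fintype.ofFinite {c : (G I α).ConnectedComponent // c.supp.Finite}
  let E := LinearEquiv.ofBijective (Psi I α hn hI) ⟨Psi_injective I α hn hI, Psi_surjective I α hn hI⟩
  rw [← E.finrank_eq, Module.finrank_fintype_fun_eq_card, ← Nat.card_eq_fintype_card]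
  rfl

end Groth.Agent.Lib.Helper14.TPiece
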