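import Groth.Agent.Lib.Helper14.StairA
import Groth.Agent.Lib.Helper14.TPiece3

/-! Bounded components of the region for multidegrees `(a1, a2, c)` contain a "bottom corner". -/

universe u
open MvPolynomial W4c1hilbpn

namespace Groth.Agent.Lib.Helper14.PpnA

open Groth.Agent.Lib.Helper14.TPiece Groth.Agent.Lib.Helper14.StairA

variable {k : Type u} [Field k] {I : Ideal (MvPolynomial (Fin 3) k)} (hI : IsMonomial I)
  [Module.Finite k (MvPolynomial (Fin 3) k ⧸ I)]

include hI in
lemma finite_col' (a b : ℕ) : {c | e3 a b c ∉ exps I}.Finite := by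
  have hfin : {β : Fin 3 →₀ ℕ | β ∉ exps I}.Finite :=
    (Set.finite_coe_iff (s := {β : Fin 3 →₀ ℕ | β ∉ exps I})).1 (finite_compl I hI)
  exact Set.Finite.preimage (f := fun c => e3 a b c) ((e3_injective a b).injOn) hfin

include hI in
lemma notMem_iff' (a b c : ℕ) : e3 a b c ∉ exps I ↔ c < stairZ I a b :=
  downset_iff (fun c => e3 a b c ∉ exps I) (fun _ h h' => h (mem_succ2 I h')) (finite_col' hI a b) c

include hI in
lemma mem_iff' (a b c : ℕ) : e3 a b c ∈ exps I ↔ stairZ I a b ≤ c := by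
  rw [← not_lt, ← notMem_iff' hI, not_not]

include hI in
lemma exists_bounds' : ∃ M, (∀ a b, M ≤ b → stairZ I a b = 0) ∧ (∀ a b, M ≤ a → stairZ I a b = 0) := by
  have hfin : {β : Fin 3 →₀ ℕ | β ∉ exps I}.Finite :=
    (Set.finite_coe_iff (s := {β : Fin 3 →₀ ℕ | β ∉ exps I})).1 (finite_compl I hI)
  have hM : ∀ β : Fin 3 →₀ ℕ, β ∉ exps I → ∀ i, β i < (hfin.toFinset.sup fun β => β 0 + β 1 + β 2) + 1 := by
    intro β hβ i
    have h1 : (fun β : Fin 3 →₀ ℕ => β 0 + β 1 + β 2) β ≤
        hfin.toFinset.sup fun β => β 0 + β 1 + β 2 :=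
      Finset.le_sup (f := fun β : Fin 3 →₀ ℕ => β 0 + β 1 + β 2) (hfin.mem_toFinset.2 hβ)
    have h2 : β i ≤ β 0 + β 1 + β 2 := by fin_cases i <;> simp <;> omega
    simp only at h1
    omega
  refine ⟨(hfin.toFinset.sup fun β => β 0 + β 1 + β 2) + 1, fun a b hb => ?_, fun a b ha => ?_⟩
  · by_contra hc
    have e1 : e3 a b 0 ∉ exps I := (notMem_iff' hI _ _ _).2 (Nat.pos_of_ne_zero hc)
    have := hM _ e1 1
    rw [e3_apply] at this
    simp at this
    omega
  · by_contra hc
    have e1 : e3 a b 0 ∉ exps I := (notMem_iff' hI _ _ _).2 (Nat.pos_of_ne_zero hc)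
    have := hM _ e1 0
    rw [e3_apply] at this
    simp at this
    omega

include hI in
lemma stair_mono0 (p q : ℕ) : stairZ I (p + 1) q ≤ stairZ I p q := by
  by_contra hc
  have e1 : e3 (p + 1) q (stairZ I p q) ∉ exps I := (notMem_iff' hI _ _ _).2 (by omega)
  have e2 : e3 p q (stairZ I p q) ∈ exps I := (mem_iff' hI _ _ _).2 le_rfl
  apply e1
  rw [e3_succ0]
  exact exps_add I e2 0

include hI in
lemma stair_mono1 (p q : ℕ) : stairZ I p (q + 1) ≤ stairZ I p q := by
  by_contra hc
  have e1 : e3 p (q + 1) (stairZ I p q) ∉ exps I := (notMem_iff' hI _ _ _).2 (by omega)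
  have e2 : e3 p q (stairZ I p q) ∈ exps I := (mem_iff' hI _ _ _).2 le_rfl
  apply e1
  rw [e3_succ1]
  exact exps_add I e2 1

section alpha

variable {a1 a2 : ℕ} {α : Fin 3 → ℤ} (h0 : α 0 = a1) (h1 : α 1 = a2)

include h0 h1 in
lemma shift_e3 (p q m : ℕ) :
    shift (e3 p q m) α = e3 (p + a1) (q + a2) ((m : ℤ) + α 2).toNat := by
  ext i
  rw [shift_apply, e3_apply]
  fin_cases i
  · simp [vz, e3_apply, h0]; omega
  · simp [vz, e3_apply, h1]; omega
  · simp [vz, e3_apply]

include h0 h1 in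
lemma nonneg_iff (p q m : ℕ) : (∀ i, 0 ≤ vz α (e3 p q m) i) ↔ 0 ≤ (m : ℤ) + α 2 := by
  constructor
  · intro h
    have := h 2
    simpa [vz, e3_apply] using this
  · intro h i
    fin_cases i
    · simp [vz, e3_apply, h0]; positivity
    · simp [vz, e3_apply, h1]; positivity
    · simpa [vz, e3_apply] using h

include hI h0 h1 in
lemma reg_iff (p q m : ℕ) :
    vz α (e3 p q m) ∈ region I α ↔ stairZ I p q ≤ m ∧
      ((m : ℤ) + α 2 < 0 ∨ ((m : ℤ) + α 2).toNat < stairZ I (p + a1) (q + a2)) := by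
  rw [mem_region_iff, mem_iff' hI, nonneg_iff h0 h1, shift_e3 h0 h1, mem_iff' hI]
  constructor
  · rintro ⟨h, h'⟩
    refine ⟨h, ?_⟩
    by_contra hc
    push Not at hc
    exact h' ⟨hc.1, hc.2⟩
  · rintro ⟨h, h'⟩
    refine ⟨h, fun hc => ?_⟩
    rcases h' with h' | h'
    · omega
    · omega

lemma mkV_congr {β β' : Fin 3 →₀ ℕ} (hβ : β = β') (h : vz α β ∈ region I α)
    (h' : vz α β' ∈ region I α) : mkV I α β h = mkV I α β' h' := by
  subst hβ; rfl

include hI h0 h1 in
lemma exists_corner (C : (G I α).ConnectedComponent) (hC : C.supp.Finite) :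
    ∃ (p q : ℕ) (hreg : vz α (e3 p q (stairZ I p q)) ∈ region I α),
      (G I α).connectedComponentMk (mkV I α _ hreg) = C ∧
      0 ≤ (stairZ I p q : ℤ) + α 2 ∧
      max (stairZ I (p + a1 + 1) (q + a2)) (stairZ I (p + a1) (q + a2 + 1)) ≤
        ((stairZ I p q : ℤ) + α 2).toNat ∧
      ((stairZ I p q : ℤ) + α 2).toNat < stairZ I (p + a1) (q + a2) := by
  have hn : 2 ≤ 3 := by norm_num
  obtain ⟨v, hvC, hmax⟩ := Set.exists_max_image C.supp (fun v => v.1 0 + v.1 1) hC C.nonempty_supp
  have hvC' : (G I α).connectedComponentMk v = C :=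
    (SimpleGraph.ConnectedComponent.mem_supp_iff _ _).1 hvC
  -- nonnegativity of all vertices of C
  have hnn : ∀ (β : Fin 3 →₀ ℕ) (h : vz α β ∈ region I α),
      (G I α).connectedComponentMk (mkV I α β h) = C → 0 ≤ (β 2 : ℤ) + α 2 := by
    intro β h hc
    exact nonneg_of_finite I α hn C hC (mkV I α β h)
      ((SimpleGraph.ConnectedComponent.mem_supp_iff _ _).2 hc) 2
  have hfmax : ∀ (β : Fin 3 →₀ ℕ) (h : vz α β ∈ region I α),
      (G I α).connectedComponentMk (mkV I α β h) = C →
      (β 0 : ℤ) + α 0 + ((β 1 : ℤ) + α 1) ≤ v.1 0 + v.1 1 := by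
    intro β h hc
    exact hmax (mkV I α β h) ((SimpleGraph.ConnectedComponent.mem_supp_iff _ _).2 hc)
  set p := bv I α v 0 with hp
  set q := bv I α v 1 with hq
  set m := bv I α v 2 with hm
  have hβ : bv I α v = e3 p q m := (e3_eta _).symm
  have hv_reg : vz α (e3 p q m) ∈ region I α := by
    rw [← hβ, vz_bv]; exact v.2
  have hv_eq : mkV I α (e3 p q m) hv_reg = v := by
    apply Subtype.ext
    show vz α (e3 p q m) = v.1
    rw [← hβ, vz_bv]
  have hfv : v.1 0 + v.1 1 = (p : ℤ) + a1 + ((q : ℤ) + a2) := by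
    rw [← hv_eq]
    show vz α (e3 p q m) 0 + vz α (e3 p q m) 1 = _
    simp [vz, e3_apply, h0, h1]
  -- go down the column
  have hdown : ∀ d, stairZ I p q + d ≤ m → ∃ hreg : vz α (e3 p q (m - d)) ∈ region I α,
      (G I α).connectedComponentMk (mkV I α _ hreg) = C := by
    intro d
    induction d with
    | zero =>
      intro _
      refine ⟨hv_reg, ?_⟩
      show (G I α).connectedComponentMk (mkV I α (e3 p q m) hv_reg) = C
      rw [hv_eq]; exact hvC'
    | succ d ih =>
      intro hd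
      obtain ⟨hreg, hc⟩ := ih (by omega)
      have hnn' := hnn _ hreg hc
      rw [e3_apply] at hnn'
      have hnn'' : 0 ≤ ((m - d : ℕ) : ℤ) + α 2 := by simpa using hnn'
      have hr := (reg_iff hI h0 h1 p q (m - d)).1 hreg
      have hreg' : vz α (e3 p q (m - (d + 1))) ∈ region I α := by
        rw [reg_iff hI h0 h1]
        refine ⟨by omega, ?_⟩
        by_cases hneg : ((m - (d + 1) : ℕ) : ℤ) + α 2 < 0
        · exact Or.inl hneg
        · right
          rcases hr.2 with h' | h'
          · omega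
          · refine lt_of_le_of_lt ?_ h'
            apply Int.toNat_le_toNat
            omega
      refine ⟨hreg', ?_⟩
      have hβe : e3 p q (m - d) = e3 p q (m - (d + 1)) + e 2 := by
        rw [← e3_succ2]
        congr 1
        omega
      have hreg2 : vz α (e3 p q (m - (d + 1)) + e 2) ∈ region I α := by rw [← hβe]; exact hreg
      have hadj := adj_add I α (e3 p q (m - (d + 1))) 2 hreg' hreg2
      rw [SimpleGraph.ConnectedComponent.connectedComponentMk_eq_of_adj hadj,
        ← mkV_congr hβe hreg hreg2]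
      exact hc
  have hr0 := (reg_iff hI h0 h1 p q m).1 hv_reg
  obtain ⟨hreg0, hc0⟩ := hdown (m - stairZ I p q) (by omega)
  have hm0 : m - (m - stairZ I p q) = stairZ I p q := by omega
  rw [hm0] at hreg0
  have hc0' : (G I α).connectedComponentMk (mkV I α _ hreg0) = C := by
    rw [← hc0]
    congr 1
    exact mkV_congr (by rw [hm0]) _ _
  have hnn0 := hnn _ hreg0 hc0'
  rw [e3_apply] at hnn0
  have hnn0' : 0 ≤ (stairZ I p q : ℤ) + α 2 := by simpa using hnn0
  have hr00 := (reg_iff hI h0 h1 p q (stairZ I p q)).1 hreg0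
  have hlt : ((stairZ I p q : ℤ) + α 2).toNat < stairZ I (p + a1) (q + a2) := by
    rcases hr00.2 with h' | h'
    · omega
    · exact h'
  refine ⟨p, q, hreg0, hc0', hnn0', ?_, hlt⟩
  rw [max_le_iff]
  constructor
  · by_contra hcon
    push Not at hcon
    have hreg1 : vz α (e3 p q (stairZ I p q) + e 0) ∈ region I α := by
      rw [← e3_succ0, reg_iff hI h0 h1]
      refine ⟨stair_mono0 hI p q, Or.inr ?_⟩
      have : p + 1 + a1 = p + a1 + 1 := by omega
      rw [this]; exact hcon
    have hadj := adj_add I α (e3 p q (stairZ I p q)) 0 hreg0 hreg1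
    have hc1 : (G I α).connectedComponentMk (mkV I α _ hreg1) = C := by
      rw [← SimpleGraph.ConnectedComponent.connectedComponentMk_eq_of_adj hadj]; exact hc0'
    have := hfmax _ hreg1 hc1
    rw [hfv] at this
    simp only [Finsupp.add_apply, e3_apply, e, Finsupp.single_apply, h0, h1] at this
    simp at this
  · by_contra hcon
    push Not at hcon
    have hreg1 : vz α (e3 p q (stairZ I p q) + e 1) ∈ region I α := by
      rw [← e3_succ1, reg_iff hI h0 h1]
      refine ⟨stair_mono1 hI p q, Or.inr ?_⟩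
      have : q + 1 + a2 = q + a2 + 1 := by omega
      rw [this]; exact hcon
    have hadj := adj_add I α (e3 p q (stairZ I p q)) 1 hreg0 hreg1
    have hc1 : (G I α).connectedComponentMk (mkV I α _ hreg1) = C := by
      rw [← SimpleGraph.ConnectedComponent.connectedComponentMk_eq_of_adj hadj]; exact hc0'
    have := hfmax _ hreg1 hc1
    rw [hfv] at this
    simp only [Finsupp.add_apply, e3_apply, e, Finsupp.single_apply, h0, h1] at this
    simp at this

end alpha

end Groth.Agent.Lib.Helper14.PpnA
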