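import Groth.Agent.Lib.Helper14.PpnA

/-! The span of the pieces `T_{(a1,a2,c)}`, `c < 0`, injects into the coordinates at the
staircase corners. -/

universe u
open MvPolynomial W4c1hilbpn

namespace Groth.Agent.Lib.Helper14.PpnB

open Groth.Agent.Lib.Helper14.TPiece Groth.Agent.Lib.Helper14.StairA Groth.Agent.Lib.Helper14.PpnA
open Finset

variable {k : Type u} [Field k] {I : Ideal (MvPolynomial (Fin 3) k)} (hI : IsMonomial I)

/-- basis of standard monomials -/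
noncomputable def bs : Module.Basis {β : Fin 3 →₀ ℕ // β ∉ exps I} k (MvPolynomial (Fin 3) k ⧸ I) :=
  Module.Basis.mk (linIndep I hI) (span_std I hI)

lemma bs_apply (γ : {β : Fin 3 →₀ ℕ // β ∉ exps I}) :
    bs hI γ = Ideal.Quotient.mk I (monomial γ.1 (1 : k)) := by
  unfold bs
  rw [Module.Basis.mk_apply]

lemma coord_mk (γ : {β : Fin 3 →₀ ℕ // β ∉ exps I}) (δ : Fin 3 →₀ ℕ) :
    (bs hI).coord γ (Ideal.Quotient.mk I (monomial δ (1 : k))) = if δ = γ.1 then 1 else 0 := by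
  by_cases hδ : δ ∈ exps I
  · have h0 : Ideal.Quotient.mk I (monomial δ (1 : k)) = 0 := Ideal.Quotient.eq_zero_iff_mem.2 hδ
    rw [h0, map_zero, if_neg]
    rintro rfl
    exact γ.2 hδ
  · have h1 : Ideal.Quotient.mk I (monomial δ (1 : k)) = bs hI ⟨δ, hδ⟩ := (bs_apply hI ⟨δ, hδ⟩).symm
    have h2 : (bs hI).coord γ (bs hI ⟨δ, hδ⟩) = (Finsupp.single (⟨δ, hδ⟩ : {β : Fin 3 →₀ ℕ // β ∉ exps I}) (1 : k)) γ := by
      rw [Module.Basis.coord_apply, Module.Basis.repr_self]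
    rw [h1, h2]
    by_cases hδγ : δ = γ.1
    · rw [if_pos hδγ]
      have : (⟨δ, hδ⟩ : {β : Fin 3 →₀ ℕ // β ∉ exps I}) = γ := Subtype.ext hδγ
      rw [this, Finsupp.single_eq_same]
    · rw [if_neg hδγ, Finsupp.single_eq_of_ne]
      intro h
      exact hδγ (congrArg Subtype.val h).symm

/-- evaluation at an element, as a `k`-linear map -/
noncomputable def evalAt (x : ↥I) : Tgt I →ₗ[k] (MvPolynomial (Fin 3) k ⧸ I) where
  toFun φ := φ x
  map_add' _ _ := rfl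
  map_smul' _ _ := rfl

variable [Module.Finite k (MvPolynomial (Fin 3) k ⧸ I)] (a1 a2 : ℕ)

variable (I) in
/-- index set: corners -/
noncomputable def idx (M : ℕ) : Finset (Σ _ : ℕ × ℕ, ℕ) :=
  ((range M ×ˢ range M).filter (fun pq => a1 ≤ pq.1 ∧ a2 ≤ pq.2)).sigma
    (fun pq => Ico (max (stairZ I (pq.1 + 1) pq.2) (stairZ I pq.1 (pq.2 + 1))) (stairZ I pq.1 pq.2))

omit [Module.Finite k (MvPolynomial (Fin 3) k ⧸ I)] in
lemma mem_idx {M : ℕ} {t : Σ _ : ℕ × ℕ, ℕ} :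
    t ∈ idx I a1 a2 M ↔ (t.1.1 < M ∧ t.1.2 < M) ∧ (a1 ≤ t.1.1 ∧ a2 ≤ t.1.2) ∧
      max (stairZ I (t.1.1 + 1) t.1.2) (stairZ I t.1.1 (t.1.2 + 1)) ≤ t.2 ∧
      t.2 < stairZ I t.1.1 t.1.2 := by
  unfold idx
  rw [mem_sigma, mem_filter, mem_product, mem_range, mem_range, mem_Ico]
  tauto

include hI in
lemma gamma_notMem {M : ℕ} (t : ↥(idx I a1 a2 M)) : e3 t.1.1.1 t.1.1.2 t.1.2 ∉ exps I :=
  (notMem_iff' hI _ _ _).2 ((mem_idx a1 a2).1 t.2).2.2.2

include hI in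
lemma beta_mem (p q : ℕ) : e3 p q (stairZ I p q) ∈ exps I := (mem_iff' hI _ _ _).2 le_rfl

/-- the coordinate map -/
noncomputable def Phi (M : ℕ) : Tgt I →ₗ[k] (↥(idx I a1 a2 M) → k) :=
  LinearMap.pi (fun t => ((bs hI).coord ⟨_, gamma_notMem hI a1 a2 t⟩).comp
    (evalAt (mI I _ (beta_mem hI (t.1.1.1 - a1) (t.1.1.2 - a2)))))

lemma Phi_apply (M : ℕ) (φ : Tgt I) (t : ↥(idx I a1 a2 M)) :
    Phi hI a1 a2 M φ t = (bs hI).coord ⟨_, gamma_notMem hI a1 a2 t⟩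
      (φ (mI I _ (beta_mem hI (t.1.1.1 - a1) (t.1.1.2 - a2)))) := rfl

section

variable {a1 a2} {α : Fin 3 → ℤ} (h0 : α 0 = a1) (h1 : α 1 = a2)

include h0 h1 in
/-- pieces of the wrong `z`-degree do not contribute to a coordinate -/
lemma coord_piece_ne {M : ℕ} (t : ↥(idx I a1 a2 M)) (ψ : Tgt I) (hψ : ψ ∈ tPiece I α)
    (hne : (stairZ I (t.1.1.1 - a1) (t.1.1.2 - a2) : ℤ) + α 2 ≠ t.1.2) :
    Phi hI a1 a2 M ψ t = 0 := by
  rw [Phi_apply]
  obtain ⟨hA, hB⟩ := hψ _ (beta_mem hI (t.1.1.1 - a1) (t.1.1.2 - a2))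
  have ht := (mem_idx a1 a2).1 t.2
  by_cases hneg : ∃ i, ((e3 (t.1.1.1 - a1) (t.1.1.2 - a2)
      (stairZ I (t.1.1.1 - a1) (t.1.1.2 - a2)) i : ℕ) : ℤ) + α i < 0
  · have := hB hneg
    show (bs hI).coord _ (ψ ⟨monomial _ 1, _⟩) = 0
    rw [this, map_zero]
  · push Not at hneg
    obtain ⟨c, hc⟩ := Submodule.mem_span_singleton.1 (hA hneg)
    show (bs hI).coord _ (ψ ⟨monomial _ 1, _⟩) = 0
    rw [← hc, map_smul, coord_mk, shift_e3 h0 h1, if_neg, smul_zero]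
    intro heq
    have h2 := DFunLike.congr_fun heq 2
    rw [e3_apply, e3_apply] at h2
    simp only [Matrix.cons_val_two, Matrix.tail_cons, Matrix.head_cons] at h2
    have hnn := hneg 2
    rw [e3_apply] at hnn
    simp only [Matrix.cons_val_two, Matrix.tail_cons, Matrix.head_cons] at hnn
    apply hne
    omega

include h0 h1 in
lemma coord_piece_eq {M : ℕ} (t : ↥(idx I a1 a2 M))
    (w : {c : (G I α).ConnectedComponent // c.supp.Finite} → k) (hn : 2 ≤ 3)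
    (heq : (stairZ I (t.1.1.1 - a1) (t.1.1.2 - a2) : ℤ) + α 2 = t.1.2) :
    Phi hI a1 a2 M (Psi I α hn hI w).1 t =
      cw I α w (e3 (t.1.1.1 - a1) (t.1.1.2 - a2) (stairZ I (t.1.1.1 - a1) (t.1.1.2 - a2))) := by
  rw [Phi_apply]
  show (bs hI).coord _ (phiw I α w hn hI (mI I _ _)) = _
  have ht := (mem_idx a1 a2).1 t.2
  rw [phiw_mI, map_smul, q, shift_e3 h0 h1, coord_mk, if_pos, smul_eq_mul, mul_one]
  show e3 _ _ _ = e3 _ _ _
  rw [heq, Int.toNat_natCast, Nat.sub_add_cancel ht.2.1.1, Nat.sub_add_cancel ht.2.1.2]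

end

/-- `Phi` is injective on the span of the pieces `(a1, a2, c)`, `c < 0`. -/
theorem Phi_inj (M : ℕ) (hM : ∀ a b, (M ≤ a ∨ M ≤ b) → stairZ I a b = 0)
    (φ : Tgt I)
    (hφ : φ ∈ ⨆ α : {α : Fin 3 → ℤ // α 0 = (a1 : ℤ) ∧ α 1 = (a2 : ℤ) ∧ α 2 < 0}, tPiece I α.1)
    (hzero : Phi hI a1 a2 M φ = 0) : φ = 0 := by
  classical
  have hn : 2 ≤ 3 := by norm_num
  obtain ⟨f, hf, rfl⟩ := (Submodule.mem_iSup_iff_exists_finsupp _ _).1 hφ
  have hall : ∀ α', f α' = 0 := by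
    intro α'
    obtain ⟨w, hw⟩ := Psi_surjective I α'.1 hn hI ⟨f α', hf α'⟩
    have hw' : (Psi I α'.1 hn hI w).1 = f α' := congrArg Subtype.val hw
    have hw0 : w = 0 := by
      funext ⟨C, hC⟩
      obtain ⟨p, q, hreg, hcomp, hnn, hmaxle, hlt⟩ := exists_corner hI α'.2.1 α'.2.2.1 C hC
      have hPQ : p + a1 < M ∧ q + a2 < M := by
        constructor
        · by_contra hc
          rw [hM _ _ (Or.inl (not_lt.1 hc))] at hlt
          omega
        · by_contra hc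
          rw [hM _ _ (Or.inr (not_lt.1 hc))] at hlt
          omega
      have htmem : (⟨(p + a1, q + a2), ((stairZ I p q : ℤ) + α'.1 2).toNat⟩ : Σ _ : ℕ × ℕ, ℕ) ∈
          idx I a1 a2 M := by
        rw [mem_idx]
        exact ⟨hPQ, ⟨Nat.le_add_left _ _, Nat.le_add_left _ _⟩, hmaxle, hlt⟩
      set t : ↥(idx I a1 a2 M) := ⟨_, htmem⟩ with htdef
      have hp : t.1.1.1 - a1 = p := Nat.add_sub_cancel p a1
      have hq : t.1.1.2 - a2 = q := Nat.add_sub_cancel q a2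
      have hl : (t.1.2 : ℤ) = (stairZ I p q : ℤ) + α'.1 2 := Int.toNat_of_nonneg hnn
      have hz := congrFun hzero t
      rw [Finsupp.sum, map_sum, Finset.sum_apply, Pi.zero_apply] at hz
      rw [Finset.sum_eq_single α'] at hz
      · rw [← hw', coord_piece_eq hI α'.2.1 α'.2.2.1 t w hn (by rw [hp, hq, hl])] at hz
        rw [hp, hq] at hz
        have hcw := cw_bv I α'.1 w (mkV I α'.1 _ hreg) (by rw [hcomp]; exact hC)
        rw [bv_mkV] at hcw
        rw [hcw] at hz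
        rw [Pi.zero_apply, ← hz]
        congr 1
        exact Subtype.ext hcomp.symm
      · intro β' _ hne
        refine coord_piece_ne hI β'.2.1 β'.2.2.1 t (f β') (hf β') ?_
        rw [hp, hq, hl]
        intro h
        apply hne
        apply Subtype.ext
        funext i
        fin_cases i
        · exact β'.2.1.trans α'.2.1.symm
        · exact β'.2.2.1.trans α'.2.2.1.symm
        · show β'.1 2 = α'.1 2
          omega
      · intro hnot
        rw [Finsupp.notMem_support_iff.1 hnot, map_zero, Pi.zero_apply]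
    rw [← hw', hw0, map_zero]
    rfl
  rw [Finsupp.sum]
  exact Finset.sum_eq_zero (fun i _ => hall i)

omit [Module.Finite k (MvPolynomial (Fin 3) k ⧸ I)] in
lemma card_idx (M : ℕ) (hM : ∀ a b, (M ≤ a ∨ M ≤ b) → stairZ I a b = 0) :
    (idx I a1 a2 M).card = ∑ᶠ p : ℕ × ℕ, (if a1 ≤ p.1 ∧ a2 ≤ p.2
      then stairZ I p.1 p.2 - max (stairZ I (p.1 + 1) p.2) (stairZ I p.1 (p.2 + 1)) else 0) := by
  unfold idx
  rw [Finset.card_sigma, Finset.sum_filter]
  rw [finsum_eq_sum_of_support_subset (s := range M ×ˢ range M)]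
  · refine Finset.sum_congr rfl (fun pq _ => ?_)
    rw [Nat.card_Ico]
  · intro pq hpq
    rw [Function.mem_support] at hpq
    rw [Finset.coe_product, Set.mem_prod, Finset.coe_range, Set.mem_Iio, Set.mem_Iio]
    constructor
    · by_contra hc
      apply hpq
      rw [hM _ _ (Or.inl (not_lt.1 hc))]
      simp
    · by_contra hc
      apply hpq
      rw [hM _ _ (Or.inr (not_lt.1 hc))]
      simp

/-- final bound -/
theorem finrank_le (hI : IsMonomial I) [Module.Finite k (MvPolynomial (Fin 3) k ⧸ I)] :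
    Module.finrank k ↥(⨆ α : {α : Fin 3 → ℤ // α 0 = (a1 : ℤ) ∧ α 1 = (a2 : ℤ) ∧ α 2 < 0},
      tPiece I α.1) ≤
      ∑ᶠ p : ℕ × ℕ, (if a1 ≤ p.1 ∧ a2 ≤ p.2
        then stairZ I p.1 p.2 - max (stairZ I (p.1 + 1) p.2) (stairZ I p.1 (p.2 + 1)) else 0) := by
  obtain ⟨M, hM1, hM2⟩ := exists_bounds' hI
  have hM : ∀ a b, (M ≤ a ∨ M ≤ b) → stairZ I a b = 0 := by
    rintro a b (h | h)
    · exact hM2 a b h
    · exact hM1 a b h
  rw [← card_idx a1 a2 M hM]
  have hinj : Function.Injective ((Phi hI a1 a2 M).domRestrict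
      (⨆ α : {α : Fin 3 → ℤ // α 0 = (a1 : ℤ) ∧ α 1 = (a2 : ℤ) ∧ α 2 < 0}, tPiece I α.1)) := by
    rw [injective_iff_map_eq_zero]
    intro φ hφ
    exact Subtype.ext (Phi_inj hI a1 a2 M hM φ.1 φ.2 hφ)
  have h1 := LinearMap.finrank_le_finrank_of_injective hinj
  rwa [Module.finrank_fintype_fun_eq_card, Fintype.card_coe] at h1

end Groth.Agent.Lib.Helper14.PpnB
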