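import Mathlib.Tactic
import Mathlib.CategoryTheory.Sites.Sheaf
import Mathlib.CategoryTheory.Products.Basic
import Mathlib.CategoryTheory.Functor.Currying
import Mathlib.CategoryTheory.ObjectProperty.Equivalence

/-!
# The product of a small category with a site: sheaves are functors into sheaves
-/

set_option autoImplicit false

namespace Groth.Agent.Lib.Helper14.ProdSite

open CategoryTheory Limits Opposite

universe w u

variable {B : Type u} [SmallCategory B] {C : Type u} [SmallCategory C]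

/-- slice of a sieve on `B × C` along the identity of the first component -/
def sliceSieve {X : B × C} (S : Sieve X) : Sieve X.2 where
  arrows c' g := S (Y := (X.1, c')) (𝟙 X.1, g)
  downward_closed := by
    intro c' c'' g hg h
    have := S.downward_closed hg (Z := (X.1, c'')) (𝟙 X.1, h)
    convert this using 1
    apply Prod.ext <;> simp

variable (B) in
/-- the topology on `B × C` induced by a topology on `C` -/
def prodTop (J : GrothendieckTopology C) : GrothendieckTopology (B × C) where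
  sieves X := {S | sliceSieve S ∈ J X.2}
  top_mem' X := by
    change sliceSieve ⊤ ∈ J X.2
    convert J.top_mem X.2
    ext c' g
    simp [sliceSieve]
  pullback_stable' X Y S f hS := by
    change sliceSieve (S.pullback f) ∈ J Y.2
    refine J.superset_covering ?_ (J.pullback_stable f.2 hS)
    intro c' g hg
    change S (Y := (X.1, c')) (𝟙 X.1, g ≫ f.2) at hg
    change S ((show ((Y.1, c') : B × C) ⟶ Y from (𝟙 Y.1, g)) ≫ f)
    have := S.downward_closed hg (Z := (Y.1, c')) (f.1, 𝟙 c')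
    convert this using 1
    apply Prod.ext <;> simp
  transitive' X S hS R hR := by
    change sliceSieve R ∈ J X.2
    refine J.transitive hS _ ?_
    intro c' g hg
    have this : sliceSieve (R.pullback ((𝟙 X.1, g) : ((X.1, c') : B × C) ⟶ X)) ∈ J c' := hR hg
    refine J.superset_covering ?_ this
    intro c'' g' hg'
    change R (_ ≫ _) at hg'
    change R (Y := (X.1, c'')) (𝟙 X.1, g' ≫ g)
    convert hg' using 1
    apply Prod.ext <;> simp

section Slice

variable (P : (B × C)ᵒᵖ ⥤ Type w)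

/-- restriction along a morphism -/
abbrev rs {X Y : B × C} (f : Y ⟶ X) (x : P.obj (op X)) : P.obj (op Y) := P.map f.op x

lemma rs_comp {X Y Z : B × C} (g : Z ⟶ Y) (f : Y ⟶ X) (x : P.obj (op X)) :
    rs P (g ≫ f) x = rs P g (rs P f x) := by
  unfold rs
  rw [op_comp, CategoryTheory.Functor.map_comp]
  rfl

lemma rs_congr {X Y : B × C} {f f' : Y ⟶ X} (e : f = f') (x : P.obj (op X)) :
    rs P f x = rs P f' x := by
  subst e; rfl

lemma rs_id {X : B × C} (x : P.obj (op X)) : rs P (𝟙 X) x = x := by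
  unfold rs
  rw [op_id, CategoryTheory.Functor.map_id]
  rfl

/-- the slice of a presheaf on `B × C` at `b` -/
abbrev slice (b : B) : Cᵒᵖ ⥤ Type w := (Prod.sectR b C).op ⋙ P

lemma slice_map {b : B} {c c' : C} (g : c' ⟶ c) (x : P.obj (op (b, c))) :
    (slice P b).map g.op x = rs P (Y := (b, c')) (X := (b, c)) (𝟙 b, g) x := rfl

variable (J : GrothendieckTopology C)

lemma fam_congr {X : B × C} (S : Sieve X) (x : Presieve.FamilyOfElements P S.arrows)
    {Y : B × C} {f f' : Y ⟶ X} (e : f = f') (hf : S f) (hf' : S f') : x f hf = x f' hf' := by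
  subst e; rfl

lemma fam_congr₀ {b : B} {c : C} (S : Sieve c) (x : Presieve.FamilyOfElements (slice P b) S.arrows)
    {c' : C} {f f' : c' ⟶ c} (e : f = f') (hf : S f) (hf' : S f') : x f hf = x f' hf' := by
  subst e; rfl

theorem slice_isSheaf (hP : Presieve.IsSheaf (prodTop B J) P) (b : B) :
    Presieve.IsSheaf J (slice P b) := by
  intro c S₀ hS₀
  let S : Sieve ((b, c) : B × C) :=
    { arrows := fun Y f => S₀ f.2
      downward_closed := fun hf g => S₀.downward_closed hf g.2 }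
  have hS : S ∈ prodTop B J (b, c) := by
    change sliceSieve S ∈ J c
    convert hS₀ using 1
    ext c' g
    exact Iff.rfl
  intro y hy
  have hy' : ∀ {c' c'' : C} (g : c' ⟶ c) (h : c'' ⟶ c') (hg : S₀ g),
      y (h ≫ g) (S₀.downward_closed hg h) = rs P (Y := (b, c'')) (X := (b, c')) (𝟙 b, h) (y g hg) :=
    fun g h hg => (Presieve.compatible_iff_sieveCompatible _).1 hy g h hg
  let x : Presieve.FamilyOfElements P S.arrows := fun Y f hf =>
    rs P (Y := Y) (X := (b, Y.2)) (f.1, 𝟙 Y.2) (y f.2 hf)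
  have hx : x.Compatible := by
    rw [Presieve.compatible_iff_sieveCompatible]
    intro Y Z f g hf
    change rs P (Y := Z) (X := (b, Z.2)) ((g ≫ f).1, 𝟙 Z.2) (y (g ≫ f).2 _) =
      rs P g (rs P (Y := Y) (X := (b, Y.2)) (f.1, 𝟙 Y.2) (y f.2 hf))
    have e1 : y (g ≫ f).2 (S₀.downward_closed hf g.2) =
        rs P (Y := (b, Z.2)) (X := (b, Y.2)) (𝟙 b, g.2) (y f.2 hf) := hy' f.2 g.2 hf
    have e2 : ((((g ≫ f).1, 𝟙 Z.2) : Z ⟶ (b, Z.2)) ≫ ((𝟙 b, g.2) : ((b, Z.2) : B × C) ⟶ (b, Y.2))) =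
        g ≫ ((f.1, 𝟙 Y.2) : Y ⟶ (b, Y.2)) := by
      apply Prod.ext <;> simp
    calc rs P (Y := Z) (X := (b, Z.2)) ((g ≫ f).1, 𝟙 Z.2) (y (g ≫ f).2 (S₀.downward_closed hf g.2))
        = rs P (Y := Z) (X := (b, Z.2)) ((g ≫ f).1, 𝟙 Z.2)
            (rs P (Y := (b, Z.2)) (X := (b, Y.2)) (𝟙 b, g.2) (y f.2 hf)) := congrArg _ e1
      _ = rs P ((((g ≫ f).1, 𝟙 Z.2) : Z ⟶ (b, Z.2)) ≫
            ((𝟙 b, g.2) : ((b, Z.2) : B × C) ⟶ (b, Y.2))) (y f.2 hf) := (rs_comp P _ _ _).symm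
      _ = rs P (g ≫ ((f.1, 𝟙 Y.2) : Y ⟶ (b, Y.2))) (y f.2 hf) := rs_congr P e2 _
      _ = rs P g (rs P (Y := Y) (X := (b, Y.2)) (f.1, 𝟙 Y.2) (y f.2 hf)) := rs_comp P _ _ _
  obtain ⟨z, hz, hzu⟩ := hP S hS x hx
  refine ⟨z, ?_, ?_⟩
  · intro c' g hg
    have := hz (Y := (b, c')) (𝟙 b, g) hg
    change rs P (Y := (b, c')) (X := (b, c)) (𝟙 b, g) z = _ at this
    change rs P (Y := (b, c')) (X := (b, c)) (𝟙 b, g) z = y g hg
    rw [this]
    change rs P (Y := (b, c')) (X := (b, c')) (𝟙 b, 𝟙 c') (y g hg) = y g hg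
    exact rs_id P _
  · intro z' hz'
    apply hzu
    intro Y f hf
    change rs P f z' = rs P (Y := Y) (X := (b, Y.2)) (f.1, 𝟙 Y.2) (y f.2 hf)
    have := hz' f.2 hf
    change rs P (Y := (b, Y.2)) (X := (b, c)) (𝟙 b, f.2) z' = y f.2 hf at this
    have e2 : f = ((f.1, 𝟙 Y.2) : Y ⟶ (b, Y.2)) ≫ ((𝟙 b, f.2) : ((b, Y.2) : B × C) ⟶ (b, c)) := by
      apply Prod.ext <;> simp
    calc rs P f z' = rs P (((f.1, 𝟙 Y.2) : Y ⟶ (b, Y.2)) ≫
            ((𝟙 b, f.2) : ((b, Y.2) : B × C) ⟶ (b, c))) z' := rs_congr P e2 _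
      _ = rs P (Y := Y) (X := (b, Y.2)) (f.1, 𝟙 Y.2)
            (rs P (Y := (b, Y.2)) (X := (b, c)) (𝟙 b, f.2) z') := rs_comp P _ _ _
      _ = rs P (Y := Y) (X := (b, Y.2)) (f.1, 𝟙 Y.2) (y f.2 hf) := congrArg _ this

theorem isSheaf_of_slices (h : ∀ b, Presieve.IsSheaf J (slice P b)) :
    Presieve.IsSheaf (prodTop B J) P := by
  intro X S hS
  obtain ⟨b, c⟩ := X
  change sliceSieve S ∈ J c at hS
  intro x hx
  have hx' : ∀ {Y Z : B × C} (f : Y ⟶ (b, c)) (g : Z ⟶ Y) (hf : S f),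
      x (g ≫ f) (S.downward_closed hf g) = rs P g (x f hf) :=
    fun f g hf => (Presieve.compatible_iff_sieveCompatible _).1 hx f g hf
  let y : Presieve.FamilyOfElements (slice P b) (sliceSieve S).arrows :=
    fun c' g hg => x (Y := (b, c')) (𝟙 b, g) hg
  have hy : y.Compatible := by
    rw [Presieve.compatible_iff_sieveCompatible]
    intro c' c'' g k hg
    change x (Y := (b, c'')) (𝟙 b, k ≫ g) _ =
      rs P (Y := (b, c'')) (X := (b, c')) (𝟙 b, k) (x (Y := (b, c')) (𝟙 b, g) hg)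
    have hg0 : S (Y := (b, c')) (𝟙 b, g) := hg
    refine Eq.trans ?_ (hx' (Y := (b, c')) (Z := (b, c'')) (𝟙 b, g) (𝟙 b, k) hg0)
    exact fam_congr P S x (by apply Prod.ext <;> simp) _ _
  obtain ⟨z, hz, hzu⟩ := h b (sliceSieve S) hS y hy
  have hz' : ∀ {c' : C} (g : c' ⟶ c) (hg : S (Y := (b, c')) (𝟙 b, g)),
      rs P (Y := (b, c')) (X := (b, c)) (𝟙 b, g) z = x (Y := (b, c')) (𝟙 b, g) hg :=
    fun g hg => hz g hg
  refine ⟨z, ?_, ?_⟩
  · intro Y f hf
    obtain ⟨b', c'⟩ := Y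
    apply ((h b').isSeparated _ (J.pullback_stable f.2 hS)).ext
    intro c'' g' hg'
    have hg'' : S (Y := (b, c'')) (𝟙 b, g' ≫ f.2) := hg'
    change rs P (Y := (b', c'')) (X := (b', c')) (𝟙 b', g') (rs P f z) =
      rs P (Y := (b', c'')) (X := (b', c')) (𝟙 b', g') (x f hf)
    have e1 : ((𝟙 b', g') : ((b', c'') : B × C) ⟶ (b', c')) ≫ f =
        ((f.1, 𝟙 c'') : ((b', c'') : B × C) ⟶ (b, c'')) ≫
          ((𝟙 b, g' ≫ f.2) : ((b, c'') : B × C) ⟶ (b, c)) := by
      apply Prod.ext <;> simp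
    calc rs P (Y := (b', c'')) (X := (b', c')) (𝟙 b', g') (rs P f z)
        = rs P (((𝟙 b', g') : ((b', c'') : B × C) ⟶ (b', c')) ≫ f) z := (rs_comp P _ _ _).symm
      _ = rs P (((f.1, 𝟙 c'') : ((b', c'') : B × C) ⟶ (b, c'')) ≫
            ((𝟙 b, g' ≫ f.2) : ((b, c'') : B × C) ⟶ (b, c))) z := rs_congr P e1 _
      _ = rs P (Y := (b', c'')) (X := (b, c'')) (f.1, 𝟙 c'')
            (rs P (Y := (b, c'')) (X := (b, c)) (𝟙 b, g' ≫ f.2) z) := rs_comp P _ _ _
      _ = rs P (Y := (b', c'')) (X := (b, c'')) (f.1, 𝟙 c'')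
            (x (Y := (b, c'')) (𝟙 b, g' ≫ f.2) hg'') := congrArg _ (hz' _ hg'')
      _ = x (((f.1, 𝟙 c'') : ((b', c'') : B × C) ⟶ (b, c'')) ≫
            ((𝟙 b, g' ≫ f.2) : ((b, c'') : B × C) ⟶ (b, c))) (S.downward_closed hg'' _) :=
          (hx' _ _ hg'').symm
      _ = x (((𝟙 b', g') : ((b', c'') : B × C) ⟶ (b', c')) ≫ f) (S.downward_closed hf _) :=
          fam_congr P S x e1.symm _ _
      _ = rs P (Y := (b', c'')) (X := (b', c')) (𝟙 b', g') (x f hf) := hx' _ _ hf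
  · intro z' hz''
    apply hzu
    intro c' g hg
    exact hz'' (Y := (b, c')) (𝟙 b, g) hg

theorem isSheaf_prodTop_iff :
    Presieve.IsSheaf (prodTop B J) P ↔ ∀ b, Presieve.IsSheaf J (slice P b) :=
  ⟨fun hP b => slice_isSheaf P J hP b, isSheaf_of_slices P J⟩

end Slice

section Equiv

variable (D : Type u) [SmallCategory D] (J : GrothendieckTopology C)

/-- the comparison functor `(Dᵒᵖ × C)ᵒᵖ ⥤ D × Cᵒᵖ` -/
def T : (Dᵒᵖ × C)ᵒᵖ ⥤ D × Cᵒᵖ where
  obj X := (X.unop.1.unop, op X.unop.2)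
  map f := (f.unop.1.unop, f.unop.2.op)

/-- its inverse -/
def T' : D × Cᵒᵖ ⥤ (Dᵒᵖ × C)ᵒᵖ where
  obj X := op (op X.1, X.2.unop)
  map f := Quiver.Hom.op (Y := (op _, _)) (X := (op _, _)) (f.1.op, f.2.unop)

/-- `T` is an equivalence -/
def Teq : (Dᵒᵖ × C)ᵒᵖ ≌ D × Cᵒᵖ where
  functor := T D
  inverse := T' D
  unitIso := NatIso.ofComponents (fun _ => Iso.refl _) (by
    intro X Y f
    refine (Category.comp_id _).trans (Eq.trans ?_ (Category.id_comp _).symm)
    rfl)
  counitIso := NatIso.ofComponents (fun _ => Iso.refl _) (by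
    intro X Y f
    refine (Category.comp_id _).trans (Eq.trans ?_ (Category.id_comp _).symm)
    rfl)
  functor_unitIso_comp X := by
    change (T D).map (𝟙 X) ≫ 𝟙 _ = 𝟙 _
    rw [CategoryTheory.Functor.map_id, Category.comp_id]

/-- presheaves on `Dᵒᵖ × C` are functors from `D` to presheaves on `C` -/
def preEquiv : (D ⥤ Cᵒᵖ ⥤ Type u) ≌ ((Dᵒᵖ × C)ᵒᵖ ⥤ Type u) :=
  Functor.currying.trans (Teq (C := C) D).symm.congrLeft

/-- the slice of the presheaf attached to `F` at `d` is `F.obj d` -/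
def sliceIso (F : D ⥤ Cᵒᵖ ⥤ Type u) (d : D) :
    slice ((preEquiv (C := C) D).functor.obj F) (op d) ≅ F.obj d :=
  NatIso.ofComponents (fun c => Iso.refl _) (by
    intro c c' g
    change ((F.map (𝟙 d)).app c ≫ (F.obj d).map g) ≫ 𝟙 _ = 𝟙 _ ≫ (F.obj d).map g
    rw [CategoryTheory.Functor.map_id, Category.comp_id, Category.id_comp]
    exact Category.id_comp _)

lemma isSheaf_preEquiv_iff (F : D ⥤ Cᵒᵖ ⥤ Type u) :
    Presheaf.IsSheaf (prodTop Dᵒᵖ J) ((preEquiv (C := C) D).functor.obj F) ↔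
      ∀ d, Presheaf.IsSheaf J (F.obj d) := by
  rw [isSheaf_iff_isSheaf_of_type, isSheaf_prodTop_iff]
  constructor
  · intro h d
    rw [isSheaf_iff_isSheaf_of_type]
    exact Presieve.isSheaf_iso J (sliceIso D F d) (h (op d))
  · intro h b
    exact Presieve.isSheaf_iso J (sliceIso D F b.unop).symm
      ((isSheaf_iff_isSheaf_of_type _ _).1 (h b.unop))

/-- functors which are objectwise sheaves -/
def objSheaf : ObjectProperty (D ⥤ Cᵒᵖ ⥤ Type u) := fun F => ∀ d, Presheaf.IsSheaf J (F.obj d)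

instance : ObjectProperty.IsClosedUnderIsomorphisms
    (Presheaf.IsSheaf (prodTop Dᵒᵖ J) (A := Type u)) where
  of_iso e h := (Presheaf.isSheaf_of_iso_iff e).1 h

/-- objectwise sheaves are sheaves on the product site -/
def equiv₂ : (objSheaf D J).FullSubcategory ≌ Sheaf (prodTop Dᵒᵖ J) (Type u) :=
  (preEquiv (C := C) D).congrFullSubcategory (by
    ext F
    exact isSheaf_preEquiv_iff D J F)

/-- the comparison functor from functors into sheaves -/
def Θ : (D ⥤ Sheaf J (Type u)) ⥤ (objSheaf D J).FullSubcategory :=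
  (objSheaf D J).lift ((Functor.whiskeringRight D _ _).obj (sheafToPresheaf J (Type u)))
    (fun F d => (F.obj d).property)

/-- `Θ` is fully faithful -/
def ΘFF : (Θ D J).FullyFaithful :=
  Functor.FullyFaithful.ofCompFaithful (G := (objSheaf D J).ι)
    ((fullyFaithfulSheafToPresheaf J (Type u)).whiskeringRight D)

instance : (Θ D J).Full := (ΘFF D J).full
instance : (Θ D J).Faithful := (ΘFF D J).faithful

instance : (Θ D J).EssSurj where
  mem_essImage X :=
    ⟨ObjectProperty.lift (Presheaf.IsSheaf J) X.obj X.property,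
      ⟨ObjectProperty.isoMk _ (Iso.refl _)⟩⟩

instance : (Θ D J).IsEquivalence where

/-- functors from `D` into sheaves on `C` are sheaves on the product site -/
noncomputable def equivFun : (D ⥤ Sheaf J (Type u)) ≌ Sheaf (prodTop Dᵒᵖ J) (Type u) :=
  (Θ D J).asEquivalence.trans (equiv₂ D J)

end Equiv

end Groth.Agent.Lib.Helper14.ProdSite
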