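import Groth.Prelude.Def_CAlgX
import Mathlib.RingTheory.TensorProduct.DirectLimitFG
import Mathlib.RingTheory.TensorProduct.Finite
import Mathlib.LinearAlgebra.TensorProduct.RightExactness
import Mathlib.LinearAlgebra.TensorProduct.Vanishing
import Mathlib.Algebra.Module.FinitePresentation
import Mathlib.RingTheory.Flat.Basic

/-! Helper library (helper14): pure covers by direct sums of finitely presented modules. -/

set_option autoImplicit false
universe u

namespace Groth.Agent.Lib.Helper14.PureCover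

open TensorProduct LinearMap

section Rel

variable {R : Type u} [CommRing R] {Q M N : Type u} [AddCommGroup Q] [Module R Q]
  [AddCommGroup M] [Module R M] [AddCommGroup N] [Module R N]

lemma exists_fin_sum (x : Q ⊗[R] M) :
    ∃ (n : ℕ) (b : Fin n → Q) (m : Fin n → M), x = ∑ i, b i ⊗ₜ[R] m i := by
  induction x using TensorProduct.induction_on with
  | zero => exact ⟨0, Fin.elim0, Fin.elim0, by simp⟩
  | tmul b m => exact ⟨1, fun _ => b, fun _ => m, by simp⟩
  | add x y hx hy =>
    obtain ⟨n, b, m, rfl⟩ := hx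
    obtain ⟨n', b', m', rfl⟩ := hy
    refine ⟨n + n', Fin.append b b', Fin.append m m', ?_⟩
    rw [Fin.sum_univ_add]
    simp

/-- the equational criterion, with auxiliary generators -/
lemma exists_relations (α : M →ₗ[R] N) (x : Q ⊗[R] M) (hx : α.lTensor Q x = 0) :
    ∃ (n k : ℕ) (a : Fin n → Fin k → R) (b : Fin n → Q) (m : Fin n → M) (y : Fin k → N),
      (∀ i, α (m i) = ∑ j, a i j • y j) ∧ (∀ j, ∑ i, a i j • b i = 0) ∧
        x = ∑ i, b i ⊗ₜ[R] m i := by
  obtain ⟨n, b, m, rfl⟩ := exists_fin_sum x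
  have h0 : ∑ i, b i ⊗ₜ[R] α (m i) = 0 := by
    rw [← hx, map_sum]
    simp
  let P₀ : Submodule R Q := Submodule.span R (Set.range b)
  have hP₀ : P₀.FG := Submodule.fg_span (Set.finite_range b)
  let b₀ : Fin n → P₀ := fun i => ⟨b i, Submodule.subset_span ⟨i, rfl⟩⟩
  let t : P₀ ⊗[R] N := ∑ i, b₀ i ⊗ₜ[R] α (m i)
  have ht : LinearMap.rTensor N P₀.subtype t = 0 := by
    rw [map_sum]
    simpa [b₀] using h0
  obtain ⟨Q', hPQ, hQ, hQt⟩ := TensorProduct.eq_zero_of_fg_of_subtype_eq_zero hP₀ ht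
  obtain ⟨l, c, hc⟩ := Submodule.fg_iff_exists_fin_generating_family.1 hQ
  have hcQ : ∀ j, c j ∈ Q' := fun j => hc ▸ Submodule.subset_span ⟨j, rfl⟩
  let g : Fin n ⊕ Fin l → Q' :=
    Sum.elim (fun i => Submodule.inclusion hPQ (b₀ i)) (fun j => ⟨c j, hcQ j⟩)
  let nn : Fin n ⊕ Fin l → N := Sum.elim (fun i => α (m i)) (fun _ => 0)
  have hg : Submodule.span R (Set.range g) = ⊤ := by
    rw [eq_top_iff]
    rintro ⟨q, hq⟩ -
    have : q ∈ Submodule.span R (Set.range c) := hc ▸ hq
    refine Submodule.span_induction (p := fun q hq' => (⟨q, hc ▸ hq'⟩ : Q') ∈ Submodule.span R (Set.range g))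
      ?_ ?_ ?_ ?_ this
    · rintro _ ⟨j, rfl⟩
      exact Submodule.subset_span ⟨Sum.inr j, rfl⟩
    · exact Submodule.zero_mem _
    · intro x y hx hy hx' hy'
      exact Submodule.add_mem _ hx' hy'
    · intro r x hx hx'
      exact Submodule.smul_mem _ r hx'
  have hsum : ∑ i, g i ⊗ₜ[R] nn i = 0 := by
    rw [Fintype.sum_sum_type]
    simp only [g, nn, Sum.elim_inl, Sum.elim_inr, TensorProduct.tmul_zero, Finset.sum_const_zero,
      add_zero]
    rw [← hQt, map_sum]
    simp
  obtain ⟨k, a, y, h₁, h₂⟩ := TensorProduct.vanishesTrivially_of_sum_tmul_eq_zero R hg hsum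
  let e : Fin n ⊕ Fin l ≃ Fin (n + l) := finSumFinEquiv
  refine ⟨n + l, k, fun i => a (e.symm i), fun i => ((g (e.symm i) : Q') : Q),
    fun i => Sum.elim m (fun _ => 0) (e.symm i), y, ?_, ?_, ?_⟩
  · intro i
    change α (Sum.elim m (fun _ => 0) (e.symm i)) = ∑ j, a (e.symm i) j • y j
    generalize e.symm i = s
    rw [← h₁ s]
    cases s <;> simp [nn]
  · intro j
    have := congrArg (Q'.subtype) (h₂ j)
    rw [map_sum, map_zero] at this
    rw [← this]
    refine (Fintype.sum_equiv e _ _ ?_).symm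
    intro i
    simp
  · have h3 : ∑ i : Fin (n + l), ((g (e.symm i) : Q') : Q) ⊗ₜ[R] (Sum.elim m (fun _ => 0) (e.symm i)) =
        ∑ s : Fin n ⊕ Fin l, ((g s : Q') : Q) ⊗ₜ[R] (Sum.elim m (fun _ => (0 : M)) s) :=
      Fintype.sum_equiv e.symm _ _ (fun _ => rfl)
    refine Eq.trans ?_ h3.symm
    rw [Fintype.sum_sum_type]
    simp [g, b₀]

end Rel

section Lifting

variable {R : Type u} [CommRing R] {P M : Type u} [AddCommGroup P] [Module R P]
  [AddCommGroup M] [Module R M]

/-- a surjection along which all maps from finitely presented modules lift has universally injective kernel -/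
theorem univInj_ker_of_lifting (g : P →ₗ[R] M)
    (H : ∀ (k : ℕ) (K : Submodule R (Fin k → R)), K.FG → ∀ φ : ((Fin k → R) ⧸ K) →ₗ[R] M,
      ∃ ψ : ((Fin k → R) ⧸ K) →ₗ[R] P, g ∘ₗ ψ = φ) :
    CAlgX.UniversallyInjective R (LinearMap.ker g).subtype := by
  intro Q _ _
  rw [← LinearMap.lTensor_inj_iff_rTensor_inj, injective_iff_map_eq_zero]
  intro x hx
  obtain ⟨n, k, a, b, m, y, h1, h2, rfl⟩ := exists_relations (LinearMap.ker g).subtype x hx
  let K' : Submodule R (Fin k → R) := Submodule.span R (Set.range a)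
  have hK' : K'.FG := Submodule.fg_span (Set.finite_range a)
  have hgy : ∀ i, ∑ j, a i j • g (y j) = 0 := by
    intro i
    have := congrArg g (h1 i)
    rw [Submodule.subtype_apply, LinearMap.mem_ker.1 (m i).2, map_sum] at this
    rw [this]
    simp
  have hle : K' ≤ LinearMap.ker (Fintype.linearCombination R (fun j => g (y j))) := by
    rw [Submodule.span_le]
    rintro _ ⟨i, rfl⟩
    rw [SetLike.mem_coe, LinearMap.mem_ker, Fintype.linearCombination_apply]
    exact hgy i
  obtain ⟨ψ, hψ⟩ := H k K' hK' (K'.liftQ _ hle)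
  let y' : Fin k → P := fun j => ψ (K'.mkQ (Pi.single j 1))
  have hy' : ∀ j, g (y' j) = g (y j) := by
    intro j
    have := LinearMap.congr_fun hψ (K'.mkQ (Pi.single j 1))
    rw [LinearMap.comp_apply, Submodule.mkQ_apply, Submodule.liftQ_apply,
      Fintype.linearCombination_apply_single, one_smul] at this
    exact this
  have hay' : ∀ i, ∑ j, a i j • y' j = 0 := by
    intro i
    have e1 : ∑ j, a i j • y' j = ψ (K'.mkQ (a i)) := by
      have : (a i : Fin k → R) = ∑ j, a i j • (Pi.single j (1 : R) : Fin k → R) := by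
        funext j'
        simp [Finset.sum_apply, Pi.single_apply]
      conv_rhs => rw [this]
      rw [map_sum, map_sum]
      refine Finset.sum_congr rfl fun j _ => ?_
      rw [map_smul, map_smul]
    rw [e1]
    have : K'.mkQ (a i) = 0 := by
      rw [Submodule.mkQ_apply, Submodule.Quotient.mk_eq_zero]
      exact Submodule.subset_span ⟨i, rfl⟩
    rw [this, map_zero]
  let z : Fin k → LinearMap.ker g := fun j => ⟨y j - y' j, by
    rw [LinearMap.mem_ker, map_sub, hy' j, sub_self]⟩
  have hm : ∀ i, m i = ∑ j, a i j • z j := by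
    intro i
    apply Subtype.ext
    rw [Submodule.coe_sum]
    have := h1 i
    rw [Submodule.subtype_apply] at this
    rw [this]
    have e2 : ∀ j, ((a i j • z j : LinearMap.ker g) : P) = a i j • y j - a i j • y' j := by
      intro j
      rw [Submodule.coe_smul, smul_sub]
    simp only [e2]
    rw [Finset.sum_sub_distrib, hay' i, sub_zero]
  calc ∑ i, b i ⊗ₜ[R] m i = ∑ i, ∑ j, (a i j • b i) ⊗ₜ[R] z j := by
        refine Finset.sum_congr rfl fun i _ => ?_
        rw [hm i, TensorProduct.tmul_sum]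
        refine Finset.sum_congr rfl fun j _ => ?_
        rw [TensorProduct.tmul_smul, TensorProduct.smul_tmul']
    _ = ∑ j, (∑ i, a i j • b i) ⊗ₜ[R] z j := by
        rw [Finset.sum_comm]
        refine Finset.sum_congr rfl fun j _ => ?_
        rw [TensorProduct.sum_tmul]
    _ = 0 := by
        refine Finset.sum_eq_zero fun j _ => ?_
        rw [h2 j, TensorProduct.zero_tmul]

end Lifting

section Cover

variable {R : Type u} [CommRing R] {M : Type u} [AddCommGroup M] [Module R M]
  {ι : Type u} (Q : ι → Type u) [∀ i, AddCommGroup (Q i)] [∀ i, Module R (Q i)] (f : ∀ i, Q i →ₗ[R] M)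

open Classical in
/-- the canonical map from the direct sum -/
noncomputable def cov : (Π₀ i, Q i) →ₗ[R] M :=
  DFinsupp.lsum ℕ f

open Classical in
lemma cov_lsingle (i : ι) (q : Q i) : cov Q f (DFinsupp.lsingle (R := R) i q) = f i q := by
  unfold cov
  rw [DFinsupp.lsingle_apply, DFinsupp.lsum_single]

variable (hf : ∀ (k : ℕ) (K : Submodule R (Fin k → R)), K.FG → ∀ φ : ((Fin k → R) ⧸ K) →ₗ[R] M,
  ∃ (i : ι) (e : ((Fin k → R) ⧸ K) →ₗ[R] Q i), f i ∘ₗ e = φ)

include hf in
open Classical in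
lemma cov_lifting (k : ℕ) (K : Submodule R (Fin k → R)) (hK : K.FG) (φ : ((Fin k → R) ⧸ K) →ₗ[R] M) :
    ∃ ψ : ((Fin k → R) ⧸ K) →ₗ[R] (Π₀ i, Q i), cov Q f ∘ₗ ψ = φ := by
  obtain ⟨i, e, he⟩ := hf k K hK φ
  refine ⟨DFinsupp.lsingle i ∘ₗ e, ?_⟩
  apply LinearMap.ext
  intro q
  rw [LinearMap.comp_apply, LinearMap.comp_apply, cov_lsingle, ← he, LinearMap.comp_apply]

include hf in
lemma cov_surjective : Function.Surjective (cov Q f) := by
  intro m
  let φ₀ : (Fin 1 → R) →ₗ[R] M := (LinearMap.toSpanSingleton R M m) ∘ₗ (LinearMap.proj 0)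
  obtain ⟨ψ, hψ⟩ := cov_lifting Q f hf 1 ⊥ Submodule.fg_bot
    ((⊥ : Submodule R (Fin 1 → R)).liftQ φ₀ bot_le)
  refine ⟨ψ ((⊥ : Submodule R (Fin 1 → R)).mkQ (fun _ => 1)), ?_⟩
  have := LinearMap.congr_fun hψ ((⊥ : Submodule R (Fin 1 → R)).mkQ (fun _ => 1))
  rw [LinearMap.comp_apply] at this
  rw [this, Submodule.mkQ_apply, Submodule.liftQ_apply]
  simp [φ₀]

include hf in
theorem cov_univInj : CAlgX.UniversallyInjective R (LinearMap.ker (cov Q f)).subtype :=
  univInj_ker_of_lifting (cov Q f) (cov_lifting Q f hf)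

end Cover

section Main

variable (R : Type u) [CommRing R] (M : Type u) [AddCommGroup M] [Module R M]

/-- the index set of all maps from standard finitely presented modules -/
abbrev Idx : Type u :=
  Σ (n : ℕ), Σ (K : {K : Submodule R (Fin n → R) // K.FG}), (((Fin n → R) ⧸ K.1) →ₗ[R] M)

/-- the standard finitely presented module attached to an index -/
abbrev Qm (i : Idx R M) : Type u := (Fin i.1 → R) ⧸ i.2.1.1

lemma fp_Qm (i : Idx R M) : Module.FinitePresentation R (Qm R M i) :=
  Module.finitePresentation_of_surjective i.2.1.1.mkQ i.2.1.1.mkQ_surjective (by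
    rw [Submodule.ker_mkQ]
    exact i.2.1.2)

/-- every module is a pure quotient of a direct sum of finitely presented modules -/
theorem exists_pure_cover :
    ∃ (ι : Type u) (Q : ι → Type u) (_ : ∀ i, AddCommGroup (Q i)) (_ : ∀ i, Module R (Q i)),
      (∀ i, Module.FinitePresentation R (Q i)) ∧
      ∃ g : (Π₀ i, Q i) →ₗ[R] M, Function.Surjective g ∧
        CAlgX.UniversallyInjective R (LinearMap.ker g).subtype := by
  have hf : ∀ (k : ℕ) (K : Submodule R (Fin k → R)), K.FG → ∀ φ : ((Fin k → R) ⧸ K) →ₗ[R] M,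
      ∃ (i : Idx R M) (e : ((Fin k → R) ⧸ K) →ₗ[R] Qm R M i), (i.2.2 : Qm R M i →ₗ[R] M) ∘ₗ e = φ :=
    fun k K hK φ => ⟨⟨k, ⟨K, hK⟩, φ⟩, LinearMap.id, LinearMap.comp_id _⟩
  exact ⟨Idx R M, Qm R M, fun i => inferInstance, fun i => inferInstance, fun i => fp_Qm R M i,
    cov (Qm R M) (fun i => i.2.2), cov_surjective (Qm R M) (fun i => i.2.2) hf,
    cov_univInj (Qm R M) (fun i => i.2.2) hf⟩

end Main

end Groth.Agent.Lib.Helper14.PureCover
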