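import Mathlib.CategoryTheory.Preadditive.Injective.Resolution
import Mathlib.Algebra.Homology.SingleHomology
import Mathlib.Algebra.Homology.QuasiIso
import Mathlib.CategoryTheory.Abelian.Basic
import Mathlib.Algebra.Category.ModuleCat.Monoidal.Basic
import Mathlib.Algebra.Homology.ShortComplex.ModuleCat
import Mathlib.Algebra.Homology.Additive
import Mathlib.Algebra.Homology.Homotopy
import Groth.Prelude.Def_CAlgX

universe v u

open CategoryTheory Limits HomologicalComplex CochainComplex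

namespace Groth.Agent.Lib.Helper14.PureInjRes

section Abstract

variable {C : Type u} [Category.{v} C] [Abelian C] (K : CochainComplex C ℕ) {Z : C}
  (ι : (CochainComplex.single₀ C).obj Z ⟶ K) [QuasiIso ι]

include ι in
lemma exactAt_succ (n : ℕ) : K.ExactAt (n + 1) := by
  rw [← quasiIsoAt_iff_exactAt ι (n + 1) (exactAt_succ_single_obj _ _)]
  infer_instance

include ι in
lemma exact_succ (n : ℕ) :
    (ShortComplex.mk _ _ (K.d_comp_d n (n + 1) (n + 2))).Exact :=
  (HomologicalComplex.exactAt_iff' _ n (n + 1) (n + 2) (by simp)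
    (by simp only [CochainComplex.next]; rfl)).1 (exactAt_succ K ι n)

omit [QuasiIso ι] in
include ι in
theorem ι_f_zero_comp_d : ι.f 0 ≫ K.d 0 1 = 0 := by
  rw [ι.comm 0 1, single_obj_d, zero_comp]

set_option backward.defeqAttrib.useBackward true in
set_option backward.isDefEq.respectTransparency false in
noncomputable def isLimitKernelFork : IsLimit (KernelFork.ofι (ι.f 0) (ι_f_zero_comp_d K ι)) := by
  refine IsLimit.ofIsoLimit (K.cyclesIsKernel 0 1 (by simp)) (Iso.symm ?_)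
  refine Fork.ext ((singleObjHomologySelfIso _ _ _).symm ≪≫
    isoOfQuasiIsoAt ι 0 ≪≫ K.isoHomologyπ₀.symm) ?_
  rw [← cancel_epi (singleObjHomologySelfIso (ComplexShape.up ℕ) _ _).hom,
    ← cancel_epi (isoHomologyπ₀ _).hom,
    ← cancel_epi (singleObjCyclesSelfIso (ComplexShape.up ℕ) _ _).inv]
  simp

lemma mono_f_zero : Mono (ι.f 0) := mono_of_isLimit_fork (isLimitKernelFork K ι)

lemma exact_zero : (ShortComplex.mk _ _ (ι_f_zero_comp_d K ι)).Exact :=
  ShortComplex.exact_of_f_is_kernel _ (isLimitKernelFork K ι)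

end Abstract

section Tensored

open TensorProduct MonoidalCategory

variable {R : Type u} [CommRing R] (M' : CochainComplex (ModuleCat.{u} R) ℕ) {M : ModuleCat.{u} R}
  (η : (CochainComplex.single₀ (ModuleCat.{u} R)).obj M ⟶ M')

/-- the tensored coaugmentation, with source a single complex -/
noncomputable def ιT (T : ModuleCat.{u} R) :
    (CochainComplex.single₀ (ModuleCat.{u} R)).obj ((tensorRight T).obj M) ⟶
      ((tensorRight T).mapHomologicalComplex (ComplexShape.up ℕ)).obj M' :=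
  (HomologicalComplex.singleMapHomologicalComplex (tensorRight T) (ComplexShape.up ℕ) 0).inv.app M ≫
    ((tensorRight T).mapHomologicalComplex (ComplexShape.up ℕ)).map η

variable (hM' : ∀ T : ModuleCat.{u} R,
  QuasiIso (((tensorRight T).mapHomologicalComplex (ComplexShape.up ℕ)).map η))

include hM' in
lemma quasiIso_ιT (T : ModuleCat.{u} R) : QuasiIso (ιT M' η T) := by
  have := hM' T
  unfold ιT
  infer_instance

include hM' in
/-- exactness of the tensored complex in positive degrees, on elements -/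
lemma tensored_exact_succ (T : ModuleCat.{u} R) (n : ℕ) (w : (M'.X (n + 1) : Type u) ⊗[R] (T : Type u))
    (hw : (M'.d (n + 1) (n + 2)).hom.rTensor T w = 0) :
    ∃ v : (M'.X n : Type u) ⊗[R] (T : Type u), (M'.d n (n + 1)).hom.rTensor T v = w := by
  have := quasiIso_ιT M' η hM' T
  have h := exact_succ _ (ιT M' η T) n
  rw [ShortComplex.moduleCat_exact_iff] at h
  exact h w hw

lemma ιT_f_zero (T : ModuleCat.{u} R) (x : (((CochainComplex.single₀ (ModuleCat.{u} R)).obj ((tensorRight T).obj M)).X 0 : Type u)) :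
    ((ιT M' η T).f 0).hom x = (η.f 0).hom.rTensor T
      ((((HomologicalComplex.singleMapHomologicalComplex (tensorRight T) (ComplexShape.up ℕ) 0).inv.app M).f 0).hom x) := rfl

include hM' in
/-- exactness of the tensored coaugmented complex in degree zero, on elements -/
lemma tensored_exact_zero (T : ModuleCat.{u} R) (w : (M'.X 0 : Type u) ⊗[R] (T : Type u))
    (hw : (M'.d 0 1).hom.rTensor T w = 0) :
    ∃ v : (M : Type u) ⊗[R] (T : Type u), (η.f 0).hom.rTensor T v = w := by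
  have := quasiIso_ιT M' η hM' T
  have h := exact_zero _ (ιT M' η T)
  rw [ShortComplex.moduleCat_exact_iff] at h
  obtain ⟨x, hx⟩ := h w hw
  exact ⟨_, (ιT_f_zero M' η T x).symm.trans hx⟩

include hM' in
lemma tensored_injective (T : ModuleCat.{u} R) :
    Function.Injective ((η.f 0).hom.rTensor T) := by
  have := quasiIso_ιT M' η hM' T
  have h := mono_f_zero _ (ιT M' η T)
  rw [ModuleCat.mono_iff_injective] at h
  let iso := ((HomologicalComplex.singleMapHomologicalComplex (tensorRight T) (ComplexShape.up ℕ) 0).inv.app M).f 0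
  have hiso : Function.Surjective iso := (ModuleCat.epi_iff_surjective iso).1 inferInstance
  intro x y hxy
  obtain ⟨x', rfl⟩ := hiso x
  obtain ⟨y', rfl⟩ := hiso y
  congr 1
  apply h
  exact (ιT_f_zero M' η T x').trans (hxy.trans (ιT_f_zero M' η T y').symm)

end Tensored


section Ext

open TensorProduct

variable {R : Type u} [CommRing R]

/-- pure injectivity, in the form used by the statements -/
def PureInj (R : Type u) [CommRing R] (X : Type u) [AddCommGroup X] [Module R X] : Prop :=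
  ∀ ⦃K L : Type u⦄ [AddCommGroup K] [Module R K] [AddCommGroup L] [Module R L] (g : K →ₗ[R] L),
    CAlgX.UniversallyInjective R g → ∀ φ : K →ₗ[R] X, ∃ ψ : L →ₗ[R] X, ψ ∘ₗ g = φ

/-- the basic extension step -/
lemma extStep {A B C X : ModuleCat.{u} R} (hX : PureInj R X) (d₀ : A ⟶ B) (d₁ : B ⟶ C)
    (h01 : d₀ ≫ d₁ = 0)
    (hex : ∀ (T : Type u) [AddCommGroup T] [Module R T] (w : (B : Type u) ⊗[R] T),
      d₁.hom.rTensor T w = 0 → ∃ v, d₀.hom.rTensor T v = w)
    (h : B ⟶ X) (hh : d₀ ≫ h = 0) : ∃ h' : C ⟶ X, d₁ ≫ h' = h := by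
  let S : Submodule R B := LinearMap.range d₀.hom
  have hS1 : S ≤ LinearMap.ker d₁.hom := by
    rintro _ ⟨a, rfl⟩
    rw [LinearMap.mem_ker, ← LinearMap.comp_apply, ← ModuleCat.hom_comp, h01]
    rfl
  have hS2 : S ≤ LinearMap.ker h.hom := by
    rintro _ ⟨a, rfl⟩
    rw [LinearMap.mem_ker, ← LinearMap.comp_apply, ← ModuleCat.hom_comp, hh]
    rfl
  let q : (B ⧸ S) →ₗ[R] C := S.liftQ d₁.hom hS1
  let hQ : (B ⧸ S) →ₗ[R] X := S.liftQ h.hom hS2
  have hq : CAlgX.UniversallyInjective R q := by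
    intro T _ _
    rw [← LinearMap.ker_eq_bot, LinearMap.ker_eq_bot']
    intro z hz
    obtain ⟨w, rfl⟩ := LinearMap.rTensor_surjective T S.mkQ_surjective z
    have h1 : d₁.hom.rTensor T w = 0 := by
      have : d₁.hom = q ∘ₗ S.mkQ := (S.liftQ_mkQ d₁.hom hS1).symm
      rw [this, LinearMap.rTensor_comp]
      exact hz
    obtain ⟨v, rfl⟩ := hex T w h1
    rw [← LinearMap.comp_apply, ← LinearMap.rTensor_comp]
    have : S.mkQ ∘ₗ d₀.hom = 0 := by
      apply LinearMap.ext
      intro a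
      exact (Submodule.Quotient.mk_eq_zero S).2 ⟨a, rfl⟩
    rw [this, LinearMap.rTensor_zero]
    rfl
  obtain ⟨ψ, hψ⟩ := hX q hq hQ
  refine ⟨ModuleCat.ofHom ψ, ?_⟩
  apply ModuleCat.hom_ext
  apply LinearMap.ext
  intro b
  have := LinearMap.congr_fun hψ (S.mkQ b)
  exact this

/-- extension along a universally injective map -/
lemma extStep₀ {A B X : ModuleCat.{u} R} (hX : PureInj R X) (d₀ : A ⟶ B)
    (hinj : ∀ (T : Type u) [AddCommGroup T] [Module R T], Function.Injective (d₀.hom.rTensor T))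
    (h : A ⟶ X) : ∃ h' : B ⟶ X, d₀ ≫ h' = h := by
  obtain ⟨ψ, hψ⟩ := hX d₀.hom (fun T _ _ => hinj T) h.hom
  refine ⟨ModuleCat.ofHom ψ, ?_⟩
  apply ModuleCat.hom_ext
  exact hψ

end Ext


section Comparison

open MonoidalCategory

variable {R : Type u} [CommRing R] {M N : ModuleCat.{u} R}
    (f : M ⟶ N) (M' I : CochainComplex (ModuleCat.{u} R) ℕ)
    (η : (CochainComplex.single₀ (ModuleCat.{u} R)).obj M ⟶ M')
    (ε : (CochainComplex.single₀ (ModuleCat.{u} R)).obj N ⟶ I)
    (hM' : ∀ T : ModuleCat.{u} R,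
      QuasiIso (((tensorRight T).mapHomologicalComplex (ComplexShape.up ℕ)).map η))
    (hI : ∀ n : ℕ, PureInj R (I.X n))

include hM' hI in
lemma exists_zero : ∃ z : M'.X 0 ⟶ I.X 0,
    η.f 0 ≫ z = ((CochainComplex.single₀ (ModuleCat.{u} R)).map f).f 0 ≫ ε.f 0 :=
  extStep₀ (hI 0) (η.f 0) (fun T _ _ => tensored_injective M' η hM' (ModuleCat.of R T)) _

include hM' hI in
lemma exists_one (z : M'.X 0 ⟶ I.X 0)
    (hz : η.f 0 ≫ z = ((CochainComplex.single₀ (ModuleCat.{u} R)).map f).f 0 ≫ ε.f 0) :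
    ∃ o : M'.X 1 ⟶ I.X 1, z ≫ I.d 0 1 = M'.d 0 1 ≫ o := by
  obtain ⟨o, ho⟩ := extStep (hI 1) (η.f 0) (M'.d 0 1) (ι_f_zero_comp_d M' η)
    (fun T _ _ w hw => tensored_exact_zero M' η hM' (ModuleCat.of R T) w hw) (z ≫ I.d 0 1) (by
      rw [← Category.assoc, hz, Category.assoc, ι_f_zero_comp_d I ε, comp_zero])
  exact ⟨o, ho.symm⟩

include hM' hI in
lemma exists_succ (n : ℕ) (g : M'.X n ⟶ I.X n) (g' : M'.X (n + 1) ⟶ I.X (n + 1))
    (w : g ≫ I.d n (n + 1) = M'.d n (n + 1) ≫ g') :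
    ∃ g'' : M'.X (n + 2) ⟶ I.X (n + 2), g' ≫ I.d (n + 1) (n + 2) = M'.d (n + 1) (n + 2) ≫ g'' := by
  obtain ⟨o, ho⟩ := extStep (hI (n + 2)) (M'.d n (n + 1)) (M'.d (n + 1) (n + 2)) (M'.d_comp_d _ _ _)
    (fun T _ _ w hw => tensored_exact_succ M' η hM' (ModuleCat.of R T) n w hw)
    (g' ≫ I.d (n + 1) (n + 2)) (by
      rw [← Category.assoc, ← w, Category.assoc, I.d_comp_d, comp_zero])
  exact ⟨o, ho.symm⟩

include hM' hI in
/-- the comparison theorem: existence -/
theorem exists_cochainMap :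
    ∃ φ : M' ⟶ I, η ≫ φ = (CochainComplex.single₀ (ModuleCat.{u} R)).map f ≫ ε := by
  obtain ⟨z, hz⟩ := exists_zero f M' I η ε hM' hI
  obtain ⟨o, ho⟩ := exists_one f M' I η ε hM' hI z hz
  refine ⟨CochainComplex.mkHom M' I z o ho (fun n p =>
    ⟨(exists_succ M' I η hM' hI n p.1 p.2.1 p.2.2).choose,
      (exists_succ M' I η hM' hI n p.1 p.2.1 p.2.2).choose_spec⟩), ?_⟩
  apply HomologicalComplex.from_single_hom_ext
  rw [HomologicalComplex.comp_f, HomologicalComplex.comp_f, CochainComplex.mkHom_f_0]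
  exact hz

section HomotopySec

variable (e : M' ⟶ I) (he : η ≫ e = 0)

include hM' hI he in
lemma exists_h_zero : ∃ z : M'.X 1 ⟶ I.X 0, e.f 0 = M'.d 0 1 ≫ z := by
  obtain ⟨z, hz⟩ := extStep (hI 0) (η.f 0) (M'.d 0 1) (ι_f_zero_comp_d M' η)
    (fun T _ _ w hw => tensored_exact_zero M' η hM' (ModuleCat.of R T) w hw) (e.f 0) (by
      rw [← HomologicalComplex.comp_f, he]
      rfl)
  exact ⟨z, hz.symm⟩

include hM' hI in
lemma exists_h_one (z : M'.X 1 ⟶ I.X 0) (hz : e.f 0 = M'.d 0 1 ≫ z) :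
    ∃ o : M'.X 2 ⟶ I.X 1, e.f 1 = z ≫ I.d 0 1 + M'.d 1 2 ≫ o := by
  obtain ⟨o, ho⟩ := extStep (hI 1) (M'.d 0 1) (M'.d 1 2) (M'.d_comp_d _ _ _)
    (fun T _ _ w hw => tensored_exact_succ M' η hM' (ModuleCat.of R T) 0 w hw)
    (e.f 1 - z ≫ I.d 0 1) (by
      rw [Preadditive.comp_sub, ← Category.assoc, ← hz, ← e.comm 0 1, sub_self])
  refine ⟨o, ?_⟩
  rw [ho]
  abel

include hM' hI in
lemma exists_h_succ (n : ℕ) (g : M'.X (n + 1) ⟶ I.X n) (g' : M'.X (n + 2) ⟶ I.X (n + 1))
    (w : e.f (n + 1) = g ≫ I.d n (n + 1) + M'.d (n + 1) (n + 2) ≫ g') :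
    ∃ g'' : M'.X (n + 3) ⟶ I.X (n + 2),
      e.f (n + 2) = g' ≫ I.d (n + 1) (n + 2) + M'.d (n + 2) (n + 3) ≫ g'' := by
  obtain ⟨o, ho⟩ := extStep (hI (n + 2)) (M'.d (n + 1) (n + 2)) (M'.d (n + 2) (n + 3))
    (M'.d_comp_d _ _ _)
    (fun T _ _ w hw => tensored_exact_succ M' η hM' (ModuleCat.of R T) (n + 1) w hw)
    (e.f (n + 2) - g' ≫ I.d (n + 1) (n + 2)) (by
      rw [Preadditive.comp_sub, ← e.comm (n + 1) (n + 2), ← Category.assoc]
      have : M'.d (n + 1) (n + 2) ≫ g' = e.f (n + 1) - g ≫ I.d n (n + 1) := by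
        rw [w]
        abel
      rw [this, Preadditive.sub_comp, Category.assoc, I.d_comp_d, comp_zero, sub_zero, sub_self])
  refine ⟨o, ?_⟩
  rw [ho]
  abel

include hM' hI he in
/-- a cochain map killed by the coaugmentation is null-homotopic -/
theorem nonempty_homotopy_zero : Nonempty (Homotopy e 0) := by
  obtain ⟨z, hz⟩ := exists_h_zero M' I η hM' hI e he
  obtain ⟨o, ho⟩ := exists_h_one M' I η hM' hI e z hz
  exact ⟨Homotopy.mkCoinductive e z hz o ho (fun n p =>
    ⟨(exists_h_succ M' I η hM' hI e n p.1 p.2.1 p.2.2).choose,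
      (exists_h_succ M' I η hM' hI e n p.1 p.2.1 p.2.2).choose_spec⟩)⟩

end HomotopySec

include hM' hI in
/-- the comparison theorem: uniqueness up to homotopy -/
theorem nonempty_homotopy (α β : M' ⟶ I)
    (hα : η ≫ α = (CochainComplex.single₀ (ModuleCat.{u} R)).map f ≫ ε)
    (hβ : η ≫ β = (CochainComplex.single₀ (ModuleCat.{u} R)).map f ≫ ε) : Nonempty (Homotopy α β) := by
  have he : η ≫ (α - β) = 0 := by
    rw [Preadditive.comp_sub, hα, hβ, sub_self]
  obtain ⟨h⟩ := nonempty_homotopy_zero M' I η hM' hI (α - β) he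
  exact ⟨Homotopy.equivSubZero.symm h⟩

end Comparison

end Groth.Agent.Lib.Helper14.PureInjRes
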