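import Groth.Agent.Lib.Helper14.QIsoOfExact
import Groth.Agent.Lib.Helper14.PureInjRes
import Groth.Agent.S8772
import Mathlib.LinearAlgebra.TensorProduct.RightExactness
import Mathlib.Algebra.Module.CharacterModule

universe u

namespace Groth.Agent.Lib.Helper14.PureInjResEx

open CategoryTheory Limits HomologicalComplex TensorProduct

variable (R : Type u) [CommRing R]

/-- character modules are pure injective -/
lemma pureInj_characterModule (B : Type u) [AddCommGroup B] [Module R B] :
    PureInjRes.PureInj R (CharacterModule B) := by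
  intro K L _ _ _ _ f hf φ
  obtain ⟨ψ, hψ⟩ := (rTensor_injective_iff_lcomp_surjective (B := B)).mp (hf B) φ
  exact ⟨ψ, hψ⟩

variable (M : ModuleCat.{u} R)

/-- the double character module -/
noncomputable def DD (X : ModuleCat.{u} R) : ModuleCat.{u} R :=
  ModuleCat.of R (CharacterModule (CharacterModule X))

noncomputable def Kn : ℕ → ModuleCat.{u} R
  | 0 => M
  | n + 1 => ModuleCat.of R
      (CharacterModule (CharacterModule (Kn n)) ⧸ LinearMap.range (PureExt.charEval R (Kn n)))

noncomputable def In (n : ℕ) : ModuleCat.{u} R := DD R (Kn R M n)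

noncomputable def ev (n : ℕ) : Kn R M n ⟶ In R M n := ModuleCat.ofHom (PureExt.charEval R (Kn R M n))

noncomputable def q (n : ℕ) : In R M n ⟶ Kn R M (n + 1) :=
  ModuleCat.ofHom (LinearMap.range (PureExt.charEval R (Kn R M n))).mkQ

noncomputable def dn (n : ℕ) : In R M n ⟶ In R M (n + 1) := q R M n ≫ ev R M (n + 1)

lemma ev_q (n : ℕ) : ev R M n ≫ q R M n = 0 := by
  apply ModuleCat.hom_ext
  apply LinearMap.ext
  intro x
  exact (Submodule.Quotient.mk_eq_zero _).2 ⟨x, rfl⟩

lemma dn_dn (n : ℕ) : dn R M n ≫ dn R M (n + 1) = 0 := by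
  unfold dn
  rw [Category.assoc, ← Category.assoc (ev R M (n + 1)), ev_q, zero_comp, comp_zero]

noncomputable def cx : CochainComplex (ModuleCat.{u} R) ℕ :=
  CochainComplex.of (In R M) (dn R M) (dn_dn R M)

lemma cx_d (n : ℕ) : (cx R M).d n (n + 1) = dn R M n := CochainComplex.of_d _ _ _

lemma ev_dn : ev R M 0 ≫ dn R M 0 = 0 := by
  unfold dn
  rw [← Category.assoc, ev_q, zero_comp]

noncomputable def coaug : (CochainComplex.single₀ (ModuleCat.{u} R)).obj M ⟶ cx R M :=
  (CochainComplex.fromSingle₀Equiv _ _).symm ⟨ev R M 0,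
    (congrArg (fun f : In R M 0 ⟶ In R M 1 => ev R M 0 ≫ f) (cx_d R M 0)).trans (ev_dn R M)⟩

lemma coaug_f_zero : (coaug R M).f 0 = ev R M 0 :=
  CochainComplex.fromSingle₀Equiv_symm_apply_f_zero _ _

section Tensor

variable (T : Type u) [AddCommGroup T] [Module R T]

lemma q_surjective (n : ℕ) : Function.Surjective (q R M n).hom := Submodule.mkQ_surjective _

lemma ev_rTensor_injective (n : ℕ) : Function.Injective ((ev R M n).hom.rTensor T) :=
  Groth.Agent.S8772.result R (Kn R M n) T

lemma exact_ev_q (n : ℕ) : Function.Exact (ev R M n).hom (q R M n).hom :=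
  LinearMap.exact_map_mkQ_range _

lemma dn_hom (n : ℕ) : (dn R M n).hom = (ev R M (n + 1)).hom ∘ₗ (q R M n).hom := rfl

lemma key (n : ℕ) (w : (In R M n : Type u) ⊗[R] T) (hw : (dn R M n).hom.rTensor T w = 0) :
    ∃ u, (ev R M n).hom.rTensor T u = w := by
  have hex := rTensor_exact T (exact_ev_q R M n) (q_surjective R M n)
  apply (hex w).1
  apply ev_rTensor_injective R M T (n + 1)
  rw [map_zero, ← LinearMap.comp_apply, ← LinearMap.rTensor_comp, ← dn_hom]
  exact hw

lemma key_succ (n : ℕ) (w : (In R M (n + 1) : Type u) ⊗[R] T)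
    (hw : (dn R M (n + 1)).hom.rTensor T w = 0) :
    ∃ v, (dn R M n).hom.rTensor T v = w := by
  obtain ⟨u, rfl⟩ := key R M T (n + 1) w hw
  obtain ⟨v, rfl⟩ := LinearMap.rTensor_surjective T (q_surjective R M n) u
  refine ⟨v, ?_⟩
  rw [dn_hom, LinearMap.rTensor_comp]
  rfl

end Tensor

open MonoidalCategory in
theorem quasiIso_coaug (T : ModuleCat.{u} R) :
    QuasiIso (((tensorRight T).mapHomologicalComplex (ComplexShape.up ℕ)).map (coaug R M)) := by
  apply QIsoOfExact.tensored_cochain_quasiIso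
  · intro n w hw
    have hw' : (dn R M (n + 1)).hom.rTensor T w = 0 :=
      (congrArg (fun f : In R M (n + 1) ⟶ In R M (n + 2) => f.hom.rTensor T w)
        (cx_d R M (n + 1))).symm.trans hw
    obtain ⟨v, hv⟩ := key_succ R M T n w hw'
    exact ⟨v, (congrArg (fun f : In R M n ⟶ In R M (n + 1) => f.hom.rTensor T v)
      (cx_d R M n)).trans hv⟩
  · intro w hw
    have hw' : (dn R M 0).hom.rTensor T w = 0 :=
      (congrArg (fun f : In R M 0 ⟶ In R M 1 => f.hom.rTensor T w) (cx_d R M 0)).symm.trans hw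
    obtain ⟨u, hu⟩ := key R M T 0 w hw'
    exact ⟨u, (congrArg (fun f : M ⟶ In R M 0 => f.hom.rTensor T u) (coaug_f_zero R M)).trans hu⟩
  · intro x y hxy
    apply ev_rTensor_injective R M T 0
    exact ((congrArg (fun f : M ⟶ In R M 0 => f.hom.rTensor T x) (coaug_f_zero R M)).symm.trans
      hxy).trans (congrArg (fun f : M ⟶ In R M 0 => f.hom.rTensor T y) (coaug_f_zero R M))

theorem exists_resolution :
    ∃ (I : CochainComplex (ModuleCat.{u} R) ℕ)
      (η : (CochainComplex.single₀ (ModuleCat.{u} R)).obj M ⟶ I),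
      (∀ n : ℕ, PureInjRes.PureInj R (I.X n)) ∧
      ∀ T : ModuleCat.{u} R,
        QuasiIso (((MonoidalCategory.tensorRight T).mapHomologicalComplex (ComplexShape.up ℕ)).map η) :=
  ⟨cx R M, coaug R M, fun n => pureInj_characterModule R (CharacterModule (Kn R M n)),
    quasiIso_coaug R M⟩

end Groth.Agent.Lib.Helper14.PureInjResEx
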