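import Groth.Agent.Lib.Helper14.PureCover

/-! Helper library (helper14): finitely presented modules are pure projective. -/

set_option autoImplicit false
universe u

namespace Groth.Agent.Lib.Helper14.PureProj

open TensorProduct LinearMap

section FP

variable {R : Type u} [CommRing R] {L N : Type u} [AddCommGroup L] [Module R L]
  [AddCommGroup N] [Module R N]

/-- standard finitely presented modules are pure projective -/
theorem lift_std (g : L →ₗ[R] N) (hg : Function.Surjective g)
    (hK : CAlgX.UniversallyInjective R (LinearMap.ker g).subtype)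
    {n m : ℕ} (a : Fin m → Fin n → R) (φ : ((Fin n → R) ⧸ Submodule.span R (Set.range a)) →ₗ[R] N) :
    ∃ ψ : ((Fin n → R) ⧸ Submodule.span R (Set.range a)) →ₗ[R] L, g ∘ₗ ψ = φ := by
  classical
  let KQ : Submodule R (Fin n → R) := Submodule.span R (Set.range a)
  let x : Fin n → N := fun j => φ (KQ.mkQ (Pi.single j 1))
  have hsingle : ∀ v : Fin n → R, v = ∑ j, v j • (Pi.single j (1 : R) : Fin n → R) := by
    intro v
    funext j'
    simp [Finset.sum_apply, Pi.single_apply]
  have hφv : ∀ v : Fin n → R, φ (KQ.mkQ v) = ∑ j, v j • x j := by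
    intro v
    conv_lhs => rw [hsingle v]
    rw [map_sum, map_sum]
    refine Finset.sum_congr rfl fun j _ => ?_
    rw [map_smul, map_smul]
  have hax : ∀ i, ∑ j, a i j • x j = 0 := by
    intro i
    rw [← hφv (a i)]
    have : KQ.mkQ (a i) = 0 := by
      rw [Submodule.mkQ_apply, Submodule.Quotient.mk_eq_zero]
      exact Submodule.subset_span ⟨i, rfl⟩
    rw [this, map_zero]
  choose l hl using fun j => hg (x j)
  let c : Fin m → LinearMap.ker g := fun i => ⟨∑ j, a i j • l j, by
    rw [LinearMap.mem_ker, map_sum]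
    simp only [map_smul, hl]
    exact hax i⟩
  -- the transposed module
  let col : Fin n → Fin m → R := fun j i => a i j
  let K2 : Submodule R (Fin m → R) := Submodule.span R (Set.range col)
  let eb : Fin m → (Fin m → R) ⧸ K2 := fun i => K2.mkQ (Pi.single i 1)
  have heb : Submodule.span R (Set.range eb) = ⊤ := by
    rw [eq_top_iff]
    rintro q -
    obtain ⟨v, rfl⟩ := K2.mkQ_surjective q
    have hv : v = ∑ i, v i • (Pi.single i (1 : R) : Fin m → R) := by
      funext i'
      simp [Finset.sum_apply, Pi.single_apply]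
    rw [hv, map_sum]
    refine Submodule.sum_mem _ fun i _ => ?_
    rw [map_smul]
    exact Submodule.smul_mem _ _ (Submodule.subset_span ⟨i, rfl⟩)
  have hcol : ∀ j, ∑ i, a i j • eb i = 0 := by
    intro j
    have : ∑ i, a i j • eb i = K2.mkQ (col j) := by
      have hv : col j = ∑ i, a i j • (Pi.single i (1 : R) : Fin m → R) := by
        funext i'
        simp [Finset.sum_apply, Pi.single_apply, col]
      rw [hv, map_sum]
      refine Finset.sum_congr rfl fun i _ => ?_
      rw [map_smul]
    rw [this, Submodule.mkQ_apply, Submodule.Quotient.mk_eq_zero]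
    exact Submodule.subset_span ⟨j, rfl⟩
  have ht : ∑ i, eb i ⊗ₜ[R] c i = (0 : ((Fin m → R) ⧸ K2) ⊗[R] LinearMap.ker g) := by
    have hinj : Function.Injective ((LinearMap.ker g).subtype.lTensor ((Fin m → R) ⧸ K2)) := by
      rw [LinearMap.lTensor_inj_iff_rTensor_inj]
      exact hK _
    apply hinj
    rw [map_zero, map_sum]
    simp only [LinearMap.lTensor_tmul, Submodule.subtype_apply, c]
    calc ∑ i, eb i ⊗ₜ[R] (∑ j, a i j • l j) = ∑ i, ∑ j, (a i j • eb i) ⊗ₜ[R] l j := by
          refine Finset.sum_congr rfl fun i _ => ?_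
          rw [TensorProduct.tmul_sum]
          refine Finset.sum_congr rfl fun j _ => ?_
          rw [TensorProduct.tmul_smul, TensorProduct.smul_tmul']
      _ = ∑ j, (∑ i, a i j • eb i) ⊗ₜ[R] l j := by
          rw [Finset.sum_comm]
          refine Finset.sum_congr rfl fun j _ => ?_
          rw [TensorProduct.sum_tmul]
      _ = 0 := by
          refine Finset.sum_eq_zero fun j _ => ?_
          rw [hcol j, TensorProduct.zero_tmul]
  obtain ⟨κ, a', y, h1, h2⟩ := TensorProduct.vanishesTrivially_of_sum_tmul_eq_zero R heb ht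
  -- the columns of a' lie in the span of the columns of a
  have hr : ∀ k : Fin κ, ∃ r : Fin n → R, (fun i => a' i k) = ∑ j, r j • col j := by
    intro k
    have hmem : (fun i => a' i k) ∈ K2 := by
      have h3 := h2 k
      have : ∑ i, a' i k • eb i = K2.mkQ (fun i => a' i k) := by
        have hv : (fun i => a' i k) = ∑ i, a' i k • (Pi.single i (1 : R) : Fin m → R) := by
          funext i'
          simp [Finset.sum_apply, Pi.single_apply]
        rw [hv, map_sum]
        refine Finset.sum_congr rfl fun i _ => ?_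
        rw [map_smul]
      rw [this, Submodule.mkQ_apply, Submodule.Quotient.mk_eq_zero] at h3
      exact h3
    obtain ⟨r, hr⟩ := (Submodule.mem_span_range_iff_exists_fun R).1 hmem
    exact ⟨r, hr.symm⟩
  choose r hr using hr
  let kk : Fin n → LinearMap.ker g := fun j => ∑ k, r k j • y k
  have hkk : ∀ i, ∑ j, a i j • kk j = c i := by
    intro i
    rw [h1 i]
    simp only [kk, Finset.smul_sum]
    rw [Finset.sum_comm]
    refine Finset.sum_congr rfl fun k _ => ?_
    have e1 : a' i k = ∑ j, r k j * a i j := by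
      have := congrFun (hr k) i
      simp only [Finset.sum_apply, Pi.smul_apply, smul_eq_mul, col] at this
      exact this
    rw [e1, Finset.sum_smul]
    refine Finset.sum_congr rfl fun j _ => ?_
    rw [smul_smul, mul_comm]
  let l' : Fin n → L := fun j => l j - (kk j : L)
  have hgl' : ∀ j, g (l' j) = x j := by
    intro j
    simp only [l', map_sub, hl, LinearMap.mem_ker.1 (kk j).2, sub_zero]
  have hal' : ∀ i, ∑ j, a i j • l' j = 0 := by
    intro i
    simp only [l', smul_sub, Finset.sum_sub_distrib]
    have e2 : ∑ j, a i j • ((kk j : LinearMap.ker g) : L) = ((∑ j, a i j • kk j : LinearMap.ker g) : L) := by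
      rw [Submodule.coe_sum]
      rfl
    rw [e2, hkk i, sub_self]
  have hle : KQ ≤ LinearMap.ker (Fintype.linearCombination R l') := by
    rw [Submodule.span_le]
    rintro _ ⟨i, rfl⟩
    rw [SetLike.mem_coe, LinearMap.mem_ker, Fintype.linearCombination_apply]
    exact hal' i
  refine ⟨KQ.liftQ _ hle, ?_⟩
  apply LinearMap.ext
  intro q
  obtain ⟨v, rfl⟩ := KQ.mkQ_surjective q
  rw [LinearMap.comp_apply, Submodule.mkQ_apply, Submodule.liftQ_apply, Fintype.linearCombination_apply,
    map_sum]
  simp only [map_smul, hgl']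
  exact (hφv v).symm

/-- finitely presented modules are pure projective -/
theorem lift_fp (Q : Type u) [AddCommGroup Q] [Module R Q] [Module.FinitePresentation R Q]
    (g : L →ₗ[R] N) (hg : Function.Surjective g)
    (hK : CAlgX.UniversallyInjective R (LinearMap.ker g).subtype) (φ : Q →ₗ[R] N) :
    ∃ ψ : Q →ₗ[R] L, g ∘ₗ ψ = φ := by
  obtain ⟨n, K, e, hKfg⟩ := Module.FinitePresentation.exists_fin R Q
  obtain ⟨m, a, ha⟩ := Submodule.fg_iff_exists_fin_generating_family.1 hKfg
  subst ha
  obtain ⟨ψ, hψ⟩ := lift_std g hg hK a (φ ∘ₗ e.symm.toLinearMap)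
  refine ⟨ψ ∘ₗ e.toLinearMap, ?_⟩
  rw [← LinearMap.comp_assoc, hψ]
  apply LinearMap.ext
  intro q
  simp

/-- direct sums of finitely presented modules are pure projective -/
theorem lift_dfinsupp {ι : Type u} (Q : ι → Type u) [∀ i, AddCommGroup (Q i)] [∀ i, Module R (Q i)]
    (hQ : ∀ i, Module.FinitePresentation R (Q i))
    (g : L →ₗ[R] N) (hg : Function.Surjective g)
    (hK : CAlgX.UniversallyInjective R (LinearMap.ker g).subtype) (φ : (Π₀ i, Q i) →ₗ[R] N) :
    ∃ ψ : (Π₀ i, Q i) →ₗ[R] L, g ∘ₗ ψ = φ := by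
  classical
  have h : ∀ i, ∃ ψ : Q i →ₗ[R] L, g ∘ₗ ψ = φ ∘ₗ DFinsupp.lsingle i := fun i =>
    haveI := hQ i
    lift_fp (Q i) g hg hK _
  choose ψ hψ using h
  refine ⟨DFinsupp.lsum ℕ ψ, ?_⟩
  apply DFinsupp.lhom_ext'
  intro i
  rw [← hψ i]
  apply LinearMap.ext
  intro q
  simp

end FP

end Groth.Agent.Lib.Helper14.PureProj
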