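import Mathlib.CategoryTheory.Preadditive.Projective.Resolution
import Mathlib.Algebra.Homology.SingleHomology
import Mathlib.Algebra.Homology.QuasiIso
import Mathlib.CategoryTheory.Abelian.Basic
import Mathlib.Algebra.Category.ModuleCat.Monoidal.Basic
import Mathlib.Algebra.Homology.ShortComplex.ModuleCat
import Mathlib.Algebra.Homology.Additive
import Mathlib.Algebra.Homology.Homotopy
import Groth.Prelude.Def_CAlgX

universe v u

open CategoryTheory Limits HomologicalComplex ChainComplex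

namespace Groth.Agent.Lib.Helper14.PureRes

section Abstract

variable {C : Type u} [Category.{v} C] [Abelian C] (K : ChainComplex C ℕ) {Z : C}
  (π : K ⟶ (ChainComplex.single₀ C).obj Z) [QuasiIso π]

include π in
lemma exactAt_succ (n : ℕ) : K.ExactAt (n + 1) := by
  rw [← quasiIsoAt_iff_exactAt' π (n + 1) (exactAt_succ_single_obj _ _)]
  infer_instance

include π in
lemma exact_succ (n : ℕ) :
    (ShortComplex.mk _ _ (K.d_comp_d (n + 2) (n + 1) n)).Exact :=
  ((HomologicalComplex.exactAt_iff' _ (n + 2) (n + 1) n) (by simp only [ChainComplex.prev]; rfl)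
    (by simp)).1 (exactAt_succ K π n)

omit [QuasiIso π] in
include π in
theorem d_comp_π_f_zero : K.d 1 0 ≫ π.f 0 = 0 := by
  rw [← π.comm 1 0, single_obj_d, comp_zero]

set_option backward.isDefEq.respectTransparency.types false in
set_option backward.defeqAttrib.useBackward true in
noncomputable def isColimitCokernelCofork :
    IsColimit (CokernelCofork.ofπ (π.f 0) (d_comp_π_f_zero K π)) := by
  refine IsColimit.ofIsoColimit (K.opcyclesIsCokernel 1 0 (by simp)) ?_
  refine Cofork.ext (K.isoHomologyι₀.symm ≪≫ isoOfQuasiIsoAt π 0 ≪≫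
    singleObjHomologySelfIso _ _ _) ?_
  rw [← cancel_mono (singleObjHomologySelfIso (ComplexShape.down ℕ) 0 _).inv,
    ← cancel_mono (isoHomologyι₀ _).hom]
  dsimp
  simp only [isoHomologyι₀_inv_naturality_assoc, p_opcyclesMap_assoc, single₀_obj_zero, Category.assoc,
    Iso.hom_inv_id, Category.comp_id, isoHomologyι_inv_hom_id, singleObjHomologySelfIso_inv_homologyι,
    singleObjOpcyclesSelfIso_hom, single₀ObjXSelf, Iso.refl_inv, Category.id_comp]

lemma epi_f_zero : Epi (π.f 0) := epi_of_isColimit_cofork (isColimitCokernelCofork K π)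

lemma exact_zero : (ShortComplex.mk _ _ (d_comp_π_f_zero K π)).Exact :=
  ShortComplex.exact_of_g_is_cokernel _ (isColimitCokernelCofork K π)

end Abstract

section Rid

open TensorProduct

lemma rid_rTensor {R : Type u} [CommRing R] {M N : Type u} [AddCommGroup M] [Module R M] [AddCommGroup N]
    [Module R N] (f : M →ₗ[R] N) (x : M ⊗[R] R) :
    f (TensorProduct.rid R M x) = TensorProduct.rid R N (f.rTensor R x) := by
  induction x using TensorProduct.induction_on with
  | zero => simp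
  | tmul m r => simp
  | add x y hx hy => simp only [map_add, hx, hy]

/-- a submodule which is the image of `d₁`, in a three-term sequence that stays exact after tensoring, has a
universally injective inclusion -/
lemma subtype_rTensor_injective {R : Type u} [CommRing R] {A B C T : Type u} [AddCommGroup A] [Module R A]
    [AddCommGroup B] [Module R B] [AddCommGroup C] [Module R C] [AddCommGroup T] [Module R T]
    (d₂ : A →ₗ[R] B) (d₁ : B →ₗ[R] C) (Z : Submodule R C) (hZ : ∀ b, d₁ b ∈ Z)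
    (hsurj : ∀ z ∈ Z, ∃ b, d₁ b = z) (hcomp : d₁ ∘ₗ d₂ = 0)
    (hex : ∀ w : B ⊗[R] T, d₁.rTensor T w = 0 → ∃ v : A ⊗[R] T, d₂.rTensor T v = w) :
    Function.Injective (Z.subtype.rTensor T) := by
  rw [injective_iff_map_eq_zero]
  intro z hz
  let g : B →ₗ[R] Z := d₁.codRestrict Z hZ
  have hg : Function.Surjective g := by
    rintro ⟨z, hz⟩
    obtain ⟨b, hb⟩ := hsurj z hz
    exact ⟨b, Subtype.ext hb⟩
  obtain ⟨w, rfl⟩ := LinearMap.rTensor_surjective T hg z
  have h1 : Z.subtype ∘ₗ g = d₁ := rfl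
  have h2 : d₁.rTensor T w = 0 := by
    rw [← h1, LinearMap.rTensor_comp, LinearMap.comp_apply]
    exact hz
  obtain ⟨v, rfl⟩ := hex w h2
  have h3 : g ∘ₗ d₂ = 0 := by
    apply LinearMap.ext
    intro a
    apply Subtype.ext
    exact LinearMap.congr_fun hcomp a
  rw [← LinearMap.comp_apply, ← LinearMap.rTensor_comp, h3, LinearMap.rTensor_zero, LinearMap.zero_apply]

end Rid

section Tensored

open TensorProduct MonoidalCategory

variable {R : Type u} [CommRing R] (N' : ChainComplex (ModuleCat.{u} R) ℕ) {N : ModuleCat.{u} R}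
  (ε : N' ⟶ (ChainComplex.single₀ (ModuleCat.{u} R)).obj N)

/-- the tensored augmentation, with target a single complex -/
noncomputable def πT (T : ModuleCat.{u} R) :
    ((tensorRight T).mapHomologicalComplex (ComplexShape.down ℕ)).obj N' ⟶
      (ChainComplex.single₀ (ModuleCat.{u} R)).obj ((tensorRight T).obj N) :=
  ((tensorRight T).mapHomologicalComplex (ComplexShape.down ℕ)).map ε ≫
    (HomologicalComplex.singleMapHomologicalComplex (tensorRight T) (ComplexShape.down ℕ) 0).hom.app N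

variable (hN' : ∀ T : ModuleCat.{u} R,
  QuasiIso (((tensorRight T).mapHomologicalComplex (ComplexShape.down ℕ)).map ε))

include hN' in
lemma quasiIso_πT (T : ModuleCat.{u} R) : QuasiIso (πT N' ε T) := by
  haveI := hN' T
  unfold πT
  infer_instance

include hN' in
/-- exactness of the tensored complex in positive degrees, on elements -/
lemma tensored_exact_succ (T : ModuleCat.{u} R) (n : ℕ) (w : (N'.X (n + 1) : Type u) ⊗[R] (T : Type u))
    (hw : (N'.d (n + 1) n).hom.rTensor T w = 0) :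
    ∃ v : (N'.X (n + 2) : Type u) ⊗[R] (T : Type u), (N'.d (n + 2) (n + 1)).hom.rTensor T v = w := by
  have := quasiIso_πT N' ε hN' T
  have h := exact_succ _ (πT N' ε T) n
  rw [ShortComplex.moduleCat_exact_iff] at h
  exact h w hw

include hN' in
/-- exactness of the tensored augmented complex in degree zero, on elements -/
lemma tensored_exact_zero (T : ModuleCat.{u} R) (w : (N'.X 0 : Type u) ⊗[R] (T : Type u))
    (hw : (ε.f 0).hom.rTensor T w = 0) :
    ∃ v : (N'.X 1 : Type u) ⊗[R] (T : Type u), (N'.d 1 0).hom.rTensor T v = w := by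
  have := quasiIso_πT N' ε hN' T
  have h := exact_zero _ (πT N' ε T)
  rw [ShortComplex.moduleCat_exact_iff] at h
  apply h w
  change ((πT N' ε T).f 0) w = 0
  unfold πT
  rw [HomologicalComplex.comp_f]
  change (((HomologicalComplex.singleMapHomologicalComplex (tensorRight T) (ComplexShape.down ℕ) 0).hom.app N).f 0)
    ((ε.f 0).hom.rTensor T w) = 0
  rw [hw]
  exact map_zero _

include hN' in
lemma tensored_surjective (T : ModuleCat.{u} R) :
    Function.Surjective ((ε.f 0).hom.rTensor T) := by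
  have := quasiIso_πT N' ε hN' T
  have h := epi_f_zero _ (πT N' ε T)
  rw [ModuleCat.epi_iff_surjective] at h
  intro y
  let iso := ((HomologicalComplex.singleMapHomologicalComplex (tensorRight T) (ComplexShape.down ℕ) 0).hom.app N).f 0
  have hiso : Function.Injective iso := (ModuleCat.mono_iff_injective iso).1 inferInstance
  obtain ⟨x, hx⟩ := h (iso y)
  refine ⟨x, ?_⟩
  apply hiso
  refine Eq.trans ?_ hx
  unfold πT
  rw [HomologicalComplex.comp_f]
  rfl

include hN' in
lemma surjective_ε : Function.Surjective (ε.f 0).hom := by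
  intro y
  obtain ⟨x, hx⟩ := tensored_surjective N' ε hN' (ModuleCat.of R R) (y ⊗ₜ[R] (1 : R))
  refine ⟨TensorProduct.rid R _ x, ?_⟩
  refine (rid_rTensor (ε.f 0).hom x).trans ?_
  refine (congrArg (TensorProduct.rid R _) hx).trans ?_
  rw [TensorProduct.rid_tmul, one_smul]

include hN' in
lemma exact_succ_elem (n : ℕ) (w : N'.X (n + 1)) (hw : (N'.d (n + 1) n).hom w = 0) :
    ∃ v : N'.X (n + 2), (N'.d (n + 2) (n + 1)).hom v = w := by
  obtain ⟨x, hx⟩ := tensored_exact_succ N' ε hN' (ModuleCat.of R R) n (w ⊗ₜ[R] (1 : R)) (by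
    rw [LinearMap.rTensor_tmul, hw, TensorProduct.zero_tmul])
  refine ⟨TensorProduct.rid R _ x, ?_⟩
  refine (rid_rTensor (N'.d (n + 2) (n + 1)).hom x).trans ?_
  refine (congrArg (TensorProduct.rid R _) hx).trans ?_
  rw [TensorProduct.rid_tmul, one_smul]

include hN' in
lemma exact_zero_elem (w : N'.X 0) (hw : (ε.f 0).hom w = 0) :
    ∃ v : N'.X 1, (N'.d 1 0).hom v = w := by
  obtain ⟨x, hx⟩ := tensored_exact_zero N' ε hN' (ModuleCat.of R R) (w ⊗ₜ[R] (1 : R)) (by
    rw [LinearMap.rTensor_tmul, hw, TensorProduct.zero_tmul])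
  refine ⟨TensorProduct.rid R _ x, ?_⟩
  refine (rid_rTensor (N'.d 1 0).hom x).trans ?_
  refine (congrArg (TensorProduct.rid R _) hx).trans ?_
  rw [TensorProduct.rid_tmul, one_smul]

include hN' in
/-- the cycles in positive degrees have universally injective inclusions -/
theorem univInj_ker_d (n : ℕ) :
    CAlgX.UniversallyInjective R (LinearMap.ker (N'.d (n + 1) n).hom).subtype := by
  intro T _ _
  apply subtype_rTensor_injective (N'.d (n + 3) (n + 2)).hom (N'.d (n + 2) (n + 1)).hom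
  · intro b
    rw [LinearMap.mem_ker, ← LinearMap.comp_apply, ← ModuleCat.hom_comp, N'.d_comp_d]
    rfl
  · intro z hz
    exact exact_succ_elem N' ε hN' n z hz
  · rw [← ModuleCat.hom_comp, N'.d_comp_d]
    rfl
  · intro w hw
    exact tensored_exact_succ N' ε hN' (ModuleCat.of R T) (n + 1) w hw

include hN' in
/-- the kernel of the augmentation has a universally injective inclusion -/
theorem univInj_ker_ε :
    CAlgX.UniversallyInjective R (LinearMap.ker (ε.f 0).hom).subtype := by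
  intro T _ _
  apply subtype_rTensor_injective (N'.d 2 1).hom (N'.d 1 0).hom
  · intro b
    rw [LinearMap.mem_ker, ← LinearMap.comp_apply, ← ModuleCat.hom_comp, d_comp_π_f_zero N' ε]
    rfl
  · intro z hz
    exact exact_zero_elem N' ε hN' z hz
  · rw [← ModuleCat.hom_comp, N'.d_comp_d]
    rfl
  · intro w hw
    exact tensored_exact_succ N' ε hN' (ModuleCat.of R T) 0 w hw

end Tensored

section Lift

variable {R : Type u} [CommRing R]

/-- pure projectivity, in the form used by the statements -/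
def PureProj (R : Type u) [CommRing R] (X : Type u) [AddCommGroup X] [Module R X] : Prop :=
  ∀ ⦃L T : Type u⦄ [AddCommGroup L] [Module R L] [AddCommGroup T] [Module R T] (g : L →ₗ[R] T),
    Function.Surjective g → CAlgX.UniversallyInjective R (LinearMap.ker g).subtype →
    ∀ φ : X →ₗ[R] T, ∃ ψ : X →ₗ[R] L, g ∘ₗ ψ = φ

/-- the basic lifting step -/
lemma liftStep {X B C : ModuleCat.{u} R} (hX : PureProj R X) (d₁ : B ⟶ C) (Z : Submodule R C)
    (hZ : ∀ b, d₁.hom b ∈ Z) (hsurj : ∀ z ∈ Z, ∃ b, d₁.hom b = z)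
    (hUI : CAlgX.UniversallyInjective R (LinearMap.ker d₁.hom).subtype)
    (h : X ⟶ C) (hh : ∀ x, h.hom x ∈ Z) : ∃ h' : X ⟶ B, h' ≫ d₁ = h := by
  let g : B →ₗ[R] Z := d₁.hom.codRestrict Z hZ
  have hg : Function.Surjective g := by
    rintro ⟨z, hz⟩
    obtain ⟨b, hb⟩ := hsurj z hz
    exact ⟨b, Subtype.ext hb⟩
  have hker : LinearMap.ker g = LinearMap.ker d₁.hom := LinearMap.ker_codRestrict _ _ _
  have hUI' : CAlgX.UniversallyInjective R (LinearMap.ker g).subtype := by
    rw [hker]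
    exact hUI
  obtain ⟨ψ, hψ⟩ := hX g hg hUI' (h.hom.codRestrict Z hh)
  refine ⟨ModuleCat.ofHom ψ, ?_⟩
  apply ModuleCat.hom_ext
  apply LinearMap.ext
  intro x
  have := congrArg Subtype.val (LinearMap.congr_fun hψ x)
  exact this

end Lift

section Comparison

open MonoidalCategory

variable {R : Type u} [CommRing R] {M N : ModuleCat.{u} R}
    (f : M ⟶ N) (P N' : ChainComplex (ModuleCat.{u} R) ℕ)
    (π : P ⟶ (ChainComplex.single₀ (ModuleCat.{u} R)).obj M)
    (ε : N' ⟶ (ChainComplex.single₀ (ModuleCat.{u} R)).obj N)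
    (hP : ∀ n : ℕ, PureProj R (P.X n))
    (hN' : ∀ T : ModuleCat.{u} R,
      QuasiIso (((tensorRight T).mapHomologicalComplex (ComplexShape.down ℕ)).map ε))

include hP hN' in
lemma exists_zero : ∃ z : P.X 0 ⟶ N'.X 0,
    z ≫ ε.f 0 = π.f 0 ≫ ((ChainComplex.single₀ (ModuleCat.{u} R)).map f).f 0 :=
  liftStep (hP 0) (ε.f 0) ⊤ (fun _ => Submodule.mem_top)
    (fun z _ => surjective_ε N' ε hN' z) (univInj_ker_ε N' ε hN') _ (fun _ => Submodule.mem_top)

include hP hN' in
lemma exists_one (z : P.X 0 ⟶ N'.X 0)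
    (hz : z ≫ ε.f 0 = π.f 0 ≫ ((ChainComplex.single₀ (ModuleCat.{u} R)).map f).f 0) :
    ∃ o : P.X 1 ⟶ N'.X 1, o ≫ N'.d 1 0 = P.d 1 0 ≫ z := by
  apply liftStep (hP 1) (N'.d 1 0) (LinearMap.ker (ε.f 0).hom)
  · intro b
    rw [LinearMap.mem_ker, ← LinearMap.comp_apply, ← ModuleCat.hom_comp, d_comp_π_f_zero N' ε]
    rfl
  · intro w hw
    exact exact_zero_elem N' ε hN' w hw
  · exact univInj_ker_d N' ε hN' 0
  · intro x
    rw [LinearMap.mem_ker, ← LinearMap.comp_apply, ← ModuleCat.hom_comp, Category.assoc, hz,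
      ← Category.assoc, d_comp_π_f_zero P π, zero_comp]
    rfl

include hP hN' in
lemma exists_succ (n : ℕ) (g : P.X n ⟶ N'.X n) (g' : P.X (n + 1) ⟶ N'.X (n + 1))
    (w : g' ≫ N'.d (n + 1) n = P.d (n + 1) n ≫ g) :
    ∃ g'' : P.X (n + 2) ⟶ N'.X (n + 2), g'' ≫ N'.d (n + 2) (n + 1) = P.d (n + 2) (n + 1) ≫ g' := by
  apply liftStep (hP (n + 2)) (N'.d (n + 2) (n + 1)) (LinearMap.ker (N'.d (n + 1) n).hom)
  · intro b
    rw [LinearMap.mem_ker, ← LinearMap.comp_apply, ← ModuleCat.hom_comp, N'.d_comp_d]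
    rfl
  · intro z hz
    exact exact_succ_elem N' ε hN' n z hz
  · exact univInj_ker_d N' ε hN' (n + 1)
  · intro x
    rw [LinearMap.mem_ker, ← LinearMap.comp_apply, ← ModuleCat.hom_comp, Category.assoc, w,
      ← Category.assoc, P.d_comp_d, zero_comp]
    rfl

include hP hN' in
/-- the comparison theorem: existence -/
theorem exists_chainMap : ∃ φ : P ⟶ N', φ ≫ ε = π ≫ (ChainComplex.single₀ (ModuleCat.{u} R)).map f := by
  obtain ⟨z, hz⟩ := exists_zero f P N' π ε hP hN'
  obtain ⟨o, ho⟩ := exists_one f P N' π ε hP hN' z hz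
  refine ⟨ChainComplex.mkHom P N' z o ho (fun n p =>
    ⟨(exists_succ P N' ε hP hN' n p.1 p.2.1 p.2.2).choose,
      (exists_succ P N' ε hP hN' n p.1 p.2.1 p.2.2).choose_spec⟩), ?_⟩
  apply HomologicalComplex.to_single_hom_ext
  rw [HomologicalComplex.comp_f, HomologicalComplex.comp_f, ChainComplex.mkHom_f_0]
  exact hz

section HomotopySec

variable (e : P ⟶ N') (he : e ≫ ε = 0)

include hP hN' he in
lemma exists_h_zero : ∃ z : P.X 0 ⟶ N'.X 1, e.f 0 = z ≫ N'.d 1 0 := by
  obtain ⟨z, hz⟩ := liftStep (hP 0) (N'.d 1 0) (LinearMap.ker (ε.f 0).hom)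
    (fun b => by
      rw [LinearMap.mem_ker, ← LinearMap.comp_apply, ← ModuleCat.hom_comp, d_comp_π_f_zero N' ε]
      rfl)
    (fun w hw => exact_zero_elem N' ε hN' w hw) (univInj_ker_d N' ε hN' 0) (e.f 0)
    (fun x => by
      rw [LinearMap.mem_ker, ← LinearMap.comp_apply, ← ModuleCat.hom_comp, ← HomologicalComplex.comp_f, he]
      rfl)
  exact ⟨z, hz.symm⟩

include hP hN' in
lemma exists_h_one (z : P.X 0 ⟶ N'.X 1) (hz : e.f 0 = z ≫ N'.d 1 0) :
    ∃ o : P.X 1 ⟶ N'.X 2, e.f 1 = P.d 1 0 ≫ z + o ≫ N'.d 2 1 := by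
  obtain ⟨o, ho⟩ := liftStep (hP 1) (N'.d 2 1) (LinearMap.ker (N'.d 1 0).hom)
    (fun b => by
      rw [LinearMap.mem_ker, ← LinearMap.comp_apply, ← ModuleCat.hom_comp, N'.d_comp_d]
      rfl)
    (fun w hw => exact_succ_elem N' ε hN' 0 w hw) (univInj_ker_d N' ε hN' 1) (e.f 1 - P.d 1 0 ≫ z)
    (fun x => by
      rw [LinearMap.mem_ker, ← LinearMap.comp_apply, ← ModuleCat.hom_comp, Preadditive.sub_comp,
        Category.assoc, ← hz, e.comm 1 0, sub_self]
      rfl)
  refine ⟨o, ?_⟩
  rw [ho]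
  abel

include hP hN' in
lemma exists_h_succ (n : ℕ) (g : P.X n ⟶ N'.X (n + 1)) (g' : P.X (n + 1) ⟶ N'.X (n + 2))
    (w : e.f (n + 1) = P.d (n + 1) n ≫ g + g' ≫ N'.d (n + 2) (n + 1)) :
    ∃ g'' : P.X (n + 2) ⟶ N'.X (n + 3),
      e.f (n + 2) = P.d (n + 2) (n + 1) ≫ g' + g'' ≫ N'.d (n + 3) (n + 2) := by
  obtain ⟨o, ho⟩ := liftStep (hP (n + 2)) (N'.d (n + 3) (n + 2)) (LinearMap.ker (N'.d (n + 2) (n + 1)).hom)
    (fun b => by
      rw [LinearMap.mem_ker, ← LinearMap.comp_apply, ← ModuleCat.hom_comp, N'.d_comp_d]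
      rfl)
    (fun z hz => exact_succ_elem N' ε hN' (n + 1) z hz) (univInj_ker_d N' ε hN' (n + 2))
    (e.f (n + 2) - P.d (n + 2) (n + 1) ≫ g')
    (fun x => by
      have h0 : (e.f (n + 2) - P.d (n + 2) (n + 1) ≫ g') ≫ N'.d (n + 2) (n + 1) = 0 := by
        rw [Preadditive.sub_comp, Category.assoc, e.comm (n + 2) (n + 1)]
        have : g' ≫ N'.d (n + 2) (n + 1) = e.f (n + 1) - P.d (n + 1) n ≫ g := by
          rw [w]
          abel
        rw [this, Preadditive.comp_sub, ← Category.assoc, P.d_comp_d, zero_comp, sub_zero, sub_self]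
      rw [LinearMap.mem_ker, ← LinearMap.comp_apply, ← ModuleCat.hom_comp, h0]
      rfl)
  refine ⟨o, ?_⟩
  rw [ho]
  abel

include hP hN' he in
/-- a chain map killed by the augmentation is null-homotopic -/
theorem nonempty_homotopy_zero : Nonempty (Homotopy e 0) := by
  obtain ⟨z, hz⟩ := exists_h_zero P N' ε hP hN' e he
  obtain ⟨o, ho⟩ := exists_h_one P N' ε hP hN' e z hz
  exact ⟨Homotopy.mkInductive e z hz o ho (fun n p =>
    ⟨(exists_h_succ P N' ε hP hN' e n p.1 p.2.1 p.2.2).choose,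
      (exists_h_succ P N' ε hP hN' e n p.1 p.2.1 p.2.2).choose_spec⟩)⟩

end HomotopySec

include hP hN' in
/-- the comparison theorem: uniqueness up to homotopy -/
theorem nonempty_homotopy (α β : P ⟶ N')
    (hα : α ≫ ε = π ≫ (ChainComplex.single₀ (ModuleCat.{u} R)).map f)
    (hβ : β ≫ ε = π ≫ (ChainComplex.single₀ (ModuleCat.{u} R)).map f) : Nonempty (Homotopy α β) := by
  have he : (α - β) ≫ ε = 0 := by
    rw [Preadditive.sub_comp, hα, hβ, sub_self]
  obtain ⟨h⟩ := nonempty_homotopy_zero P N' ε hP hN' (α - β) he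
  exact ⟨Homotopy.equivSubZero.symm h⟩

end Comparison

end Groth.Agent.Lib.Helper14.PureRes
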