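import Groth.Agent.Lib.Helper14.QIsoOfExact
import Groth.Agent.Lib.Helper14.PureCover
import Mathlib.LinearAlgebra.TensorProduct.RightExactness

universe u

namespace Groth.Agent.Lib.Helper14.PureResEx

open CategoryTheory Limits HomologicalComplex TensorProduct

variable (R : Type u) [CommRing R]

/-- the pure projectivity property of the statement -/
def IsPP (X : Type u) [AddCommGroup X] [Module R X] : Prop :=
  ∃ (ι : Type u) (Q : ι → Type u) (_ : ∀ i, AddCommGroup (Q i)) (_ : ∀ i, Module R (Q i)),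
    (∀ i, Module.FinitePresentation R (Q i)) ∧
    ∃ (s : X →ₗ[R] (Π₀ i, Q i)) (r : (Π₀ i, Q i) →ₗ[R] X), r ∘ₗ s = LinearMap.id

structure Cover (K : ModuleCat.{u} R) where
  P : ModuleCat.{u} R
  p : P ⟶ K
  surj : Function.Surjective p.hom
  ui : CAlgX.UniversallyInjective R (LinearMap.ker p.hom).subtype
  pp : IsPP R P

lemma nonempty_cover (K : ModuleCat.{u} R) : Nonempty (Cover R K) := by
  obtain ⟨ι, Q, i1, i2, hfp, g, hg, hui⟩ := PureCover.exists_pure_cover R K
  exact ⟨{ P := ModuleCat.of R (Π₀ i, Q i)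
           p := ModuleCat.ofHom g
           surj := hg
           ui := hui
           pp := ⟨ι, Q, i1, i2, hfp, LinearMap.id, LinearMap.id, rfl⟩ }⟩

noncomputable def cover (K : ModuleCat.{u} R) : Cover R K := (nonempty_cover R K).some

variable (M : ModuleCat.{u} R)

noncomputable def Kn : ℕ → ModuleCat.{u} R
  | 0 => M
  | n + 1 => ModuleCat.of R (LinearMap.ker (cover R (Kn n)).p.hom)

noncomputable def Pn (n : ℕ) : ModuleCat.{u} R := (cover R (Kn R M n)).P

noncomputable def pn (n : ℕ) : Pn R M n ⟶ Kn R M n := (cover R (Kn R M n)).p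

noncomputable def inc (n : ℕ) : Kn R M (n + 1) ⟶ Pn R M n :=
  ModuleCat.ofHom (LinearMap.ker (cover R (Kn R M n)).p.hom).subtype

noncomputable def dn (n : ℕ) : Pn R M (n + 1) ⟶ Pn R M n := pn R M (n + 1) ≫ inc R M n

lemma inc_pn (n : ℕ) : inc R M n ≫ pn R M n = 0 := by
  apply ModuleCat.hom_ext
  apply LinearMap.ext
  intro x
  exact x.2

lemma dn_dn (n : ℕ) : dn R M (n + 1) ≫ dn R M n = 0 := by
  unfold dn
  rw [Category.assoc, ← Category.assoc (inc R M (n + 1)), inc_pn, zero_comp, comp_zero]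

noncomputable def cx : ChainComplex (ModuleCat.{u} R) ℕ :=
  ChainComplex.of (Pn R M) (dn R M) (dn_dn R M)

lemma cx_d (n : ℕ) : (cx R M).d (n + 1) n = dn R M n := ChainComplex.of_d _ _ _

lemma dn_pn : dn R M 0 ≫ pn R M 0 = 0 := by
  unfold dn
  rw [Category.assoc, inc_pn, comp_zero]

noncomputable def aug : cx R M ⟶ (ChainComplex.single₀ (ModuleCat.{u} R)).obj M :=
  (ChainComplex.toSingle₀Equiv _ _).symm ⟨pn R M 0,
    (congrArg (fun f : Pn R M 1 ⟶ Pn R M 0 => f ≫ pn R M 0) (cx_d R M 0)).trans (dn_pn R M)⟩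

lemma aug_f_zero : (aug R M).f 0 = pn R M 0 :=
  ChainComplex.toSingle₀Equiv_symm_apply_f_zero _ _


section Tensor

variable (N : Type u) [AddCommGroup N] [Module R N]

lemma pn_surjective (n : ℕ) : Function.Surjective (pn R M n).hom := (cover R (Kn R M n)).surj

lemma inc_rTensor_injective (n : ℕ) : Function.Injective ((inc R M n).hom.rTensor N) :=
  (cover R (Kn R M n)).ui N

lemma exact_inc_pn (n : ℕ) : Function.Exact (inc R M n).hom (pn R M n).hom :=
  LinearMap.exact_subtype_ker_map _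

lemma dn_hom (n : ℕ) : (dn R M n).hom = (inc R M n).hom ∘ₗ (pn R M (n + 1)).hom := rfl

lemma key (n : ℕ) (w : (Pn R M n : Type u) ⊗[R] N) (hw : (pn R M n).hom.rTensor N w = 0) :
    ∃ v, (dn R M n).hom.rTensor N v = w := by
  have hex := rTensor_exact N (exact_inc_pn R M n) (pn_surjective R M n)
  obtain ⟨u, rfl⟩ := (hex w).1 hw
  obtain ⟨v, rfl⟩ := LinearMap.rTensor_surjective N (pn_surjective R M (n + 1)) u
  refine ⟨v, ?_⟩
  rw [dn_hom, LinearMap.rTensor_comp]
  rfl

lemma key_succ (n : ℕ) (w : (Pn R M (n + 1) : Type u) ⊗[R] N)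
    (hw : (dn R M n).hom.rTensor N w = 0) :
    ∃ v, (dn R M (n + 1)).hom.rTensor N v = w := by
  apply key
  apply inc_rTensor_injective R M N n
  rw [map_zero, ← LinearMap.comp_apply, ← LinearMap.rTensor_comp, ← dn_hom]
  exact hw

end Tensor

open MonoidalCategory in
theorem quasiIso_aug (N : ModuleCat.{u} R) :
    QuasiIso (((tensorRight N).mapHomologicalComplex (ComplexShape.down ℕ)).map (aug R M)) := by
  apply QIsoOfExact.tensored_chain_quasiIso
  · intro n w hw
    have hw' : (dn R M n).hom.rTensor N w = 0 :=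
      (congrArg (fun f : Pn R M (n + 1) ⟶ Pn R M n => f.hom.rTensor N w) (cx_d R M n)).symm.trans hw
    obtain ⟨v, hv⟩ := key_succ R M N n w hw'
    exact ⟨v, (congrArg (fun f : Pn R M (n + 2) ⟶ Pn R M (n + 1) => f.hom.rTensor N v)
      (cx_d R M (n + 1))).trans hv⟩
  · intro w hw
    have hw' : (pn R M 0).hom.rTensor N w = 0 :=
      (congrArg (fun f : Pn R M 0 ⟶ M => f.hom.rTensor N w) (aug_f_zero R M)).symm.trans hw
    obtain ⟨v, hv⟩ := key R M N 0 w hw'
    exact ⟨v, (congrArg (fun f : Pn R M 1 ⟶ Pn R M 0 => f.hom.rTensor N v) (cx_d R M 0)).trans hv⟩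
  · have h : (aug R M).f 0 = pn R M 0 := aug_f_zero R M
    have : Function.Surjective ((pn R M 0).hom.rTensor N) :=
      LinearMap.rTensor_surjective N (pn_surjective R M 0)
    intro z
    obtain ⟨x, hx⟩ := this z
    exact ⟨x, (congrArg (fun f : Pn R M 0 ⟶ M => f.hom.rTensor N x) h).trans hx⟩

theorem exists_resolution :
    ∃ (P : ChainComplex (ModuleCat.{u} R) ℕ) (π : P ⟶ (ChainComplex.single₀ (ModuleCat.{u} R)).obj M),
      (∀ n : ℕ, IsPP R (P.X n)) ∧
      ∀ N : ModuleCat.{u} R,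
        QuasiIso (((MonoidalCategory.tensorRight N).mapHomologicalComplex (ComplexShape.down ℕ)).map π) :=
  ⟨cx R M, aug R M, fun n => (cover R (Kn R M n)).pp, quasiIso_aug R M⟩

end Groth.Agent.Lib.Helper14.PureResEx
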