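import Mathlib.Algebra.Homology.SingleHomology
import Mathlib.Algebra.Homology.QuasiIso
import Mathlib.CategoryTheory.Abelian.Basic
import Mathlib.Algebra.Category.ModuleCat.Monoidal.Basic
import Mathlib.Algebra.Homology.ShortComplex.ModuleCat
import Mathlib.Algebra.Homology.Additive
import Mathlib.Algebra.Category.ModuleCat.Abelian

universe v u

namespace Groth.Agent.Lib.Helper14.QIsoOfExact

open CategoryTheory Limits HomologicalComplex

section Abstract

variable {C : Type u} [Category.{v} C] [Abelian C]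

/-- a map from a chain complex to a single complex is a quasi-isomorphism as soon as the augmented
complex is exact -/
lemma chain_quasiIso (K : ChainComplex C ℕ) {Z : C} (π : K ⟶ (ChainComplex.single₀ C).obj Z)
    (hex : ∀ n : ℕ, K.ExactAt (n + 1))
    (h0 : (ShortComplex.mk (K.d 1 0) (π.f 0) (by
      rw [← π.comm 1 0, HomologicalComplex.single_obj_d, comp_zero])).Exact)
    (hepi : Epi (π.f 0)) : QuasiIso π :=
  ⟨fun n => by
    cases n
    · rw [ChainComplex.quasiIsoAt₀_iff, ShortComplex.quasiIso_iff_of_zeros']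
      · exact ⟨h0, hepi⟩
      all_goals (simp <;> rfl)
    · rw [quasiIsoAt_iff_exactAt']
      · apply hex
      · apply ChainComplex.exactAt_succ_single_obj⟩

/-- a map from a single complex to a cochain complex is a quasi-isomorphism as soon as the
coaugmented complex is exact -/
lemma cochain_quasiIso (K : CochainComplex C ℕ) {Z : C} (ι : (CochainComplex.single₀ C).obj Z ⟶ K)
    (hex : ∀ n : ℕ, K.ExactAt (n + 1))
    (h0 : (ShortComplex.mk (ι.f 0) (K.d 0 1) (by
      rw [ι.comm 0 1, HomologicalComplex.single_obj_d, zero_comp])).Exact)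
    (hmono : Mono (ι.f 0)) : QuasiIso ι :=
  ⟨fun n => by
    cases n
    · rw [CochainComplex.quasiIsoAt₀_iff, ShortComplex.quasiIso_iff_of_zeros]
      · exact ⟨h0, hmono⟩
      all_goals (simp <;> rfl)
    · rw [quasiIsoAt_iff_exactAt]
      · apply hex
      · apply CochainComplex.exactAt_succ_single_obj⟩

end Abstract


section Mod

open MonoidalCategory TensorProduct

variable {R : Type u} [CommRing R]

lemma chain_quasiIso_elem (K : ChainComplex (ModuleCat.{u} R) ℕ) {Z : ModuleCat.{u} R}
    (π : K ⟶ (ChainComplex.single₀ (ModuleCat.{u} R)).obj Z)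
    (h1 : ∀ (n : ℕ) (w : K.X (n + 1)), (K.d (n + 1) n).hom w = 0 →
      ∃ v, (K.d (n + 2) (n + 1)).hom v = w)
    (h0 : ∀ w : K.X 0, (π.f 0).hom w = 0 → ∃ v, (K.d 1 0).hom v = w)
    (hs : Function.Surjective (π.f 0).hom) : QuasiIso π := by
  apply chain_quasiIso
  · intro n
    rw [HomologicalComplex.exactAt_iff' _ (n + 1 + 1) (n + 1) n (by simp) (by simp),
      ShortComplex.moduleCat_exact_iff]
    exact h1 n
  · rw [ShortComplex.moduleCat_exact_iff]
    exact h0
  · rw [ModuleCat.epi_iff_surjective]
    exact hs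

lemma cochain_quasiIso_elem (K : CochainComplex (ModuleCat.{u} R) ℕ) {Z : ModuleCat.{u} R}
    (ι : (CochainComplex.single₀ (ModuleCat.{u} R)).obj Z ⟶ K)
    (h1 : ∀ (n : ℕ) (w : K.X (n + 1)), (K.d (n + 1) (n + 2)).hom w = 0 →
      ∃ v, (K.d n (n + 1)).hom v = w)
    (h0 : ∀ w : K.X 0, (K.d 0 1).hom w = 0 → ∃ v, (ι.f 0).hom v = w)
    (hi : Function.Injective (ι.f 0).hom) : QuasiIso ι := by
  apply cochain_quasiIso
  · intro n
    rw [HomologicalComplex.exactAt_iff' _ n (n + 1) (n + 1 + 1) (by simp) (by simp),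
      ShortComplex.moduleCat_exact_iff]
    exact h1 n
  · rw [ShortComplex.moduleCat_exact_iff]
    exact h0
  · rw [ModuleCat.mono_iff_injective]
    exact hi

/-- criterion for the tensored augmentation of a chain complex to be a quasi-isomorphism -/
lemma tensored_chain_quasiIso (P : ChainComplex (ModuleCat.{u} R) ℕ) {M : ModuleCat.{u} R}
    (π : P ⟶ (ChainComplex.single₀ (ModuleCat.{u} R)).obj M) (N : ModuleCat.{u} R)
    (h1 : ∀ (n : ℕ) (w : (P.X (n + 1) : Type u) ⊗[R] (N : Type u)),
      (P.d (n + 1) n).hom.rTensor N w = 0 → ∃ v, (P.d (n + 2) (n + 1)).hom.rTensor N v = w)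
    (h0 : ∀ w : (P.X 0 : Type u) ⊗[R] (N : Type u), (π.f 0).hom.rTensor N w = 0 →
      ∃ v, (P.d 1 0).hom.rTensor N v = w)
    (hs : Function.Surjective ((π.f 0).hom.rTensor N)) :
    QuasiIso (((tensorRight N).mapHomologicalComplex (ComplexShape.down ℕ)).map π) := by
  let iso := (HomologicalComplex.singleMapHomologicalComplex (tensorRight N) (ComplexShape.down ℕ) 0).hom.app M
  have hq : QuasiIso (((tensorRight N).mapHomologicalComplex (ComplexShape.down ℕ)).map π ≫ iso) := by
    have hinj : Function.Injective (iso.f 0).hom := (ModuleCat.mono_iff_injective (iso.f 0)).1 inferInstance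
    have hsurj : Function.Surjective (iso.f 0).hom := (ModuleCat.epi_iff_surjective (iso.f 0)).1 inferInstance
    apply chain_quasiIso_elem
    · exact h1
    · intro w hw
      apply h0 w
      apply hinj
      exact hw.trans (map_zero (iso.f 0).hom).symm
    · intro z
      obtain ⟨y, rfl⟩ := hsurj z
      obtain ⟨x, rfl⟩ := hs y
      exact ⟨x, rfl⟩
  exact quasiIso_of_comp_right _ iso

/-- criterion for the tensored coaugmentation of a cochain complex to be a quasi-isomorphism -/
lemma tensored_cochain_quasiIso (I : CochainComplex (ModuleCat.{u} R) ℕ) {M : ModuleCat.{u} R}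
    (η : (CochainComplex.single₀ (ModuleCat.{u} R)).obj M ⟶ I) (T : ModuleCat.{u} R)
    (h1 : ∀ (n : ℕ) (w : (I.X (n + 1) : Type u) ⊗[R] (T : Type u)),
      (I.d (n + 1) (n + 2)).hom.rTensor T w = 0 → ∃ v, (I.d n (n + 1)).hom.rTensor T v = w)
    (h0 : ∀ w : (I.X 0 : Type u) ⊗[R] (T : Type u), (I.d 0 1).hom.rTensor T w = 0 →
      ∃ v, (η.f 0).hom.rTensor T v = w)
    (hi : Function.Injective ((η.f 0).hom.rTensor T)) :
    QuasiIso (((tensorRight T).mapHomologicalComplex (ComplexShape.up ℕ)).map η) := by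
  let iso := (HomologicalComplex.singleMapHomologicalComplex (tensorRight T) (ComplexShape.up ℕ) 0).inv.app M
  have hq : QuasiIso (iso ≫ ((tensorRight T).mapHomologicalComplex (ComplexShape.up ℕ)).map η) := by
    have hinj : Function.Injective (iso.f 0).hom := (ModuleCat.mono_iff_injective (iso.f 0)).1 inferInstance
    have hsurj : Function.Surjective (iso.f 0).hom := (ModuleCat.epi_iff_surjective (iso.f 0)).1 inferInstance
    apply cochain_quasiIso_elem
    · exact h1
    · intro w hw
      obtain ⟨v, hv⟩ := h0 w hw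
      obtain ⟨v', rfl⟩ := hsurj v
      exact ⟨v', hv⟩
    · intro x y hxy
      apply hinj
      apply hi
      exact hxy
  exact quasiIso_of_comp_left iso _

end Mod

end Groth.Agent.Lib.Helper14.QIsoOfExact
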