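import Groth.Agent.S17006
import Groth.Agent.Lib.Helper14.AltKer
import Mathlib.LinearAlgebra.Transvection.Basic

set_option autoImplicit false
universe u
open scoped TensorProduct
open QuadGrp

namespace Groth.Agent.Lib.Helper14.QuadCentre

open CliffordAlgebra Groth.Agent.S17006

section Det

variable {A : Type u} [CommRing A] {V : Type u} [AddCommGroup V] [Module A V]
variable (Q : QuadraticForm A V) (ε : A) (hε : ε * ε = 0) (a b : V)

include hε in
lemma hE_det [Module.Free A V] [Module.Finite A V] : LinearEquiv.det (hE Q ε hε a b) = 1 := by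
  rw [← Units.val_inj, LinearEquiv.coe_det, Units.val_one]
  have hcoe : ((hE Q ε hε a b : V ≃ₗ[A] V) : V →ₗ[A] V) =
      LinearMap.transvection (ε • (QuadraticMap.polarBilin Q).flip a) b ∘ₗ
        LinearMap.transvection (-(ε • (QuadraticMap.polarBilin Q).flip b)) a := by
    ext x
    simp only [LinearEquiv.coe_coe, hE_apply, X_apply, LinearMap.comp_apply,
      LinearMap.transvection.apply, LinearMap.smul_apply, LinearMap.neg_apply, LinearMap.flip_apply,
      QuadraticMap.polarBilin_apply_apply, map_add, map_smul, smul_eq_mul, map_neg]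
    have h0 : (ε * QuadraticMap.polar Q x b) * (ε * QuadraticMap.polar Q a a) = 0 := by
      rw [show (ε * QuadraticMap.polar Q x b) * (ε * QuadraticMap.polar Q a a) =
        (ε * ε) * (QuadraticMap.polar Q x b * QuadraticMap.polar Q a a) by ring, hε, zero_mul]
    rw [smul_add (-(ε * QuadraticMap.polar Q x b)) a, smul_smul, neg_mul, h0, neg_zero, zero_smul,
      add_zero, smul_sub, smul_smul, smul_smul, neg_smul]
    abel
  rw [hcoe, LinearMap.det_comp, LinearMap.transvection.det, LinearMap.transvection.det]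
  simp only [LinearMap.smul_apply, LinearMap.neg_apply, LinearMap.flip_apply,
    QuadraticMap.polarBilin_apply_apply, smul_eq_mul]
  have hc := QuadraticMap.polar_comm Q a b
  rw [hc]
  have : (1 + ε * QuadraticMap.polar Q b a) * (1 + -(ε * QuadraticMap.polar Q b a)) =
      1 - (ε * ε) * (QuadraticMap.polar Q b a * QuadraticMap.polar Q b a) := by ring
  rw [this, hε, zero_mul, sub_zero]

end Det

section Special

variable {R : Type u} [CommRing R] {n : ℕ} (Q : QuadraticForm R (Fin n → R))

local notation "M" => (Fin n → R)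
local notation "D" => DualNumber R

lemma mem_orth_of_mem_O_baseChangeForm (A : Type u) [CommRing A] [Algebra R A]
    (h : (A ⊗[R] M) ≃ₗ[A] (A ⊗[R] M)) (hh : h ∈ QuadGrp.O (QuadGrp.baseChangeForm A Q)) :
    h ∈ QuadGrp.orth Q A := by
  intro v
  have := hh v
  simp only [QuadGrp.baseChangeForm, LinearMap.compQuadraticMap_apply] at this
  exact (TensorProduct.AlgebraTensorModule.rid R A A).injective this

lemma hE_mem_orth (a b : M) :
    hE (QuadGrp.baseChangeForm D Q) (DualNumber.eps : D) DualNumber.eps_mul_eps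
      ((1 : D) ⊗ₜ[R] a) ((1 : D) ⊗ₜ[R] b) ∈ QuadGrp.orth Q D :=
  mem_orth_of_mem_O_baseChangeForm Q D _ (hE_mem_O _ _ DualNumber.eps_mul_eps _ _)

lemma hE_mem_sorth' (a b : M) :
    hE (QuadGrp.baseChangeForm D Q) (DualNumber.eps : D) DualNumber.eps_mul_eps
      ((1 : D) ⊗ₜ[R] a) ((1 : D) ⊗ₜ[R] b) ∈ QuadGrp.sorth' Q D := by
  refine ⟨hE_mem_orth Q a b, ?_⟩
  exact MonoidHom.mem_ker.mpr (hE_det _ _ DualNumber.eps_mul_eps _ _)

lemma commute_X_of (g : M ≃ₗ[R] M)
    (H : ∀ a b : M, g.baseChange R D M M *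
        hE (QuadGrp.baseChangeForm D Q) (DualNumber.eps : D) DualNumber.eps_mul_eps
          ((1 : D) ⊗ₜ[R] a) ((1 : D) ⊗ₜ[R] b) =
        hE (QuadGrp.baseChangeForm D Q) (DualNumber.eps : D) DualNumber.eps_mul_eps
          ((1 : D) ⊗ₜ[R] a) ((1 : D) ⊗ₜ[R] b) * g.baseChange R D M M)
    (a b w : M) : g (X Q a b w) = X Q a b (g w) := by
  have key := congrArg (fun f : (D ⊗[R] M) ≃ₗ[D] (D ⊗[R] M) => f ((1 : D) ⊗ₜ[R] w)) (H a b)
  simp only [LinearEquiv.mul_apply] at key
  rw [hE_apply, hE_apply, LinearEquiv.baseChange_tmul, X_baseChange, X_baseChange, map_add,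
    map_smul, LinearEquiv.baseChange_tmul, LinearEquiv.baseChange_tmul] at key
  have key2 := congrArg (ρ (n := n)) key
  rw [map_add, map_add, ρ_one_tmul, ρ_eps_smul, ρ_eps_smul, zero_add, zero_add] at key2
  exact key2

end Special

section LinAlg

variable {R : Type u} [CommRing R] {n : ℕ} (Q : QuadraticForm R (Fin n → R))

local notation "M" => (Fin n → R)

open Groth.Agent.Lib.Helper26.HalfDisc Groth.Agent.Lib.Helper14.AltKer

lemma polMat_coeffs (i c : Fin n) :
    polMat (QuadGrp.coeffs (Pi.basisFun R (Fin n)) (LinearEquiv.refl R R) Q) i c =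
      QuadraticMap.polar Q (Pi.single i 1) (Pi.single c 1) := by
  simp only [polMat, Matrix.of_apply, QuadGrp.coeffs_mk, Pi.basisFun_apply, LinearEquiv.refl_apply]
  by_cases h : i = c
  · subst h
    rw [if_pos rfl, if_pos rfl, QuadraticMap.polar_self]
    simp
  · rw [if_neg h, if_neg h]

lemma polar_single_left (c : Fin n) (y : M) :
    QuadraticMap.polar Q (Pi.single c 1) y =
      ∑ i, y i * polMat (QuadGrp.coeffs (Pi.basisFun R (Fin n)) (LinearEquiv.refl R R) Q) i c := by
  conv_lhs => rw [pi_eq_sum_univ' y]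
  rw [← QuadraticMap.polarBilin_apply_apply, map_sum]
  refine Finset.sum_congr rfl (fun i _ => ?_)
  rw [map_smul, QuadraticMap.polarBilin_apply_apply, smul_eq_mul, polMat_coeffs,
    QuadraticMap.polar_comm]

lemma polar_g (g : M ≃ₗ[R] M) (hg : g ∈ QuadGrp.O Q) (x y : M) :
    QuadraticMap.polar Q (g x) (g y) = QuadraticMap.polar Q x y := by
  rw [QuadraticMap.polar, QuadraticMap.polar, ← map_add, hg, hg, hg]

lemma X_g (g : M ≃ₗ[R] M) (hg : g ∈ QuadGrp.O Q)
    (REL : ∀ a b w : M, g (X Q a b w) = X Q a b (g w)) (a b w : M) :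
    X Q (g a) (g b) w = X Q a b w := by
  apply g.injective
  rw [REL (g a) (g b) w, X_apply, X_apply, polar_g Q g hg, polar_g Q g hg, map_sub, map_smul,
    map_smul]

/-- wedge invariance from `X` invariance in the semiregular odd case -/
lemma wedge_of_X (hodd : Odd n)
    (hQ : QuadGrp.IsSemiregular (Pi.basisFun R (Fin n)) (LinearEquiv.refl R R) Q)
    (a b a' b' : M) (h : ∀ w : M, X Q a' b' w = X Q a b w) (i l : Fin n) :
    a' i * b' l - b' i * a' l = a i * b l - b i * a l := by
  set P := polMat (QuadGrp.coeffs (Pi.basisFun R (Fin n)) (LinearEquiv.refl R R) Q) with hP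
  let T : Matrix (Fin n) (Fin n) R := Matrix.of fun l i =>
    a' i * b' l - b' i * a' l - (a i * b l - b i * a l)
  have hT : T = 0 := by
    apply alt_eq_zero hodd _ hQ T
    · intro i; simp only [T, Matrix.of_apply]; ring
    · intro i j; simp only [T, Matrix.of_apply]; ring
    · ext l c
      rw [Matrix.mul_apply, Matrix.zero_apply]
      have hw := congrFun (h (Pi.single c 1)) l
      rw [X_apply, X_apply] at hw
      simp only [Pi.sub_apply, Pi.smul_apply, smul_eq_mul] at hw
      rw [polar_single_left, polar_single_left, polar_single_left, polar_single_left] at hw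
      rw [← sub_eq_zero] at hw
      rw [← hw]
      simp only [T, Matrix.of_apply, Finset.sum_mul, ← Finset.sum_sub_distrib]
      refine Finset.sum_congr rfl (fun i _ => ?_)
      ring
  have := congrFun (congrFun hT l) i
  simp only [T, Matrix.of_apply, Matrix.zero_apply] at this
  exact sub_eq_zero.mp this

lemma scalar_of_wedge (hn : 3 ≤ n) (g : M ≃ₗ[R] M)
    (W : ∀ (a b : M) (i l : Fin n), g a i * g b l - g b i * g a l = a i * b l - b i * a l) :
    ∃ c : R, c * c = 1 ∧ ∀ v, g v = c • v := by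
  classical
  let e : Fin n → M := fun j => Pi.single j (1 : R)
  have hoff : ∀ q l : Fin n, l ≠ q → g (e q) l = 0 := by
    intro q l hlq
    obtain ⟨p, hpl, hpq⟩ := exists_ne_ne hn l q
    have := W (g.symm (e p)) (e q) p l
    rw [LinearEquiv.apply_symm_apply] at this
    simpa [e, Pi.single_eq_of_ne hlq, Pi.single_eq_of_ne hpq, Pi.single_eq_of_ne (Ne.symm hpl)]
      using this
  have hdiag : ∀ p q : Fin n, p ≠ q → g (e p) p * g (e q) q = 1 := by
    intro p q hpq
    have := W (e p) (e q) p q
    rw [hoff q p hpq, zero_mul, sub_zero] at this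
    simpa [e, Pi.single_eq_of_ne hpq, Pi.single_eq_of_ne (Ne.symm hpq)] using this
  have hceq : ∀ j k : Fin n, g (e j) j = g (e k) k := by
    intro j k
    by_cases hjk : j = k
    · subst hjk; rfl
    obtain ⟨i, hij, hik⟩ := exists_ne_ne hn j k
    calc g (e j) j = g (e j) j * (g (e i) i * g (e k) k) := by rw [hdiag i k hik, mul_one]
      _ = (g (e j) j * g (e i) i) * g (e k) k := by ring
      _ = g (e k) k := by rw [hdiag j i (Ne.symm hij), one_mul]
  have hn0 : 0 < n := by omega
  let j₀ : Fin n := ⟨0, hn0⟩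
  let j₁ : Fin n := ⟨1, by omega⟩
  let c : R := g (e j₀) j₀
  have hge : ∀ j, g (e j) = c • e j := by
    intro j
    funext k
    by_cases hkj : k = j
    · subst hkj
      simp [e, c, hceq k j₀]
    · rw [hoff j k hkj]
      simp [e, Pi.single_eq_of_ne hkj]
  have hgv : ∀ v, g v = c • v := by
    have : g.toLinearMap = c • LinearMap.id := by
      apply LinearMap.pi_ext
      intro i x
      have hx : (Pi.single i x : M) = x • e i := by
        simp [e, ← Pi.single_smul]
      rw [hx, LinearEquiv.coe_coe, map_smul, hge, LinearMap.smul_apply, LinearMap.id_apply,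
        smul_comm]
    intro v
    have := LinearMap.congr_fun this v
    simpa using this
  refine ⟨c, ?_, hgv⟩
  have h01 : j₀ ≠ j₁ := by
    intro h
    have := congrArg Fin.val h
    simp [j₀, j₁] at this
  have := hdiag j₀ j₁ h01
  rw [← hceq j₀ j₁] at this
  exact this

lemma scalar_of_commute_X_odd (hn : 3 ≤ n) (hodd : Odd n)
    (hQ : QuadGrp.IsSemiregular (Pi.basisFun R (Fin n)) (LinearEquiv.refl R R) Q) (g : M ≃ₗ[R] M)
    (hg : g ∈ QuadGrp.O Q)
    (REL : ∀ a b w : M, g (X Q a b w) = X Q a b (g w)) :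
    ∃ c : R, c * c = 1 ∧ ∀ v, g v = c • v := by
  apply scalar_of_wedge hn g
  intro a b i l
  exact wedge_of_X Q hodd hQ a b (g a) (g b) (X_g Q g hg REL a b) i l

lemma scalar_of_commute_X_nondeg (hn : 3 ≤ n)
    (hQ : QuadGrp.IsNondeg (Pi.basisFun R (Fin n)) (LinearEquiv.refl R R) Q) (g : M ≃ₗ[R] M)
    (hg : g ∈ QuadGrp.O Q)
    (REL : ∀ a b w : M, g (X Q a b w) = X Q a b (g w)) :
    ∃ c : R, c * c = 1 ∧ ∀ v, g v = c • v := by
  rcases Nat.even_or_odd n with he | ho
  · exact scalar_of_commute_X Q hn (hQ.1 he) g hg REL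
  · exact scalar_of_commute_X_odd Q hn ho (hQ.2 ho) g hg REL

lemma commute_of_scalar (g : M ≃ₗ[R] M) (c : R) (hgv : ∀ v, g v = c • v)
    (A : Type u) [CommRing A] [Algebra R A] (h : (A ⊗[R] M) ≃ₗ[A] (A ⊗[R] M)) :
    g.baseChange R A M M * h = h * g.baseChange R A M M := by
  have hgA : ∀ t, g.baseChange R A M M t = (algebraMap R A c) • t := by
    intro t
    induction t using TensorProduct.induction_on with
    | zero => simp
    | tmul a v => rw [LinearEquiv.baseChange_tmul, hgv, TensorProduct.tmul_smul, algebraMap_smul]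
    | add x y hx hy => rw [map_add, hx, hy, smul_add]
  ext t
  rw [LinearEquiv.mul_apply, LinearEquiv.mul_apply, hgA, hgA, map_smul]

end LinAlg

end Groth.Agent.Lib.Helper14.QuadCentre
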