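import Mathlib
import Groth.Agent.Lib.Helper14.RedSplitB

set_option autoImplicit false
set_option linter.style.haveILetI false

namespace Groth.Agent.Lib.Helper14.RedSplit

open TensorProduct WithConv

universe u

section ker

variable (k : Type u) [CommRing k] {C D : Type u} [AddCommGroup C] [Module k C] [Coalgebra k C]
  [AddCommGroup D] [Module k D] [Coalgebra k D]

/-- the kernel of a surjective coalgebra homomorphism is a coideal -/
theorem isCoideal_ker (f : C →ₗc[k] D) (hf : Function.Surjective f) :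
    (LinearMap.ker (f : C →ₗ[k] D)).IsCoideal := by
  constructor
  · intro x hx
    have h1 : f x = 0 := hx
    have h2 := CoalgHomClass.counit_comp_apply f x
    rw [← h2, h1, map_zero]
  · intro x hx
    have h1 : f x = 0 := hx
    let e : (C ⧸ LinearMap.ker (f : C →ₗ[k] D)) ≃ₗ[k] D :=
      (f : C →ₗ[k] D).quotKerEquivOfSurjective hf
    have he : e.toLinearMap ∘ₗ (LinearMap.ker (f : C →ₗ[k] D)).mkQ = (f : C →ₗ[k] D) := by
      ext c
      rfl
    have h2 : TensorProduct.map e.toLinearMap e.toLinearMap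
        (TensorProduct.map (LinearMap.ker (f : C →ₗ[k] D)).mkQ
          (LinearMap.ker (f : C →ₗ[k] D)).mkQ (Coalgebra.comul x)) = 0 := by
      rw [← LinearMap.comp_apply, ← TensorProduct.map_comp, he]
      have h3 := CoalgHomClass.map_comp_comul_apply f x
      rw [h3, h1, map_zero]
    have hinj : Function.Injective (TensorProduct.map e.toLinearMap e.toLinearMap) :=
      (TensorProduct.congr e e).injective
    exact hinj (by rw [h2, map_zero])

end ker

section kerHopf

variable (k : Type u) [Field k] {E B : Type u} [CommRing E] [CommRing B] [HopfAlgebra k E]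
  [HopfAlgebra k B]

/-- the kernel of a surjective bialgebra homomorphism of Hopf algebras is a Hopf ideal -/
theorem isHopfIdeal_ker (f : E →ₐc[k] B) (hf : Function.Surjective f) :
    (RingHom.ker (f : E →+* B)).IsHopfIdeal k := by
  have h1 : (RingHom.ker (f : E →+* B)).restrictScalars k =
      LinearMap.ker ((f : E →ₗc[k] B) : E →ₗ[k] B) := by
    ext x
    rfl
  have h2 : ((RingHom.ker (f : E →+* B)).restrictScalars k).IsCoideal := by
    rw [h1]
    exact isCoideal_ker k (f : E →ₗc[k] B) hf
  refine { toIsCoideal := h2, antipode_mem := ?_ }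
  intro x hx
  have hx' : f x = 0 := hx
  show f (HopfAlgebra.antipode k x) = 0
  rw [← antipode_apply, hx', map_zero]

end kerHopf

section main

variable (k : Type u) [Field k] [PerfectField k] (E Er E0 : Type u) [CommRing E] [CommRing Er]
  [CommRing E0] [HopfAlgebra k E] [HopfAlgebra k Er] [HopfAlgebra k E0] [FiniteDimensional k E]

/-- the comorphism of `G_red × G⁰ → G` is bijective -/
theorem bijective_of_props (fr : E →ₐc[k] Er) (f0 : E →ₐc[k] E0)
    (hr : Function.Surjective fr) (hker : RingHom.ker (fr : E →+* Er) = nilradical E)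
    (h0 : Function.Surjective f0) [IsLocalRing E0] (hflat : (f0 : E →+* E0).Flat) :
    Function.Bijective ((Algebra.TensorProduct.map (fr : E →ₐ[k] Er) (f0 : E →ₐ[k] E0)).comp
      (Bialgebra.comulAlgHom k E)) := by
  haveI hnil : (nilradical E).IsHopfIdeal k := hker ▸ isHopfIdeal_ker k fr hr
  set I' : Ideal E := RingHom.ker (f0 : E →+* E0) with hI'
  haveI hI'hopf : I'.IsHopfIdeal k := isHopfIdeal_ker k f0 h0
  let q0 : (E ⧸ I') ≃+* E0 := RingHom.quotientKerEquivOfSurjective (f := (f0 : E →+* E0)) h0
  haveI hloc : IsLocalRing (E ⧸ I') := q0.symm.isLocalRing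
  have hle : Iloc k E ≤ I' := Iloc_le k E I'
  -- purity
  haveI hpure : I'.Pure := by
    letI := (f0 : E →+* E0).toAlgebra
    have hfl : Module.Flat E E0 := hflat
    have hs : Function.Surjective (Algebra.ofId E E0) := h0
    let e : (E ⧸ RingHom.ker (Algebra.ofId E E0)) ≃ₐ[E] E0 :=
      Ideal.quotientKerAlgEquivOfSurjective hs
    exact Module.Flat.of_linearEquiv e.toLinearEquiv
  have hcounit : ∀ x ∈ I', Coalgebra.counit (R := k) x = 0 := fun x hx =>
    Submodule.IsCoideal.counit_eq_zero (I := I'.restrictScalars k) hx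
  have hge : I' ≤ Iloc k E := by
    intro x hx
    obtain ⟨y, hy, hxy⟩ := Ideal.exists_eq_mul_of_pure hx
    obtain ⟨n, hn⟩ := isNilpotent_mk_of_counit_eq_zero k E y (hcounit y hy)
    have hyn : y ^ n ∈ Iloc k E := by
      rw [← Ideal.Quotient.eq_zero_iff_mem, map_pow]
      exact hn
    have hxn : ∀ m : ℕ, x = x * y ^ m := by
      intro m
      induction m with
      | zero => simp
      | succ m ih => rw [pow_succ, ← mul_assoc, ← ih, ← hxy]
    rw [hxn n]
    exact Ideal.mul_mem_left _ _ hyn
  have heq : I' = Iloc k E := le_antisymm hge hle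
  -- the two quotient maps
  let gr : (E ⧸ nilradical E) →ₐ[k] Er :=
    Ideal.Quotient.liftₐ (nilradical E) (fr : E →ₐ[k] Er) (fun a ha => by
      have : a ∈ RingHom.ker (fr : E →+* Er) := hker ▸ ha
      exact this)
  let g0 : (E ⧸ Iloc k E) →ₐ[k] E0 :=
    Ideal.Quotient.liftₐ (Iloc k E) (f0 : E →ₐ[k] E0) (fun a ha => by
      have : a ∈ I' := hle ha
      exact this)
  have hgr : Function.Bijective gr := by
    constructor
    · rw [injective_iff_map_eq_zero]
      intro x hx
      obtain ⟨a, rfl⟩ := Ideal.Quotient.mk_surjective x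
      have h1 : fr a = 0 := hx
      have h2 : a ∈ RingHom.ker (fr : E →+* Er) := h1
      rw [hker] at h2
      exact Ideal.Quotient.eq_zero_iff_mem.mpr h2
    · intro b
      obtain ⟨a, rfl⟩ := hr b
      exact ⟨Ideal.Quotient.mk _ a, rfl⟩
  have hg0 : Function.Bijective g0 := by
    constructor
    · rw [injective_iff_map_eq_zero]
      intro x hx
      obtain ⟨a, rfl⟩ := Ideal.Quotient.mk_surjective x
      have h1 : f0 a = 0 := hx
      have h2 : a ∈ I' := h1
      exact Ideal.Quotient.eq_zero_iff_mem.mpr (hge h2)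
    · intro b
      obtain ⟨a, rfl⟩ := h0 b
      exact ⟨Ideal.Quotient.mk _ a, rfl⟩
  let er : (E ⧸ nilradical E) ≃ₐ[k] Er := AlgEquiv.ofBijective gr hgr
  let e0 : (E ⧸ Iloc k E) ≃ₐ[k] E0 := AlgEquiv.ofBijective g0 hg0
  have hfac : (Algebra.TensorProduct.map (fr : E →ₐ[k] Er) (f0 : E →ₐ[k] E0)).comp
      (Bialgebra.comulAlgHom k E) =
      ((Algebra.TensorProduct.congr er e0 : _ ≃ₐ[k] _) : _ →ₐ[k] _).comp (Φ k E (Iloc k E)) := by
    unfold Φ
    rw [← AlgHom.comp_assoc]
    congr 1
    ext a <;> rfl
  rw [hfac]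
  exact (Algebra.TensorProduct.congr er e0).bijective.comp (Φ_bijective k E)

end main

end Groth.Agent.Lib.Helper14.RedSplit
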