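import Groth.Agent.Lib.Helper14.Buchberger

/-!
# Regular sequences from pairwise coprime leading monomials (helper14)
-/

namespace Groth.Agent.Lib.Helper14.Buchberger

open MvPolynomial MonomialOrder
open scoped MonomialOrder

section generic

variable {σ : Type*} {m : MonomialOrder σ} {A : Type*} [CommRing A] {ι : Type*}
  {lm : ι → σ →₀ ℕ} {G : ι → MvPolynomial σ A}

lemma mul_mem_Vlt_of_support (f : MvPolynomial σ A) (k : ι) (δ : σ →₀ ℕ)
    (hf : ∀ β ∈ f.support, β + lm k ≺[m] δ) : f * G k ∈ Vlt m lm G δ := by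
  classical
  rw [f.as_sum, Finset.sum_mul]
  apply Submodule.sum_mem
  intro β hβ
  have : monomial β (coeff β f) * G k = (coeff β f) • (monomial β 1 * G k) := by
    rw [← smul_mul_assoc, smul_monomial, smul_eq_mul, mul_one]
  rw [this]
  exact Submodule.smul_mem _ _ (Submodule.subset_span ⟨β, k, hf β hβ, rfl⟩)

/-- Buchberger's first criterion: pairwise coprime leading monomials. -/
theorem IsGB.of_disjoint
    (coeff_lm : ∀ i, (G i).coeff (lm i) = 1)
    (supp_le : ∀ i, ∀ β ∈ (G i).support, β ≼[m] lm i)
    (hdisj : ∀ i j, i ≠ j → ∀ x, lm i x = 0 ∨ lm j x = 0) : IsGB m lm G := by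
  classical
  refine ⟨coeff_lm, supp_le, ?_⟩
  intro i j
  by_cases hij : i = j
  · subst hij
    rw [sub_self]
    exact Submodule.zero_mem _
  have hsup : lm i ⊔ lm j = lm i + lm j := by
    ext x
    rw [Finsupp.sup_apply, Finsupp.add_apply]
    rcases hdisj i j hij x with h | h <;> rw [h] <;> simp
  have e1 : lm i ⊔ lm j - lm i = lm j := by rw [hsup, add_tsub_cancel_left]
  have e2 : lm i ⊔ lm j - lm j = lm i := by rw [hsup, add_tsub_cancel_right]
  rw [e1, e2, hsup]
  -- tails
  set Ti := G i - monomial (lm i) 1 with hTi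
  set Tj := G j - monomial (lm j) 1 with hTj
  have hT : ∀ k, ∀ β ∈ (G k - monomial (lm k) 1).support, β ≺[m] lm k := by
    intro k β hβ
    have hne : β ≠ lm k := by
      rintro rfl
      rw [MvPolynomial.mem_support_iff, coeff_sub, coeff_monomial, if_pos rfl, coeff_lm,
        sub_self] at hβ
      exact hβ rfl
    have hmem : β ∈ (G k).support := by
      rw [MvPolynomial.mem_support_iff, coeff_sub, coeff_monomial, if_neg (Ne.symm hne),
        sub_zero] at hβ
      exact MvPolynomial.mem_support_iff.mpr hβ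
    have hle := supp_le k β hmem
    refine lt_of_le_of_ne hle ?_
    intro h
    exact hne (m.toSyn.injective h)
  have key : monomial (lm j) 1 * G i - monomial (lm i) 1 * G j = Ti * G j - Tj * G i := by
    rw [hTi, hTj]; ring
  rw [key]
  apply Submodule.sub_mem
  · apply mul_mem_Vlt_of_support
    intro β hβ
    have := hT i β hβ
    simpa [map_add] using add_lt_add_left this (m.toSyn (lm j))
  · apply mul_mem_Vlt_of_support
    intro β hβ
    have := hT j β hβ
    rw [add_comm (lm i) (lm j)]
    simpa [map_add] using add_lt_add_left this (m.toSyn (lm i))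

/-- A family with pairwise coprime leading monomials is a regular sequence. -/
theorem isRegular_ofFn_of_disjoint [Nontrivial A] {k : ℕ} (lm : Fin k → σ →₀ ℕ)
    (G : Fin k → MvPolynomial σ A)
    (coeff_lm : ∀ i, (G i).coeff (lm i) = 1)
    (supp_le : ∀ i, ∀ β ∈ (G i).support, β ≼[m] lm i)
    (hdisj : ∀ i j, i ≠ j → ∀ x, lm i x = 0 ∨ lm j x = 0) (h0 : ∀ i, lm i ≠ 0) :
    RingTheory.Sequence.IsRegular (MvPolynomial σ A) (List.ofFn G) := by
  classical
  have hGB : IsGB m lm G := IsGB.of_disjoint coeff_lm supp_le hdisj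
  have hsmul : ∀ I : Ideal (MvPolynomial σ A),
      (I • (⊤ : Submodule (MvPolynomial σ A) (MvPolynomial σ A))) = I := by
    intro I
    rw [smul_eq_mul, Ideal.mul_top]
  refine ⟨⟨fun i hi => ?_⟩, ?_⟩
  · rw [isSMulRegular_quotient_iff_mem_of_smul_mem, hsmul]
    have hik : i < k := by simpa using hi
    -- the subfamily
    let G' : {j : Fin k // j.val < i} → MvPolynomial σ A := fun j => G j
    let lm' : {j : Fin k // j.val < i} → σ →₀ ℕ := fun j => lm j
    have hGB' : IsGB m lm' G' :=
      IsGB.of_disjoint (fun j => coeff_lm j) (fun j => supp_le j)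
        (fun j j' hjj' => hdisj j j' (fun h => hjj' (Subtype.ext h)))
    have hI : Ideal.ofList ((List.ofFn G).take i) = Ideal.span (Set.range G') := by
      unfold Ideal.ofList
      congr 1
      ext x
      simp only [Set.mem_ofPred_eq, Set.mem_range, List.mem_take_iff_getElem, List.getElem_ofFn]
      constructor
      · rintro ⟨j, hj, rfl⟩
        have hj1 : j < i := lt_of_lt_of_le hj (min_le_left _ _)
        have hj2 : j < k := by
          have := lt_of_lt_of_le hj (min_le_right _ _)
          simpa using this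
        exact ⟨⟨⟨j, hj2⟩, hj1⟩, rfl⟩
      · rintro ⟨⟨j, hj⟩, rfl⟩
        refine ⟨j.val, ?_, rfl⟩
        rw [List.length_ofFn]
        exact lt_min hj j.isLt
    rw [hI]
    intro x hx
    rw [List.getElem_ofFn, smul_eq_mul] at hx
    refine hGB'.mem_of_mul_mem_of_disjoint (G ⟨i, hik⟩) (hGB.leadingCoeff_eq ⟨i, hik⟩) ?_ hx
    intro j y hy
    rw [hGB.degree_eq ⟨i, hik⟩]
    have hne : (j : Fin k) ≠ ⟨i, hik⟩ := by
      intro h
      have := j.2
      rw [h] at this
      exact lt_irrefl _ this
    rcases hdisj j ⟨i, hik⟩ hne y with h | h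
    · exact absurd h hy
    · exact h
  · rw [hsmul]
    intro htop
    have h1 : (1 : MvPolynomial σ A) ∈ Ideal.ofList (List.ofFn G) := by
      rw [← htop]; trivial
    have hI : Ideal.ofList (List.ofFn G) = Ideal.span (Set.range G) := by
      unfold Ideal.ofList
      congr 1
      ext x
      simp [List.mem_ofFn]
    rw [hI] at h1
    exact hGB.one_notMem h0 h1

end generic

section concrete

variable {n : ℕ} {A : Type*} [CommRing A]

/-- Data-driven regular sequence: pairwise coprime lex-leading monomials. -/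
theorem isRegular_ofFn_of_data [Nontrivial A] {k : ℕ} (lmv : Fin k → Fin n → ℕ)
    (tail : Fin k → List (ℤ × (Fin n → ℕ))) (G : Fin k → MvPolynomial (Fin n) A)
    (hG : ∀ i, G i = mon (lmv i) + evalTerms (tail i))
    (htail : ∀ i, ∀ t ∈ tail i, LexLt t.2 (lmv i))
    (hdisj : ∀ i j, i ≠ j → ∀ x, lmv i x = 0 ∨ lmv j x = 0)
    (h0 : ∀ i, ∃ x, lmv i x ≠ 0) :
    RingTheory.Sequence.IsRegular (MvPolynomial (Fin n) A) (List.ofFn G) := by
  classical
  have hsupp : ∀ i, ∀ β ∈ (evalTerms (tail i) : MvPolynomial (Fin n) A).support,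
      β ≺[MonomialOrder.lex] vmon (lmv i) := by
    intro i β hβ
    obtain ⟨t, ht, rfl⟩ := support_evalTerms _ β hβ
    exact lexLt_sound (htail i t ht)
  apply isRegular_ofFn_of_disjoint (m := MonomialOrder.lex) (fun i => vmon (lmv i)) G
  · intro i
    rw [hG i, coeff_add, mon, coeff_monomial, if_pos rfl]
    have : (evalTerms (tail i) : MvPolynomial (Fin n) A).coeff (vmon (lmv i)) = 0 := by
      by_contra hne
      exact lt_irrefl _ (hsupp i _ (MvPolynomial.mem_support_iff.mpr hne))
    rw [this, add_zero]
  · intro i β hβ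
    rw [hG i] at hβ
    rcases Finset.mem_union.mp (MvPolynomial.support_add hβ) with h | h
    · have := MvPolynomial.support_monomial_subset h
      have : β = vmon (lmv i) := by simpa using this
      rw [this]
    · exact (hsupp i β h).le
  · intro i j hij x
    simpa using hdisj i j hij x
  · intro i h
    obtain ⟨x, hx⟩ := h0 i
    apply hx
    have := DFunLike.congr_fun h x
    simpa using this

end concrete

end Groth.Agent.Lib.Helper14.Buchberger
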