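import Groth.Agent.Lib.Helper28.QCohGen
import Mathlib

/-!
# Sectionwise dictionary for inverse images of modules, with a small import closure (helper14)

Self-contained copies of `pbs` (helper28 `PullbackInv`) and of the `pullbackComp` / `pullbackCongr` dictionary
(helper17 `PbDict`), so that statements using them keep a small import closure under `Groth/Agent/`.
-/

set_option backward.isDefEq.respectTransparency.types false
set_option autoImplicit false
universe u
open CategoryTheory CategoryTheory.Limits AlgebraicGeometry Opposite TopologicalSpace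
noncomputable section

namespace Groth.Agent.Lib.Helper14.ResLE

open Groth.Agent.Lib.Helper28.QCohLoc

section Pbs

variable {X Y : Scheme.{u}} (f : X ⟶ Y) (M : Y.Modules)

/-- the inverse image of a local section -/
def pbs (U : Y.Opens) (y : Γ(M, U)) : Γ((Scheme.Modules.pullback f).obj M, f ⁻¹ᵁ U) :=
  ((Scheme.Modules.pullbackPushforwardAdjunction f).unit.app M).app U y

theorem pbs_res {U V : Y.Opens} (h : V ≤ U) (y : Γ(M, U)) :
    pbs f M V (res M h y) = res _ (f.preimage_mono h) (pbs f M U y) := by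
  exact app_res ((Scheme.Modules.pullbackPushforwardAdjunction f).unit.app M) h y

variable {M} in
theorem pbs_map {M' : Y.Modules} (φ : M ⟶ M') (U : Y.Opens) (y : Γ(M, U)) :
    ((Scheme.Modules.pullback f).map φ).app (f ⁻¹ᵁ U) (pbs f M U y) = pbs f M' U (φ.app U y) := by
  have h := (Scheme.Modules.pullbackPushforwardAdjunction f).unit.naturality φ
  have h2 := congrArg (fun θ => (Scheme.Modules.Hom.app θ U) y) h
  exact h2.symm

end Pbs

variable {W X Y : Scheme.{u}} (p : W ⟶ X) (f : X ⟶ Y) (M : Y.Modules)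

theorem iso_hom_inv_app {Z : Scheme.{u}} {A B : Z.Modules} (e : A ≅ B) (O : Z.Opens) (x : Γ(B, O)) :
    e.hom.app O (e.inv.app O x) = x := by
  have h : (e.inv ≫ e.hom).app O x = x := by rw [e.inv_hom_id]; rfl
  exact h

theorem iso_inv_hom_app {Z : Scheme.{u}} {A B : Z.Modules} (e : A ≅ B) (O : Z.Opens) (x : Γ(A, O)) :
    e.inv.app O (e.hom.app O x) = x := by
  have h : (e.hom ≫ e.inv).app O x = x := by rw [e.hom_inv_id]; rfl
  exact h

theorem pullbackComp_inv_pbs (V : Y.Opens) (y : Γ(M, V)) :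
    ((Scheme.Modules.pullbackComp p f).app M).inv.app ((p ≫ f) ⁻¹ᵁ V) (pbs (p ≫ f) M V y) =
      pbs p ((Scheme.Modules.pullback f).obj M) (f ⁻¹ᵁ V) (pbs f M V y) := by
  have h := unit_conjugateEquiv ((Scheme.Modules.pullbackPushforwardAdjunction f).comp
    (Scheme.Modules.pullbackPushforwardAdjunction p)) (Scheme.Modules.pullbackPushforwardAdjunction (p ≫ f))
    (Scheme.Modules.pullbackComp p f).inv M
  rw [Scheme.Modules.conjugateEquiv_pullbackComp_inv] at h
  have h2 := congrArg (fun θ => (Scheme.Modules.Hom.app θ V) y) h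
  exact h2.symm

theorem pullbackComp_hom_pbs (V : Y.Opens) (y : Γ(M, V)) :
    ((Scheme.Modules.pullbackComp p f).app M).hom.app (p ⁻¹ᵁ (f ⁻¹ᵁ V))
      (pbs p ((Scheme.Modules.pullback f).obj M) (f ⁻¹ᵁ V) (pbs f M V y)) = pbs (p ≫ f) M V y := by
  have h1 := pullbackComp_inv_pbs p f M V y
  have h2 := congrArg (((Scheme.Modules.pullbackComp p f).app M).hom.app ((p ≫ f) ⁻¹ᵁ V)) h1
  refine h2.symm.trans ?_
  exact iso_hom_inv_app ((Scheme.Modules.pullbackComp p f).app M) ((p ≫ f) ⁻¹ᵁ V) (pbs (p ≫ f) M V y)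

theorem pullbackCongr_hom_pbs {g g' : W ⟶ Y} (h : g = g') (V : Y.Opens) (y : Γ(M, V)) :
    ((Scheme.Modules.pullbackCongr h).app M).hom.app (g ⁻¹ᵁ V) (pbs g M V y) =
      res ((Scheme.Modules.pullback g').obj M) (le_of_eq (by rw [h]) : g ⁻¹ᵁ V ≤ g' ⁻¹ᵁ V) (pbs g' M V y) := by
  subst h
  rw [res_self]
  simp [Scheme.Modules.pullbackCongr]

theorem comp_app_apply {Z : Scheme.{u}} {A B C : Z.Modules} (a : A ⟶ B) (b : B ⟶ C) (O : Z.Opens) (x : Γ(A, O)) :
    (a ≫ b).app O x = b.app O (a.app O x) := rfl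

end Groth.Agent.Lib.Helper14.ResLE
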