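import Groth.Prelude.Def_CohCmp
import Groth.Agent.Lib.Helper2.PushEdge1
import Groth.Agent.Lib.Helper2.HLes

/-!
# `CohPull.resLE` as an abstract Ext edge map; compatibility with connecting maps (helper14)
-/

set_option autoImplicit false
set_option linter.unusedSectionVars false
set_option backward.isDefEq.respectTransparency.types false

universe u

open CategoryTheory CategoryTheory.Limits Opposite AlgebraicGeometry TopologicalSpace Abelian

namespace Groth.Agent.Lib.Helper14.ResLE

open Scheme.Modules Groth.Agent.Lib.Helper2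

variable {X : Scheme.{u}} {U U' : X.Opens}

lemma le' (h : U' ≤ U) : U' ≤ (𝟙 X) ⁻¹ᵁ U := by rwa [Scheme.Hom.id_preimage]

variable (h : U' ≤ U)

/-- the inclusion `U' ⟶ U` of open subschemes -/
noncomputable abbrev jj : U'.toScheme ⟶ U.toScheme := Scheme.Hom.resLE (𝟙 X) U U' (le' h)

/-- the module-level comparison `j^*(F|_U) ⟶ F|_{U'}`, as a natural transformation -/
noncomputable def κ : restrictFunctor U.ι ⋙ pullback (jj h) ⟶ restrictFunctor U'.ι :=
  Functor.whiskerRight (restrictFunctorIsoPullback U.ι).hom (pullback (jj h)) ≫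
    (pullbackComp (jj h) U.ι).hom ≫
    (pullbackCongr (Scheme.Hom.resLE_comp_ι (𝟙 X) (le' h))).hom ≫
    (pullbackComp U'.ι (𝟙 X)).inv ≫
    Functor.whiskerLeft (pullback (𝟙 X)) (restrictFunctorIsoPullback U'.ι).inv ≫
    Functor.whiskerRight (pullbackId X).hom (restrictFunctor U'.ι) ≫
    (Functor.leftUnitor _).hom

lemma κ_app (F : X.Modules) :
    (κ h).app F = (CohPull.pullOnIso (𝟙 X) U U' (le' h) F).hom ≫
      (restrictFunctor U'.ι).map ((pullbackId X).hom.app F) := by
  simp [κ, CohPull.pullOnIso]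

/-- the abelian-sheaf-level comparison `j⁻¹(F|_U) ⟶ F|_{U'}` -/
noncomputable def α (F : X.Modules) :
    (CohPull.inv (jj h).base).obj ((CohCmp.toAbOn X U).obj F) ⟶ (CohCmp.toAbOn X U').obj F :=
  CohPull.theta (jj h) ((restrictFunctor U.ι).obj F) ≫
    (SheafOfModules.toSheaf _).map ((κ h).app F)

lemma α_naturality {F G : X.Modules} (ψ : F ⟶ G) :
    (CohPull.inv (jj h).base).map ((CohCmp.toAbOn X U).map ψ) ≫ α h G =
      α h F ≫ (CohCmp.toAbOn X U').map ψ := by
  have h1 := PushEdge1.theta_naturality (jj h) ((restrictFunctor U.ι).map ψ)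
  have h2 : (Scheme.Modules.pullback (jj h)).map ((restrictFunctor U.ι).map ψ) ≫ (κ h).app G =
      (κ h).app F ≫ (restrictFunctor U'.ι).map ψ := (κ h).naturality ψ
  have h3 : (SheafOfModules.toSheaf (U' : Scheme.{u}).ringCatSheaf).map
        ((Scheme.Modules.pullback (jj h)).map ((restrictFunctor U.ι).map ψ)) ≫
      (SheafOfModules.toSheaf (U' : Scheme.{u}).ringCatSheaf).map ((κ h).app G) =
      (SheafOfModules.toSheaf (U' : Scheme.{u}).ringCatSheaf).map ((κ h).app F) ≫
      (SheafOfModules.toSheaf (U' : Scheme.{u}).ringCatSheaf).map ((restrictFunctor U'.ι).map ψ) :=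
    ((SheafOfModules.toSheaf (U' : Scheme.{u}).ringCatSheaf).map_comp _ _).symm.trans
      ((congrArg (fun t => (SheafOfModules.toSheaf (U' : Scheme.{u}).ringCatSheaf).map t) h2).trans
        ((SheafOfModules.toSheaf (U' : Scheme.{u}).ringCatSheaf).map_comp _ _))
  unfold α
  calc (CohPull.inv (jj h).base).map ((CohCmp.toAbOn X U).map ψ) ≫
        CohPull.theta (jj h) ((restrictFunctor U.ι).obj G) ≫
          (SheafOfModules.toSheaf _).map ((κ h).app G)
      = ((CohPull.inv (jj h).base).map ((SheafOfModules.toSheaf _).map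
          ((restrictFunctor U.ι).map ψ)) ≫ CohPull.theta (jj h) ((restrictFunctor U.ι).obj G)) ≫
          (SheafOfModules.toSheaf _).map ((κ h).app G) := (Category.assoc _ _ _).symm
    _ = (CohPull.theta (jj h) ((restrictFunctor U.ι).obj F) ≫
          (SheafOfModules.toSheaf _).map ((Scheme.Modules.pullback (jj h)).map ((restrictFunctor U.ι).map ψ))) ≫
          (SheafOfModules.toSheaf _).map ((κ h).app G) := by rw [h1]
    _ = CohPull.theta (jj h) ((restrictFunctor U.ι).obj F) ≫
          ((SheafOfModules.toSheaf _).map ((Scheme.Modules.pullback (jj h)).map ((restrictFunctor U.ι).map ψ)) ≫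
          (SheafOfModules.toSheaf _).map ((κ h).app G)) := Category.assoc _ _ _
    _ = CohPull.theta (jj h) ((restrictFunctor U.ι).obj F) ≫
          ((SheafOfModules.toSheaf _).map ((κ h).app F) ≫
          (SheafOfModules.toSheaf _).map ((restrictFunctor U'.ι).map ψ)) := by rw [h3]
    _ = (CohPull.theta (jj h) ((restrictFunctor U.ι).obj F) ≫
          (SheafOfModules.toSheaf _).map ((κ h).app F)) ≫
          (CohCmp.toAbOn X U').map ψ := (Category.assoc _ _ _).symm

lemma α_eq (F : X.Modules) :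
    α h F = CohPull.theta (jj h) ((restrictFunctor U.ι).obj F) ≫
      (SheafOfModules.toSheaf (U' : Scheme.{u}).ringCatSheaf).map
          (CohPull.pullOnIso (𝟙 X) U U' (le' h) F).hom ≫
        (SheafOfModules.toSheaf (U' : Scheme.{u}).ringCatSheaf).map
          ((restrictFunctor U'.ι).map ((pullbackId X).hom.app F)) := by
  have hmc : (SheafOfModules.toSheaf (U' : Scheme.{u}).ringCatSheaf).map ((κ h).app F) =
      (SheafOfModules.toSheaf (U' : Scheme.{u}).ringCatSheaf).map
          (CohPull.pullOnIso (𝟙 X) U U' (le' h) F).hom ≫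
        (SheafOfModules.toSheaf (U' : Scheme.{u}).ringCatSheaf).map
          ((restrictFunctor U'.ι).map ((pullbackId X).hom.app F)) :=
    (congrArg (fun t => (SheafOfModules.toSheaf (U' : Scheme.{u}).ringCatSheaf).map t)
      (κ_app h F)).trans ((SheafOfModules.toSheaf (U' : Scheme.{u}).ringCatSheaf).map_comp _ _)
  unfold α
  exact congrArg (fun t => CohPull.theta (jj h) ((restrictFunctor U.ι).obj F) ≫ t) hmc

section Gen

variable {Y Z : Scheme.{u}} (g : Y ⟶ Z)

lemma pullMod_eq_edge (M : Z.Modules) (p : ℕ) (x : Coh.HH Z M p) :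
    CohPull.pullMod g M p x =
      ExtEdge.edge (CohPull.inv g.base) (CohPull.oneTo g.base) (CohPull.theta g M) p x := by
  simp only [CohPull.pullMod, CohPull.pullAb,
    AddMonoidHom.coe_comp, Function.comp_apply, Sheaf.H.map_apply, ExtEdge.edge,
    Functor.mapExtAddHom_apply]
  simp only [Ext.bilinearComp_apply_apply, Ext.comp_assoc_of_third_deg_zero]

end Gen

lemma edge_comp_mk₀ {A : Type*} [Category A] [Abelian A] [HasExt A]
    {B : Type*} [Category B] [Abelian B] [HasExt B]
    (Φ : A ⥤ B) [Φ.Additive] [PreservesFiniteLimits Φ] [PreservesFiniteColimits Φ]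
    {ZA : A} {ZB : B} (o : ZB ⟶ Φ.obj ZA) {M : A} {N N' : B} (a : Φ.obj M ⟶ N) (b : N ⟶ N')
    (p : ℕ) (x : Ext ZA M p) :
    (ExtEdge.edge Φ o a p x).comp (Ext.mk₀ b) (add_zero p) = ExtEdge.edge Φ o (a ≫ b) p x := by
  simp only [ExtEdge.edge]
  rw [← Ext.mk₀_comp_mk₀]
  simp only [Ext.comp_assoc_of_third_deg_zero]

lemma mapH_apply {Y : Scheme.{u}} {M N : Y.Modules} (φ : M ⟶ N) (p : ℕ) (z : Coh.HH Y M p) :
    CohPull.mapH φ p z = z.comp (Ext.mk₀ ((SheafOfModules.toSheaf _).map φ)) (add_zero p) :=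
  Sheaf.H.map_apply _ _

lemma resLE_unfold (F : X.Modules) (p : ℕ) (x : Coh.HHon X F U p) :
    CohPull.resLE F h p x =
      CohPull.mapH ((restrictFunctor U'.ι).map ((pullbackId X).hom.app F)) p
        (CohPull.mapH (CohPull.pullOnIso (𝟙 X) U U' (le' h) F).hom p
          (CohPull.pullMod (jj h) (F.restrict U.ι) p x)) := by
  unfold CohPull.resLE CohPull.pullOn
  simp only [AddMonoidHom.coe_comp, Function.comp_apply]

lemma resLE_eq_edge (F : X.Modules) (p : ℕ) (x : Coh.HHon X F U p) :
    CohPull.resLE F h p x =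
      ExtEdge.edge (CohPull.inv (jj h).base) (CohPull.oneTo (jj h).base) (α h F) p x := by
  refine (resLE_unfold h F p x).trans ?_
  refine (congrArg (fun t => CohPull.mapH ((restrictFunctor U'.ι).map ((pullbackId X).hom.app F)) p
    (CohPull.mapH (CohPull.pullOnIso (𝟙 X) U U' (le' h) F).hom p t))
    (pullMod_eq_edge (jj h) (F.restrict U.ι) p x)).trans ?_
  refine (mapH_apply _ p _).trans ?_
  refine (congrArg (fun t => Ext.comp t (Ext.mk₀ ((SheafOfModules.toSheaf _).map
    ((restrictFunctor U'.ι).map ((pullbackId X).hom.app F)))) (add_zero p)) (mapH_apply _ p _)).trans ?_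
  refine (congrArg (fun t => Ext.comp t (Ext.mk₀ ((SheafOfModules.toSheaf _).map
    ((restrictFunctor U'.ι).map ((pullbackId X).hom.app F)))) (add_zero p))
    (edge_comp_mk₀ _ _ _ _ p x)).trans ?_
  refine (edge_comp_mk₀ _ _ _ _ p x).trans ?_
  refine congrArg (fun t => ExtEdge.edge (CohPull.inv (jj h).base) (CohPull.oneTo (jj h).base) t p x) ?_
  rw [α_eq, Category.assoc]

end Groth.Agent.Lib.Helper14.ResLE
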