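import Groth.Agent.Lib.Helper14.ResLE1

/-!
# `CohPull.resLE` commutes with connecting homomorphisms (helper14)
-/

set_option autoImplicit false
set_option linter.unusedSectionVars false
set_option backward.isDefEq.respectTransparency.types false

universe u

open CategoryTheory CategoryTheory.Limits Opposite AlgebraicGeometry TopologicalSpace Abelian

namespace Groth.Agent.Lib.Helper14.ResLE

open Scheme.Modules Groth.Agent.Lib.Helper2

variable {X : Scheme.{u}} {U U' : X.Opens} (h : U' ≤ U)

/-- the morphism of short complexes given by `α` -/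
noncomputable def αS (S₀ : ShortComplex X.Modules) :
    (S₀.map (CohCmp.toAbOn X U)).map (CohPull.inv (jj h).base) ⟶ S₀.map (CohCmp.toAbOn X U') where
  τ₁ := α h S₀.X₁
  τ₂ := α h S₀.X₂
  τ₃ := α h S₀.X₃
  comm₁₂ := (α_naturality h S₀.f).symm
  comm₂₃ := (α_naturality h S₀.g).symm

/-- restriction of cohomology classes commutes with the connecting homomorphisms -/
theorem resLE_extδ (S₀ : ShortComplex X.Modules) (hA : (S₀.map (CohCmp.toAbOn X U)).ShortExact)
    (hA' : (S₀.map (CohCmp.toAbOn X U')).ShortExact) (p : ℕ) (x : Coh.HHon X S₀.X₃ U p) :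
    CohPull.resLE S₀.X₁ h (p + 1) (CohCmp.extδ hA p x) =
      CohCmp.extδ hA' p (CohPull.resLE S₀.X₃ h p x) := by
  rw [resLE_eq_edge, resLE_eq_edge]
  exact ExtEdge.edge_extClass (CohPull.inv (jj h).base) (CohPull.oneTo (jj h).base) hA hA'
    (αS h S₀) p x

end Groth.Agent.Lib.Helper14.ResLE
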