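import Groth.Agent.Lib.Helper14.ResLE2
import Groth.Agent.Lib.Helper14.ResLE0

/-!
# `CohPull.resLE` in degree zero: restriction of sections (helper14)
-/

set_option autoImplicit false
set_option linter.unusedSectionVars false
set_option backward.isDefEq.respectTransparency.types false

universe u

open CategoryTheory CategoryTheory.Limits Opposite AlgebraicGeometry TopologicalSpace Abelian

namespace Groth.Agent.Lib.Helper14.ResLE

open Scheme.Modules Groth.Agent.Lib.Helper2
open Groth.Agent.Lib.Helper28.QCohLoc

section Gen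

variable {X Y : Scheme.{u}} (M : Y.Modules) (f : X ⟶ Y) [IsOpenImmersion f]

lemma pbs_eq_restrict (O : Y.Opens) (y : Γ(M, O)) :
    pbs f M O y = ((restrictFunctorIsoPullback f).hom.app M).app (f ⁻¹ᵁ O)
      (res M (f.image_preimage_le O) y) := by
  have h := Adjunction.unit_leftAdjointUniq_hom_app (restrictAdjunction f)
    (pullbackPushforwardAdjunction f) M
  have h2 := congrArg (fun θ => (Scheme.Modules.Hom.app θ O) y) h
  exact h2.symm

/-- restriction in `M|_X` is restriction in `M` -/
lemma res_restrict {W W' : X.Opens} (hW : W' ≤ W) (z : Γ((restrictFunctor f).obj M, W)) :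
    res ((restrictFunctor f).obj M) hW z = res M (f.image_mono hW) z := rfl

lemma rFIP_hom_res (O : Y.Opens) (y : Γ(M, O)) (W : X.Opens) (hW : W ≤ f ⁻¹ᵁ O) :
    ((restrictFunctorIsoPullback f).hom.app M).app W
        (res M ((f.image_mono hW).trans (f.image_preimage_le O)) y :
          Γ((restrictFunctor f).obj M, W)) =
      res _ hW (pbs f M O y) := by
  rw [pbs_eq_restrict, ← app_res, res_restrict, res_res]

lemma rFIP_inv_res (O : Y.Opens) (y : Γ(M, O)) (W : X.Opens) (hW : W ≤ f ⁻¹ᵁ O) :
    ((restrictFunctorIsoPullback f).inv.app M).app W (res _ hW (pbs f M O y)) =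
      (res M ((f.image_mono hW).trans (f.image_preimage_le O)) y :
          Γ((restrictFunctor f).obj M, W)) := by
  rw [← rFIP_hom_res M f O y W hW]
  exact iso_inv_hom_app ((restrictFunctorIsoPullback f).app M) W _

end Gen

section Id

variable {X : Scheme.{u}} (F : X.Modules)

lemma pullbackId_hom_pbs (O : X.Opens) (y : Γ(F, O)) :
    ((pullbackId X).hom.app F).app O (pbs (𝟙 X) F O y) = y := by
  have h := unit_conjugateEquiv (Adjunction.id) (pullbackPushforwardAdjunction (𝟙 X))
    (pullbackId X).hom F
  rw [conjugateEquiv_pullbackId_hom] at h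
  have h2 := congrArg (fun θ => (Scheme.Modules.Hom.app θ O) y) h
  exact h2.symm

end Id

end Groth.Agent.Lib.Helper14.ResLE
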