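import Groth.Agent.Lib.Helper14.ResLE3

set_option autoImplicit false
set_option linter.unusedSectionVars false
set_option backward.isDefEq.respectTransparency.types false

universe u

open CategoryTheory CategoryTheory.Limits Opposite AlgebraicGeometry TopologicalSpace Abelian

namespace Groth.Agent.Lib.Helper14.ResLE

open Scheme.Modules Groth.Agent.Lib.Helper2
open Groth.Agent.Lib.Helper28.QCohLoc

variable {X : Scheme.{u}} {U U' : X.Opens} (h : U' ≤ U) (F : X.Modules)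

lemma jj_comp_ι : jj h ≫ U.ι = U'.ι ≫ 𝟙 X := Scheme.Hom.resLE_comp_ι (𝟙 X) (le' h)

lemma image_preimage_jj_le (O : U.toScheme.Opens) : U'.ι ''ᵁ ((jj h) ⁻¹ᵁ O) ≤ U.ι ''ᵁ O := by
  rintro _ ⟨x, hx, rfl⟩
  refine ⟨(jj h).base x, hx, ?_⟩
  have := congrArg (fun φ : U'.toScheme ⟶ X => φ.base x) (jj_comp_ι h)
  simpa using this

lemma κ_app_eq :
    (κ h).app F = (Scheme.Modules.pullback (jj h)).map ((restrictFunctorIsoPullback U.ι).hom.app F) ≫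
      (pullbackComp (jj h) U.ι).hom.app F ≫ (pullbackCongr (jj_comp_ι h)).hom.app F ≫
      (pullbackComp U'.ι (𝟙 X)).inv.app F ≫
      (restrictFunctorIsoPullback U'.ι).inv.app ((Scheme.Modules.pullback (𝟙 X)).obj F) ≫
      (restrictFunctor U'.ι).map ((pullbackId X).hom.app F) := by
  simp [κ]


lemma le_pre_img (O : U.toScheme.Opens) : O ≤ U.ι ⁻¹ᵁ (U.ι ''ᵁ O) :=
  le_of_eq (Scheme.Hom.preimage_image_eq _ _).symm

lemma step1 (O : U.toScheme.Opens) (y : Γ((restrictFunctor U.ι).obj F, O)) :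
    ((Scheme.Modules.pullback (jj h)).map ((restrictFunctorIsoPullback U.ι).hom.app F)).app ((jj h) ⁻¹ᵁ O)
      (pbs (jj h) ((restrictFunctor U.ι).obj F) O y) =
    res _ ((jj h).preimage_mono (le_pre_img O))
      (pbs (jj h) ((Scheme.Modules.pullback U.ι).obj F) (U.ι ⁻¹ᵁ (U.ι ''ᵁ O)) (pbs U.ι F (U.ι ''ᵁ O) y)) := by
  have h1 : ((restrictFunctorIsoPullback U.ι).hom.app F).app O y =
      res _ (le_pre_img O) (pbs U.ι F (U.ι ''ᵁ O) y) := by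
    have := rFIP_hom_res F U.ι (U.ι ''ᵁ O) y O (le_pre_img O)
    rw [← this]
    congr 1
    exact (res_self F y).symm
  rw [pbs_map, h1, pbs_res]


lemma le2 (O : U.toScheme.Opens) : (jj h) ⁻¹ᵁ O ≤ (jj h ≫ U.ι) ⁻¹ᵁ (U.ι ''ᵁ O) :=
  (jj h).preimage_mono (le_pre_img O)

lemma step2 (O : U.toScheme.Opens) (y : Γ(F, U.ι ''ᵁ O)) :
    ((pullbackComp (jj h) U.ι).hom.app F).app ((jj h) ⁻¹ᵁ O)
      (res _ ((jj h).preimage_mono (le_pre_img O))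
        (pbs (jj h) ((Scheme.Modules.pullback U.ι).obj F) (U.ι ⁻¹ᵁ (U.ι ''ᵁ O)) (pbs U.ι F (U.ι ''ᵁ O) y))) =
    res _ (le2 h O) (pbs (jj h ≫ U.ι) F (U.ι ''ᵁ O) y) := by
  rw [app_res]
  congr 1
  exact pullbackComp_hom_pbs (jj h) U.ι F (U.ι ''ᵁ O) y

lemma le3 (O : U.toScheme.Opens) : (jj h) ⁻¹ᵁ O ≤ (U'.ι ≫ 𝟙 X) ⁻¹ᵁ (U.ι ''ᵁ O) := by
  rw [← jj_comp_ι h]; exact le2 h O

lemma step3 (O : U.toScheme.Opens) (y : Γ(F, U.ι ''ᵁ O)) :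
    ((pullbackCongr (jj_comp_ι h)).hom.app F).app ((jj h) ⁻¹ᵁ O)
      (res _ (le2 h O) (pbs (jj h ≫ U.ι) F (U.ι ''ᵁ O) y)) =
    res _ (le3 h O) (pbs (U'.ι ≫ 𝟙 X) F (U.ι ''ᵁ O) y) := by
  rw [app_res]
  have := pullbackCongr_hom_pbs F (jj_comp_ι h) (U.ι ''ᵁ O) y
  refine (congrArg (res _ (le2 h O)) this).trans ?_
  rw [res_res]

lemma step4 (O : U.toScheme.Opens) (y : Γ(F, U.ι ''ᵁ O)) :
    ((pullbackComp U'.ι (𝟙 X)).inv.app F).app ((jj h) ⁻¹ᵁ O)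
      (res _ (le3 h O) (pbs (U'.ι ≫ 𝟙 X) F (U.ι ''ᵁ O) y)) =
    res _ (le3 h O) (pbs U'.ι ((Scheme.Modules.pullback (𝟙 X)).obj F) ((𝟙 X) ⁻¹ᵁ (U.ι ''ᵁ O))
      (pbs (𝟙 X) F (U.ι ''ᵁ O) y)) := by
  rw [app_res]
  congr 1
  exact pullbackComp_inv_pbs U'.ι (𝟙 X) F (U.ι ''ᵁ O) y

lemma step5 (O : U.toScheme.Opens) (y : Γ(F, U.ι ''ᵁ O)) :
    ((restrictFunctorIsoPullback U'.ι).inv.app ((Scheme.Modules.pullback (𝟙 X)).obj F)).app ((jj h) ⁻¹ᵁ O)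
      (res _ (le3 h O) (pbs U'.ι ((Scheme.Modules.pullback (𝟙 X)).obj F) ((𝟙 X) ⁻¹ᵁ (U.ι ''ᵁ O))
        (pbs (𝟙 X) F (U.ι ''ᵁ O) y))) =
    (res ((Scheme.Modules.pullback (𝟙 X)).obj F) (image_preimage_jj_le h O)
      (pbs (𝟙 X) F (U.ι ''ᵁ O) y) :
        Γ((restrictFunctor U'.ι).obj ((Scheme.Modules.pullback (𝟙 X)).obj F), (jj h) ⁻¹ᵁ O)) :=
  rFIP_inv_res ((Scheme.Modules.pullback (𝟙 X)).obj F) U'.ι ((𝟙 X) ⁻¹ᵁ (U.ι ''ᵁ O))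
    (pbs (𝟙 X) F (U.ι ''ᵁ O) y) ((jj h) ⁻¹ᵁ O) (le3 h O)

lemma step6 (O : U.toScheme.Opens) (y : Γ(F, U.ι ''ᵁ O)) :
    ((restrictFunctor U'.ι).map ((pullbackId X).hom.app F)).app ((jj h) ⁻¹ᵁ O)
      (res ((Scheme.Modules.pullback (𝟙 X)).obj F) (image_preimage_jj_le h O)
      (pbs (𝟙 X) F (U.ι ''ᵁ O) y) :
        Γ((restrictFunctor U'.ι).obj ((Scheme.Modules.pullback (𝟙 X)).obj F), (jj h) ⁻¹ᵁ O)) =
    (res F (image_preimage_jj_le h O) y : Γ((restrictFunctor U'.ι).obj F, (jj h) ⁻¹ᵁ O)) := by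
  have h1 : ((pullbackId X).hom.app F).app (U'.ι ''ᵁ ((jj h) ⁻¹ᵁ O))
      (res ((Scheme.Modules.pullback (𝟙 X)).obj F) (image_preimage_jj_le h O) (pbs (𝟙 X) F (U.ι ''ᵁ O) y)) =
      res F (image_preimage_jj_le h O) (((pullbackId X).hom.app F).app (U.ι ''ᵁ O) (pbs (𝟙 X) F (U.ι ''ᵁ O) y)) :=
    app_res ((pullbackId X).hom.app F) (image_preimage_jj_le h O) (pbs (𝟙 X) F (U.ι ''ᵁ O) y)
  rw [pullbackId_hom_pbs] at h1
  exact h1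


lemma κ_app_pbs (O : U.toScheme.Opens) (y : Γ((restrictFunctor U.ι).obj F, O)) :
    ((κ h).app F).app ((jj h) ⁻¹ᵁ O) (pbs (jj h) ((restrictFunctor U.ι).obj F) O y) =
      (res F (image_preimage_jj_le h O) y : Γ((restrictFunctor U'.ι).obj F, (jj h) ⁻¹ᵁ O)) := by
  rw [κ_app_eq]
  simp only [comp_app_apply]
  rw [step1]
  erw [step2 h F O y]
  erw [step3 h F O y]
  erw [step4 h F O y]
  erw [step5 h F O y]
  erw [step6 h F O y]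

end Groth.Agent.Lib.Helper14.ResLE
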