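import Groth.Agent.Lib.Helper14.ResLE4

set_option autoImplicit false
set_option linter.unusedSectionVars false
set_option backward.isDefEq.respectTransparency.types false

universe u

open CategoryTheory CategoryTheory.Limits Opposite AlgebraicGeometry TopologicalSpace Abelian

namespace Groth.Agent.Lib.Helper14.ResLE

open Scheme.Modules Groth.Agent.Lib.Helper2
open Groth.Agent.Lib.Helper28.QCohLoc

lemma equiv₀_mapH {Y : Scheme.{u}} {M N : Y.Modules} (φ : M ⟶ N) (z : Coh.HH Y M 0) :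
    Sheaf.H.equiv₀ (Coh.toAb N) isTerminalTop (CohPull.mapH φ 0 z) =
      φ.app ⊤ (Sheaf.H.equiv₀ (Coh.toAb M) isTerminalTop z) :=
  (Sheaf.H.equiv₀_naturality _ _ z).symm

variable {X : Scheme.{u}} {U U' : X.Opens} (h : U' ≤ U) (F : X.Modules)

lemma img_top_le (U : X.Opens) : U.ι ''ᵁ ⊤ ≤ U := le_of_eq U.ι_image_top

lemma equiv₀_sectH0 (U : X.Opens) (s : Γ(F, U)) :
    Sheaf.H.equiv₀ (Coh.toAb (F.restrict U.ι)) isTerminalTop (CohPull.sectH0 F U s) =
      (res F (img_top_le U) s : Γ((restrictFunctor U.ι).obj F, ⊤)) := by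
  unfold CohPull.sectH0
  simp only [AddEquiv.trans_apply, AddEquiv.apply_symm_apply]
  rfl

lemma equiv₀_pullMod' {Y Z : Scheme.{u}} (g : Y ⟶ Z) (M : Z.Modules) (z : Coh.HH Z M 0) :
    Sheaf.H.equiv₀ (Coh.toAb ((Scheme.Modules.pullback g).obj M)) isTerminalTop (CohPull.pullMod g M 0 z) =
      pbs g M ⊤ (Sheaf.H.equiv₀ (Coh.toAb M) isTerminalTop z) :=
  CohPull.equiv₀_pullMod g M z

/-- R3: in degree zero `resLE` is restriction of sections. -/
lemma resLE_sectH0 (s : Γ(F, U)) :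
    CohPull.resLE F h 0 (CohPull.sectH0 F U s) = CohPull.sectH0 F U' (res F h s) := by
  apply (Sheaf.H.equiv₀ (Coh.toAb (F.restrict U'.ι)) isTerminalTop).injective
  rw [equiv₀_sectH0, resLE_unfold, equiv₀_mapH, equiv₀_mapH, equiv₀_pullMod', equiv₀_sectH0]
  have hk := κ_app_pbs h F ⊤ (res F (img_top_le U) s)
  rw [κ_app] at hk
  refine Eq.trans hk ?_
  exact (res_res F _ _ s).trans (res_res F _ _ s).symm


/-- R4: `sectH0` is natural in the module. -/
lemma mapH_sectH0 {F G : X.Modules} (ψ : F ⟶ G) (U : X.Opens) (s : Γ(F, U)) :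
    CohPull.mapH ((restrictFunctor U.ι).map ψ) 0 (CohPull.sectH0 F U s) =
      CohPull.sectH0 G U (ψ.app U s) := by
  apply (Sheaf.H.equiv₀ (Coh.toAb (G.restrict U.ι)) isTerminalTop).injective
  rw [equiv₀_mapH, equiv₀_sectH0, equiv₀_sectH0]
  exact app_res ψ (img_top_le U) s

end Groth.Agent.Lib.Helper14.ResLE
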