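import Groth.Agent.Lib.Helper14.CechEdge1

universe u

set_option linter.unusedSectionVars false
set_option linter.unusedVariables false

open CategoryTheory Limits Opposite

namespace Groth.Agent.Lib.Helper14.RetrDelta

open Groth.Agent.Lib.Helper14.CechEdgeLib

variable {𝒜 : Type*} [Category 𝒜] [Abelian 𝒜] {𝒜' : Type*} [Category 𝒜'] [Abelian 𝒜']
  {ℬ : Type*} [Category ℬ] [Abelian ℬ]
  {T : DeltaF.CohDeltaFunctor 𝒜 ℬ ℕ} {T' : DeltaF.CohDeltaFunctor 𝒜' ℬ ℕ}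
  (Φ : 𝒜 ⥤ 𝒜') [Φ.Additive] [PreservesFiniteLimits Φ] [PreservesFiniteColimits Φ]
  (Ψ : 𝒜' ⥤ 𝒜) [Ψ.Additive] [PreservesFiniteLimits Ψ] [PreservesFiniteColimits Ψ]
  (κ : Φ ⋙ Ψ ≅ 𝟭 𝒜)

section App

variable (τ : T ⟶ precomp Φ T')

/-- components of a morphism into a precomposed delta-functor, with clean types -/
def cApp (q : ℕ) (G : 𝒜) : (T.F q).obj G ⟶ (T'.F q).obj (Φ.obj G) := (τ.app q).app G

lemma cApp_naturality (q : ℕ) {G G' : 𝒜} (g : G ⟶ G') :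
    (T.F q).map g ≫ cApp Φ τ q G' = cApp Φ τ q G ≫ (T'.F q).map (Φ.map g) :=
  (τ.app q).naturality g

lemma cApp_comm (S : ShortComplex 𝒜) (hS : S.ShortExact) (n₀ n₁ : ℕ) (h : n₀ + 1 = n₁) :
    T.δ S hS n₀ n₁ h ≫ cApp Φ τ n₁ S.X₁ =
      cApp Φ τ n₀ S.X₃ ≫ T'.δ (S.map Φ) (hS.map_of_exact Φ) n₀ n₁ h :=
  τ.comm S hS n₀ n₁ h

end App

/-- the morphism of short complexes `Ψ Φ S ⟶ S` given by `κ` -/
def kapS (S : ShortComplex 𝒜) : (S.map Φ).map Ψ ⟶ S :=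
  ShortComplex.homMk (κ.hom.app S.X₁) (κ.hom.app S.X₂) (κ.hom.app S.X₃)
    (κ.hom.naturality S.f).symm (κ.hom.naturality S.g).symm

lemma square_paste {A₀ A₁ B₀ B₁ C₀ C₁ : ℬ} (d : A₀ ⟶ A₁) (d' : B₀ ⟶ B₁) (d'' : C₀ ⟶ C₁)
    (a₀ : A₀ ⟶ B₀) (a₁ : A₁ ⟶ B₁) (b₀ : B₀ ⟶ C₀) (b₁ : B₁ ⟶ C₁) (k₀ : C₀ ⟶ A₀) (k₁ : C₁ ⟶ A₁)
    (c1 : d ≫ a₁ = a₀ ≫ d') (c2 : d' ≫ b₁ = b₀ ≫ d'') (c3 : k₀ ≫ d = d'' ≫ k₁) :
    d ≫ a₁ ≫ b₁ ≫ k₁ = (a₀ ≫ b₀ ≫ k₀) ≫ d := by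
  rw [reassoc_of% c1, reassoc_of% c2, ← c3]
  simp only [Category.assoc]

variable (τ : T ⟶ precomp Φ T') (τ' : T' ⟶ precomp Ψ T)

/-- the round trip endomorphism of `T` -/
def roundTrip : T ⟶ T where
  app q :=
    { app := fun G => cApp Φ τ q G ≫ cApp Ψ τ' q (Φ.obj G) ≫ (T.F q).map (κ.hom.app G)
      naturality := fun G G' g => by
        have h3 : (T.F q).map (Ψ.map (Φ.map g)) ≫ (T.F q).map (κ.hom.app G') =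
            (T.F q).map (κ.hom.app G) ≫ (T.F q).map g := by
          rw [← Functor.map_comp, ← Functor.map_comp]
          exact congrArg _ (κ.hom.naturality g)
        rw [reassoc_of% (cApp_naturality Φ τ q g), reassoc_of% (cApp_naturality Ψ τ' q (Φ.map g)), h3]
        simp only [Category.assoc] }
  comm S hS n₀ n₁ h := by
    have c3 := T.δ_natural ((hS.map_of_exact Φ).map_of_exact Ψ) hS (kapS Φ Ψ κ S) n₀ n₁ h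
    have c2 := cApp_comm Ψ τ' (S.map Φ) (hS.map_of_exact Φ) n₀ n₁ h
    exact square_paste (T.δ S hS n₀ n₁ h) (T'.δ (S.map Φ) (hS.map_of_exact Φ) n₀ n₁ h)
      (T.δ ((S.map Φ).map Ψ) ((hS.map_of_exact Φ).map_of_exact Ψ) n₀ n₁ h)
      (cApp Φ τ n₀ S.X₃) (cApp Φ τ n₁ S.X₁) (cApp Ψ τ' n₀ (Φ.obj S.X₃)) (cApp Ψ τ' n₁ (Φ.obj S.X₁))
      ((T.F n₀).map (κ.hom.app S.X₃)) ((T.F n₁).map (κ.hom.app S.X₁))
      (cApp_comm Φ τ S hS n₀ n₁ h) c2 c3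

lemma roundTrip_app (q : ℕ) (G : 𝒜) :
    ((roundTrip Φ Ψ κ τ τ').app q).app G =
      cApp Φ τ q G ≫ cApp Ψ τ' q (Φ.obj G) ≫ (T.F q).map (κ.hom.app G) := rfl

/-- the abstract retraction lemma -/
theorem exists_retraction (hT : T.IsUniversal) (hT' : T'.IsUniversal)
    (t : T.F 0 ⟶ Φ ⋙ T'.F 0) (t' : T'.F 0 ⟶ Ψ ⋙ T.F 0)
    (h0 : ∀ G : 𝒜, t.app G ≫ t'.app (Φ.obj G) ≫ (T.F 0).map (κ.hom.app G) = 𝟙 _)
    (q : ℕ) (G : 𝒜) :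
    ∃ (i : (T.F q).obj G ⟶ (T'.F q).obj (Φ.obj G)) (r : (T'.F q).obj (Φ.obj G) ⟶ (T.F q).obj G),
      i ≫ r = 𝟙 _ := by
  obtain ⟨τ, hτ, -⟩ := hT (precomp Φ T') t
  obtain ⟨τ', hτ', -⟩ := hT' (precomp Ψ T) t'
  have hθ : roundTrip Φ Ψ κ τ τ' = 𝟙 T := by
    refine (hT T (𝟙 (T.F 0))).unique ?_ rfl
    ext G : 2
    rw [roundTrip_app]
    have e1 : cApp Φ τ 0 G = t.app G := congrArg (fun z => z.app G) hτ
    have e2 : cApp Ψ τ' 0 (Φ.obj G) = t'.app (Φ.obj G) := congrArg (fun z => z.app (Φ.obj G)) hτ'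
    rw [e1, e2]
    exact h0 G
  refine ⟨cApp Φ τ q G, cApp Ψ τ' q (Φ.obj G) ≫ (T.F q).map (κ.hom.app G), ?_⟩
  have := congrArg (fun z : T ⟶ T => (z.app q).app G) hθ
  exact this

end Groth.Agent.Lib.Helper14.RetrDelta
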