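import Groth.Agent.Lib.Helper14.AltKer

/-!
# Half-discriminant over a field: nonvanishing iff nondegenerate (matrix form) (helper14)
-/

namespace Groth.Agent.Lib.Helper14.AltKer

open Matrix QuadGrp Groth.Agent.Lib.Helper26.HalfDisc

section MatField

variable {K : Type*} [Field K] {n : ℕ}

/-- the quadratic form `x ↦ xᵀ U x` -/
def qmat (a : Sym2 (Fin n) → K) (x : Fin n → K) : K :=
  ∑ p : Fin n × Fin n, x p.1 * triMat a p.1 p.2 * x p.2

lemma qmat_smul (a : Sym2 (Fin n) → K) (c : K) (x : Fin n → K) :
    qmat a (c • x) = c * c * qmat a x := by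
  unfold qmat
  rw [Finset.mul_sum]
  refine Finset.sum_congr rfl (fun p _ => ?_)
  simp only [Pi.smul_apply, smul_eq_mul]
  ring

lemma adj_symm (a : Sym2 (Fin n) → K) (i j : Fin n) :
    (polMat a).adjugate i j = (polMat a).adjugate j i := by
  have := congrFun (congrFun (Matrix.adjugate_transpose (polMat a)) j) i
  rw [polMat_transpose, Matrix.transpose_apply] at this
  exact this

lemma vecMul_of_mulVec (a : Sym2 (Fin n) → K) (x : Fin n → K) (h : polMat a *ᵥ x = 0) :
    x ᵥ* polMat a = 0 := by
  rw [← polMat_transpose, Matrix.vecMul_transpose]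
  exact h

lemma mulVec_of_vecMul (a : Sym2 (Fin n) → K) (x : Fin n → K) (h : x ᵥ* polMat a = 0) :
    polMat a *ᵥ x = 0 := by
  rw [← polMat_transpose, Matrix.mulVec_transpose]
  exact h

/-- rows of the adjugate are kernel vectors when `det = 0` -/
lemma adj_row_vecMul (a : Sym2 (Fin n) → K) (hdet : (polMat a).det = 0) (m : Fin n) :
    (fun i => (polMat a).adjugate m i) ᵥ* polMat a = 0 := by
  have h := Matrix.adjugate_mul (polMat a)
  rw [hdet, zero_smul] at h
  funext c
  have := congrFun (congrFun h m) c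
  simpa [Matrix.mul_apply, Matrix.vecMul, dotProduct] using this

/-- rank one relation for the adjugate when `det = 0` -/
lemma adj_rank_one (a : Sym2 (Fin n) → K) (hdet : (polMat a).det = 0) (j i m : Fin n) :
    (polMat a).adjugate j i * (polMat a).adjugate m m =
      (polMat a).adjugate m j * (polMat a).adjugate m i := by
  have := vecMul_eq_zero_adjugate (polMat a) _ (adj_row_vecMul a hdet j) i m m
  rw [this, adj_symm a j m]

/-- key identity -/
lemma qmat_adj_row (a : Sym2 (Fin n) → K) (hdet : (polMat a).det = 0) (m : Fin n) :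
    qmat a (fun i => (polMat a).adjugate m i) = (polMat a).adjugate m m * trUC a := by
  unfold qmat trUC
  rw [Finset.mul_sum]
  refine Finset.sum_congr rfl (fun p _ => ?_)
  have := adj_rank_one a hdet p.2 p.1 m
  linear_combination (-(triMat a p.1 p.2)) * this

lemma natCast_odd_of_two_eq_zero (h2 : (2 : K) = 0) (hn : Odd n) : (n : K) = 1 := by
  obtain ⟨q, rfl⟩ := hn
  push_cast
  rw [h2, zero_mul, zero_add]

lemma trUC_eq_hd (h2 : (2 : K) = 0) (hn : Odd n) (a : Sym2 (Fin n) → K) :
    trUC a = MvPolynomial.eval₂ (Int.castRingHom K) a (halfDiscUniv n) := by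
  rw [trUC_general hn, natCast_odd_of_two_eq_zero h2 hn, one_mul]

lemma det_polMat_eq_zero (h2 : (2 : K) = 0) (hn : Odd n) (a : Sym2 (Fin n) → K) :
    (polMat a).det = 0 := by
  rw [← two_mul_eval_halfDiscUniv hn, h2, zero_mul]

/-- (M1) -/
theorem nondeg_of_hd_ne_zero (h2 : (2 : K) = 0) (hn : Odd n) (a : Sym2 (Fin n) → K)
    (hd : MvPolynomial.eval₂ (Int.castRingHom K) a (halfDiscUniv n) ≠ 0) :
    ∃ x₀ : Fin n → K, (∀ x, polMat a *ᵥ x = 0 → ∃ c : K, x = c • x₀) ∧
      (∀ x, polMat a *ᵥ x = 0 → qmat a x = 0 → x = 0) := by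
  have hdet := det_polMat_eq_zero h2 hn a
  have htr : trUC a ≠ 0 := by rw [trUC_eq_hd h2 hn]; exact hd
  set C := (polMat a).adjugate with hC
  have hm : ∃ m, C m m ≠ 0 := by
    by_contra hcon
    push Not at hcon
    apply htr
    unfold trUC
    apply Finset.sum_eq_zero
    intro p _
    have h1 := adj_rank_one a hdet p.2 p.2 p.1
    rw [← hC, hcon p.1, mul_zero] at h1
    have h3 : C p.1 p.2 = 0 := by
      have : C p.1 p.2 * C p.1 p.2 = 0 := h1.symm
      exact mul_self_eq_zero.mp this
    rw [adj_symm a p.2 p.1, ← hC, h3, mul_zero]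
  obtain ⟨m, hm⟩ := hm
  have hspan : ∀ x, polMat a *ᵥ x = 0 → x = (x m / C m m) • (fun i => C m i) := by
    intro x hx
    funext i
    have := vecMul_eq_zero_adjugate (polMat a) x (vecMul_of_mulVec a x hx) i m m
    rw [← hC] at this
    simp only [Pi.smul_apply, smul_eq_mul]
    field_simp
    linear_combination this
  refine ⟨fun i => C m i, fun x hx => ⟨_, hspan x hx⟩, ?_⟩
  intro x hx hq
  have hx' := hspan x hx
  rw [hx', qmat_smul, qmat_adj_row a hdet m] at hq
  have h0 : x m / C m m = 0 := by
    rcases mul_eq_zero.mp hq with h | h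
    · exact mul_self_eq_zero.mp h
    · rcases mul_eq_zero.mp h with h | h
      · exact absurd h hm
      · exact absurd h htr
  rw [hx', h0, zero_smul]

/-- (M2) -/
theorem hd_ne_zero_of_nondeg {k : ℕ} (h2 : (2 : K) = 0) (hn : Odd (k + 1))
    (a : Sym2 (Fin (k + 1)) → K) (x₀ : Fin (k + 1) → K)
    (hspan : ∀ x, polMat a *ᵥ x = 0 → ∃ c : K, x = c • x₀)
    (hrad : ∀ x, polMat a *ᵥ x = 0 → qmat a x = 0 → x = 0) :
    MvPolynomial.eval₂ (Int.castRingHom K) a (halfDiscUniv (k + 1)) ≠ 0 := by
  intro hd0
  have hdet := det_polMat_eq_zero h2 hn a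
  have htr : trUC a = 0 := by rw [trUC_eq_hd h2 hn]; exact hd0
  obtain ⟨x, hx0, hx⟩ := (Matrix.exists_mulVec_eq_zero_iff (M := polMat a)).mpr hdet
  obtain ⟨i, hi⟩ : ∃ i, x i ≠ 0 := by
    by_contra hcon
    push Not at hcon
    exact hx0 (funext hcon)
  set C := (polMat a).adjugate with hC
  -- every adjugate row is zero
  have hrow : ∀ m, (fun j => C m j) = 0 := by
    intro m
    apply hrad _ (mulVec_of_vecMul a _ (adj_row_vecMul a hdet m))
    rw [qmat_adj_row a hdet m, htr, mul_zero]
  have hCii : C i i = 0 := congrFun (hrow i) i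
  rw [hC, Matrix.adjugate_fin_succ_eq_det_submatrix, ← two_mul, Even.neg_one_pow (even_two_mul _),
    one_mul] at hCii
  obtain ⟨y, hy0, hy⟩ := (Matrix.exists_mulVec_eq_zero_iff
    (M := (polMat a).submatrix i.succAbove i.succAbove)).mpr hCii
  -- extend by zero
  set yt : Fin (k + 1) → K := Fin.insertNth i (0 : K) y with hyt
  have hyti : yt i = 0 := by rw [hyt, Fin.insertNth_apply_same]
  have hyts : ∀ l, yt (i.succAbove l) = y l := by
    intro l; rw [hyt, Fin.insertNth_apply_succAbove]
  have h1 : ∀ l, (polMat a *ᵥ yt) (i.succAbove l) = 0 := by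
    intro l
    have := congrFun hy l
    rw [Matrix.mulVec, dotProduct] at this ⊢
    rw [Fin.sum_univ_succAbove _ i, hyti, mul_zero, zero_add]
    simpa [hyts] using this
  have h2' : (polMat a *ᵥ yt) i = 0 := by
    have hdot : x ⬝ᵥ (polMat a *ᵥ yt) = 0 := by
      rw [Matrix.dotProduct_mulVec, vecMul_of_mulVec a x hx, zero_dotProduct]
    rw [dotProduct, Fin.sum_univ_succAbove _ i] at hdot
    simp only [h1, mul_zero, Finset.sum_const_zero, add_zero] at hdot
    exact (mul_eq_zero.mp hdot).resolve_left hi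
  have hyt0 : polMat a *ᵥ yt = 0 := by
    funext c
    rcases Fin.eq_self_or_eq_succAbove i c with h | ⟨l, h⟩
    · rw [h]; exact h2'
    · rw [h]; exact h1 l
  obtain ⟨c1, hc1⟩ := hspan x hx
  obtain ⟨c2, hc2⟩ := hspan yt hyt0
  have hx0i : x₀ i ≠ 0 := by
    intro h
    apply hi
    rw [hc1, Pi.smul_apply, h, smul_zero]
  have hc20 : c2 = 0 := by
    have := congrFun hc2 i
    rw [hyti, Pi.smul_apply, smul_eq_mul] at this
    exact (mul_eq_zero.mp this.symm).resolve_right hx0i
  apply hy0
  funext l
  rw [← hyts l, hc2, hc20, zero_smul]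
  rfl

end MatField

section FieldForm

variable {K : Type*} [Field K] {V : Type*} [AddCommGroup V] [Module K V] {n : ℕ}
  (c : Module.Basis (Fin n) K V) (q : QuadraticForm K V)

local notation "aa" => QuadGrp.coeffs c (LinearEquiv.refl K K) q

lemma polMat_coeffs_gen (i j : Fin n) :
    polMat (QuadGrp.coeffs c (LinearEquiv.refl K K) q) i j = QuadraticMap.polar q (c i) (c j) := by
  simp only [polMat, Matrix.of_apply, QuadGrp.coeffs_mk, LinearEquiv.refl_apply]
  by_cases h : i = j
  · subst h
    rw [if_pos rfl, if_pos rfl, QuadraticMap.polar_self]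
    simp
  · rw [if_neg h, if_neg h]

lemma polMat_eq_toMatrix :
    polMat (QuadGrp.coeffs c (LinearEquiv.refl K K) q) =
      LinearMap.BilinForm.toMatrix c (QuadraticMap.polarBilin q) := by
  ext i j
  rw [polMat_coeffs_gen, LinearMap.BilinForm.toMatrix_apply, QuadraticMap.polarBilin_apply_apply]

lemma qmat_eq_dot (a : Sym2 (Fin n) → K) (x : Fin n → K) :
    qmat a x = x ⬝ᵥ (triMat a *ᵥ x) := by
  unfold qmat
  rw [Fintype.sum_prod_type, dotProduct]
  refine Finset.sum_congr rfl (fun i _ => ?_)
  rw [Matrix.mulVec, dotProduct, Finset.mul_sum]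
  refine Finset.sum_congr rfl (fun j _ => ?_)
  ring

lemma q_eq_qmat (v : V) :
    q v = qmat (QuadGrp.coeffs c (LinearEquiv.refl K K) q) (c.equivFun v) := by
  rw [qmat_eq_dot, triMat_coeffs]
  have h1 : q v = (q.toBilin c) v v := by
    conv_lhs => rw [← QuadraticMap.toQuadraticMap_toBilin q c]
    rfl
  rw [h1, LinearMap.BilinForm.apply_eq_dotProduct_toMatrix_mulVec c]
  rfl

lemma polar_eq_dot (v w : V) :
    QuadraticMap.polar q v w =
      (c.equivFun v) ⬝ᵥ (polMat (QuadGrp.coeffs c (LinearEquiv.refl K K) q) *ᵥ (c.equivFun w)) := by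
  rw [polMat_eq_toMatrix, ← QuadraticMap.polarBilin_apply_apply,
    LinearMap.BilinForm.apply_eq_dotProduct_toMatrix_mulVec c]
  rfl

lemma mem_ker_polar_iff (v : V) :
    v ∈ LinearMap.ker (QuadraticMap.polarBilin q) ↔
      polMat (QuadGrp.coeffs c (LinearEquiv.refl K K) q) *ᵥ (c.equivFun v) = 0 := by
  rw [LinearMap.mem_ker]
  constructor
  · intro h
    apply mulVec_of_vecMul
    funext j
    have := LinearMap.congr_fun h (c j)
    rw [QuadraticMap.polarBilin_apply_apply, polar_eq_dot c q, LinearMap.zero_apply] at this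
    have e : c.equivFun (c j) = Pi.single j 1 := by
      funext l
      rw [Module.Basis.equivFun_self, Pi.single_apply]
      simp [eq_comm]
    rw [e, Matrix.mulVec_single_one] at this
    rw [Pi.zero_apply, Matrix.vecMul, ← this]
    rfl
  · intro h
    ext w
    rw [QuadraticMap.polarBilin_apply_apply, polar_eq_dot c q, Matrix.dotProduct_mulVec,
      vecMul_of_mulVec _ _ h, zero_dotProduct, LinearMap.zero_apply]

/-- Over a field, odd rank: the half-discriminant is nonzero iff the form is nondegenerate. -/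
theorem halfDisc_ne_zero_iff_nondegenerate {k : ℕ} (hn : Odd (k + 1))
    (c : Module.Basis (Fin (k + 1)) K V) (q : QuadraticForm K V) :
    QuadGrp.halfDisc c (LinearEquiv.refl K K) q ≠ 0 ↔ q.Nondegenerate := by
  set a := QuadGrp.coeffs c (LinearEquiv.refl K K) q with ha
  have hhd : QuadGrp.halfDisc c (LinearEquiv.refl K K) q =
      MvPolynomial.eval₂ (Int.castRingHom K) a (halfDiscUniv (k + 1)) := rfl
  by_cases h2 : (2 : K) = 0
  · -- characteristic two
    constructor
    · intro hd
      rw [hhd] at hd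
      obtain ⟨x₀, hspan, hrad⟩ := nondeg_of_hd_ne_zero h2 hn a hd
      refine ⟨?_, ?_⟩
      · rw [eq_bot_iff]
        intro v hv
        have hv1 : q v = 0 := hv.1
        have hv2 : v ∈ LinearMap.ker (QuadraticMap.polarBilin q) := hv.2
        rw [mem_ker_polar_iff c q] at hv2
        rw [q_eq_qmat c q] at hv1
        have := hrad _ hv2 hv1
        rw [Submodule.mem_bot]
        exact c.equivFun.map_eq_zero_iff.mp this
      · rw [rank_submodule_le_one_iff']
        refine ⟨c.equivFun.symm x₀, ?_⟩
        intro v hv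
        rw [mem_ker_polar_iff c q] at hv
        obtain ⟨t, ht⟩ := hspan _ hv
        rw [Submodule.mem_span_singleton]
        refine ⟨t, ?_⟩
        apply c.equivFun.injective
        rw [map_smul, LinearEquiv.apply_symm_apply, ht]
    · intro hq
      obtain ⟨v₀, hv₀⟩ := (rank_submodule_le_one_iff' _).mp hq.rank_rad_polar_le
      rw [hhd]
      apply hd_ne_zero_of_nondeg h2 hn a (c.equivFun v₀)
      · intro x hx
        have hmem : c.equivFun.symm x ∈ LinearMap.ker (QuadraticMap.polarBilin q) := by
          rw [mem_ker_polar_iff c q, LinearEquiv.apply_symm_apply]; exact hx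
        obtain ⟨t, ht⟩ := Submodule.mem_span_singleton.mp (hv₀ hmem)
        refine ⟨t, ?_⟩
        rw [← map_smul, ht, LinearEquiv.apply_symm_apply]
      · intro x hx hqx
        have hmem : c.equivFun.symm x ∈ q.radical := by
          refine ⟨?_, ?_⟩
          · rw [q_eq_qmat c q, LinearEquiv.apply_symm_apply]; exact hqx
          · have : c.equivFun.symm x ∈ LinearMap.ker (QuadraticMap.polarBilin q) := by
              rw [mem_ker_polar_iff c q, LinearEquiv.apply_symm_apply]; exact hx
            exact this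
        rw [hq.radical_eq_bot, Submodule.mem_bot] at hmem
        have := congrArg c.equivFun hmem
        rw [LinearEquiv.apply_symm_apply, map_zero] at this
        exact this
  · -- characteristic not two
    have : Invertible (2 : K) := invertibleOfNonzero h2
    have h1 : q.Nondegenerate ↔ LinearMap.Nondegenerate (QuadraticMap.polarBilin q) :=
      (QuadraticMap.nondegenerate_polar_iff (Q := q)).symm
    have h3 : LinearMap.Nondegenerate (QuadraticMap.polarBilin q) ↔
        (LinearMap.BilinForm.toMatrix c (QuadraticMap.polarBilin q)).det ≠ 0 :=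
      LinearMap.BilinForm.nondegenerate_iff_det_ne_zero (B := QuadraticMap.polarBilin q) c
    rw [h1, h3, ← polMat_eq_toMatrix, hhd, ← two_mul_eval_halfDiscUniv hn]
    constructor
    · intro h; exact mul_ne_zero h2 h
    · intro h h0; apply h; rw [h0, mul_zero]

end FieldForm

end Groth.Agent.Lib.Helper14.AltKer
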