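import Mathlib.FieldTheory.IsSepClosed
import Mathlib.FieldTheory.Separable
import Mathlib.RingTheory.IntegralClosure.IntegrallyClosed
import Mathlib.RingTheory.Henselian
import Mathlib.RingTheory.Ideal.GoingUp
import Mathlib.FieldTheory.IsAlgClosed.AlgebraicClosure

/-!
# Normal domains with separably closed fraction field (helper14)

`exists_eq_of_simple_root`: a simple root (in any extension field) of a monic polynomial over an
integrally closed domain `B` with separably closed fraction field lies in `B`.
-/

set_option linter.unusedSectionVars false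

namespace Groth.Agent.Lib.Helper14

open Polynomial

theorem exists_eq_of_separable_minpoly {B K L : Type*} [CommRing B] [IsDomain B]
    [IsIntegrallyClosed B]
    [Field K] [Algebra B K] [IsFractionRing B K] [IsSepClosed K]
    [Field L] [Algebra K L] [Algebra B L] [IsScalarTower B K L]
    (α : L) (hint : IsIntegral B α) (hsep : (minpoly K α).Separable) :
    ∃ b : B, algebraMap B L b = α := by
  have hintK : IsIntegral K α := hint.tower_top
  have hdeg : (minpoly K α).degree = 1 :=
    IsSepClosed.degree_eq_one_of_irreducible K (minpoly.irreducible hintK) hsep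
  obtain ⟨a, ha⟩ := minpoly.mem_range_of_degree_eq_one K α hdeg
  have hinta : IsIntegral B a := by
    rw [← isIntegral_algebraMap_iff (algebraMap K L).injective (R := B), ha]
    exact hint
  obtain ⟨b, hb⟩ := IsIntegrallyClosed.isIntegral_iff.mp hinta
  exact ⟨b, by rw [IsScalarTower.algebraMap_apply B K L, hb, ha]⟩

theorem exists_eq_of_simple_root {B K L : Type*} [CommRing B] [IsDomain B] [IsIntegrallyClosed B]
    [Field K] [Algebra B K] [IsFractionRing B K] [IsSepClosed K]
    [Field L] [Algebra K L] [Algebra B L] [IsScalarTower B K L]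
    (f : B[X]) (hf : f.Monic) (α : L) (hα : aeval α f = 0) (hα' : aeval α (derivative f) ≠ 0) :
    ∃ b : B, algebraMap B L b = α := by
  have hint : IsIntegral B α := ⟨f, hf, by rwa [← aeval_def]⟩
  have hintK : IsIntegral K α := hint.tower_top
  have hdvd : minpoly K α ∣ f.map (algebraMap B K) :=
    minpoly.dvd K α (by rw [aeval_map_algebraMap]; exact hα)
  obtain ⟨h, hh⟩ := hdvd
  have hder : aeval α (derivative (minpoly K α)) ≠ 0 := by
    intro h0
    apply hα'
    have h1 : aeval α (derivative (f.map (algebraMap B K))) = aeval α (derivative f) := by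
      rw [derivative_map, aeval_map_algebraMap]
    rw [← h1, hh, derivative_mul, map_add, map_mul, map_mul, h0, minpoly.aeval, zero_mul,
      zero_mul, add_zero]
  have hne : derivative (minpoly K α) ≠ 0 := by
    intro h0
    apply hder
    rw [h0, map_zero]
  have hsep : (minpoly K α).Separable :=
    (separable_iff_derivative_ne_zero (minpoly.irreducible hintK)).mpr hne
  exact exists_eq_of_separable_minpoly α hint hsep

end Groth.Agent.Lib.Helper14

namespace Groth.Agent.Lib.Helper14

open Polynomial IsLocalRing

section

variable {B : Type*} [CommRing B] [IsDomain B] [IsLocalRing B] [IsIntegrallyClosed B]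
  (K : Type*) [Field K] [Algebra B K] [IsFractionRing B K] [IsSepClosed K]

lemma algebraMap_injective_algClosure :
    Function.Injective (algebraMap B (AlgebraicClosure K)) := by
  rw [IsScalarTower.algebraMap_eq B K (AlgebraicClosure K)]
  exact (algebraMap K (AlgebraicClosure K)).injective.comp (IsFractionRing.injective B K)

lemma algebraMap_injective_intClosure :
    Function.Injective (algebraMap B (integralClosure B (AlgebraicClosure K))) := by
  intro x y hxy
  apply algebraMap_injective_algClosure K
  have := congrArg (algebraMap (integralClosure B (AlgebraicClosure K)) (AlgebraicClosure K)) hxy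
  rwa [← IsScalarTower.algebraMap_apply, ← IsScalarTower.algebraMap_apply] at this

lemma exists_maximal_over :
    ∃ Q : Ideal (integralClosure B (AlgebraicClosure K)), Q.IsMaximal ∧
      Q.comap (algebraMap B (integralClosure B (AlgebraicClosure K))) = maximalIdeal B := by
  apply Ideal.exists_ideal_over_maximal_of_isIntegral
  rw [(RingHom.injective_iff_ker_eq_bot _).mp (algebraMap_injective_intClosure K)]
  exact bot_le

/-- a root in the integral closure of a monic polynomial over `B` whose derivative does not
vanish there comes from `B`. -/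
lemma exists_eq_of_simple_root_intClosure (f : B[X]) (hf : f.Monic)
    (γ : integralClosure B (AlgebraicClosure K))
    (h0 : f.eval₂ (algebraMap B (integralClosure B (AlgebraicClosure K))) γ = 0)
    (h1 : (derivative f).eval₂ (algebraMap B (integralClosure B (AlgebraicClosure K))) γ ≠ 0) :
    ∃ b : B, algebraMap B (integralClosure B (AlgebraicClosure K)) b = γ ∧ f.eval b = 0 := by
  have key : ∀ g : B[X], aeval (γ : AlgebraicClosure K) g =
      ((g.eval₂ (algebraMap B (integralClosure B (AlgebraicClosure K))) γ :
        integralClosure B (AlgebraicClosure K)) : AlgebraicClosure K) := by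
    intro g
    have := Polynomial.hom_eval₂ g (algebraMap B (integralClosure B (AlgebraicClosure K)))
      (algebraMap (integralClosure B (AlgebraicClosure K)) (AlgebraicClosure K)) γ
    rw [aeval_def, IsScalarTower.algebraMap_eq B (integralClosure B (AlgebraicClosure K))
      (AlgebraicClosure K)]
    exact this.symm
  obtain ⟨b, hb⟩ := exists_eq_of_simple_root (K := K) f hf (γ : AlgebraicClosure K)
    (by rw [key, h0]; rfl)
    (by rw [key]; intro h; apply h1; exact Subtype.ext h)
  have hbγ : algebraMap B (integralClosure B (AlgebraicClosure K)) b = γ := by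
    apply Subtype.ext
    rw [← hb]
    rfl
  refine ⟨b, hbγ, ?_⟩
  apply algebraMap_injective_intClosure K
  rw [map_zero, ← h0, ← hbγ, Polynomial.eval₂_at_apply]

end

end Groth.Agent.Lib.Helper14

namespace Groth.Agent.Lib.Helper14

open Polynomial IsLocalRing

section

variable {B : Type*} [CommRing B] [IsDomain B] [IsLocalRing B] [IsIntegrallyClosed B]
  (K : Type*) [Field K] [Algebra B K] [IsFractionRing B K] [IsSepClosed K]

/-- every root in `L` of a monic polynomial over `B` lies in the integral closure; so the
polynomial splits over the integral closure. -/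
lemma splits_map_intClosure (f : B[X]) (hf : f.Monic) :
    (f.map (algebraMap B (integralClosure B (AlgebraicClosure K)))).Splits := by
  apply Polynomial.Splits.of_splits_map_of_injective
    (i := algebraMap (integralClosure B (AlgebraicClosure K)) (AlgebraicClosure K))
    Subtype.val_injective (IsAlgClosed.splits _)
  intro a ha
  rw [Polynomial.map_map, ← IsScalarTower.algebraMap_eq] at ha
  have hne : f.map (algebraMap B (AlgebraicClosure K)) ≠ 0 := (hf.map _).ne_zero
  rw [Polynomial.mem_roots hne, Polynomial.IsRoot, Polynomial.eval_map] at ha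
  exact ⟨⟨a, f, hf, ha⟩, rfl⟩

include K in
theorem henselianLocalRing_of_isSepClosed_fractionRing : HenselianLocalRing B := by
  obtain ⟨Q, hQmax, hQ⟩ := exists_maximal_over (B := B) K
  have hQprime : Q.IsPrime := hQmax.isPrime
  have hmem : ∀ x : B, algebraMap B (integralClosure B (AlgebraicClosure K)) x ∈ Q ↔
      x ∈ maximalIdeal B := by
    intro x
    rw [← hQ, Ideal.mem_comap]
  refine ⟨?_⟩
  intro f hf a₀ h₁ h₂
  set φ := algebraMap B (integralClosure B (AlgebraicClosure K)) with hφ
  have hs := splits_map_intClosure K f hf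
  have hev := hs.eval_eq_prod_roots_of_monic (hf.map φ) (φ a₀)
  rw [Polynomial.eval_map, Polynomial.eval₂_at_apply] at hev
  have hin : ((f.map φ).roots.map (φ a₀ - ·)).prod ∈ Q := by
    rw [← hev, hmem]
    exact h₁
  obtain ⟨y, hy, hyQ⟩ := (hQprime.multiset_prod_mem_iff_exists_mem _).mp hin
  obtain ⟨γ, hγ, rfl⟩ := Multiset.mem_map.mp hy
  have hroot : f.eval₂ φ γ = 0 := by
    have hne : f.map φ ≠ 0 := (hf.map _).ne_zero
    rw [Polynomial.mem_roots hne, Polynomial.IsRoot, Polynomial.eval_map] at hγ
    exact hγ
  have hder : (derivative f).eval₂ φ γ ≠ 0 := by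
    intro h0
    have hdvd := Polynomial.sub_dvd_eval_sub (φ a₀) γ ((derivative f).map φ)
    rw [Polynomial.eval_map, Polynomial.eval_map, h0, sub_zero, Polynomial.eval₂_at_apply] at hdvd
    have : φ ((derivative f).eval a₀) ∈ Q := Ideal.mem_of_dvd Q hdvd hyQ
    rw [hmem] at this
    exact (IsLocalRing.mem_maximalIdeal _).mp this h₂
  obtain ⟨b, hb, hfb⟩ := exists_eq_of_simple_root_intClosure K f hf γ hroot hder
  refine ⟨b, hfb, ?_⟩
  rw [← hmem, map_sub, hb]
  have : γ - φ a₀ = -(φ a₀ - γ) := by ring
  rw [this]
  exact Q.neg_mem hyQ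

include K in
theorem isSepClosed_residueField_of_isSepClosed_fractionRing :
    IsSepClosed (ResidueField B) := by
  obtain ⟨Q, hQmax, hQ⟩ := exists_maximal_over (B := B) K
  set φ := algebraMap B (integralClosure B (AlgebraicClosure K)) with hφ
  letI := Ideal.Quotient.field Q
  let θ : integralClosure B (AlgebraicClosure K) →+* (integralClosure B (AlgebraicClosure K)) ⧸ Q :=
    Ideal.Quotient.mk Q
  have hker : ∀ x ∈ maximalIdeal B, (θ.comp φ) x = 0 := by
    intro x hx
    rw [RingHom.comp_apply, Ideal.Quotient.eq_zero_iff_mem, ← Ideal.mem_comap, hQ]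
    exact hx
  let θb : ResidueField B →+* (integralClosure B (AlgebraicClosure K)) ⧸ Q :=
    Ideal.Quotient.lift (maximalIdeal B) (θ.comp φ) hker
  have hθb : θb.comp (residue B) = θ.comp φ := by
    ext x
    exact Ideal.Quotient.lift_mk (maximalIdeal B) (θ.comp φ) hker
  apply IsSepClosed.of_exists_root
  intro p hpm hpirr hpsep
  obtain ⟨f, hfp, hfdeg, hfm⟩ := Polynomial.lifts_and_degree_eq_and_monic
    ((Polynomial.mem_lifts p).mpr (Polynomial.map_surjective (residue B) residue_surjective p)) hpm
  -- a root of f in L
  have hdeg : (f.map (algebraMap B (AlgebraicClosure K))).degree ≠ 0 := by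
    rw [Polynomial.degree_map_eq_of_injective (algebraMap_injective_algClosure K), hfdeg]
    exact fun h => hpirr.not_isUnit (Polynomial.isUnit_iff_degree_eq_zero.mpr h)
  obtain ⟨α, hα⟩ := IsAlgClosed.exists_root _ hdeg
  rw [Polynomial.IsRoot, Polynomial.eval_map] at hα
  let γ : integralClosure B (AlgebraicClosure K) := ⟨α, f, hfm, hα⟩
  have hroot : f.eval₂ φ γ = 0 := by
    apply Subtype.val_injective
    have := Polynomial.hom_eval₂ f φ
      (algebraMap (integralClosure B (AlgebraicClosure K)) (AlgebraicClosure K)) γ
    rw [← IsScalarTower.algebraMap_eq] at this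
    exact this.trans hα
  have hder : (derivative f).eval₂ φ γ ≠ 0 := by
    intro h0
    have h1 : p.eval₂ θb (θ γ) = 0 := by
      rw [← hfp, Polynomial.eval₂_map, hθb, ← Polynomial.hom_eval₂, hroot, map_zero]
    have h2 := hpsep.eval₂_derivative_ne_zero θb h1
    apply h2
    rw [← hfp, Polynomial.derivative_map, Polynomial.eval₂_map, hθb, ← Polynomial.hom_eval₂, h0,
      map_zero]
  obtain ⟨b, hb, hfb⟩ := exists_eq_of_simple_root_intClosure K f hfm γ hroot hder
  refine ⟨residue B b, ?_⟩
  rw [← hfp, Polynomial.eval_map, Polynomial.eval₂_at_apply, hfb, map_zero]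

end

end Groth.Agent.Lib.Helper14

namespace Groth.Agent.Lib.Helper14

open Polynomial IsLocalRing

section

variable {B : Type*} [CommRing B] [IsDomain B] [IsLocalRing B] [IsIntegrallyClosed B]
  (K : Type*) [Field K] [Algebra B K] [IsFractionRing B K] [IsSepClosed K]

lemma exists_root_of_forall (f : B[X]) (hf : f.Monic) (hdeg : f.natDegree ≠ 0)
    (h : ∀ α : AlgebraicClosure K, aeval α f = 0 →
      (minpoly K α).Separable ∨ aeval α (derivative f) ≠ 0) : ∃ b : B, f.eval b = 0 := by
  have hinjL := algebraMap_injective_algClosure (B := B) K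
  have hd : (f.map (algebraMap B (AlgebraicClosure K))).degree ≠ 0 := by
    rw [Polynomial.degree_map_eq_of_injective hinjL, Polynomial.degree_eq_natDegree hf.ne_zero]
    exact_mod_cast hdeg
  obtain ⟨α, hα⟩ := IsAlgClosed.exists_root _ hd
  rw [Polynomial.IsRoot, Polynomial.eval_map, ← aeval_def] at hα
  have hint : IsIntegral B α := ⟨f, hf, by rwa [← aeval_def]⟩
  obtain ⟨b, hb⟩ : ∃ b : B, algebraMap B (AlgebraicClosure K) b = α := by
    rcases h α hα with hs | hd'
    · exact exists_eq_of_separable_minpoly (K := K) α hint hs
    · exact exists_eq_of_simple_root (K := K) f hf α hα hd'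
  refine ⟨b, hinjL ?_⟩
  rw [map_zero, ← hα, ← hb, aeval_algebraMap_apply, coe_aeval_eq_eval]

include K in
/-- `q`-th roots exist in the residue field, `q` its characteristic, when `B` is not a field. -/
lemma exists_pow_eq_residue (hne : maximalIdeal B ≠ ⊥) (q : ℕ) (hq : q.Prime)
    [CharP (ResidueField B) q] (a : B) : ∃ b : B, residue B b ^ q = residue B a := by
  obtain ⟨π, hπm, hπ0⟩ := Submodule.exists_mem_ne_zero_of_ne_bot hne
  have hinjL := algebraMap_injective_algClosure (B := B) K
  obtain ⟨q', hq'⟩ := ExpChar.exists K
  cases hq' with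
  | zero =>
    have hmon : (X ^ q - C a : B[X]).Monic := monic_X_pow_sub_C a hq.ne_zero
    have hnd : (X ^ q - C a : B[X]).natDegree ≠ 0 := by
      rw [natDegree_X_pow_sub_C]; exact hq.ne_zero
    obtain ⟨b, hb⟩ := exists_root_of_forall K _ hmon hnd (fun α hα => by
      left
      have hint : IsIntegral B α := ⟨_, hmon, by rwa [← aeval_def]⟩
      exact (minpoly.irreducible hint.tower_top).separable)
    refine ⟨b, ?_⟩
    rw [eval_sub, eval_pow, eval_X, eval_C, sub_eq_zero] at hb
    rw [← map_pow, hb]
  | prime hq'p =>
    haveI : CharP B q' := RingHom.charP (algebraMap B K) (IsFractionRing.injective B K) q'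
    have hcast : ((q' : ℕ) : ResidueField B) = 0 := by
      rw [← map_natCast (residue B), CharP.cast_eq_zero B q', map_zero]
    have hqq' : q = q' :=
      (Nat.prime_dvd_prime_iff_eq hq hq'p).mp ((CharP.cast_eq_zero_iff (ResidueField B) q q').mp hcast)
    subst hqq'
    obtain ⟨n, rfl⟩ : ∃ n, q = n + 1 := ⟨q - 1, by have := hq.two_le; omega⟩
    have hn : 1 ≤ n := by have := hq.two_le; omega
    have hdegp : (C π * X + C a : B[X]).degree < ((n + 1 : ℕ) : WithBot ℕ) := by
      refine lt_of_le_of_lt (degree_linear_le) ?_
      exact_mod_cast (by omega : 1 < n + 1)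
    have hmon : (X ^ (n + 1) - (C π * X + C a) : B[X]).Monic := monic_X_pow_sub hdegp
    have hnd : (X ^ (n + 1) - (C π * X + C a) : B[X]).natDegree ≠ 0 := by
      rw [natDegree_sub_eq_left_of_natDegree_lt]
      · rw [natDegree_X_pow]; omega
      · rw [natDegree_X_pow]
        have : (C π * X + C a : B[X]).natDegree ≤ 1 := natDegree_linear_le
        omega
    have hder : derivative (X ^ (n + 1) - (C π * X + C a) : B[X]) = - C π := by
      rw [derivative_sub, derivative_X_pow, derivative_add, derivative_C_mul, derivative_X,
        derivative_C, CharP.cast_eq_zero B (n + 1)]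
      simp
    obtain ⟨b, hb⟩ := exists_root_of_forall K _ hmon hnd (fun α _ => by
      right
      rw [hder, map_neg, aeval_C, neg_ne_zero]
      exact fun h => hπ0 (hinjL (by rw [h, map_zero])))
    refine ⟨b, ?_⟩
    rw [eval_sub, eval_pow, eval_X, eval_add, eval_mul, eval_C, eval_X, eval_C, sub_eq_zero] at hb
    rw [← map_pow, hb, map_add, map_mul, (residue_eq_zero_iff π).mpr hπm, zero_mul, zero_add]

include K in
theorem isAlgClosed_residueField_of_isSepClosed_fractionRing (hne : maximalIdeal B ≠ ⊥) :
    IsAlgClosed (ResidueField B) := by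
  haveI := isSepClosed_residueField_of_isSepClosed_fractionRing (B := B) K
  suffices PerfectField (ResidueField B) from inferInstance
  obtain ⟨q, hq⟩ := ExpChar.exists (ResidueField B)
  cases hq with
  | zero => exact PerfectField.ofCharZero
  | prime hqp =>
    haveI : ExpChar (ResidueField B) q := ExpChar.prime hqp
    haveI : PerfectRing (ResidueField B) q := by
      apply PerfectRing.ofSurjective
      intro x
      obtain ⟨a, rfl⟩ := residue_surjective x
      obtain ⟨b, hb⟩ := exists_pow_eq_residue K hne q hqp a
      exact ⟨residue B b, hb⟩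
    exact PerfectRing.toPerfectField (ResidueField B) q

end

end Groth.Agent.Lib.Helper14
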