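import Mathlib.Tactic
import Mathlib.Algebra.Category.ModuleCat.Sheaf.Colimits
import Mathlib.Algebra.Category.ModuleCat.Sheaf.Abelian
import Mathlib.Algebra.Category.ModuleCat.Sheaf.PushforwardContinuous
import Mathlib.Algebra.Category.ModuleCat.Presheaf.Generator
import Mathlib.CategoryTheory.Adjunction.AdjointFunctorTheorems
import Mathlib.CategoryTheory.Abelian.Subobject
import Mathlib.CategoryTheory.Sites.CoverLifting
import Mathlib.Algebra.Category.Grp.FilteredColimits
import Mathlib.CategoryTheory.Sites.Abelian

/-!
# Special adjoint functor theorem for pushforwards of sheaves of modules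
-/

set_option autoImplicit false
universe u

namespace Groth.Agent.Lib.Helper14.ShfModSAFT

open CategoryTheory Limits

section Refl
universe v₁ v₂ v₃ u₁ u₂ u₃ w w'
variable {P : Type u₁} [Category.{v₁} P] {S : Type u₂} [Category.{v₂} S] {T : Type u₃} [Category.{v₃} T]

/-- If `a ⊣ i` with `i` fully faithful and `a ⋙ G` preserves colimits of shape `I`, so does `G`. -/
lemma preservesColimitsOfShape_of_reflector {a : P ⥤ S} {i : S ⥤ P} (adj : a ⊣ i) [i.Full] [i.Faithful]
    (G : S ⥤ T) (I : Type w) [Category.{w'} I] [HasColimitsOfShape I P]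
    [PreservesColimitsOfShape I (a ⋙ G)] : PreservesColimitsOfShape I G := by
  constructor
  intro K
  have : PreservesColimitsOfSize.{w', w} a := adj.leftAdjoint_preservesColimits
  let c' := colimit.cocone (K ⋙ i)
  let e : (K ⋙ i) ⋙ a ≅ K := Functor.isoWhiskerLeft K (asIso adj.counit) ≪≫ K.rightUnitor
  let c₀ : Cocone K := (Cocone.precompose e.inv).obj (a.mapCocone c')
  have h₀ : IsColimit c₀ :=
    (IsColimit.precomposeInvEquiv e _).symm (isColimitOfPreserves a (colimit.isColimit _))
  refine preservesColimit_of_preserves_colimit_cocone h₀ ?_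
  have h₁ : IsColimit ((a ⋙ G).mapCocone c') := isColimitOfPreserves (a ⋙ G) (colimit.isColimit _)
  let e' : ((K ⋙ i) ⋙ a) ⋙ G ≅ K ⋙ G := Functor.isoWhiskerRight e G
  have h₂ : IsColimit ((Cocone.precompose e'.inv).obj ((a ⋙ G).mapCocone c')) :=
    (IsColimit.precomposeInvEquiv e' _).symm h₁
  refine IsColimit.ofIsoColimit h₂ (Cocone.ext (Iso.refl _) ?_)
  intro j
  simp [c₀, e']

end Refl

section
variable {D : Type u} [SmallCategory D] {K : GrothendieckTopology D} (R : Sheaf K RingCat.{u})

instance toSheaf_preservesColimitsOfShape (I : Type u) [SmallCategory I] :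
    PreservesColimitsOfShape I (SheafOfModules.toSheaf.{u} R) := by
  have : PreservesColimitsOfShape I
      (PresheafOfModules.sheafification.{u} (𝟙 R.obj) ⋙ SheafOfModules.toSheaf.{u} R) :=
    preservesColimitsOfShape_of_natIso (PresheafOfModules.sheafificationCompToSheaf (𝟙 R.obj)).symm
  exact preservesColimitsOfShape_of_reflector
    (PresheafOfModules.sheafificationAdjunction (𝟙 R.obj)) _ I


/-- the separating family of sheafified free modules on representables -/
noncomputable def sepFam : ObjectProperty (SheafOfModules.{u} R) :=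
  .ofObj (fun X : D => (PresheafOfModules.sheafification.{u} (𝟙 R.obj)).obj
    ((PresheafOfModules.free R.obj).obj (yoneda.obj X)))

instance : ObjectProperty.Small.{u} (sepFam R) := by
  dsimp [sepFam]
  infer_instance

lemma sepFam_isSeparating : (sepFam R).IsSeparating := by
  intro M N f g h
  apply (SheafOfModules.forget R).map_injective
  apply PresheafOfModules.freeYoneda.isSeparating R.obj
  rintro _ ⟨X⟩ k
  let adj := PresheafOfModules.sheafificationAdjunction.{u} (𝟙 R.obj)
  let k' : (PresheafOfModules.free R.obj).obj (yoneda.obj X) ⟶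
    (SheafOfModules.forget R ⋙ PresheafOfModules.restrictScalars (𝟙 R.obj)).obj M := k
  have := h _ ⟨X⟩ ((adj.homEquiv _ _).symm k')
  have h2 := congrArg (adj.homEquiv _ _) this
  rw [adj.homEquiv_naturality_right, adj.homEquiv_naturality_right, Equiv.apply_symm_apply] at h2
  exact h2

instance : WellPowered.{u} (SheafOfModules.{u} R) :=
  wellPowered_of_isDetecting (sepFam_isSeparating R).isDetecting

end

section Main
variable {C : Type u} [SmallCategory C] {D : Type u} [SmallCategory D]
    (J : GrothendieckTopology C) (K : GrothendieckTopology D) (F : C ⥤ D)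
    [F.IsContinuous J K]
    {S : Sheaf J RingCat.{u}} {R : Sheaf K RingCat.{u}}
    (φ : S ⟶ (F.sheafPushforwardContinuous RingCat.{u} J K).obj R)

lemma pushforward_preservesColimitsOfShape (I : Type u) [SmallCategory I]
    [PreservesColimitsOfShape I (F.sheafPushforwardContinuous AddCommGrpCat.{u} J K)] :
    PreservesColimitsOfShape I (SheafOfModules.pushforward.{u} φ) := by
  have e : SheafOfModules.pushforward.{u} φ ⋙ SheafOfModules.toSheaf S ≅
      SheafOfModules.toSheaf R ⋙ F.sheafPushforwardContinuous AddCommGrpCat.{u} J K := Iso.refl _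
  have : PreservesColimitsOfShape I (SheafOfModules.pushforward.{u} φ ⋙ SheafOfModules.toSheaf S) :=
    preservesColimitsOfShape_of_natIso e.symm
  have : ReflectsColimitsOfShape I (SheafOfModules.toSheaf.{u} S) :=
    reflectsColimitsOfShape_of_reflectsIsomorphisms
  exact preservesColimitsOfShape_of_reflects_of_preserves _ (SheafOfModules.toSheaf.{u} S)

/-- if the pushforward of abelian sheaves preserves colimits, the pushforward of sheaves of modules
is a left adjoint -/
theorem isLeftAdjoint_pushforward_of_preservesColimits
    [PreservesColimitsOfSize.{u, u} (F.sheafPushforwardContinuous AddCommGrpCat.{u} J K)] :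
    (SheafOfModules.pushforward.{u} φ).IsLeftAdjoint := by
  have : PreservesColimitsOfSize.{u, u} (SheafOfModules.pushforward.{u} φ) :=
    ⟨fun {I} _ => pushforward_preservesColimitsOfShape J K F φ I⟩
  exact isLeftAdjoint_of_preservesColimits_of_isSeparating (sepFam_isSeparating R) _

end Main

end Groth.Agent.Lib.Helper14.ShfModSAFT
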