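import Groth.Agent.Lib.Helper14.ShfSubgrp

/-!
# Points of a quotient `X/R` as `R`-stable subobjects of `X × Y` (helper14)
-/

set_option autoImplicit false
open CategoryTheory CategoryTheory.Limits MonoidalCategory Opposite

namespace Groth.Agent.Lib.Helper14.ShfQuot

section Points
variable {𝒯 : Type*} [Category 𝒯] [CartesianMonoidalCategory 𝒯] [HasPullbacks 𝒯] [QuotDescent 𝒯]
open CartesianMonoidalCategory

variable {R X : 𝒯} {p₁ p₂ : R ⟶ X} {B : 𝒯} (π : X ⟶ B) (hk : IsKernelPair π p₁ p₂) (Y : 𝒯)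

include hk in
lemma points_a (Z : 𝒯) (ι : Z ⟶ X ⊗ Y) [Mono ι]
    (hst : ∀ (W : 𝒯) (r : W ⟶ R) (y : W ⟶ Y),
      (∃ z : W ⟶ Z, z ≫ ι = lift (r ≫ p₁) y) ↔ (∃ z : W ⟶ Z, z ≫ ι = lift (r ≫ p₂) y))
    (hepi : Epi (ι ≫ snd X Y))
    (hrel : ∀ (W : 𝒯) (z₁ z₂ : W ⟶ Z), z₁ ≫ ι ≫ snd X Y = z₂ ≫ ι ≫ snd X Y →
      ∃ r : W ⟶ R, r ≫ p₁ = z₁ ≫ ι ≫ fst X Y ∧ r ≫ p₂ = z₂ ≫ ι ≫ fst X Y) :
    ∃! f : Y ⟶ B, IsPullback (ι ≫ fst X Y) (ι ≫ snd X Y) π f := by
  obtain ⟨f, hf⟩ := QuotDescent.exists_desc (ι ≫ snd X Y) (ι ≫ fst X Y ≫ π) (by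
    intro W g₁ g₂ hg
    obtain ⟨r, hr₁, hr₂⟩ := hrel W g₁ g₂ hg
    have e1 : g₁ ≫ ι ≫ fst X Y ≫ π = (g₁ ≫ ι ≫ fst X Y) ≫ π := by simp only [Category.assoc]
    have e2 : g₂ ≫ ι ≫ fst X Y ≫ π = (g₂ ≫ ι ≫ fst X Y) ≫ π := by simp only [Category.assoc]
    rw [e1, e2, ← hr₁, ← hr₂, Category.assoc, Category.assoc, hk.w])
  have hf' : (ι ≫ fst X Y) ≫ π = (ι ≫ snd X Y) ≫ f := by rw [hf, Category.assoc]
  refine ⟨f, ⟨⟨hf'⟩, ⟨PullbackCone.IsLimit.mk _ ?_ ?_ ?_ ?_⟩⟩, ?_⟩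
  · -- the lift, by choice
    intro s
    have hfac : (Subobject.mk ι).Factors (lift s.fst s.snd) := by
      obtain ⟨W', c, hc, z₀, hz₀⟩ := QuotDescent.exists_lift (ι ≫ snd X Y) s.snd
      have h1 : (z₀ ≫ ι ≫ fst X Y) ≫ π = (c ≫ s.fst) ≫ π := by
        rw [Category.assoc, Category.assoc, ← Category.assoc ι, hf', ← Category.assoc,
          hz₀, Category.assoc, Category.assoc, s.condition]
      have h2 : ∃ z : W' ⟶ Z, z ≫ ι = lift (hk.lift _ _ h1 ≫ p₁) (c ≫ s.snd) := by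
        refine ⟨z₀, ?_⟩
        rw [hk.lift_fst]
        apply CartesianMonoidalCategory.hom_ext
        · rw [lift_fst, Category.assoc]
        · rw [lift_snd, Category.assoc, hz₀]
      obtain ⟨z₁, hz₁⟩ := (hst W' _ _).1 h2
      rw [hk.lift_snd] at hz₁
      apply factors_of_epi_comp _ c
      rw [comp_lift, mk_factors_iff']
      exact ⟨z₁, hz₁⟩
    exact ((mk_factors_iff' ι _).1 hfac).choose
  · intro s
    dsimp only
    generalize_proofs h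
    rw [← Category.assoc, h.choose_spec, lift_fst]
  · intro s
    dsimp only
    generalize_proofs h
    rw [← Category.assoc, h.choose_spec, lift_snd]
  · intro s m' h₁ h₂
    dsimp only
    generalize_proofs h
    rw [← cancel_mono ι, h.choose_spec]
    apply CartesianMonoidalCategory.hom_ext
    · rw [lift_fst, Category.assoc]; exact h₁
    · rw [lift_snd, Category.assoc]; exact h₂
  · intro f' hf''
    rw [← cancel_epi (ι ≫ snd X Y), hf, ← hf''.w, Category.assoc]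

include hk in
lemma points_b (hbc : ∀ f : Y ⟶ B, Epi (pullback.snd π f)) (f : Y ⟶ B) :
    ∃ (Z : 𝒯) (ι : Z ⟶ X ⊗ Y), Mono ι ∧
      (∀ (W : 𝒯) (r : W ⟶ R) (y : W ⟶ Y),
        (∃ z : W ⟶ Z, z ≫ ι = lift (r ≫ p₁) y) ↔ (∃ z : W ⟶ Z, z ≫ ι = lift (r ≫ p₂) y)) ∧
      Epi (ι ≫ snd X Y) ∧
      (∀ (W : 𝒯) (z₁ z₂ : W ⟶ Z), z₁ ≫ ι ≫ snd X Y = z₂ ≫ ι ≫ snd X Y →
        ∃ r : W ⟶ R, r ≫ p₁ = z₁ ≫ ι ≫ fst X Y ∧ r ≫ p₂ = z₂ ≫ ι ≫ fst X Y) ∧
      IsPullback (ι ≫ fst X Y) (ι ≫ snd X Y) π f := by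
  have key : ∀ (W : 𝒯) (x : W ⟶ X) (y : W ⟶ Y),
      (∃ z : W ⟶ pullback π f, z ≫ lift (pullback.fst π f) (pullback.snd π f) = lift x y) ↔
        x ≫ π = y ≫ f := by
    intro W x y
    constructor
    · rintro ⟨z, hz⟩
      have h1 := hz =≫ fst X Y
      have h2 := hz =≫ snd X Y
      rw [Category.assoc, lift_fst, lift_fst] at h1
      rw [Category.assoc, lift_snd, lift_snd] at h2
      rw [← h1, ← h2, Category.assoc, Category.assoc, pullback.condition]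
    · intro h
      refine ⟨pullback.lift x y h, ?_⟩
      rw [comp_lift, pullback.lift_fst, pullback.lift_snd]
  refine ⟨pullback π f, lift (pullback.fst π f) (pullback.snd π f), ?_, ?_, ?_, ?_, ?_⟩
  · refine ⟨fun {W} a b hab => ?_⟩
    have h1 := hab =≫ fst X Y
    have h2 := hab =≫ snd X Y
    rw [Category.assoc, Category.assoc, lift_fst] at h1
    rw [Category.assoc, Category.assoc, lift_snd] at h2
    exact pullback.hom_ext h1 h2
  · intro W r y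
    rw [key, key, Category.assoc, Category.assoc, hk.w]
  · rw [lift_snd]
    exact hbc f
  · intro W z₁ z₂ h
    rw [lift_snd] at h
    have : (z₁ ≫ pullback.fst π f) ≫ π = (z₂ ≫ pullback.fst π f) ≫ π := by
      rw [Category.assoc, Category.assoc, pullback.condition, ← Category.assoc, h, Category.assoc]
    refine ⟨hk.lift _ _ this, ?_, ?_⟩
    · rw [hk.lift_fst, lift_fst]
    · rw [hk.lift_snd, lift_fst]
  · rw [lift_fst, lift_snd]
    exact IsPullback.of_hasPullback π f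

end Points

end Groth.Agent.Lib.Helper14.ShfQuot
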