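import Mathlib.Tactic
import Mathlib.CategoryTheory.Sites.CartesianMonoidal
import Mathlib.CategoryTheory.Sites.Sheafification
import Mathlib.CategoryTheory.Sites.Limits
import Mathlib.CategoryTheory.Sites.LocallySurjective
import Mathlib.CategoryTheory.Sites.RegularEpi
import Mathlib.CategoryTheory.Sites.Subsheaf
import Mathlib.CategoryTheory.Subobject.Limits
import Mathlib.CategoryTheory.Monoidal.Cartesian.Grp
import Mathlib.CategoryTheory.Monoidal.Grp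
import Mathlib.CategoryTheory.Limits.Shapes.Equalizers
import Mathlib.CategoryTheory.Limits.Types.Pullbacks
import Mathlib.CategoryTheory.EquivalenceRelation
import Groth.Agent.S5217

/-!
# Quotients of sheaves of groups: toolkit (helper14)

General facts about `Sheaf J (Type w)`: epimorphisms are stable under base change, are effective,
tensor products of epimorphisms are epimorphisms; and the quotient `G/H` of a sheaf of groups by
a subgroup sheaf.
-/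

set_option autoImplicit false
open CategoryTheory CategoryTheory.Limits MonoidalCategory Opposite
universe w v₁ u₁

namespace Groth.Agent.Lib.Helper14.ShfQuot


section Abstract
variable {𝒯 : Type*} [Category 𝒯] [CartesianMonoidalCategory 𝒯]
open CartesianMonoidalCategory

lemma isPullback_whiskerRight_fst {A B : 𝒯} (f : A ⟶ B) (X : 𝒯) :
    IsPullback (f ▷ X) (fst A X) (fst B X) f where
  w := whiskerRight_fst f X
  isLimit' := ⟨PullbackCone.IsLimit.mk _ (fun s => lift s.snd (s.fst ≫ snd B X))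
    (fun s => by
      apply CartesianMonoidalCategory.hom_ext
      · rw [Category.assoc, whiskerRight_fst, lift_fst_assoc]
        exact s.condition.symm
      · rw [Category.assoc, whiskerRight_snd, lift_snd])
    (fun s => lift_fst _ _)
    (fun s m h₁ h₂ => by
      apply CartesianMonoidalCategory.hom_ext
      · rw [lift_fst]; exact h₂
      · rw [lift_snd, ← h₁, Category.assoc, whiskerRight_snd])⟩

lemma isPullback_whiskerLeft_snd {A B : 𝒯} (f : A ⟶ B) (X : 𝒯) :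
    IsPullback (X ◁ f) (snd X A) (snd X B) f where
  w := whiskerLeft_snd X f
  isLimit' := ⟨PullbackCone.IsLimit.mk _ (fun s => lift (s.fst ≫ fst X B) s.snd)
    (fun s => by
      apply CartesianMonoidalCategory.hom_ext
      · rw [Category.assoc, whiskerLeft_fst, lift_fst]
      · rw [Category.assoc, whiskerLeft_snd, lift_snd_assoc]
        exact s.condition.symm)
    (fun s => lift_snd _ _)
    (fun s m h₁ h₂ => by
      apply CartesianMonoidalCategory.hom_ext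
      · rw [lift_fst, ← h₁, Category.assoc, whiskerLeft_fst]
      · rw [lift_snd]; exact h₂)⟩

end Abstract

/-- the exactness properties of a topos that are used for quotients of group objects -/
class QuotDescent (𝒯 : Type*) [Category 𝒯] [CartesianMonoidalCategory 𝒯] : Prop where
  epi_whiskerRight {A B : 𝒯} (f : A ⟶ B) [Epi f] (X : 𝒯) : Epi (f ▷ X)
  epi_whiskerLeft {A B : 𝒯} (f : A ⟶ B) [Epi f] (X : 𝒯) : Epi (X ◁ f)
  exists_desc {A B W : 𝒯} (e : A ⟶ B) [Epi e] (φ : A ⟶ W)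
    (h : ∀ {Z : 𝒯} (g₁ g₂ : Z ⟶ A), g₁ ≫ e = g₂ ≫ e → g₁ ≫ φ = g₂ ≫ φ) :
    ∃ ψ : B ⟶ W, e ≫ ψ = φ
  exists_lift {A B Z : 𝒯} (e : A ⟶ B) [Epi e] (q : Z ⟶ B) :
    ∃ (Z' : 𝒯) (c : Z' ⟶ Z) (_ : Epi c) (a : Z' ⟶ A), a ≫ e = c ≫ q
  isKernelPair {R X : 𝒯} (p₁ p₂ : R ⟶ X) (e : EquivalenceRelation p₁ p₂) {Q : 𝒯} (π : X ⟶ Q)
    (w : p₁ ≫ π = p₂ ≫ π) (hc : IsColimit (Cofork.ofπ π w)) : IsKernelPair π p₁ p₂
  exists_image {A B : 𝒯} (f : A ⟶ B) :
    ∃ (I : 𝒯) (e : A ⟶ I) (m : I ⟶ B), Epi e ∧ Mono m ∧ e ≫ m = f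

variable {C : Type u₁} [Category.{v₁} C] {J : GrothendieckTopology C}

section Epi
variable [HasSheafify J (Type w)]

/-- epimorphisms of sheaves of sets are stable under base change -/
lemma epi_snd_of_isPullback {P X Y Z : Sheaf J (Type w)} {fst : P ⟶ X} {snd : P ⟶ Y}
    {f : X ⟶ Z} {g : Y ⟶ Z} (h : IsPullback fst snd f g) [Epi f] : Epi snd := by
  rw [← Sheaf.isLocallySurjective_iff_epi] at *
  rename_i hf
  refine ⟨fun {U} y => ?_⟩
  refine J.superset_covering ?_ (hf.imageSieve_mem (g.hom.app (op U) y))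
  rintro V i ⟨x, hx⟩
  have hp := h.map (sheafToPresheaf J (Type w) ⋙ (evaluation _ _).obj (op V))
  obtain ⟨p, hp1, hp2⟩ := Types.exists_of_isPullback hp x (Y.obj.map i.op y) (by
    refine hx.trans ?_
    exact (ConcreteCategory.congr_hom (g.hom.naturality i.op) y).symm)
  exact ⟨p, hp2⟩

lemma epi_fst_of_isPullback {P X Y Z : Sheaf J (Type w)} {fst : P ⟶ X} {snd : P ⟶ Y}
    {f : X ⟶ Z} {g : Y ⟶ Z} (h : IsPullback fst snd f g) [Epi g] : Epi fst :=
  epi_snd_of_isPullback h.flip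


instance effectiveEpi_of_epi {X Y : Sheaf J (Type w)} (f : X ⟶ Y) [Epi f] : EffectiveEpi f :=
  (isRegularEpi_iff_effectiveEpi f).1 (IsRegularEpiCategory.regularEpiOfEpi f)

/-- descent of a morphism along an epimorphism of sheaves of sets -/
lemma exists_desc {A B W : Sheaf J (Type w)} (e : A ⟶ B) [Epi e] (φ : A ⟶ W)
    (h : ∀ {Z : Sheaf J (Type w)} (g₁ g₂ : Z ⟶ A), g₁ ≫ e = g₂ ≫ e → g₁ ≫ φ = g₂ ≫ φ) :
    ∃ ψ : B ⟶ W, e ≫ ψ = φ :=
  ⟨EffectiveEpi.desc e φ h, EffectiveEpi.fac e φ h⟩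

/-- lifting a generalized element along an epimorphism after passing to a cover -/
lemma exists_lift_of_epi {A B Z : Sheaf J (Type w)} (e : A ⟶ B) [Epi e] (q : Z ⟶ B) :
    ∃ (Z' : Sheaf J (Type w)) (c : Z' ⟶ Z) (_ : Epi c) (a : Z' ⟶ A), a ≫ e = c ≫ q :=
  ⟨pullback e q, pullback.snd e q, epi_snd_of_isPullback (IsPullback.of_hasPullback e q),
    pullback.fst e q, pullback.condition⟩

instance epi_whiskerRight {A B : Sheaf J (Type w)} (f : A ⟶ B) [Epi f] (X : Sheaf J (Type w)) :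
    Epi (f ▷ X) :=
  epi_fst_of_isPullback (isPullback_whiskerRight_fst f X)

instance epi_whiskerLeft {A B : Sheaf J (Type w)} (f : A ⟶ B) [Epi f] (X : Sheaf J (Type w)) :
    Epi (X ◁ f) :=
  epi_fst_of_isPullback (isPullback_whiskerLeft_snd f X)

instance epi_tensorHom {A B A' B' : Sheaf J (Type w)} (f : A ⟶ B) (g : A' ⟶ B') [Epi f] [Epi g] :
    Epi (f ⊗ₘ g) := by
  rw [tensorHom_def]
  infer_instance


instance : QuotDescent (Sheaf J (Type w)) where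
  epi_whiskerRight f _ X := epi_whiskerRight f X
  epi_whiskerLeft f _ X := epi_whiskerLeft f X
  exists_desc e _ φ h := exists_desc e φ h
  exists_lift e _ q := exists_lift_of_epi e q
  isKernelPair {R X} p₁ p₂ e {Q} π w hc := by
    haveI : IsEquivalenceRelation p₁ p₂ := ⟨⟨e⟩⟩
    obtain ⟨ue⟩ := (Groth.Agent.S5217.result J p₁ p₂).nonempty_universallyEffectiveEquivalenceRelation
    let φ := IsColimit.coconePointUniqueUpToIso ue.isCoequalizer hc
    have hφ : ue.π ≫ φ.hom = π :=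
      IsColimit.comp_coconePointUniqueUpToIso_hom ue.isCoequalizer hc WalkingParallelPair.one
    rw [← hφ]
    exact ue.isKernelPair.comp_of_mono
  exists_image f := ⟨Sheaf.image f, Sheaf.toImage f, Sheaf.imageι f, inferInstance, inferInstance,
    Sheaf.toImage_ι f⟩

end Epi


section Quot
variable {𝒯 : Type*} [Category 𝒯] [CartesianMonoidalCategory 𝒯]
open CartesianMonoidalCategory MonObj

variable {H G : 𝒯} [GrpObj H] [GrpObj G] (u : H ⟶ G)

/-- the map `(g, h) ↦ g * u h` -/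
abbrev act : G ⊗ H ⟶ G := (G ◁ u) ≫ μ

lemma lift_act {Z : 𝒯} (a : Z ⟶ G) (h : Z ⟶ H) : lift a h ≫ act u = a * (h ≫ u) := by
  rw [Hom.mul_def, act, lift_whiskerLeft_assoc]

lemma comp_act {Z : 𝒯} (k : Z ⟶ G ⊗ H) :
    k ≫ act u = (k ≫ fst G H) * (k ≫ snd G H ≫ u) := by
  rw [← Category.assoc k (snd G H) u, ← lift_act u, lift_comp_fst_snd]

lemma fst_mul_snd : act u = fst G H * (snd G H ≫ u) := by
  have := comp_act u (𝟙 (G ⊗ H))
  simpa using this

variable [Mono u] [IsMonHom u] [HasPullbacks 𝒯]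

/-- the equivalence relation on `G` defined by the subgroup `H` -/
noncomputable def eqvRel : EquivalenceRelation (fst G H) (act u) where
  right_cancellation Z f g h₁ h₂ := by
    rw [comp_act, comp_act, h₁] at h₂
    have h₃ : f ≫ snd G H = g ≫ snd G H := by
      rw [← cancel_mono u, Category.assoc, Category.assoc]
      exact mul_left_cancel h₂
    exact CartesianMonoidalCategory.hom_ext _ _ h₁ h₃
  r := lift (𝟙 G) 1
  reflexivity₁ := lift_fst _ _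
  reflexivity₂ := by rw [lift_act, MonObj.one_comp, _root_.mul_one]
  s := lift (act u) (snd G H)⁻¹
  symmetry₁ := lift_fst _ _
  symmetry₂ := by
    rw [lift_act, GrpObj.inv_comp, fst_mul_snd, mul_inv_cancel_right]
  c := pullback.cone (act u) (fst G H)
  isLimit := pullback.isLimit (act u) (fst G H)
  t := lift (pullback.fst (act u) (fst G H) ≫ fst G H)
    ((pullback.fst (act u) (fst G H) ≫ snd G H) * (pullback.snd (act u) (fst G H) ≫ snd G H))
  transitivity₁ := lift_fst _ _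
  transitivity₂ := by
    rw [lift_act, MonObj.mul_comp, ← _root_.mul_assoc]
    change _ = pullback.snd (act u) (fst G H) ≫ act u
    rw [comp_act (k := pullback.snd (act u) (fst G H)), ← pullback.condition, comp_act]
    simp only [Category.assoc]


section Transport
variable [QuotDescent 𝒯]

omit [HasPullbacks 𝒯] in
lemma epi_tensorHom' {A B A' B' : 𝒯} (f : A ⟶ B) (g : A' ⟶ B') [Epi f] [Epi g] :
    Epi (f ⊗ₘ g) := by
  rw [tensorHom_def]
  haveI := QuotDescent.epi_whiskerRight f A'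
  haveI := QuotDescent.epi_whiskerLeft g B
  infer_instance

variable {M Q : 𝒯} [GrpObj M] (e : M ⟶ Q) [Epi e]

/-- transport of a group structure along an epimorphism -/
@[reducible] def grpObjOfEpi (m : Q ⊗ Q ⟶ Q) (hm : (e ⊗ₘ e) ≫ m = μ ≫ e) (i : Q ⟶ Q)
    (hi : e ≫ i = ι ≫ e) : GrpObj Q where
  one := η ≫ e
  mul := m
  one_mul := by
    haveI := QuotDescent.epi_whiskerLeft e (𝟙_ 𝒯)
    rw [← cancel_epi (𝟙_ 𝒯 ◁ e)]
    rw [whisker_exchange_assoc, comp_whiskerRight_assoc, ← tensorHom_def_assoc, hm,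
      MonObj.one_mul_assoc, leftUnitor_naturality]
  mul_one := by
    haveI := QuotDescent.epi_whiskerRight e (𝟙_ 𝒯)
    rw [← cancel_epi (e ▷ 𝟙_ 𝒯)]
    rw [← whisker_exchange_assoc, MonoidalCategory.whiskerLeft_comp_assoc, ← tensorHom_def'_assoc, hm,
      MonObj.mul_one_assoc, rightUnitor_naturality]
  mul_assoc := by
    haveI := epi_tensorHom' e e
    haveI := epi_tensorHom' (e ⊗ₘ e) e
    rw [← cancel_epi ((e ⊗ₘ e) ⊗ₘ e)]
    have h1 : ((μ ≫ e) ⊗ₘ e) = (μ ▷ M) ≫ (e ⊗ₘ e) := by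
      rw [← tensorHom_id, tensorHom_comp_tensorHom, Category.id_comp]
    have h2 : (e ⊗ₘ (μ ≫ e)) = (M ◁ μ) ≫ (e ⊗ₘ e) := by
      rw [← id_tensorHom, tensorHom_comp_tensorHom, Category.id_comp]
    have hL : ((e ⊗ₘ e) ⊗ₘ e) ≫ (m ▷ Q) ≫ m = (μ ▷ M) ≫ μ ≫ e := by
      rw [← tensorHom_id, tensorHom_comp_tensorHom_assoc, hm, Category.comp_id, h1,
        Category.assoc, hm]
    have hR : ((e ⊗ₘ e) ⊗ₘ e) ≫ (α_ Q Q Q).hom ≫ (Q ◁ m) ≫ m =
        (α_ M M M).hom ≫ (M ◁ μ) ≫ μ ≫ e := by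
      rw [associator_naturality_assoc, ← id_tensorHom, tensorHom_comp_tensorHom_assoc, hm,
        Category.comp_id, h2, Category.assoc, hm]
    rw [hL, hR, MonObj.mul_assoc_assoc]
  inv := i
  left_inv := by
    rw [← cancel_epi e, comp_lift_assoc, hi, Category.comp_id]
    have : lift (ι ≫ e) e = lift ι (𝟙 M) ≫ (e ⊗ₘ e) := by
      rw [lift_map, Category.id_comp]
    rw [this, Category.assoc, hm, GrpObj.left_inv_assoc, comp_toUnit_assoc]
  right_inv := by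
    rw [← cancel_epi e, comp_lift_assoc, hi, Category.comp_id]
    have : lift e (ι ≫ e) = lift (𝟙 M) ι ≫ (e ⊗ₘ e) := by
      rw [lift_map, Category.id_comp]
    rw [this, Category.assoc, hm, GrpObj.right_inv_assoc, comp_toUnit_assoc]

omit [HasPullbacks 𝒯] [QuotDescent 𝒯] in
/-- two group structures on the target of an epimorphism `e` (with `e ⊗ e` epi) for which `e` is
a homomorphism coincide -/
lemma grpObj_ext_of_epi [Epi (e ⊗ₘ e)] (s₁ s₂ : GrpObj Q)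
    (h₁ : @IsMonHom 𝒯 _ _ M Q _ s₁.toMonObj e) (h₂ : @IsMonHom 𝒯 _ _ M Q _ s₂.toMonObj e) :
    s₁ = s₂ := by
  apply GrpObj.ext
  apply MonObj.ext
  rw [← cancel_epi (e ⊗ₘ e)]
  have e₁ := @IsMonHom.mul_hom 𝒯 _ _ M Q _ s₁.toMonObj e h₁
  have e₂ := @IsMonHom.mul_hom 𝒯 _ _ M Q _ s₂.toMonObj e h₂
  exact e₁.symm.trans e₂

end Transport

section Cofork
variable [QuotDescent 𝒯] {Q : 𝒯} (π : G ⟶ Q) (w : fst G H ≫ π = act u ≫ π)
  (hc : IsColimit (Cofork.ofπ π w))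

include hc in
lemma epi_π : Epi π := epi_of_isColimit_cofork hc

include w in
omit [Mono u] [IsMonHom u] [HasPullbacks 𝒯] [QuotDescent 𝒯] in
lemma mul_π {Z : 𝒯} (a : Z ⟶ G) (h : Z ⟶ H) : (a * (h ≫ u)) ≫ π = a ≫ π := by
  have := lift a h ≫= w
  rw [lift_fst_assoc, ← Category.assoc, lift_act] at this
  exact this.symm

include hc in
lemma isKernelPair_π : IsKernelPair π (fst G H) (act u) :=
  QuotDescent.isKernelPair _ _ (eqvRel u) π w hc

include hc in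
lemma exists_of_π_eq {Z : 𝒯} (a₁ a₂ : Z ⟶ G) (e : a₁ ≫ π = a₂ ≫ π) :
    ∃ h : Z ⟶ H, a₂ = a₁ * (h ≫ u) := by
  have hk := isKernelPair_π u π w hc
  refine ⟨hk.lift a₁ a₂ e ≫ snd G H, ?_⟩
  have h1 := hk.lift_fst a₁ a₂ e
  have h2 := hk.lift_snd a₁ a₂ e
  rw [comp_act, h1] at h2
  rw [Category.assoc]
  exact h2.symm

include hc in
lemma π_eq_iff {Z : 𝒯} (a₁ a₂ : Z ⟶ G) :
    a₁ ≫ π = a₂ ≫ π ↔ ∃ h : Z ⟶ H, a₂ = a₁ * (h ≫ u) := by
  refine ⟨exists_of_π_eq u π w hc a₁ a₂, ?_⟩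
  rintro ⟨h, rfl⟩
  exact (mul_π u π w a₁ h).symm


include hc in
/-- the left translation action of `G` on `G/H` -/
lemma exists_leftAct : ∃ a : G ⊗ Q ⟶ Q, (G ◁ π) ≫ a = μ ≫ π := by
  haveI := epi_π u π w hc
  haveI := QuotDescent.epi_whiskerLeft π G
  refine QuotDescent.exists_desc (G ◁ π) (μ ≫ π) ?_
  intro Z g₁ g₂ e
  have ea : g₁ ≫ fst G G = g₂ ≫ fst G G := by
    have := e =≫ fst G Q
    simpa only [Category.assoc, whiskerLeft_fst] using this
  have eb : (g₁ ≫ snd G G) ≫ π = (g₂ ≫ snd G G) ≫ π := by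
    have := e =≫ snd G Q
    simpa only [Category.assoc, whiskerLeft_snd] using this
  obtain ⟨h', hb⟩ := exists_of_π_eq u π w hc _ _ eb
  have m1 : g₁ ≫ μ = (g₁ ≫ fst G G) * (g₁ ≫ snd G G) := by
    rw [Hom.mul_def, lift_comp_fst_snd]
  have m2 : g₂ ≫ μ = (g₂ ≫ fst G G) * (g₂ ≫ snd G G) := by
    rw [Hom.mul_def, lift_comp_fst_snd]
  rw [← Category.assoc, ← Category.assoc, m1, m2, ← ea, hb, ← _root_.mul_assoc, mul_π u π w]

include hc in
lemma leftAct_axioms (a : G ⊗ Q ⟶ Q) (ha : (G ◁ π) ≫ a = μ ≫ π) :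
    (η ▷ Q) ≫ a = (λ_ Q).hom ∧ (μ ▷ Q) ≫ a = (α_ G G Q).hom ≫ (G ◁ a) ≫ a := by
  haveI := epi_π u π w hc
  constructor
  · haveI := QuotDescent.epi_whiskerLeft π (𝟙_ 𝒯)
    rw [← cancel_epi (𝟙_ 𝒯 ◁ π), whisker_exchange_assoc, ha, MonObj.one_mul_assoc,
      leftUnitor_naturality]
  · haveI := QuotDescent.epi_whiskerLeft π (G ⊗ G)
    rw [← cancel_epi ((G ⊗ G) ◁ π), whisker_exchange_assoc, ha, associator_naturality_right_assoc,
      ← MonoidalCategory.whiskerLeft_comp_assoc, ha, MonoidalCategory.whiskerLeft_comp_assoc, ha,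
      MonObj.mul_assoc_assoc]

include hc in
lemma leftAct_unique (a a' : G ⊗ Q ⟶ Q) (ha : (G ◁ π) ≫ a = μ ≫ π)
    (ha' : (G ◁ π) ≫ a' = μ ≫ π) : a = a' := by
  haveI := epi_π u π w hc
  haveI := QuotDescent.epi_whiskerLeft π G
  rw [← cancel_epi (G ◁ π), ha, ha']

section Normal
variable (hn : ∀ (Y : 𝒯) (g : Y ⟶ G) (h : Y ⟶ H), ∃ h' : Y ⟶ H, g * (h ≫ u) * g⁻¹ = h' ≫ u)

include hn hc in
lemma exists_mul : ∃ m : Q ⊗ Q ⟶ Q, (π ⊗ₘ π) ≫ m = μ ≫ π := by
  haveI := epi_π u π w hc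
  haveI := epi_tensorHom' π π
  refine QuotDescent.exists_desc (π ⊗ₘ π) (μ ≫ π) ?_
  intro Z g₁ g₂ e
  have ea : (g₁ ≫ fst G G) ≫ π = (g₂ ≫ fst G G) ≫ π := by
    have := e =≫ fst Q Q
    simpa only [Category.assoc, tensorHom_fst] using this
  have eb : (g₁ ≫ snd G G) ≫ π = (g₂ ≫ snd G G) ≫ π := by
    have := e =≫ snd Q Q
    simpa only [Category.assoc, tensorHom_snd] using this
  obtain ⟨h, ha⟩ := exists_of_π_eq u π w hc _ _ ea
  obtain ⟨h', hb⟩ := exists_of_π_eq u π w hc _ _ eb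
  obtain ⟨h'', hh⟩ := hn Z (g₁ ≫ snd G G)⁻¹ h
  have m1 : g₁ ≫ μ = (g₁ ≫ fst G G) * (g₁ ≫ snd G G) := by
    rw [Hom.mul_def, lift_comp_fst_snd]
  have m2 : g₂ ≫ μ = (g₂ ≫ fst G G) * (g₂ ≫ snd G G) := by
    rw [Hom.mul_def, lift_comp_fst_snd]
  rw [← Category.assoc, ← Category.assoc, m1, m2, ha, hb]
  have : (g₁ ≫ fst G G) * (h ≫ u) * ((g₁ ≫ snd G G) * (h' ≫ u)) =
      (g₁ ≫ fst G G) * (g₁ ≫ snd G G) * ((h'' * h') ≫ u) := by
    rw [MonObj.mul_comp, ← hh]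
    group
  rw [this, mul_π u π w]

include hn hc in
lemma exists_inv : ∃ i : Q ⟶ Q, π ≫ i = ι ≫ π := by
  haveI := epi_π u π w hc
  refine QuotDescent.exists_desc π (ι ≫ π) ?_
  intro Z g₁ g₂ e
  obtain ⟨h, ha⟩ := exists_of_π_eq u π w hc _ _ e
  obtain ⟨h'', hh⟩ := hn Z g₁ h⁻¹
  rw [← Category.assoc, ← Category.assoc, ← Hom.inv_def, ← Hom.inv_def, ha]
  have : (g₁ * (h ≫ u))⁻¹ = g₁⁻¹ * (h'' ≫ u) := by
    rw [← hh, GrpObj.inv_comp]
    group
  rw [this, mul_π u π w]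

end Normal

end Cofork

end Quot


section Third
variable {𝒯 : Type*} [Category 𝒯] [CartesianMonoidalCategory 𝒯] [HasPullbacks 𝒯] [QuotDescent 𝒯]
open CartesianMonoidalCategory MonObj

/-- lifting three generalized elements simultaneously along three epimorphisms -/
lemma exists_lift₃ {A₁ B₁ A₂ B₂ A₃ B₃ Z : 𝒯} (e₁ : A₁ ⟶ B₁) (e₂ : A₂ ⟶ B₂) (e₃ : A₃ ⟶ B₃)
    [Epi e₁] [Epi e₂] [Epi e₃] (q₁ : Z ⟶ B₁) (q₂ : Z ⟶ B₂) (q₃ : Z ⟶ B₃) :
    ∃ (Z' : 𝒯) (c : Z' ⟶ Z) (_ : Epi c) (a₁ : Z' ⟶ A₁) (a₂ : Z' ⟶ A₂) (a₃ : Z' ⟶ A₃),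
      a₁ ≫ e₁ = c ≫ q₁ ∧ a₂ ≫ e₂ = c ≫ q₂ ∧ a₃ ≫ e₃ = c ≫ q₃ := by
  obtain ⟨Z₁, c₁, hc₁, a₁, h₁⟩ := QuotDescent.exists_lift e₁ q₁
  obtain ⟨Z₂, c₂, hc₂, a₂, h₂⟩ := QuotDescent.exists_lift e₂ (c₁ ≫ q₂)
  obtain ⟨Z₃, c₃, hc₃, a₃, h₃⟩ := QuotDescent.exists_lift e₃ (c₂ ≫ c₁ ≫ q₃)
  refine ⟨Z₃, c₃ ≫ c₂ ≫ c₁, inferInstance, c₃ ≫ c₂ ≫ a₁, c₃ ≫ a₂, a₃, ?_, ?_, ?_⟩
  · simp only [Category.assoc, h₁]
  · simp only [Category.assoc, h₂]
  · simp only [Category.assoc, h₃]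

variable {H K G : 𝒯} [GrpObj H] [GrpObj K] [GrpObj G] (h : H ⟶ K) (k : K ⟶ G)
  [Mono h] [Mono k] [IsMonHom h] [IsMonHom k]
  {QGH QKH QGK : 𝒯}
  (πGH : G ⟶ QGH) (wGH : fst G H ≫ πGH = act (h ≫ k) ≫ πGH)
  (hGH : IsColimit (Cofork.ofπ πGH wGH))
  (πKH : K ⟶ QKH) (wKH : fst K H ≫ πKH = act h ≫ πKH)
  (hKH : IsColimit (Cofork.ofπ πKH wKH))
  (πGK : G ⟶ QGK) (wGK : fst G K ≫ πGK = act k ≫ πGK)
  (hGK : IsColimit (Cofork.ofπ πGK wGK))
  (a : QGH ⊗ QKH ⟶ QGH) (ha : (πGH ⊗ₘ πKH) ≫ a = (G ◁ k) ≫ μ ≫ πGH)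
  (qbar : QGH ⟶ QGK) (hq : πGH ≫ qbar = πGK)

include hGH hKH ha in
lemma third_mono : Mono (lift a (fst QGH QKH)) := by
  haveI := epi_π (h ≫ k) πGH wGH hGH
  haveI := epi_π h πKH wKH hKH
  refine ⟨fun {Z} x x' e => ?_⟩
  have e1 : x ≫ fst QGH QKH = x' ≫ fst QGH QKH := by
    have := e =≫ snd _ _
    simpa only [Category.assoc, lift_snd] using this
  have e2 : x ≫ a = x' ≫ a := by
    have := e =≫ fst _ _
    simpa only [Category.assoc, lift_fst] using this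
  apply CartesianMonoidalCategory.hom_ext _ _ e1
  obtain ⟨Z', c, hc, g, b, b', hg, hb, hb'⟩ :=
    exists_lift₃ πGH πKH πKH (x ≫ fst QGH QKH) (x ≫ snd QGH QKH) (x' ≫ snd QGH QKH)
  rw [← cancel_epi c, ← hb, ← hb']
  -- compute the action
  have hx : c ≫ x = lift g b ≫ (πGH ⊗ₘ πKH) := by
    rw [lift_map, hg, hb, ← comp_lift, lift_comp_fst_snd]
  have hx' : c ≫ x' = lift g b' ≫ (πGH ⊗ₘ πKH) := by
    rw [lift_map, hg, hb', e1, ← comp_lift, lift_comp_fst_snd]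
  have key : (g * (b ≫ k)) ≫ πGH = (g * (b' ≫ k)) ≫ πGH := by
    have := c ≫= e2
    rw [← Category.assoc, ← Category.assoc, hx, hx', Category.assoc, Category.assoc, ha,
      lift_whiskerLeft_assoc, lift_whiskerLeft_assoc, ← Category.assoc, ← Category.assoc,
      ← Hom.mul_def, ← Hom.mul_def] at this
    exact this
  obtain ⟨t, ht⟩ := exists_of_π_eq (h ≫ k) πGH wGH hGH _ _ key
  have hb2 : b' = b * (t ≫ h) := by
    rw [← cancel_mono k, MonObj.mul_comp, Category.assoc]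
    rw [_root_.mul_assoc] at ht
    exact mul_left_cancel ht
  rw [hb2, mul_π h πKH wKH]

include hGH hKH ha hq wGK in
lemma third_wq : fst QGH QKH ≫ qbar = a ≫ qbar := by
  haveI := epi_π (h ≫ k) πGH wGH hGH
  haveI := epi_π h πKH wKH hKH
  haveI := epi_tensorHom' πGH πKH
  rw [← cancel_epi (πGH ⊗ₘ πKH), tensorHom_fst_assoc, hq, reassoc_of% ha, hq, wGK, Category.assoc]

include hGK in
lemma third_isColimit :
    Nonempty (IsColimit (Cofork.ofπ qbar
      (third_wq h k πGH wGH hGH πKH wKH hKH πGK wGK a ha qbar hq))) := by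
  haveI := epi_π (h ≫ k) πGH wGH hGH
  haveI := epi_π h πKH wKH hKH
  haveI := epi_tensorHom' πGH πKH
  have hqe : Epi qbar := by
    haveI : Epi (πGH ≫ qbar) := by rw [hq]; exact epi_π k πGK wGK hGK
    exact epi_of_epi πGH qbar
  refine ⟨Cofork.IsColimit.mk' _ fun s => ?_⟩
  have hs : fst QGH QKH ≫ s.π = a ≫ s.π := s.condition
  have hcoeq : fst G K ≫ (πGH ≫ s.π) = act k ≫ (πGH ≫ s.π) := by
    rw [Category.assoc (G ◁ k), ← reassoc_of% ha, ← hs, tensorHom_fst_assoc]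
  refine ⟨Cofork.IsColimit.desc hGK (πGH ≫ s.π) hcoeq, ?_, ?_⟩
  · change qbar ≫ _ = _
    rw [← cancel_epi πGH, ← Category.assoc, hq]
    exact Cofork.IsColimit.π_desc' hGK _ _
  · intro m hm
    change qbar ≫ m = _ at hm
    rw [← cancel_epi qbar, hm, ← cancel_epi πGH, ← Category.assoc, hq]
    exact (Cofork.IsColimit.π_desc' hGK _ _).symm

end Third


section Second
variable {𝒯 : Type*} [Category 𝒯] [CartesianMonoidalCategory 𝒯] [HasPullbacks 𝒯] [QuotDescent 𝒯]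
open CartesianMonoidalCategory MonObj

variable {H L G : 𝒯} [GrpObj H] [GrpObj L] [GrpObj G] (u : H ⟶ G) (l : L ⟶ G)
  [Mono u] [Mono l] [IsMonHom u] [IsMonHom l]
  {Q : 𝒯} (π : G ⟶ Q) (w : fst G H ≫ π = act u ≫ π) (hc : IsColimit (Cofork.ofπ π w))

omit [HasPullbacks 𝒯] [QuotDescent 𝒯] [GrpObj H] [Mono u] [Mono l] [IsMonHom u] [IsMonHom l] in
lemma comp_act' {P Z : 𝒯} (s : P ⟶ L) (z : Z ⟶ L ⊗ P) :
    z ≫ (L ◁ s) ≫ μ = (z ≫ fst L P) * (z ≫ snd L P ≫ s) := by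
  rw [Hom.mul_def, ← Category.assoc z (snd L P) s, ← lift_whiskerLeft, lift_comp_fst_snd,
    Category.assoc]

include hc in
lemma second_isKernelPair :
    IsKernelPair (l ≫ π) (fst L (pullback u l)) ((L ◁ pullback.snd u l) ≫ μ) := by
  have hw : fst L (pullback u l) ≫ l ≫ π = ((L ◁ pullback.snd u l) ≫ μ) ≫ l ≫ π := by
    have h1 := comp_act' (pullback.snd u l) (𝟙 (L ⊗ pullback u l))
    rw [Category.id_comp, Category.id_comp, Category.id_comp] at h1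
    rw [h1]
    have h2 : (fst L (pullback u l) * (snd L (pullback u l) ≫ pullback.snd u l)) ≫ l =
        (fst L (pullback u l) ≫ l) * ((snd L (pullback u l) ≫ pullback.fst u l) ≫ u) := by
      rw [MonObj.mul_comp, Category.assoc, Category.assoc, pullback.condition]
    rw [← Category.assoc _ l π, ← Category.assoc _ l π, h2, mul_π u π w]
  have hex : ∀ s : PullbackCone (l ≫ π) (l ≫ π), ∃ t : s.pt ⟶ H,
      s.snd ≫ l = (s.fst ≫ l) * (t ≫ u) := fun s =>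
    exists_of_π_eq u π w hc (s.fst ≫ l) (s.snd ≫ l) (by simpa only [Category.assoc] using s.condition)
  have hex2 : ∀ s : PullbackCone (l ≫ π) (l ≫ π),
      (hex s).choose ≫ u = (s.fst⁻¹ * s.snd) ≫ l := fun s => by
    have := (hex s).choose_spec
    rw [MonObj.mul_comp, GrpObj.inv_comp]
    exact eq_inv_mul_iff_mul_eq.2 this.symm
  refine ⟨⟨hw⟩, ⟨PullbackCone.IsLimit.mk _
    (fun s => lift s.fst (pullback.lift (hex s).choose (s.fst⁻¹ * s.snd) (hex2 s))) ?_ ?_ ?_⟩⟩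
  · intro s
    exact lift_fst _ _
  · intro s
    rw [comp_act', lift_fst, lift_snd_assoc, pullback.lift_snd, mul_inv_cancel_left]
  · intro s m h₁ h₂
    apply CartesianMonoidalCategory.hom_ext
    · rw [lift_fst]; exact h₁
    · rw [lift_snd, ← cancel_mono (pullback.snd u l), pullback.lift_snd, Category.assoc]
      rw [comp_act', h₁] at h₂
      rw [← h₂, inv_mul_cancel_left]

end Second

end Groth.Agent.Lib.Helper14.ShfQuot
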