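import Groth.Agent.Lib.Helper14.ShfQuot

/-!
# Subgroup objects and the correspondence theorem for `G ⟶ G/H` (helper14)
-/

set_option autoImplicit false
open CategoryTheory CategoryTheory.Limits MonoidalCategory Opposite
universe w v₁ u₁

namespace Groth.Agent.Lib.Helper14.ShfQuot

section Subgrp
variable {𝒯 : Type*} [Category 𝒯] [CartesianMonoidalCategory 𝒯]
open CartesianMonoidalCategory MonObj

/-- transport of a group structure along a monomorphism -/
@[reducible] def grpObjOfMono {K M : 𝒯} [GrpObj M] (i : K ⟶ M) [Mono i]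
    (o : 𝟙_ 𝒯 ⟶ K) (ho : o ≫ i = η) (m : K ⊗ K ⟶ K) (hm : m ≫ i = (i ⊗ₘ i) ≫ μ)
    (v : K ⟶ K) (hv : v ≫ i = i ≫ ι) : GrpObj K where
  one := o
  mul := m
  one_mul := by
    rw [← cancel_mono i, Category.assoc, hm, ← tensorHom_id, tensorHom_comp_tensorHom_assoc, ho,
      Category.id_comp, tensorHom_def'_assoc, MonObj.one_mul, leftUnitor_naturality]
  mul_one := by
    rw [← cancel_mono i, Category.assoc, hm, ← id_tensorHom, tensorHom_comp_tensorHom_assoc, ho,
      Category.id_comp, tensorHom_def_assoc, MonObj.mul_one, rightUnitor_naturality]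
  mul_assoc := by
    rw [← cancel_mono i]
    have hL : ((m ▷ K) ≫ m) ≫ i = ((i ⊗ₘ i) ⊗ₘ i) ≫ (μ ▷ M) ≫ μ := by
      rw [Category.assoc, hm, ← tensorHom_id, tensorHom_comp_tensorHom_assoc, hm,
        Category.id_comp, ← tensorHom_id, tensorHom_comp_tensorHom_assoc, Category.comp_id]
    have hR : ((α_ K K K).hom ≫ (K ◁ m) ≫ m) ≫ i =
        ((i ⊗ₘ i) ⊗ₘ i) ≫ (α_ M M M).hom ≫ (M ◁ μ) ≫ μ := by
      rw [Category.assoc, Category.assoc, hm, ← id_tensorHom, tensorHom_comp_tensorHom_assoc, hm,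
        Category.id_comp, associator_naturality_assoc, ← id_tensorHom,
        tensorHom_comp_tensorHom_assoc, Category.comp_id]
    rw [hL, hR, MonObj.mul_assoc]
  inv := v
  left_inv := by
    rw [← cancel_mono i, Category.assoc, hm, lift_map_assoc, hv, Category.id_comp,
      Category.assoc, ho]
    have : lift (i ≫ ι) i = i ≫ lift ι (𝟙 M) := by rw [comp_lift, Category.comp_id]
    rw [this, Category.assoc, GrpObj.left_inv, comp_toUnit_assoc]
  right_inv := by
    rw [← cancel_mono i, Category.assoc, hm, lift_map_assoc, hv, Category.id_comp,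
      Category.assoc, ho]
    have : lift i (i ≫ ι) = i ≫ lift (𝟙 M) ι := by rw [comp_lift, Category.comp_id]
    rw [this, Category.assoc, GrpObj.right_inv, comp_toUnit_assoc]

/-- a subobject of a group object that is closed under the group operations -/
structure IsSubgrp {M : 𝒯} [GrpObj M] (S : Subobject M) : Prop where
  one : ∀ Z : 𝒯, S.Factors (1 : Z ⟶ M)
  mul : ∀ {Z : 𝒯} (a b : Z ⟶ M), S.Factors a → S.Factors b → S.Factors (a * b)
  inv : ∀ {Z : 𝒯} (a : Z ⟶ M), S.Factors a → S.Factors a⁻¹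

lemma isSubgrp_iff {M : 𝒯} [GrpObj M] (S : Subobject M) :
    (∃ str : GrpObj (S : 𝒯), @IsMonHom 𝒯 _ _ _ _ str.toMonObj _ S.arrow) ↔ IsSubgrp S := by
  constructor
  · rintro ⟨str, hom⟩
    letI := str
    haveI := hom
    refine ⟨fun Z => ?_, fun {Z} a b ha hb => ?_, fun {Z} a ha => ?_⟩
    · rw [← MonObj.one_comp (S.arrow) (X := Z)]
      exact S.factors_comp_arrow _
    · rw [← S.factorThru_arrow a ha, ← S.factorThru_arrow b hb, ← MonObj.mul_comp]
      exact S.factors_comp_arrow _
    · rw [← S.factorThru_arrow a ha, ← GrpObj.inv_comp]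
      exact S.factors_comp_arrow _
  · intro hS
    have h1 : S.Factors (η : 𝟙_ 𝒯 ⟶ M) := by
      have := hS.one (𝟙_ 𝒯)
      rwa [Hom.one_def, toUnit_unit, Category.id_comp] at this
    have h2 : S.Factors ((S.arrow ⊗ₘ S.arrow) ≫ μ) := by
      rw [← lift_fst_comp_snd_comp, ← Hom.mul_def]
      exact hS.mul _ _ (S.factors_comp_arrow _) (S.factors_comp_arrow _)
    have h3 : S.Factors (S.arrow ≫ ι) := by
      rw [← Hom.inv_def]
      exact hS.inv _ S.factors_self
    refine ⟨grpObjOfMono S.arrow (S.factorThru _ h1) (S.factorThru_arrow _ h1)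
      (S.factorThru _ h2) (S.factorThru_arrow _ h2) (S.factorThru _ h3) (S.factorThru_arrow _ h3), ?_⟩
    exact @IsMonHom.mk _ _ _ _ _ (grpObjOfMono S.arrow (S.factorThru _ h1) (S.factorThru_arrow _ h1)
      (S.factorThru _ h2) (S.factorThru_arrow _ h2) (S.factorThru _ h3)
      (S.factorThru_arrow _ h3)).toMonObj _ _ (S.factorThru_arrow _ h1) (S.factorThru_arrow _ h2)

end Subgrp


section Corr
variable {𝒯 : Type*} [Category 𝒯] [CartesianMonoidalCategory 𝒯] [HasPullbacks 𝒯] [QuotDescent 𝒯]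
open CartesianMonoidalCategory MonObj

omit [HasPullbacks 𝒯] in
/-- epimorphisms are left orthogonal to subobjects -/
lemma factors_of_epi_comp {A B M : 𝒯} (S : Subobject M) (e : A ⟶ B) [Epi e] (f : B ⟶ M)
    (h : S.Factors (e ≫ f)) : S.Factors f := by
  obtain ⟨t', ht'⟩ := QuotDescent.exists_desc e (S.factorThru _ h) (by
    intro Z g₁ g₂ hg
    rw [← cancel_mono S.arrow, Category.assoc, Category.assoc, S.factorThru_arrow,
      ← Category.assoc, hg, Category.assoc])
  have : f = t' ≫ S.arrow := by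
    rw [← cancel_epi e, ← Category.assoc, ht', S.factorThru_arrow]
  rw [this]
  exact S.factors_comp_arrow _

omit [HasPullbacks 𝒯] [QuotDescent 𝒯] [CartesianMonoidalCategory 𝒯] in
lemma mk_factors_iff' {I M Z : 𝒯} (m : I ⟶ M) [Mono m] (g : Z ⟶ M) :
    (Subobject.mk m).Factors g ↔ ∃ t : Z ⟶ I, t ≫ m = g := by
  rw [Subobject.mk_factors_iff]
  rfl

/-- inverse image of subobjects along an epimorphism is injective -/
lemma pullback_injective_of_epi {A B : 𝒯} (e : A ⟶ B) [Epi e] :
    Function.Injective (Subobject.pullback e).obj := by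
  have key : ∀ S₁ S₂ : Subobject B,
      (Subobject.pullback e).obj S₁ = (Subobject.pullback e).obj S₂ → S₁ ≤ S₂ := by
    intro S₁ S₂ h12
    apply Subobject.le_of_factors
    obtain ⟨Z', c, hc, a, ha⟩ := QuotDescent.exists_lift e S₁.arrow
    have h1 : ((Subobject.pullback e).obj S₁).Factors a := by
      rw [Limits.pullback_factors_iff, ha]
      exact Subobject.factors_of_factors_right _ S₁.factors_self
    rw [h12, Limits.pullback_factors_iff, ha] at h1
    exact factors_of_epi_comp S₂ c _ h1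
  intro S₁ S₂ h12
  exact le_antisymm (key S₁ S₂ h12) (key S₂ S₁ h12.symm)

variable {H G : 𝒯} [GrpObj H] [GrpObj G] (u : H ⟶ G) [Mono u] [IsMonHom u]
  {Q : 𝒯} [GrpObj Q] (π : G ⟶ Q) [IsMonHom π] (w : fst G H ≫ π = act u ≫ π)
  (hc : IsColimit (Cofork.ofπ π w))

omit [QuotDescent 𝒯] [GrpObj H] [Mono u] [IsMonHom u] in
lemma isSubgrp_pullback (K' : Subobject Q) (hK' : IsSubgrp K') :
    IsSubgrp ((Subobject.pullback π).obj K') := by
  refine ⟨fun Z => ?_, fun {Z} a b ha hb => ?_, fun {Z} a ha => ?_⟩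
  · rw [Limits.pullback_factors_iff, MonObj.one_comp]
    exact hK'.one Z
  · rw [Limits.pullback_factors_iff] at ha hb ⊢
    rw [MonObj.mul_comp]
    exact hK'.mul _ _ ha hb
  · rw [Limits.pullback_factors_iff] at ha ⊢
    rw [GrpObj.inv_comp]
    exact hK'.inv _ ha

include w in
omit [QuotDescent 𝒯] [Mono u] [IsMonHom u] [HasPullbacks 𝒯] in
lemma u_π : u ≫ π = 1 := by
  have := mul_π u π w (1 : H ⟶ G) (𝟙 H)
  rwa [Category.id_comp, _root_.one_mul, MonObj.one_comp] at this

include w in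
omit [QuotDescent 𝒯] [IsMonHom u] in
lemma mk_le_pullback (K' : Subobject Q) (hK' : IsSubgrp K') :
    Subobject.mk u ≤ (Subobject.pullback π).obj K' := by
  have : ((Subobject.pullback π).obj K').Factors u := by
    rw [Limits.pullback_factors_iff, u_π u π w]
    exact hK'.one H
  exact Subobject.mk_le_of_comm (Subobject.factorThru _ _ this) (Subobject.factorThru_arrow _ _ this)


section Surj
variable (K : Subobject G) (hK : IsSubgrp K) (huK : Subobject.mk u ≤ K)
  {I : 𝒯} (e : (K : 𝒯) ⟶ I) (m : I ⟶ Q) [Epi e] [Mono m] (hem : e ≫ m = K.arrow ≫ π)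

include hem in
omit [HasPullbacks 𝒯] [GrpObj G] [GrpObj Q] [IsMonHom π] in
/-- generalized elements of the image of `K` in `G/H` -/
lemma image_factors_iff {Z : 𝒯} (q : Z ⟶ Q) :
    (Subobject.mk m).Factors q ↔
      ∃ (Z' : 𝒯) (c : Z' ⟶ Z) (_ : Epi c) (a : Z' ⟶ G), K.Factors a ∧ a ≫ π = c ≫ q := by
  constructor
  · intro hq
    obtain ⟨t, ht⟩ := (mk_factors_iff' m q).1 hq
    obtain ⟨Z', c, hc, b, hb⟩ := QuotDescent.exists_lift e t
    refine ⟨Z', c, hc, b ≫ K.arrow, K.factors_comp_arrow _, ?_⟩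
    rw [Category.assoc, ← hem, ← Category.assoc, hb, Category.assoc, ht]
  · rintro ⟨Z', c, hc, a, ha, hq⟩
    apply factors_of_epi_comp _ c
    rw [← hq, ← K.factorThru_arrow a ha, Category.assoc, ← hem, mk_factors_iff']
    exact ⟨K.factorThru a ha ≫ e, by rw [Category.assoc]⟩

include hem hK in
lemma isSubgrp_image : IsSubgrp (Subobject.mk m) := by
  refine ⟨fun Z => ?_, fun {Z} a b ha hb => ?_, fun {Z} a ha => ?_⟩
  · rw [image_factors_iff π K e m hem]
    exact ⟨Z, 𝟙 Z, inferInstance, 1, hK.one Z, by rw [MonObj.one_comp, MonObj.comp_one]⟩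
  · obtain ⟨ta, hta⟩ := (mk_factors_iff' m a).1 ha
    obtain ⟨tb, htb⟩ := (mk_factors_iff' m b).1 hb
    obtain ⟨Z', c, hc, a', b', _, ha', hb', -⟩ := exists_lift₃ e e e ta tb tb
    rw [image_factors_iff π K e m hem]
    refine ⟨Z', c, hc, (a' ≫ K.arrow) * (b' ≫ K.arrow),
      hK.mul _ _ (K.factors_comp_arrow _) (K.factors_comp_arrow _), ?_⟩
    rw [MonObj.mul_comp, MonObj.comp_mul, Category.assoc, Category.assoc, ← hem,
      ← Category.assoc, ← Category.assoc, ha', hb', Category.assoc, Category.assoc, hta, htb]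
  · obtain ⟨ta, hta⟩ := (mk_factors_iff' m a).1 ha
    obtain ⟨Z', c, hc, a', ha'⟩ := QuotDescent.exists_lift e ta
    rw [image_factors_iff π K e m hem]
    refine ⟨Z', c, hc, (a' ≫ K.arrow)⁻¹, hK.inv _ (K.factors_comp_arrow _), ?_⟩
    rw [GrpObj.inv_comp, GrpObj.comp_inv, Category.assoc, ← hem, ← Category.assoc, ha',
      Category.assoc, hta]

include hem hK huK hc in
lemma pullback_image_eq : (Subobject.pullback π).obj (Subobject.mk m) = K := by
  apply le_antisymm
  · apply Subobject.le_of_factors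
    have h1 : (Subobject.mk m).Factors
        (((Subobject.pullback π).obj (Subobject.mk m)).arrow ≫ π) := by
      rw [← Limits.pullback_factors_iff]
      exact Subobject.factors_self _
    rw [image_factors_iff π K e m hem] at h1
    obtain ⟨Z', c, hc', a, ha, hq⟩ := h1
    obtain ⟨h, hh⟩ := exists_of_π_eq u π w hc a
      (c ≫ ((Subobject.pullback π).obj (Subobject.mk m)).arrow) (by rw [hq, Category.assoc])
    apply factors_of_epi_comp K c
    rw [hh]
    refine hK.mul _ _ ha (Subobject.factors_of_le _ huK ?_)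
    rw [mk_factors_iff']
    exact ⟨h, rfl⟩
  · apply Subobject.le_of_factors
    rw [Limits.pullback_factors_iff, ← hem, mk_factors_iff']
    exact ⟨e, rfl⟩

end Surj

/-- normality of a subobject of a group object, in terms of generalized elements -/
def IsNormalSub {M : 𝒯} [GrpObj M] (S : Subobject M) : Prop :=
  ∀ (Z : 𝒯) (g a : Z ⟶ M), S.Factors a → S.Factors (g * a * g⁻¹)

omit [HasPullbacks 𝒯] [QuotDescent 𝒯] in
lemma isNormalSub_iff {M : 𝒯} [GrpObj M] (S : Subobject M) :
    (∀ (Y : 𝒯) (g : Y ⟶ M) (k : Y ⟶ (S : 𝒯)),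
      ∃ k' : Y ⟶ (S : 𝒯), g * (k ≫ S.arrow) * g⁻¹ = k' ≫ S.arrow) ↔ IsNormalSub S := by
  constructor
  · intro h Z g a ha
    obtain ⟨k', hk'⟩ := h Z g (S.factorThru a ha)
    rw [S.factorThru_arrow] at hk'
    rw [hk']
    exact S.factors_comp_arrow _
  · intro h Y g k
    have := h Y g (k ≫ S.arrow) (S.factors_comp_arrow _)
    exact ⟨S.factorThru _ this, (S.factorThru_arrow _ this).symm⟩

include hc in
lemma isNormalSub_pullback_iff (K' : Subobject Q) :
    IsNormalSub K' ↔ IsNormalSub ((Subobject.pullback π).obj K') := by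
  haveI := epi_π u π w hc
  constructor
  · intro h Z g a ha
    rw [Limits.pullback_factors_iff] at ha ⊢
    rw [MonObj.mul_comp, MonObj.mul_comp, GrpObj.inv_comp]
    exact h Z _ _ ha
  · intro h Z g a ha
    obtain ⟨Z', c, hc', g', a', _, hg', ha', -⟩ := exists_lift₃ π π π g a a
    have h1 : ((Subobject.pullback π).obj K').Factors a' := by
      rw [Limits.pullback_factors_iff, ha']
      exact Subobject.factors_of_factors_right _ ha
    have h2 := h Z' g' a' h1
    rw [Limits.pullback_factors_iff, MonObj.mul_comp, MonObj.mul_comp, GrpObj.inv_comp, hg', ha',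
      ← GrpObj.comp_inv, ← MonObj.comp_mul, ← MonObj.comp_mul] at h2
    exact factors_of_epi_comp K' c _ h2

end Corr

end Groth.Agent.Lib.Helper14.ShfQuot
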