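import Groth.Agent.Lib.Helper14.AdjRetr
import Groth.Agent.Lib.Helper14.ExtDelta
import Mathlib.CategoryTheory.Sites.SheafCohomology.Basic
import Mathlib.CategoryTheory.Sites.Pullback
import Mathlib.CategoryTheory.Sites.Continuous

universe w' w v₁ v₂ u₁ u₂

set_option linter.unusedSectionVars false
set_option linter.unusedVariables false

open CategoryTheory Limits Opposite

namespace Groth.Agent.Lib.Helper14.SiteRetr

open Groth.Agent.Lib.Helper14.AdjRetr Groth.Agent.Lib.Helper14.ExtDelta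

variable {C : Type u₁} [Category.{v₁} C] (J : GrothendieckTopology C)
  {C' : Type u₂} [Category.{v₂} C'] (J' : GrothendieckTopology C')
  [HasSheafify J AddCommGrpCat.{w}] [HasSheafify J' AddCommGrpCat.{w}]
  [HasExt.{w'} (Sheaf J AddCommGrpCat.{w})] [HasExt.{w'} (Sheaf J' AddCommGrpCat.{w})]

/-- the constant sheaf `ℤ` -/
noncomputable abbrev ZZ : Sheaf J AddCommGrpCat.{w} :=
  (constantSheaf J AddCommGrpCat.{w}).obj (AddCommGrpCat.of (ULift ℤ))

/-- sheaf cohomology as a delta functor -/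
noncomputable abbrev HD : DeltaF.CohDeltaFunctor (Sheaf J AddCommGrpCat.{w}) AddCommGrpCat.{w'} ℕ :=
  extDelta.{w'} (ZZ.{w} J)

lemma HD_obj (q : ℕ) (G : Sheaf J AddCommGrpCat.{w}) :
    ((HD.{w'} J).F q).obj G = AddCommGrpCat.of (Sheaf.H.{w'} G q) := rfl

variable (a : C ⥤ C') [a.IsContinuous J J']
  {T : C} (hT : IsTerminal T) {T' : C'} (hT' : IsTerminal T') (ma : T' ⟶ a.obj T)

/-- the comparison `H⁰(a_* M) ⟶ H⁰(M)` -/
noncomputable def μ :
    a.sheafPushforwardContinuous AddCommGrpCat.{w} J J' ⋙ (HD.{w'} J).F 0 ⟶ (HD.{w'} J').F 0 where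
  app M := AddCommGrpCat.ofHom
    ((Sheaf.H.equiv₀ M hT').symm.toAddMonoidHom.comp
      ((M.obj.map ma.op).hom.comp
        (Sheaf.H.equiv₀ ((a.sheafPushforwardContinuous AddCommGrpCat.{w} J J').obj M)
          hT).toAddMonoidHom))
  naturality M N f := by
    ext x
    have h1 := Sheaf.H.equiv₀_naturality hT
      ((a.sheafPushforwardContinuous AddCommGrpCat.{w} J J').map f) x
    have h2 := fun z => Sheaf.H.equiv₀_symm_naturality hT' f z
    have h3 := fun y => ConcreteCategory.congr_hom (f.hom.naturality ma.op) y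
    show (Sheaf.H.equiv₀ N hT').symm ((N.obj.map ma.op).hom
        (Sheaf.H.equiv₀ ((a.sheafPushforwardContinuous AddCommGrpCat.{w} J J').obj N) hT
          (Sheaf.H.map ((a.sheafPushforwardContinuous AddCommGrpCat.{w} J J').map f) 0 x))) =
      Sheaf.H.map f 0 ((Sheaf.H.equiv₀ M hT').symm ((M.obj.map ma.op).hom
        (Sheaf.H.equiv₀ ((a.sheafPushforwardContinuous AddCommGrpCat.{w} J J').obj M) hT x)))
    rw [h2, ← h1]
    exact congrArg (Sheaf.H.equiv₀ N hT').symm (h3 _).symm

variable (b : C' ⥤ C) [b.IsContinuous J' J] (ε : a ⋙ b ≅ 𝟭 C) (mb : T ⟶ b.obj T')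

/-- `b_* ⋙ a_* ≅ 𝟭` -/
noncomputable def ρ :
    b.sheafPushforwardContinuous AddCommGrpCat.{w} J' J ⋙
      a.sheafPushforwardContinuous AddCommGrpCat.{w} J J' ≅ 𝟭 (Sheaf J AddCommGrpCat.{w}) :=
  Functor.sheafPushforwardContinuousComp' ε AddCommGrpCat.{w} J J' J ≪≫
    Functor.sheafPushforwardContinuousId AddCommGrpCat.{w} J

lemma ρ_hom_app (M : Sheaf J AddCommGrpCat.{w}) (U : C) :
    ((ρ J J' a b ε).hom.app M).hom.app (op U) = M.obj.map (ε.inv.app U).op := by
  simp [ρ]
  exact Category.comp_id _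

include hT in
lemma hμ (M : Sheaf J AddCommGrpCat.{w}) :
    (μ.{w'} J J' a hT hT' ma).app ((b.sheafPushforwardContinuous AddCommGrpCat.{w} J' J).obj M) ≫
      (μ.{w'} J' J b hT' hT mb).app M = ((HD.{w'} J).F 0).map ((ρ J J' a b ε).hom.app M) := by
  ext x
  have h1 := Sheaf.H.equiv₀_naturality hT ((ρ J J' a b ε).hom.app M) x
  rw [ρ_hom_app] at h1
  show (Sheaf.H.equiv₀ M hT).symm ((M.obj.map mb.op).hom
      (Sheaf.H.equiv₀ ((b.sheafPushforwardContinuous AddCommGrpCat.{w} J' J).obj M) hT'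
        ((Sheaf.H.equiv₀ ((b.sheafPushforwardContinuous AddCommGrpCat.{w} J' J).obj M) hT').symm
          ((((b.sheafPushforwardContinuous AddCommGrpCat.{w} J' J).obj M).obj.map ma.op).hom
            (Sheaf.H.equiv₀ ((a.sheafPushforwardContinuous AddCommGrpCat.{w} J J').obj
              ((b.sheafPushforwardContinuous AddCommGrpCat.{w} J' J).obj M)) hT x))))) =
    Sheaf.H.map ((ρ J J' a b ε).hom.app M) 0 x
  rw [AddEquiv.apply_symm_apply, AddEquiv.symm_apply_eq]
  refine Eq.trans ?_ h1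
  have hterm : IsTerminal (b.obj (a.obj T)) := hT.ofIso (ε.app T).symm
  have e1 : mb ≫ b.map ma = ε.inv.app T := hterm.hom_ext _ _
  have e2 : M.obj.map (b.map ma).op ≫ M.obj.map mb.op = M.obj.map (ε.inv.app T).op := by
    rw [← Functor.map_comp, ← op_comp, e1]
  exact ConcreteCategory.congr_hom e2 _

instance pushAdditive : (a.sheafPushforwardContinuous AddCommGrpCat.{w} J J').Additive where

include hT hT' ma mb ε in
theorem exists_retraction_site
    [EnoughInjectives (Sheaf J AddCommGrpCat.{w})] [EnoughInjectives (Sheaf J' AddCommGrpCat.{w})]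
    [(a.sheafPushforwardContinuous AddCommGrpCat.{w} J J').IsRightAdjoint]
    [(b.sheafPushforwardContinuous AddCommGrpCat.{w} J' J).IsRightAdjoint]
    [PreservesFiniteLimits (a.sheafPullback AddCommGrpCat.{w} J J')]
    [PreservesFiniteLimits (b.sheafPullback AddCommGrpCat.{w} J' J)]
    (q : ℕ) (G : Sheaf J AddCommGrpCat.{w}) :
    ∃ (i : AddCommGrpCat.of (Sheaf.H.{w'} G q) ⟶
        AddCommGrpCat.of (Sheaf.H.{w'} ((a.sheafPullback AddCommGrpCat.{w} J J').obj G) q))
      (r : AddCommGrpCat.of (Sheaf.H.{w'} ((a.sheafPullback AddCommGrpCat.{w} J J').obj G) q) ⟶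
        AddCommGrpCat.of (Sheaf.H.{w'} G q)), i ≫ r = 𝟙 _ := by
  have adja := a.sheafAdjunctionContinuous AddCommGrpCat.{w} J J'
  have adjb := b.sheafAdjunctionContinuous AddCommGrpCat.{w} J' J
  have : (a.sheafPullback AddCommGrpCat.{w} J J').Additive := adja.left_adjoint_additive
  have : (b.sheafPullback AddCommGrpCat.{w} J' J).Additive := adjb.left_adjoint_additive
  have : PreservesFiniteColimits (a.sheafPullback AddCommGrpCat.{w} J J') := by
    have : PreservesColimitsOfSize.{0, 0} (a.sheafPullback AddCommGrpCat.{w} J J') :=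
      adja.leftAdjoint_preservesColimits
    exact PreservesColimitsOfSize.preservesFiniteColimits _
  have : PreservesFiniteColimits (b.sheafPullback AddCommGrpCat.{w} J' J) := by
    have : PreservesColimitsOfSize.{0, 0} (b.sheafPullback AddCommGrpCat.{w} J' J) :=
      adjb.leftAdjoint_preservesColimits
    exact PreservesColimitsOfSize.preservesFiniteColimits _
  exact exists_retraction_adj (T := HD.{w'} J) (T' := HD.{w'} J') adja adjb (ρ J J' a b ε)
    (extDelta_isUniversal _) (extDelta_isUniversal _)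
    (μ.{w'} J J' a hT hT' ma) (μ.{w'} J' J b hT' hT mb) (hμ J J' a hT hT' ma b ε mb) q G

end Groth.Agent.Lib.Helper14.SiteRetr
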