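import Mathlib.Algebra.BigOperators.Intervals
import Mathlib.Data.Nat.Choose.Basic
import Mathlib.Algebra.Order.BigOperators.Group.Finset
import Mathlib.Tactic

/-! Pure combinatorics of staircase functions `h a b` of strongly stable monomial ideals in
three variables. -/

namespace Groth.Agent.Lib.Helper14.StairCore

open Finset

lemma choose_two_succ (s : ℕ) : Nat.choose (s + 1) 2 = Nat.choose s 2 + s := by
  rw [Nat.choose_succ_succ' s 1, Nat.choose_one_right, add_comm]

lemma choose_three_succ (s : ℕ) : Nat.choose (s + 1) 3 = Nat.choose s 3 + Nat.choose s 2 := by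
  rw [Nat.choose_succ_succ' s 2, add_comm]

/-- truncated triangular sums -/
lemma tri_le (m B : ℕ) : ∑ b ∈ range B, (m - b) ≤ Nat.choose (m + 1) 2 := by
  induction m generalizing B with
  | zero => simp
  | succ m ih =>
    rcases B with _ | B
    · simp
    · rw [sum_range_succ', choose_two_succ (m + 1)]
      have := ih B
      have h2 : ∑ b ∈ range B, (m + 1 - (b + 1)) = ∑ b ∈ range B, (m - b) := by
        refine sum_congr rfl (fun b _ => by omega)
      rw [h2]
      omega

lemma tri_eq (m B : ℕ) (hB : m ≤ B) : ∑ b ∈ range B, (m - b) = Nat.choose (m + 1) 2 := by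
  induction m generalizing B with
  | zero => simp
  | succ m ih =>
    rcases B with _ | B
    · omega
    · rw [sum_range_succ', choose_two_succ (m + 1)]
      have := ih B (by omega)
      have h2 : ∑ b ∈ range B, (m + 1 - (b + 1)) = ∑ b ∈ range B, (m - b) := by
        refine sum_congr rfl (fun b _ => by omega)
      rw [h2]
      omega

/-- hockey stick in the form needed -/
lemma hockey (t j : ℕ) : ∑ i ∈ Ico j (j + t), Nat.choose (j + t - i + 1) 2 = Nat.choose (t + 2) 3 := by
  induction t generalizing j with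
  | zero => simp
  | succ t ih =>
    rw [sum_eq_sum_Ico_succ_bot (by omega)]
    have h1 : j + (t + 1) = (j + 1) + t := by omega
    rw [h1, ih (j + 1), choose_three_succ (t + 2)]
    have : j + 1 + t - j + 1 = t + 2 := by omega
    rw [this]; omega

section

variable (h : ℕ → ℕ → ℕ) (B N : ℕ)

/-- size of the `a`-th slice -/
def dd (a : ℕ) : ℕ := ∑ b ∈ range B, h a b

/-- tail sums -/
def TT (j : ℕ) : ℕ := ∑ a ∈ Ico j N, dd h B a

variable {h B N}
variable (h1 : ∀ a b, 0 < h a (b + 1) → h a (b + 1) + 1 ≤ h a b)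
variable (h2 : ∀ a b, h (a + 1) b ≤ h a (b + 1))
variable (h3 : ∀ a b, 0 < h (a + 1) b → h (a + 1) b + 1 ≤ h a b)
variable (hB : ∀ a b, B ≤ b → h a b = 0)
variable (hN : ∀ a b, N ≤ a → h a b = 0)

include h1 in
lemma col (a b : ℕ) : h a b ≤ h a 0 - b := by
  induction b with
  | zero => simp
  | succ b ih =>
    rcases Nat.eq_zero_or_pos (h a (b + 1)) with h0 | h0
    · omega
    · have := h1 a b h0; omega

include h1 in
lemma dd_le (a : ℕ) : dd h B a ≤ Nat.choose (h a 0 + 1) 2 :=
  (sum_le_sum (fun b _ => col h1 a b)).trans (tri_le _ _)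

include h1 in
lemma pos_of_dd_pos (a : ℕ) (hp : 0 < dd h B a) : 0 < h a 0 := by
  by_contra hc
  have h0 : h a 0 = 0 := by omega
  have : dd h B a = 0 := by
    refine sum_eq_zero (fun b _ => ?_)
    have := col h1 a b; omega
  omega

include hB in
lemma dd_succ (a : ℕ) : dd h B a = ∑ b ∈ range (B + 1), h a b := by
  rw [sum_range_succ, hB a B le_rfl, add_zero]; rfl

include h2 h3 hB in
lemma stepA (a : ℕ) (hp : 0 < h (a + 1) 0) : dd h B (a + 1) + h (a + 1) 0 + 1 ≤ dd h B a := by
  rw [dd_succ hB a, sum_range_succ']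
  have e1 : dd h B (a + 1) ≤ ∑ b ∈ range B, h a (b + 1) := sum_le_sum (fun b _ => h2 a b)
  have e2 := h3 a 0 hp
  omega

include h1 h2 h3 hB in
lemma stepA' (a s : ℕ) (hs : Nat.choose s 2 < dd h B (a + 1)) : Nat.choose (s + 1) 2 < dd h B a := by
  have hp : 0 < h (a + 1) 0 := pos_of_dd_pos (B := B) h1 (a + 1) (by omega)
  have e1 := dd_le (B := B) h1 (a + 1)
  have hs' : s ≤ h (a + 1) 0 := by
    by_contra hc
    have : Nat.choose (h (a + 1) 0 + 1) 2 ≤ Nat.choose s 2 := Nat.choose_le_choose 2 (by omega)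
    omega
  have e2 := stepA h2 h3 hB a hp
  rw [choose_two_succ]
  omega

include h1 h2 h3 hB in
lemma dd_zero_of_le {a a' : ℕ} (ha : a ≤ a') (h0 : dd h B a = 0) : dd h B a' = 0 := by
  induction a', ha using Nat.le_induction with
  | base => exact h0
  | succ a' _ ih =>
    by_contra hc
    have := stepA' h1 h2 h3 hB a' 0 (by simpa using Nat.pos_of_ne_zero hc)
    omega

lemma TT_succ {j : ℕ} (hj : j < N) : TT h B N j = dd h B j + TT h B N (j + 1) :=
  sum_eq_sum_Ico_succ_bot hj _

lemma TT_of_le {j : ℕ} (hj : N ≤ j) : TT h B N j = 0 := by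
  unfold TT; rw [Ico_eq_empty (by omega)]; simp

include h1 h2 h3 hB in
lemma keyL (s j : ℕ) (hd : dd h B j ≤ Nat.choose (s + 1) 2) : TT h B N j ≤ Nat.choose (s + 2) 3 := by
  induction s generalizing j with
  | zero =>
    have h0 : dd h B j = 0 := by simpa using hd
    have : TT h B N j = 0 := by
      refine sum_eq_zero (fun a ha => ?_)
      exact dd_zero_of_le h1 h2 h3 hB (mem_Ico.1 ha).1 h0
    omega
  | succ s ih =>
    have hd' : dd h B j ≤ Nat.choose (s + 2) 2 := hd
    have c3 : Nat.choose (s + 3) 3 = Nat.choose (s + 2) 3 + Nat.choose (s + 2) 2 :=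
      choose_three_succ (s + 2)
    show TT h B N j ≤ Nat.choose (s + 3) 3
    rcases lt_or_ge j N with hj | hj
    · rw [TT_succ hj]
      have e1 : dd h B (j + 1) ≤ Nat.choose (s + 1) 2 := by
        by_contra hc
        have : Nat.choose (s + 2) 2 < dd h B j := stepA' h1 h2 h3 hB j (s + 1) (by omega)
        omega
      have := ih (j + 1) e1
      omega
    · rw [TT_of_le hj]; omega

include h1 h2 h3 hB in
/-- main inequality: all tail sums are bounded by those of the ball. -/
lemma main_ineq (r : ℕ) (h0 : TT h B N 0 ≤ Nat.choose (r + 2) 3) (j t : ℕ) (hjt : j + t = r) :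
    TT h B N j ≤ Nat.choose (t + 2) 3 := by
  induction j generalizing t with
  | zero => simpa [← hjt] using h0
  | succ j ih =>
    by_contra hc
    have hlt : Nat.choose (t + 2) 3 < TT h B N (j + 1) := by omega
    have e1 : Nat.choose (t + 1) 2 < dd h B (j + 1) := by
      by_contra hc2
      have := keyL (N := N) h1 h2 h3 hB t (j + 1) (by omega)
      omega
    have e2 : Nat.choose (t + 2) 2 < dd h B j := stepA' h1 h2 h3 hB j (t + 1) e1
    have hjN : j < N := by
      by_contra hc3
      rw [TT_of_le (by omega)] at hlt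
      omega
    have e3 : TT h B N j ≤ Nat.choose (t + 3) 3 := ih (t + 1) (by omega)
    have c3 : Nat.choose (t + 3) 3 = Nat.choose (t + 2) 3 + Nat.choose (t + 2) 2 :=
      choose_three_succ (t + 2)
    rw [TT_succ hjN] at e3
    omega

include hN in
lemma dd_of_le {a : ℕ} (ha : N ≤ a) : dd h B a = 0 :=
  sum_eq_zero (fun b _ => hN a b ha)

include hN in
lemma sum_Ico_le (j r : ℕ) : ∑ i ∈ Ico j r, dd h B i ≤ TT h B N j := by
  refine sum_le_sum_of_ne_zero (fun i hi hne => ?_)
  rw [mem_Ico] at hi ⊢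
  refine ⟨hi.1, ?_⟩
  by_contra hc
  exact hne (dd_of_le hN (by omega))

include h1 h2 h3 hB hN in
theorem part1 (r : ℕ) (h0 : TT h B N 0 ≤ Nat.choose (r + 2) 3) (j : ℕ) (hj : j ≤ r) :
    ∑ i ∈ Ico j r, dd h B i ≤ ∑ i ∈ Ico j r, Nat.choose (r - i + 1) 2 := by
  obtain ⟨t, rfl⟩ := Nat.exists_eq_add_of_le hj
  rw [hockey t j]
  exact (sum_Ico_le hN j (j + t)).trans (main_ineq h1 h2 h3 hB (j + t) h0 j t rfl)

include h1 h2 h3 hB hN in
theorem part2 (r : ℕ) (hBr : r + 1 ≤ B) (h0 : TT h B N 0 ≤ Nat.choose (r + 2) 3)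
    (heq : ∀ j, j < r → ∑ i ∈ Ico j r, dd h B i = ∑ i ∈ Ico j r, Nat.choose (r - i + 1) 2) :
    ∀ a b, h a b = r - a - b := by
  have heq' : ∀ j, j ≤ r → ∑ i ∈ Ico j r, dd h B i = ∑ i ∈ Ico j r, Nat.choose (r - i + 1) 2 := by
    intro j hj
    rcases lt_or_eq_of_le hj with hlt | rfl
    · exact heq j hlt
    · simp
  have E1 : ∀ i, i < r → dd h B i = Nat.choose (r - i + 1) 2 := by
    intro i hi
    have a1 := heq' i hi.le
    have a2 := heq' (i + 1) hi
    rw [sum_eq_sum_Ico_succ_bot hi, sum_eq_sum_Ico_succ_bot hi] at a1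
    omega
  have Etot : ∑ i ∈ Ico 0 r, dd h B i = Nat.choose (r + 2) 3 := by
    rw [heq' 0 (Nat.zero_le _)]
    have := hockey r 0
    simpa using this
  have E2 : ∀ i, r ≤ i → dd h B i = 0 := by
    intro i hi
    have a1 := sum_Ico_le (B := B) hN 0 (i + 1)
    rw [← sum_Ico_consecutive _ (Nat.zero_le r) (show r ≤ i + 1 by omega), Etot] at a1
    have a2 : dd h B i ≤ ∑ x ∈ Ico r (i + 1), dd h B x :=
      single_le_sum (f := fun x => dd h B x) (fun _ _ => Nat.zero_le _) (mem_Ico.2 ⟨hi, by omega⟩)
    omega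
  have E3 : ∀ a, r ≤ a → ∀ b, h a b = 0 := by
    intro a ha b
    rcases lt_or_ge b B with hb | hb
    · exact (sum_eq_zero_iff.1 (E2 a ha)) b (mem_range.2 hb)
    · exact hB a b hb
  have E4 : ∀ t a, a + t = r → ∀ b, h a b = t - b := by
    intro t
    induction t with
    | zero =>
      intro a ha b
      rw [E3 a (by omega) b]; omega
    | succ t ih =>
      intro a ha
      have ih' := ih (a + 1) (by omega)
      have hdd : dd h B a = Nat.choose (t + 2) 2 := by
        rw [E1 a (by omega)]
        have : r - a + 1 = t + 2 := by omega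
        rw [this]
      have hlow : ∀ b, t + 1 - b ≤ h a b := by
        intro b
        rcases lt_trichotomy b t with hb | hb | hb
        · have e1 := ih' b
          have e2 := h3 a b (by omega)
          omega
        · subst hb
          rcases b with _ | b
          · have : 0 < h a 0 := pos_of_dd_pos (B := B) h1 a (by rw [hdd]; simp)
            omega
          · have e1 := ih' b
            have e2 := h2 a b
            omega
        · omega
      have hsum : ∑ b ∈ range B, (t + 1 - b) = ∑ b ∈ range B, h a b := by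
        rw [tri_eq (t + 1) B (by omega)]
        exact hdd.symm
      have hpt := (sum_eq_sum_iff_of_le (fun b _ => hlow b)).1 hsum
      intro b
      rcases lt_or_ge b B with hb | hb
      · exact (hpt b (mem_range.2 hb)).symm
      · rw [hB a b hb]; omega
  intro a b
  rcases le_or_gt a r with ha | ha
  · obtain ⟨t, rfl⟩ := Nat.exists_eq_add_of_le ha
    rw [E4 t a rfl b]; omega
  · rw [E3 a ha.le b]; omega

end

end Groth.Agent.Lib.Helper14.StairCore
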