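import Groth.Agent.Lib.Helper14.TPiece
import Groth.Agent.Lib.Helper14.StairCore
import Groth.Agent.Lib.Helper9.MonomialIdeal2
import Mathlib.RingTheory.MvPolynomial.Ideal

/-! Bridge: staircase numbers of strongly stable ideals in `k[x,y,z]`, colengths of slices. -/

universe u
open MvPolynomial W4c1hilbpn

namespace Groth.Agent.Lib.Helper14.StairA

open Groth.Agent.Lib.Helper14.TPiece Groth.Agent.Lib.Helper14.StairCore

variable {k : Type u} [Field k]

section basis
variable {n : ℕ} (I : Ideal (MvPolynomial (Fin n) k)) (hI : IsMonomial I)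

include hI in
lemma span_std : ⊤ ≤ Submodule.span k (Set.range
    (fun β : {β : Fin n →₀ ℕ // β ∉ exps I} => Ideal.Quotient.mk I (monomial β.1 (1 : k)))) := by
  rintro x -
  obtain ⟨p, rfl⟩ := Ideal.Quotient.mk_surjective x
  rw [as_sum p, map_sum]
  refine Submodule.sum_mem _ (fun β _ => ?_)
  have h1 : monomial β (coeff β p) = coeff β p • monomial β (1 : k) := by
    rw [smul_monomial, smul_eq_mul, mul_one]
  rw [h1]
  have h2 : Ideal.Quotient.mk I (coeff β p • monomial β (1 : k)) =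
      coeff β p • Ideal.Quotient.mk I (monomial β (1 : k)) := rfl
  rw [h2]
  refine Submodule.smul_mem _ _ ?_
  by_cases hβ : β ∈ exps I
  · have : Ideal.Quotient.mk I (monomial β (1 : k)) = 0 := Ideal.Quotient.eq_zero_iff_mem.2 hβ
    rw [this]; exact Submodule.zero_mem _
  · exact Submodule.subset_span ⟨⟨β, hβ⟩, rfl⟩

include hI in
lemma finrank_quot_eq_card :
    Module.finrank k (MvPolynomial (Fin n) k ⧸ I) = Nat.card {β : Fin n →₀ ℕ // β ∉ exps I} :=
  Module.finrank_eq_nat_card_basis (Module.Basis.mk (linIndep I hI) (span_std I hI))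

end basis

/-- finite down-sets of `ℕ` -/
lemma downset_iff (p : ℕ → Prop) (hd : ∀ c, p (c + 1) → p c) (hf : {c | p c}.Finite) (c : ℕ) :
    p c ↔ c < Nat.card {c // p c} := by
  classical
  have hex : ∃ m, ¬ p m := by
    by_contra hc
    push_neg at hc
    have : {c | p c} = Set.univ := Set.eq_univ_of_forall hc
    rw [this] at hf
    exact Set.infinite_univ hf
  have hiff : ∀ c, p c ↔ c < Nat.find hex := by
    intro c
    constructor
    · intro hc
      by_contra hlt
      push_neg at hlt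
      have : ∀ d, c ≤ d → p d → p c := fun d hd' hpd => hc
      have hdown : ∀ t, p (Nat.find hex + t) → p (Nat.find hex) := by
        intro t
        induction t with
        | zero => exact id
        | succ t ih => exact fun h => ih (hd _ h)
      obtain ⟨t, rfl⟩ := Nat.exists_eq_add_of_le hlt
      exact Nat.find_spec hex (hdown t hc)
    · intro hlt
      by_contra hc
      exact Nat.find_min hex hlt hc
  have hcard : Nat.card {c // p c} = Nat.find hex := by
    rw [Nat.card_congr (Equiv.subtypeEquivRight hiff)]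
    generalize Nat.find hex = m
    rw [Nat.card_congr Fin.equivSubtype.symm, Nat.card_eq_fintype_card, Fintype.card_fin]
  rw [hcard]
  exact hiff c

section cards

lemma card2 (g : ℕ → ℕ) (B : ℕ) (hg : ∀ b, B ≤ b → g b = 0) :
    Nat.card {β : Fin 2 →₀ ℕ // β 1 < g (β 0)} = ∑ b ∈ Finset.range B, g b := by
  classical
  have hlt : ∀ β : Fin 2 →₀ ℕ, β 1 < g (β 0) → β 0 < B := by
    intro β h
    by_contra hc
    rw [hg _ (by omega)] at h
    omega
  let E : {β : Fin 2 →₀ ℕ // β 1 < g (β 0)} ≃ (Σ b : Fin B, Fin (g b)) :=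
    { toFun := fun β => ⟨⟨β.1 0, hlt β.1 β.2⟩, ⟨β.1 1, β.2⟩⟩
      invFun := fun x => ⟨Finsupp.equivFunOnFinite.symm ![x.1.1, x.2.1], by
        show (Finsupp.equivFunOnFinite.symm ![x.1.1, x.2.1]) 1 <
          g ((Finsupp.equivFunOnFinite.symm ![x.1.1, x.2.1]) 0)
        simp⟩
      left_inv := by
        rintro ⟨β, hβ⟩
        apply Subtype.ext
        ext i
        fin_cases i <;> simp
      right_inv := by
        rintro ⟨⟨b, hb⟩, ⟨c, hc⟩⟩
        simp }
  rw [Nat.card_congr E, Nat.card_sigma]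
  simp only [Nat.card_eq_fintype_card, Fintype.card_fin]
  exact Fin.sum_univ_eq_sum_range (fun b => g b) B

lemma card3 (h : ℕ → ℕ → ℕ) (B N : ℕ) (hB : ∀ a b, B ≤ b → h a b = 0)
    (hN : ∀ a b, N ≤ a → h a b = 0) :
    Nat.card {β : Fin 3 →₀ ℕ // β 2 < h (β 0) (β 1)} =
      ∑ a ∈ Finset.range N, ∑ b ∈ Finset.range B, h a b := by
  classical
  have hlt1 : ∀ β : Fin 3 →₀ ℕ, β 2 < h (β 0) (β 1) → β 0 < N := by
    intro β hh
    by_contra hc
    rw [hN _ _ (by omega)] at hh
    omega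
  have hlt2 : ∀ β : Fin 3 →₀ ℕ, β 2 < h (β 0) (β 1) → β 1 < B := by
    intro β hh
    by_contra hc
    rw [hB _ _ (by omega)] at hh
    omega
  let E : {β : Fin 3 →₀ ℕ // β 2 < h (β 0) (β 1)} ≃ (Σ a : Fin N, Σ b : Fin B, Fin (h a b)) :=
    { toFun := fun β => ⟨⟨β.1 0, hlt1 β.1 β.2⟩, ⟨β.1 1, hlt2 β.1 β.2⟩, ⟨β.1 2, β.2⟩⟩
      invFun := fun x => ⟨Finsupp.equivFunOnFinite.symm ![x.1.1, x.2.1.1, x.2.2.1], by
        show (Finsupp.equivFunOnFinite.symm ![x.1.1, x.2.1.1, x.2.2.1]) 2 <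
          h ((Finsupp.equivFunOnFinite.symm ![x.1.1, x.2.1.1, x.2.2.1]) 0)
            ((Finsupp.equivFunOnFinite.symm ![x.1.1, x.2.1.1, x.2.2.1]) 1)
        simp⟩
      left_inv := by
        rintro ⟨β, hβ⟩
        apply Subtype.ext
        ext i
        fin_cases i <;> simp
      right_inv := by
        rintro ⟨⟨a, ha⟩, ⟨b, hb⟩, ⟨c, hc⟩⟩
        simp }
  rw [Nat.card_congr E]
  simp only [Nat.card_eq_fintype_card, Fintype.card_sigma, Fintype.card_fin]
  rw [← Fin.sum_univ_eq_sum_range (fun a => ∑ b ∈ Finset.range B, h a b) N]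
  refine Finset.sum_congr rfl (fun a _ => ?_)
  exact Fin.sum_univ_eq_sum_range (fun b => h a b) B

end cards

section main

variable (I : Ideal (MvPolynomial (Fin 3) k))

lemma e3_apply (a b c : ℕ) (i : Fin 3) : e3 a b c i = ![a, b, c] i := rfl

lemma e3_eta (β : Fin 3 →₀ ℕ) : e3 (β 0) (β 1) (β 2) = β := by
  ext i
  rw [e3_apply]
  fin_cases i <;> rfl

lemma e3_succ0 (a b c : ℕ) : e3 (a + 1) b c = e3 a b c + Finsupp.single 0 1 := by
  ext i
  rw [Finsupp.add_apply, e3_apply, e3_apply]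
  fin_cases i <;> simp

lemma e3_succ1 (a b c : ℕ) : e3 a (b + 1) c = e3 a b c + Finsupp.single 1 1 := by
  ext i
  rw [Finsupp.add_apply, e3_apply, e3_apply]
  fin_cases i <;> simp

lemma e3_succ2 (a b c : ℕ) : e3 a b (c + 1) = e3 a b c + Finsupp.single 2 1 := by
  ext i
  rw [Finsupp.add_apply, e3_apply, e3_apply]
  fin_cases i <;> simp

lemma e3_injective (a b : ℕ) : Function.Injective (fun c => e3 a b c) := by
  intro c c' h
  have := DFunLike.congr_fun h 2
  simpa [e3_apply] using this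

lemma mem_succ2 {a b c : ℕ} (h : e3 a b c ∈ exps I) : e3 a b (c + 1) ∈ exps I := by
  rw [e3_succ2]; exact exps_add I h 2

section stable
variable {I} (hI : IsStronglyStable I)

include hI in
lemma move01 {a b c : ℕ} (h : e3 a (b + 1) c ∈ exps I) : e3 (a + 1) b c ∈ exps I := by
  have := hI.2 _ h 0 1 (by decide) (by rw [e3_apply]; simp)
  convert this using 1
  ext i
  simp only [Finsupp.add_apply, Finsupp.tsub_apply, e3_apply]
  fin_cases i <;> simp

include hI in
lemma move02 {a b c : ℕ} (h : e3 a b (c + 1) ∈ exps I) : e3 (a + 1) b c ∈ exps I := by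
  have := hI.2 _ h 0 2 (by decide) (by rw [e3_apply]; simp)
  convert this using 1
  ext i
  simp only [Finsupp.add_apply, Finsupp.tsub_apply, e3_apply]
  fin_cases i <;> simp

include hI in
lemma move12 {a b c : ℕ} (h : e3 a b (c + 1) ∈ exps I) : e3 a (b + 1) c ∈ exps I := by
  have := hI.2 _ h 1 2 (by decide) (by rw [e3_apply]; simp)
  convert this using 1
  ext i
  simp only [Finsupp.add_apply, Finsupp.tsub_apply, e3_apply]
  fin_cases i <;> simp

variable [Module.Finite k (MvPolynomial (Fin 3) k ⧸ I)]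

include hI in
lemma finite_col (a b : ℕ) : {c | e3 a b c ∉ exps I}.Finite := by
  have hfin : {β : Fin 3 →₀ ℕ | β ∉ exps I}.Finite :=
    (Set.finite_coe_iff (s := {β : Fin 3 →₀ ℕ | β ∉ exps I})).1 (finite_compl I hI.1)
  exact Set.Finite.preimage (f := fun c => e3 a b c) ((e3_injective a b).injOn) hfin

include hI in
lemma notMem_iff (a b c : ℕ) : e3 a b c ∉ exps I ↔ c < stairZ I a b :=
  downset_iff (fun c => e3 a b c ∉ exps I) (fun _ h h' => h (mem_succ2 I h')) (finite_col hI a b) c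

include hI in
lemma exists_bound : ∃ M, ∀ β : Fin 3 →₀ ℕ, β ∉ exps I → ∀ i, β i < M := by
  have hfin : {β : Fin 3 →₀ ℕ | β ∉ exps I}.Finite :=
    (Set.finite_coe_iff (s := {β : Fin 3 →₀ ℕ | β ∉ exps I})).1 (finite_compl I hI.1)
  refine ⟨(hfin.toFinset.sup fun β => β 0 + β 1 + β 2) + 1, fun β hβ i => ?_⟩
  have h1 : (fun β : Fin 3 →₀ ℕ => β 0 + β 1 + β 2) β ≤
      hfin.toFinset.sup fun β => β 0 + β 1 + β 2 :=
    Finset.le_sup (f := fun β : Fin 3 →₀ ℕ => β 0 + β 1 + β 2) (hfin.mem_toFinset.2 hβ)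
  have h2 : β i ≤ β 0 + β 1 + β 2 := by fin_cases i <;> simp <;> omega
  simp only at h1
  omega

include hI in
lemma stair_h1 (a b : ℕ) (hp : 0 < stairZ I a (b + 1)) :
    stairZ I a (b + 1) + 1 ≤ stairZ I a b := by
  have e1 : e3 a (b + 1) (stairZ I a (b + 1) - 1) ∉ exps I := (notMem_iff hI _ _ _).2 (by omega)
  have e2 : e3 a b (stairZ I a (b + 1) - 1 + 1) ∉ exps I := fun h => e1 (move12 hI h)
  have := (notMem_iff hI _ _ _).1 e2
  omega

include hI in
lemma stair_h2 (a b : ℕ) : stairZ I (a + 1) b ≤ stairZ I a (b + 1) := by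
  by_contra hc
  have e1 : e3 (a + 1) b (stairZ I a (b + 1)) ∉ exps I := (notMem_iff hI _ _ _).2 (by omega)
  have e2 : e3 a (b + 1) (stairZ I a (b + 1)) ∉ exps I := fun h => e1 (move01 hI h)
  have := (notMem_iff hI _ _ _).1 e2
  omega

include hI in
lemma stair_h3 (a b : ℕ) (hp : 0 < stairZ I (a + 1) b) :
    stairZ I (a + 1) b + 1 ≤ stairZ I a b := by
  have e1 : e3 (a + 1) b (stairZ I (a + 1) b - 1) ∉ exps I := (notMem_iff hI _ _ _).2 (by omega)
  have e2 : e3 a b (stairZ I (a + 1) b - 1 + 1) ∉ exps I := fun h => e1 (move02 hI h)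
  have := (notMem_iff hI _ _ _).1 e2
  omega

include hI in
lemma exists_bounds : ∃ M, (∀ a b, M ≤ b → stairZ I a b = 0) ∧ (∀ a b, M ≤ a → stairZ I a b = 0) := by
  obtain ⟨M, hM⟩ := exists_bound hI
  refine ⟨M, fun a b hb => ?_, fun a b ha => ?_⟩
  · by_contra hc
    have e1 : e3 a b 0 ∉ exps I := (notMem_iff hI _ _ _).2 (Nat.pos_of_ne_zero hc)
    have := hM _ e1 1
    rw [e3_apply] at this
    simp at this
    omega
  · by_contra hc
    have e1 : e3 a b 0 ∉ exps I := (notMem_iff hI _ _ _).2 (Nat.pos_of_ne_zero hc)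
    have := hM _ e1 0
    rw [e3_apply] at this
    simp at this
    omega

include hI in
lemma finrank_total (B N : ℕ) (hB : ∀ a b, B ≤ b → stairZ I a b = 0)
    (hN : ∀ a b, N ≤ a → stairZ I a b = 0) :
    Module.finrank k (MvPolynomial (Fin 3) k ⧸ I) = TT (stairZ I) B N 0 := by
  rw [finrank_quot_eq_card I hI.1]
  have hcongr : ∀ β : Fin 3 →₀ ℕ, β ∉ exps I ↔ β 2 < stairZ I (β 0) (β 1) := by
    intro β
    rw [← notMem_iff hI, e3_eta]
  rw [Nat.card_congr (Equiv.subtypeEquivRight hcongr), card3 (stairZ I) B N hB hN]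
  unfold TT dd
  rw [Nat.Ico_zero_eq_range]

lemma exps_sliceX (hI' : IsMonomial I) (a : ℕ) (β : Fin 2 →₀ ℕ) :
    β ∈ exps (sliceX I a) ↔ e3 a (β 0) (β 1) ∈ exps I := by
  classical
  show monomial β (1 : k) ∈ sliceX I a ↔ _
  rw [Groth.Agent.Lib.Helper9.mem_sliceX_iff I hI' _ a]
  rw [support_monomial, if_neg one_ne_zero]
  simp

lemma isMonomial_sliceX (hI' : IsMonomial I) (a : ℕ) : IsMonomial (sliceX I a) := by
  intro p hp β hβ
  rw [Groth.Agent.Lib.Helper9.mem_sliceX_iff I hI' _ a] at hp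
  exact (exps_sliceX hI' a β).2 (hp β hβ)

include hI in
lemma finrank_slice (B : ℕ) (hB : ∀ a b, B ≤ b → stairZ I a b = 0) (a : ℕ) :
    Module.finrank k (MvPolynomial (Fin 2) k ⧸ sliceX I a) = dd (stairZ I) B a := by
  rw [finrank_quot_eq_card _ (isMonomial_sliceX hI.1 a)]
  have hcongr : ∀ β : Fin 2 →₀ ℕ, β ∉ exps (sliceX I a) ↔ β 1 < stairZ I a (β 0) := by
    intro β
    rw [exps_sliceX hI.1 a β, notMem_iff hI]
  rw [Nat.card_congr (Equiv.subtypeEquivRight hcongr), card2 (stairZ I a) B (hB a)]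
  rfl

include hI in
/-- If the staircase is that of the ball then `I = m^r`. -/
lemma eq_pow_of_stair (r : ℕ) (hst : ∀ a b, stairZ I a b = r - a - b) :
    I = (Ideal.span (Set.range (MvPolynomial.X : Fin 3 → MvPolynomial (Fin 3) k))) ^ r := by
  ext p
  rw [Groth.Agent.Lib.Helper9.mem_iff_support_subset_exps I hI.1]
  have := MvPolynomial.mem_pow_idealOfVars_iff (σ := Fin 3) (R := k) r p
  rw [this]
  refine forall₂_congr (fun β _ => ?_)
  have h1 : β ∈ exps I ↔ ¬ (β 2 < stairZ I (β 0) (β 1)) := by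
    rw [← notMem_iff hI, e3_eta, not_not]
  rw [h1, hst, Finsupp.degree_eq_sum, Fin.sum_univ_three]
  omega

end stable

end main

end Groth.Agent.Lib.Helper14.StairA
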