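import Groth.Prelude.Def_W4c1hilbpnTgt
import Mathlib.LinearAlgebra.Dimension.Finrank
import Mathlib.RingTheory.Finiteness.Defs
import Mathlib.LinearAlgebra.Dimension.Constructions
import Mathlib.LinearAlgebra.Dimension.Free
import Mathlib.RingTheory.MvPolynomial.Basic
import Mathlib.Combinatorics.SimpleGraph.Connectivity.Connected

universe u
open MvPolynomial W4c1hilbpn

namespace Groth.Agent.Lib.Helper14.TPiece

variable {k : Type u} [Field k] {n : ℕ} (I : Ideal (MvPolynomial (Fin n) k)) (α : Fin n → ℤ)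

/-- the shifted integer vector of an exponent vector -/
def vz (β : Fin n →₀ ℕ) : Fin n → ℤ := fun i => (β i : ℤ) + α i

/-- unit exponent vector -/
noncomputable abbrev e (i : Fin n) : Fin n →₀ ℕ := Finsupp.single i 1

lemma vz_injective : Function.Injective (vz α) := by
  intro β β' h
  ext i
  have := congrFun h i
  simp only [vz] at this
  omega

lemma vz_add (β : Fin n →₀ ℕ) (i j : Fin n) :
    vz α (β + e i) j = vz α β j + if j = i then 1 else 0 := by
  simp only [vz, Finsupp.add_apply, Finsupp.single_apply]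
  split_ifs with h1 h2 h2
  · push_cast; ring
  · exact absurd h1.symm h2
  · exact absurd h2.symm h1
  · push_cast; ring

lemma shift_apply (β : Fin n →₀ ℕ) (i : Fin n) : shift β α i = (vz α β i).toNat := rfl

lemma exps_add {β : Fin n →₀ ℕ} (hβ : β ∈ exps I) (i : Fin n) : β + e i ∈ exps I := by
  change monomial (β + e i) (1 : k) ∈ I
  have : monomial (β + e i) (1 : k) = monomial β 1 * X i := by
    rw [X, monomial_mul, mul_one]
  rw [this]
  exact I.mul_mem_right _ hβ

lemma shift_add {β : Fin n →₀ ℕ} (h : ∀ j, 0 ≤ vz α β j) (i : Fin n) :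
    shift (β + e i) α = shift β α + e i := by
  ext j
  rw [Finsupp.add_apply, shift_apply, shift_apply, vz_add, Finsupp.single_apply]
  have := h j
  split_ifs with h1 h2 h2
  · omega
  · exact absurd h1.symm h2
  · exact absurd h2.symm h1
  · omega

lemma mem_region_iff (β : Fin n →₀ ℕ) :
    vz α β ∈ region I α ↔ β ∈ exps I ∧ ¬((∀ i, 0 ≤ vz α β i) ∧ shift β α ∈ exps I) := by
  constructor
  · rintro ⟨⟨β', hβ', h⟩, h2⟩
    have : β = β' := vz_injective α h
    subst this
    exact ⟨hβ', h2⟩
  · rintro ⟨h1, h2⟩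
    exact ⟨⟨β, h1, rfl⟩, h2⟩


/-- the graph on the region -/
abbrev G : SimpleGraph ↥(region I α) := (stepGraph (Fin n)).induce (region I α)

/-- exponent vector of a vertex -/
noncomputable def bv (v : ↥(region I α)) : Fin n →₀ ℕ := Classical.choose v.2.1

lemma bv_mem (v : ↥(region I α)) : bv I α v ∈ exps I := (Classical.choose_spec v.2.1).1

lemma vz_bv (v : ↥(region I α)) : vz α (bv I α v) = v.1 := (Classical.choose_spec v.2.1).2.symm

/-- vertex of an exponent vector in the region -/
def mkV (β : Fin n →₀ ℕ) (h : vz α β ∈ region I α) : ↥(region I α) := ⟨vz α β, h⟩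

lemma bv_mkV (β : Fin n →₀ ℕ) (h : vz α β ∈ region I α) : bv I α (mkV I α β h) = β :=
  vz_injective α (vz_bv I α _)

lemma mkV_bv (v : ↥(region I α)) (h : vz α (bv I α v) ∈ region I α) : mkV I α (bv I α v) h = v :=
  Subtype.ext (vz_bv I α v)

lemma adj_add (β : Fin n →₀ ℕ) (i : Fin n) (h1 : vz α β ∈ region I α)
    (h2 : vz α (β + e i) ∈ region I α) : (G I α).Adj (mkV I α β h1) (mkV I α (β + e i) h2) := by
  change (stepGraph (Fin n)).Adj (vz α β) (vz α (β + e i))
  rw [stepGraph, SimpleGraph.fromRel_adj]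
  constructor
  · intro h
    have := congrFun h i
    rw [vz_add] at this
    simp at this
  · left
    rw [Finset.sum_eq_single i]
    · rw [vz_add]; simp
    · intro j _ hj
      rw [vz_add, if_neg hj]; simp
    · intro h; exact absurd (Finset.mem_univ i) h

lemma l1_unit (f : Fin n → ℤ) (h : ∑ i, |f i| = 1) : ∃ i, |f i| = 1 ∧ ∀ j, j ≠ i → f j = 0 := by
  have hex : ∃ i, f i ≠ 0 := by
    by_contra hcon
    push Not at hcon
    simp [hcon] at h
  obtain ⟨i, hi⟩ := hex
  have hsplit := Finset.add_sum_erase Finset.univ (fun j => |f j|) (Finset.mem_univ i)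
  rw [h] at hsplit
  have hpos : 1 ≤ |f i| := Int.one_le_abs hi
  have hnn : 0 ≤ ∑ j ∈ Finset.univ.erase i, |f j| := Finset.sum_nonneg (fun j _ => abs_nonneg _)
  have h0 : ∑ j ∈ Finset.univ.erase i, |f j| = 0 := by omega
  refine ⟨i, by omega, fun j hj => ?_⟩
  have := (Finset.sum_eq_zero_iff_of_nonneg (fun j _ => abs_nonneg (f j))).1 h0 j
    (Finset.mem_erase.2 ⟨hj, Finset.mem_univ j⟩)
  exact abs_eq_zero.1 this

lemma step_of_adj {v v' : ↥(region I α)} (h : (G I α).Adj v v') :
    ∃ i, bv I α v' = bv I α v + e i ∨ bv I α v = bv I α v' + e i := by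
  have h' : (stepGraph (Fin n)).Adj v.1 v'.1 := h
  rw [stepGraph, SimpleGraph.fromRel_adj] at h'
  obtain ⟨-, hs⟩ := h'
  have hs' : ∑ i, |v.1 i - v'.1 i| = 1 := by
    rcases hs with hs | hs
    · exact hs
    · rw [← hs]
      exact Finset.sum_congr rfl (fun i _ => abs_sub_comm _ _)
  obtain ⟨i, hi, hj⟩ := l1_unit (fun i => v.1 i - v'.1 i) hs'
  refine ⟨i, ?_⟩
  have e1 : ∀ j, v.1 j = (bv I α v j : ℤ) + α j := fun j => (congrFun (vz_bv I α v) j).symm
  have e2 : ∀ j, v'.1 j = (bv I α v' j : ℤ) + α j := fun j => (congrFun (vz_bv I α v') j).symm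
  rcases (abs_eq (by norm_num : (0 : ℤ) ≤ 1)).1 hi with h1 | h1
  · right
    have h1' : v.1 i - v'.1 i = 1 := h1
    ext j
    rw [Finsupp.add_apply, Finsupp.single_apply]
    by_cases hji : j = i
    · subst hji
      rw [if_pos rfl]
      have := e1 j; have := e2 j
      omega
    · rw [if_neg (Ne.symm hji)]
      have hj' : v.1 j - v'.1 j = 0 := hj j hji
      have := e1 j; have := e2 j
      omega
  · left
    have h1' : v.1 i - v'.1 i = -1 := h1
    ext j
    rw [Finsupp.add_apply, Finsupp.single_apply]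
    by_cases hji : j = i
    · subst hji
      rw [if_pos rfl]
      have := e1 j; have := e2 j
      omega
    · rw [if_neg (Ne.symm hji)]
      have hj' : v.1 j - v'.1 j = 0 := hj j hji
      have := e1 j; have := e2 j
      omega


lemma reach_induct {P : ↥(region I α) → Prop}
    (hP : ∀ v v', (G I α).Adj v v' → P v → P v') {u v : ↥(region I α)}
    (h : (G I α).Reachable u v) (hu : P u) : P v := by
  obtain ⟨w⟩ := h
  induction w with
  | nil => exact hu
  | cons hadj _ ih => exact ih (hP _ _ hadj hu)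

lemma exps_add_nsmul {β : Fin n →₀ ℕ} (hβ : β ∈ exps I) (j : Fin n) (t : ℕ) :
    β + t • e j ∈ exps I := by
  induction t with
  | zero => simpa using hβ
  | succ t ih =>
    rw [succ_nsmul, ← add_assoc]
    exact exps_add I ih j

lemma vz_add_nsmul_of_ne (β : Fin n →₀ ℕ) {i j : Fin n} (hij : j ≠ i) (t : ℕ) :
    vz α (β + t • e j) i = vz α β i := by
  simp only [vz, Finsupp.add_apply, Finsupp.smul_apply, Finsupp.single_apply, if_neg hij]
  simp

lemma neg_mem_region {β : Fin n →₀ ℕ} (hβ : β ∈ exps I) {i : Fin n} (hi : vz α β i < 0) :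
    vz α β ∈ region I α :=
  (mem_region_iff I α β).2 ⟨hβ, fun h => absurd (h.1 i) (not_le.2 hi)⟩

/-- a component containing a point with a negative coordinate is infinite -/
lemma infinite_of_neg (hn : 2 ≤ n) (v : ↥(region I α)) {i : Fin n} (hi : v.1 i < 0) :
    ((G I α).connectedComponentMk v).supp.Infinite := by
  have : Nontrivial (Fin n) := Fin.nontrivial_iff_two_le.2 hn
  obtain ⟨j, hj⟩ := exists_ne i
  have hneg : ∀ t : ℕ, vz α (bv I α v + t • e j) i < 0 := by
    intro t
    rw [vz_add_nsmul_of_ne α _ hj, vz_bv]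
    exact hi
  have hreg : ∀ t : ℕ, vz α (bv I α v + t • e j) ∈ region I α := fun t =>
    neg_mem_region I α (exps_add_nsmul I (bv_mem I α v) j t) (hneg t)
  have hreach : ∀ t : ℕ, (G I α).Reachable v (mkV I α _ (hreg t)) := by
    intro t
    induction t with
    | zero =>
      have : mkV I α _ (hreg 0) = v := by
        apply Subtype.ext
        change vz α (bv I α v + 0 • e j) = v.1
        rw [zero_smul, add_zero, vz_bv]
      rw [this]
    | succ t ih =>
      refine ih.trans (SimpleGraph.Adj.reachable ?_)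
      have h2 : vz α (bv I α v + t • e j + e j) ∈ region I α := by
        have := hreg (t + 1)
        rwa [succ_nsmul, ← add_assoc] at this
      have hadj := adj_add I α (bv I α v + t • e j) j (hreg t) h2
      have : mkV I α _ h2 = mkV I α _ (hreg (t + 1)) := by
        apply Subtype.ext
        change vz α (bv I α v + t • e j + e j) = vz α (bv I α v + (t + 1) • e j)
        rw [succ_nsmul, ← add_assoc]
      rw [← this]
      exact hadj
  apply Set.infinite_of_injective_forall_mem (f := fun t : ℕ => mkV I α _ (hreg t))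
  · intro t t' h
    have h1 : vz α (bv I α v + t • e j) = vz α (bv I α v + t' • e j) := congrArg Subtype.val h
    have h2 := vz_injective α h1
    have h3 := congrArg (fun b : Fin n →₀ ℕ => b j) h2
    simpa using h3
  · intro t
    rw [SimpleGraph.ConnectedComponent.mem_supp_iff, SimpleGraph.ConnectedComponent.eq]
    exact (hreach t).symm


section Finiteness

variable (hI : IsMonomial I)

include hI in
lemma linIndep : LinearIndependent k
    (fun β : {β : Fin n →₀ ℕ // β ∉ exps I} => Ideal.Quotient.mk I (monomial β.1 (1 : k))) := by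
  rw [linearIndependent_iff]
  intro l hl
  rw [Finsupp.linearCombination_apply, Finsupp.sum] at hl
  have h1 : Ideal.Quotient.mk I (∑ β ∈ l.support, monomial β.1 (l β)) = 0 := by
    rw [map_sum, ← hl]
    refine Finset.sum_congr rfl (fun β _ => ?_)
    have : monomial β.1 (l β) = l β • monomial β.1 (1 : k) := by
      rw [smul_monomial, smul_eq_mul, mul_one]
    rw [this]
    rfl
  have hp : (∑ β ∈ l.support, monomial β.1 (l β)) ∈ I := Ideal.Quotient.eq_zero_iff_mem.1 h1
  ext β₀
  rw [Finsupp.zero_apply]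
  by_contra hne
  have hc : coeff β₀.1 (∑ β ∈ l.support, monomial β.1 (l β)) = l β₀ := by
    rw [coeff_sum]
    rw [Finset.sum_eq_single β₀]
    · rw [coeff_monomial, if_pos rfl]
    · intro β _ hβ
      rw [coeff_monomial, if_neg]
      intro h
      exact hβ (Subtype.ext h)
    · intro h
      rw [Finsupp.notMem_support_iff] at h
      exact absurd h hne
  have hs : β₀.1 ∈ (∑ β ∈ l.support, monomial β.1 (l β)).support := by
    rw [mem_support_iff, hc]
    exact hne
  exact β₀.2 (hI _ hp _ hs)

include hI in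
lemma finite_compl [Module.Finite k (MvPolynomial (Fin n) k ⧸ I)] :
    Finite {β : Fin n →₀ ℕ // β ∉ exps I} :=
  (linIndep I hI).finite_of_isNoetherian

lemma shift_notMem (v : ↥(region I α)) (hv : ∀ i, 0 ≤ v.1 i) : shift (bv I α v) α ∉ exps I := by
  have h := v.2
  rw [← vz_bv I α v, mem_region_iff] at h
  intro hmem
  exact h.2 ⟨fun i => by rw [vz_bv]; exact hv i, hmem⟩

include hI in
lemma finite_nonneg [Module.Finite k (MvPolynomial (Fin n) k ⧸ I)] :
    Finite {v : ↥(region I α) // ∀ i, 0 ≤ v.1 i} := by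
  have := finite_compl I hI
  refine Finite.of_injective
    (fun v : {v : ↥(region I α) // ∀ i, 0 ≤ v.1 i} =>
      (⟨shift (bv I α v.1) α, shift_notMem I α v.1 v.2⟩ : {β : Fin n →₀ ℕ // β ∉ exps I})) ?_
  intro v v' h
  have h1 : shift (bv I α v.1) α = shift (bv I α v'.1) α := congrArg Subtype.val h
  apply Subtype.ext
  apply Subtype.ext
  funext i
  have h2 := congrArg (fun b : Fin n →₀ ℕ => b i) h1
  simp only [shift_apply] at h2
  rw [vz_bv, vz_bv] at h2
  have := v.2 i
  have := v'.2 i
  omega

include hI in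
/-- a component all of whose points are nonnegative is finite -/
lemma finite_of_nonneg [Module.Finite k (MvPolynomial (Fin n) k ⧸ I)]
    (C : (G I α).ConnectedComponent) (hC : ∀ v ∈ C.supp, ∀ i, 0 ≤ v.1 i) : C.supp.Finite := by
  have := finite_nonneg I α hI
  have hfin : {v : ↥(region I α) | ∀ i, 0 ≤ v.1 i}.Finite := Set.finite_coe_iff.1 this
  exact hfin.subset (fun v hv => hC v hv)

lemma nonneg_of_finite (hn : 2 ≤ n) (C : (G I α).ConnectedComponent) (hC : C.supp.Finite)
    (v : ↥(region I α)) (hv : v ∈ C.supp) (i : Fin n) : 0 ≤ v.1 i := by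
  by_contra hneg
  rw [SimpleGraph.ConnectedComponent.mem_supp_iff] at hv
  subst hv
  exact infinite_of_neg I α hn v (not_le.1 hneg) hC

include hI in
lemma finite_bdd (hn : 2 ≤ n) [Module.Finite k (MvPolynomial (Fin n) k ⧸ I)] :
    Finite {c : (G I α).ConnectedComponent // c.supp.Finite} := by
  have := finite_nonneg I α hI
  refine Finite.of_injective
    (fun c : {c : (G I α).ConnectedComponent // c.supp.Finite} =>
      (⟨c.1.out, nonneg_of_finite I α hn c.1 c.2 c.1.out (by
        rw [SimpleGraph.ConnectedComponent.mem_supp_iff]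
        exact Quot.out_eq c.1)⟩ : {v : ↥(region I α) // ∀ i, 0 ≤ v.1 i})) ?_
  intro c c' h
  have h1 : c.1.out = c'.1.out := congrArg Subtype.val h
  apply Subtype.ext
  rw [← Quot.out_eq c.1, ← Quot.out_eq c'.1]
  exact congrArg _ h1

end Finiteness

end Groth.Agent.Lib.Helper14.TPiece
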