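import Groth.Agent.Lib.Helper14.TPiece

universe u
open MvPolynomial W4c1hilbpn

namespace Groth.Agent.Lib.Helper14.TPiece

variable {k : Type u} [Field k] {n : ℕ} (I : Ideal (MvPolynomial (Fin n) k)) (α : Fin n → ℤ)

/-- class of the shifted monomial -/
noncomputable def q (β : Fin n →₀ ℕ) : MvPolynomial (Fin n) k ⧸ I :=
  Ideal.Quotient.mk I (monomial (shift β α) (1 : k))

lemma q_eq_zero_iff (β : Fin n →₀ ℕ) : q I α β = 0 ↔ shift β α ∈ exps I :=
  Ideal.Quotient.eq_zero_iff_mem

lemma X_mul_monomial (i : Fin n) (β : Fin n →₀ ℕ) :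
    (X i : MvPolynomial (Fin n) k) * monomial β 1 = monomial (β + e i) 1 := by
  rw [mul_comm, X, monomial_mul, mul_one]

lemma X_smul_q {β : Fin n →₀ ℕ} (h : ∀ j, 0 ≤ vz α β j) (i : Fin n) :
    (X i : MvPolynomial (Fin n) k) • q I α β = q I α (β + e i) := by
  change Ideal.Quotient.mk I (X i * monomial (shift β α) (1 : k)) = _
  rw [X_mul_monomial, q, shift_add α h]

/-- monomial element of `I` -/
noncomputable def mI (β : Fin n →₀ ℕ) (hβ : β ∈ exps I) : ↥I := ⟨monomial β 1, hβ⟩

lemma mI_add (β : Fin n →₀ ℕ) (hβ : β ∈ exps I) (i : Fin n) :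
    mI I (β + e i) (exps_add I hβ i) = (X i : MvPolynomial (Fin n) k) • mI I β hβ := by
  apply Subtype.ext
  change monomial (β + e i) (1 : k) = X i * monomial β 1
  rw [X_mul_monomial]

lemma phi_add (φ : Tgt I) (β : Fin n →₀ ℕ) (hβ : β ∈ exps I) (i : Fin n) :
    φ (mI I (β + e i) (exps_add I hβ i)) = (X i : MvPolynomial (Fin n) k) • φ (mI I β hβ) := by
  rw [mI_add, map_smul]

section Psi

variable (w : {c : (G I α).ConnectedComponent // c.supp.Finite} → k)

open Classical in
/-- value attached to a component -/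
noncomputable def wc (C : (G I α).ConnectedComponent) : k :=
  if hb : C.supp.Finite then w ⟨C, hb⟩ else 0

open Classical in
/-- the coefficient function -/
noncomputable def cw (β : Fin n →₀ ℕ) : k :=
  if h : vz α β ∈ region I α then wc I α w ((G I α).connectedComponentMk (mkV I α β h)) else 0

lemma cw_of_mem (β : Fin n →₀ ℕ) (h : vz α β ∈ region I α) :
    cw I α w β = wc I α w ((G I α).connectedComponentMk (mkV I α β h)) := dif_pos h

lemma cw_of_not_mem (β : Fin n →₀ ℕ) (h : vz α β ∉ region I α) : cw I α w β = 0 := dif_neg h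

lemma wc_of_infinite (C : (G I α).ConnectedComponent) (h : C.supp.Infinite) : wc I α w C = 0 :=
  dif_neg h

lemma cw_eq_of_adj (β : Fin n →₀ ℕ) (i : Fin n) (h1 : vz α β ∈ region I α)
    (h2 : vz α (β + e i) ∈ region I α) : cw I α w (β + e i) = cw I α w β := by
  rw [cw_of_mem I α w _ h1, cw_of_mem I α w _ h2]
  congr 1
  exact (SimpleGraph.ConnectedComponent.eq.2 (adj_add I α β i h1 h2).reachable).symm

lemma cw_of_neg (hn : 2 ≤ n) {β : Fin n →₀ ℕ} (hβ : β ∈ exps I) {j : Fin n} (hj : vz α β j < 0) :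
    cw I α w β = 0 := by
  rw [cw_of_mem I α w β (neg_mem_region I α hβ hj)]
  exact wc_of_infinite I α w _ (infinite_of_neg I α hn _ hj)

/-- the key compatibility with multiplication by a variable -/
lemma key (hn : 2 ≤ n) {β : Fin n →₀ ℕ} (hβ : β ∈ exps I) (i : Fin n) :
    cw I α w (β + e i) • q I α (β + e i) =
      (X i : MvPolynomial (Fin n) k) • (cw I α w β • q I α β) := by
  by_cases hnn : ∀ j, 0 ≤ vz α β j
  · rw [smul_comm, X_smul_q I α hnn]
    by_cases hq : shift (β + e i) α ∈ exps I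
    · rw [(q_eq_zero_iff I α _).2 hq, smul_zero, smul_zero]
    · have h2 : vz α (β + e i) ∈ region I α :=
        (mem_region_iff I α _).2 ⟨exps_add I hβ i, fun h => hq h.2⟩
      have h1 : vz α β ∈ region I α := by
        refine (mem_region_iff I α _).2 ⟨hβ, fun h => hq ?_⟩
        rw [shift_add α hnn]
        exact exps_add I h.2 i
      rw [cw_eq_of_adj I α w β i h1 h2]
  · push Not at hnn
    obtain ⟨j, hj⟩ := hnn
    rw [cw_of_neg I α w hn hβ hj, zero_smul, smul_zero]
    by_cases h2 : vz α (β + e i) ∈ region I α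
    · rw [cw_eq_of_adj I α w β i (neg_mem_region I α hβ hj) h2, cw_of_neg I α w hn hβ hj, zero_smul]
    · rw [cw_of_not_mem I α w _ h2, zero_smul]


lemma cw_add (w' : {c : (G I α).ConnectedComponent // c.supp.Finite} → k) (β : Fin n →₀ ℕ) :
    cw I α (w + w') β = cw I α w β + cw I α w' β := by
  unfold cw wc
  split_ifs <;> simp

lemma cw_smul (a : k) (β : Fin n →₀ ℕ) :
    cw I α (a • w) β = a * cw I α w β := by
  unfold cw wc
  split_ifs <;> simp

/-- the k-linear map on the polynomial ring -/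
noncomputable def Lw : MvPolynomial (Fin n) k →ₗ[k] (MvPolynomial (Fin n) k ⧸ I) :=
  (basisMonomials (Fin n) k).constr k (fun β => cw I α w β • q I α β)

lemma Lw_monomial (β : Fin n →₀ ℕ) : Lw I α w (monomial β 1) = cw I α w β • q I α β := by
  have := (basisMonomials (Fin n) k).constr_basis k (fun β => cw I α w β • q I α β) β
  rwa [coe_basisMonomials] at this


lemma lin_zero_of_monomial (hI : IsMonomial I) {M : Type*} [AddCommGroup M] [Module k M]
    (D : MvPolynomial (Fin n) k →ₗ[k] M)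
    (hD : ∀ β ∈ exps I, D (monomial β 1) = 0) (p : MvPolynomial (Fin n) k) (hp : p ∈ I) :
    D p = 0 := by
  have h1 : D p = D (∑ v ∈ p.support, monomial v (coeff v p)) := congrArg D p.as_sum
  rw [h1, map_sum]
  refine Finset.sum_eq_zero fun β hβ => ?_
  have : monomial β (coeff β p) = coeff β p • monomial β (1 : k) := by
    rw [smul_monomial, smul_eq_mul, mul_one]
  rw [this, map_smul, hD β (hI p hp β hβ), smul_zero]

lemma Lw_X_monomial (hn : 2 ≤ n) {β : Fin n →₀ ℕ} (hβ : β ∈ exps I) (i : Fin n) :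
    Lw I α w (X i * monomial β 1) = (X i : MvPolynomial (Fin n) k) • Lw I α w (monomial β 1) := by
  rw [X_mul_monomial, Lw_monomial, Lw_monomial, key I α w hn hβ i]

lemma Lw_X (hn : 2 ≤ n) (hI : IsMonomial I) (i : Fin n) (p : MvPolynomial (Fin n) k) (hp : p ∈ I) :
    Lw I α w (X i * p) = (X i : MvPolynomial (Fin n) k) • Lw I α w p := by
  have hD := lin_zero_of_monomial I hI
    ((Lw I α w).comp (LinearMap.mulLeft k (X i)) -
      (DistribSMul.toLinearMap k (MvPolynomial (Fin n) k ⧸ I)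
        (X i : MvPolynomial (Fin n) k)).comp (Lw I α w)) (fun β hβ => by
      simp only [LinearMap.sub_apply, LinearMap.comp_apply, LinearMap.mulLeft_apply,
        DistribSMul.toLinearMap_apply]
      rw [Lw_X_monomial I α w hn hβ i, sub_self]) p hp
  simp only [LinearMap.sub_apply, LinearMap.comp_apply, LinearMap.mulLeft_apply,
        DistribSMul.toLinearMap_apply] at hD
  exact sub_eq_zero.1 hD

lemma Lw_smul (hn : 2 ≤ n) (hI : IsMonomial I) (s : MvPolynomial (Fin n) k) :
    ∀ p ∈ I, Lw I α w (s * p) = s • Lw I α w p := by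
  induction s using MvPolynomial.induction_on with
  | C a =>
    intro p _
    rw [← algebraMap_eq, ← Algebra.smul_def, map_smul, algebraMap_smul]
  | add s t hs ht =>
    intro p hp
    rw [add_mul, map_add, hs p hp, ht p hp, add_smul]
  | mul_X s i hs =>
    intro p hp
    rw [mul_assoc, hs _ (I.mul_mem_left _ hp), Lw_X I α w hn hI i p hp, mul_smul]


/-- the `S`-linear map attached to `w` -/
noncomputable def phiw (hn : 2 ≤ n) (hI : IsMonomial I) : Tgt I where
  toFun p := Lw I α w p.1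
  map_add' p p' := map_add _ _ _
  map_smul' s p := Lw_smul I α w hn hI s p.1 p.2

lemma phiw_apply (hn : 2 ≤ n) (hI : IsMonomial I) (p : ↥I) :
    phiw I α w hn hI p = Lw I α w p.1 := rfl

lemma phiw_mI (hn : 2 ≤ n) (hI : IsMonomial I) (β : Fin n →₀ ℕ) (hβ : β ∈ exps I) :
    phiw I α w hn hI (mI I β hβ) = cw I α w β • q I α β := Lw_monomial I α w β

lemma phiw_mem (hn : 2 ≤ n) (hI : IsMonomial I) : phiw I α w hn hI ∈ tPiece I α := by
  intro β hβ
  refine ⟨fun _ => ?_, fun ⟨i, hi⟩ => ?_⟩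
  · rw [show phiw I α w hn hI ⟨monomial β 1, hβ⟩ = cw I α w β • q I α β from Lw_monomial I α w β]
    exact Submodule.smul_mem _ _ (Submodule.mem_span_singleton_self _)
  · rw [show phiw I α w hn hI ⟨monomial β 1, hβ⟩ = cw I α w β • q I α β from Lw_monomial I α w β]
    rw [cw_of_neg I α w hn hβ hi, zero_smul]

end Psi

lemma Lw_add (w w' : {c : (G I α).ConnectedComponent // c.supp.Finite} → k) :
    Lw I α (w + w') = Lw I α w + Lw I α w' := by
  refine (basisMonomials (Fin n) k).ext fun β => ?_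
  rw [coe_basisMonomials, LinearMap.add_apply, Lw_monomial, Lw_monomial, Lw_monomial, cw_add, add_smul]

lemma Lw_smul' (a : k) (w : {c : (G I α).ConnectedComponent // c.supp.Finite} → k) :
    Lw I α (a • w) = a • Lw I α w := by
  refine (basisMonomials (Fin n) k).ext fun β => ?_
  rw [coe_basisMonomials, LinearMap.smul_apply, Lw_monomial, Lw_monomial, cw_smul, mul_smul]

/-- the linear map from weights on bounded components to the graded piece -/
noncomputable def Psi (hn : 2 ≤ n) (hI : IsMonomial I) :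
    ({c : (G I α).ConnectedComponent // c.supp.Finite} → k) →ₗ[k] ↥(tPiece I α) where
  toFun w := ⟨phiw I α w hn hI, phiw_mem I α w hn hI⟩
  map_add' w w' := by
    apply Subtype.ext
    apply LinearMap.ext
    intro p
    change Lw I α (w + w') p.1 = Lw I α w p.1 + Lw I α w' p.1
    rw [Lw_add, LinearMap.add_apply]
  map_smul' a w := by
    apply Subtype.ext
    apply LinearMap.ext
    intro p
    change Lw I α (a • w) p.1 = a • Lw I α w p.1
    rw [Lw_smul', LinearMap.smul_apply]

lemma cw_bv (w : {c : (G I α).ConnectedComponent // c.supp.Finite} → k) (v : ↥(region I α))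
    (hb : ((G I α).connectedComponentMk v).supp.Finite) :
    cw I α w (bv I α v) = w ⟨(G I α).connectedComponentMk v, hb⟩ := by
  have h : vz α (bv I α v) ∈ region I α := by rw [vz_bv]; exact v.2
  rw [cw_of_mem I α w _ h, mkV_bv]
  exact dif_pos hb

lemma q_ne_zero (v : ↥(region I α)) (hv : ∀ i, 0 ≤ v.1 i) : q I α (bv I α v) ≠ 0 := fun h =>
  shift_notMem I α v hv ((q_eq_zero_iff I α _).1 h)

lemma Psi_injective (hn : 2 ≤ n) (hI : IsMonomial I) : Function.Injective (Psi I α hn hI) := by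
  refine (injective_iff_map_eq_zero (Psi I α hn hI)).2 fun w hw => ?_
  funext ⟨C, hb⟩
  induction C using SimpleGraph.ConnectedComponent.ind with
  | h v =>
    have h1 : phiw I α w hn hI (mI I (bv I α v) (bv_mem I α v)) = 0 := by
      have : phiw I α w hn hI = 0 := congrArg Subtype.val hw
      rw [this, LinearMap.zero_apply]
    rw [phiw_mI, cw_bv I α w v hb] at h1
    have hv : ∀ i, 0 ≤ v.1 i := fun i =>
      nonneg_of_finite I α hn _ hb v (SimpleGraph.ConnectedComponent.mem_supp_iff _ _ |>.2 rfl) i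
    exact (smul_eq_zero.1 h1).resolve_right (q_ne_zero I α v hv)


section Surj

variable (φ : Tgt I)

open Classical in
/-- value of `φ` on the monomial with exponent `β` (zero outside `I`) -/
noncomputable def fv (β : Fin n →₀ ℕ) : MvPolynomial (Fin n) k ⧸ I :=
  if h : β ∈ exps I then φ (mI I β h) else 0

lemma fv_of_mem (β : Fin n →₀ ℕ) (h : β ∈ exps I) : fv I φ β = φ (mI I β h) := dif_pos h

lemma fv_add (β : Fin n →₀ ℕ) (hβ : β ∈ exps I) (i : Fin n) :
    fv I φ (β + e i) = (X i : MvPolynomial (Fin n) k) • fv I φ β := by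
  rw [fv_of_mem I φ _ (exps_add I hβ i), fv_of_mem I φ _ hβ, phi_add]

variable {φ} (hφ : φ ∈ tPiece I α)

include hφ in
lemma fv_span (β : Fin n →₀ ℕ) (hβ : β ∈ exps I) (h : ∀ i, 0 ≤ vz α β i) :
    ∃ a : k, fv I φ β = a • q I α β := by
  obtain ⟨a, ha⟩ := Submodule.mem_span_singleton.1 ((hφ β hβ).1 h)
  exact ⟨a, by rw [fv_of_mem I φ _ hβ]; exact ha.symm⟩

include hφ in
lemma fv_neg (β : Fin n →₀ ℕ) (hβ : β ∈ exps I) (i : Fin n) (h : vz α β i < 0) :
    fv I φ β = 0 := by
  rw [fv_of_mem I φ _ hβ]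
  exact (hφ β hβ).2 ⟨i, h⟩

lemma nonneg_bv (v : ↥(region I α)) (hv : ∀ i, 0 ≤ v.1 i) : ∀ j, 0 ≤ vz α (bv I α v) j := by
  rw [vz_bv]; exact hv

include hφ in
lemma prop_bdd (hn : 2 ≤ n) (C : (G I α).ConnectedComponent) (hb : C.supp.Finite) (a : k)
    (v v' : ↥(region I α)) (hadj : (G I α).Adj v v')
    (hv : v ∈ C.supp ∧ fv I φ (bv I α v) = a • q I α (bv I α v)) :
    v' ∈ C.supp ∧ fv I φ (bv I α v') = a • q I α (bv I α v') := by
  obtain ⟨hvC, hval⟩ := hv
  have hv'C : v' ∈ C.supp := by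
    rw [SimpleGraph.ConnectedComponent.mem_supp_iff] at hvC ⊢
    rw [← hvC]
    exact SimpleGraph.ConnectedComponent.eq.2 hadj.reachable.symm
  refine ⟨hv'C, ?_⟩
  have hnn := nonneg_of_finite I α hn C hb v hvC
  have hnn' := nonneg_of_finite I α hn C hb v' hv'C
  obtain ⟨i, h | h⟩ := step_of_adj I α hadj
  · rw [h, fv_add I φ _ (bv_mem I α v), hval, smul_comm, X_smul_q I α (nonneg_bv I α v hnn)]
  · obtain ⟨b, hb'⟩ := fv_span I α hφ _ (bv_mem I α v') (nonneg_bv I α v' hnn')
    have h2 : fv I φ (bv I α v) = b • q I α (bv I α v) := by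
      rw [h, fv_add I φ _ (bv_mem I α v'), hb', smul_comm, X_smul_q I α (nonneg_bv I α v' hnn')]
    have h3 : (a - b) • q I α (bv I α v) = 0 := by rw [sub_smul, ← hval, ← h2, sub_self]
    have h4 : a = b := sub_eq_zero.1 ((smul_eq_zero.1 h3).resolve_right (q_ne_zero I α v hnn))
    rw [hb', h4]

include hφ in
lemma prop_zero (v v' : ↥(region I α)) (hadj : (G I α).Adj v v')
    (hv : fv I φ (bv I α v) = 0) : fv I φ (bv I α v') = 0 := by
  obtain ⟨i, h | h⟩ := step_of_adj I α hadj
  · rw [h, fv_add I φ _ (bv_mem I α v), hv, smul_zero]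
  · by_cases hnn' : ∀ j, 0 ≤ v'.1 j
    · obtain ⟨b, hb'⟩ := fv_span I α hφ _ (bv_mem I α v') (nonneg_bv I α v' hnn')
      have h2 : fv I φ (bv I α v) = b • q I α (bv I α v) := by
        rw [h, fv_add I φ _ (bv_mem I α v'), hb', smul_comm, X_smul_q I α (nonneg_bv I α v' hnn')]
      have hnn : ∀ j, 0 ≤ v.1 j := by
        intro j
        rw [← vz_bv I α v, h, vz_add, vz_bv]
        have := hnn' j
        split_ifs <;> omega
      rw [hv] at h2
      have h4 : b = 0 := (smul_eq_zero.1 h2.symm).resolve_right (q_ne_zero I α v hnn)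
      rw [hb', h4, zero_smul]
    · push Not at hnn'
      obtain ⟨j, hj⟩ := hnn'
      exact fv_neg I α hφ _ (bv_mem I α v') j (by rw [vz_bv]; exact hj)

end Surj

end Groth.Agent.Lib.Helper14.TPiece
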