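import Groth.Agent.Lib.Helper14.SiteRetr
import Groth.Prelude.Def_CohTop

universe u

set_option linter.unusedSectionVars false
set_option linter.unusedVariables false

open CategoryTheory Limits Opposite TopologicalSpace

namespace Groth.Agent.Lib.Helper14.TopRetr

open Groth.Agent.Lib.Helper14.SiteRetr

lemma pull_preservesFiniteLimits {X Y : TopCat.{u}} (f : X ⟶ Y) :
    PreservesFiniteLimits (CohTop.pull f) := by
  dsimp only [CohTop.pull, TopCat.Sheaf.pullback]
  have : RepresentablyFlat (TopologicalSpace.Opens.map f) := inferInstance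
  exact CategoryTheory.Functor.SmallCategories.instPreservesFiniteLimitsSheafSheafPullbackOfRepresentablyFlat _ _ _ _

/-- the top open is terminal -/
def isTerminalTop (X : TopCat.{u}) : IsTerminal (⊤ : Opens X) :=
  IsTerminal.ofUniqueHom (fun U => homOfLE le_top) (fun _ _ => Subsingleton.elim _ _)

theorem top_retraction {Y W : TopCat.{u}} (g : Y ⟶ W) (t : W ⟶ Y) (h : t ≫ g = 𝟙 W)
    (G : CohTop.Ab W) (q : ℕ) :
    ∃ (i : AddCommGrpCat.of (CohTop.H G q) ⟶ AddCommGrpCat.of (CohTop.H ((CohTop.pull g).obj G) q))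
      (r : AddCommGrpCat.of (CohTop.H ((CohTop.pull g).obj G) q) ⟶ AddCommGrpCat.of (CohTop.H G q)),
      i ≫ r = 𝟙 _ := by
  have : PreservesFiniteLimits ((Opens.map g).sheafPullback AddCommGrpCat.{u}
      (Opens.grothendieckTopology W) (Opens.grothendieckTopology Y)) := pull_preservesFiniteLimits g
  have : PreservesFiniteLimits ((Opens.map t).sheafPullback AddCommGrpCat.{u}
      (Opens.grothendieckTopology Y) (Opens.grothendieckTopology W)) := pull_preservesFiniteLimits t
  let ε : Opens.map g ⋙ Opens.map t ≅ 𝟭 (Opens W) :=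
    (Opens.mapComp t g).symm ≪≫ Opens.mapIso _ _ h ≪≫ Opens.mapId W
  exact exists_retraction_site.{u, u} (Opens.grothendieckTopology W) (Opens.grothendieckTopology Y)
    (Opens.map g) (isTerminalTop W) (isTerminalTop Y) (homOfLE (le_of_eq rfl)) (Opens.map t) ε
    (homOfLE (le_of_eq rfl)) q G

/-- pullbacks compose -/
noncomputable def pullComp {X Y Z : TopCat.{u}} (f : X ⟶ Y) (g : Y ⟶ Z) :
    CohTop.pull (f ≫ g) ≅ CohTop.pull g ⋙ CohTop.pull f :=
  Adjunction.leftAdjointUniq (TopCat.Sheaf.pullbackPushforwardAdjunction _ (f ≫ g))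
    (((TopCat.Sheaf.pullbackPushforwardAdjunction _ g).comp
      (TopCat.Sheaf.pullbackPushforwardAdjunction _ f)).ofNatIsoRight (Iso.refl _))

theorem top_retraction' {Y W S : TopCat.{u}} (g : Y ⟶ W) (t : W ⟶ Y) (h : t ≫ g = 𝟙 W)
    (bW : W ⟶ S) (bY : Y ⟶ S) (hb : g ≫ bW = bY) (F : CohTop.Ab S) (q : ℕ) :
    ∃ (i : AddCommGrpCat.of (CohTop.H ((CohTop.pull bW).obj F) q) ⟶
        AddCommGrpCat.of (CohTop.H ((CohTop.pull bY).obj F) q))
      (r : AddCommGrpCat.of (CohTop.H ((CohTop.pull bY).obj F) q) ⟶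
        AddCommGrpCat.of (CohTop.H ((CohTop.pull bW).obj F) q)), i ≫ r = 𝟙 _ := by
  subst hb
  obtain ⟨i, r, hir⟩ := top_retraction g t h ((CohTop.pull bW).obj F) q
  let e : (CohTop.pull g).obj ((CohTop.pull bW).obj F) ≅ (CohTop.pull (g ≫ bW)).obj F :=
    ((pullComp g bW).app F).symm
  have eH : AddCommGrpCat.of (CohTop.H ((CohTop.pull g).obj ((CohTop.pull bW).obj F)) q) ≅
      AddCommGrpCat.of (CohTop.H ((CohTop.pull (g ≫ bW)).obj F) q) :=
    ((HD.{u} (Opens.grothendieckTopology Y)).F q).mapIso e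
  refine ⟨i ≫ eH.hom, eH.inv ≫ r, ?_⟩
  rw [Category.assoc, Iso.hom_inv_id_assoc, hir]

end Groth.Agent.Lib.Helper14.TopRetr
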