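import Groth.Prelude.Def_Tors
import Mathlib.Algebra.Homology.DerivedCategory.Ext.ExactSequences
import Mathlib.Algebra.Homology.DerivedCategory.Ext.EnoughInjectives
import Mathlib.Algebra.Homology.ShortComplex.ExactFunctor
import Mathlib.Algebra.Homology.ShortComplex.Ab
import Mathlib.Algebra.Category.Grp.ForgetCorepresentable
import Mathlib.CategoryTheory.Sites.EpiMono
import Mathlib.CategoryTheory.Sites.LocallyBijective
import Mathlib.CategoryTheory.Sites.Abelian
import Mathlib.CategoryTheory.Sites.SheafCohomology.Basic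

/-!
# Helper14: `H¹ = 0` iff every torsor has a section (abelian sheaves on a small site)
-/

set_option autoImplicit false
universe u
open CategoryTheory CategoryTheory.Limits Opposite

namespace Groth.Agent.Lib.Helper14.TorsH1

variable {C : Type u} [SmallCategory C] {J : GrothendieckTopology C}

/-- the constant presheaf `ℤ` -/
noncomputable abbrev cZ : Cᵒᵖ ⥤ AddCommGrpCat.{u} :=
  (Functor.const Cᵒᵖ).obj (AddCommGrpCat.of (ULift.{u} ℤ))

variable (J) in
/-- the constant sheaf `ℤ` -/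
noncomputable abbrev Zs : Sheaf J AddCommGrpCat.{u} :=
  (presheafToSheaf J AddCommGrpCat.{u}).obj (cZ (C := C))

example : Zs J = (constantSheaf J AddCommGrpCat.{u}).obj (AddCommGrpCat.of (ULift.{u} ℤ)) := rfl

section Sections

variable (F : Sheaf J AddCommGrpCat.{u})

/-- the global section attached to a morphism from the constant sheaf -/
noncomputable def secOfHom (c : Zs J ⟶ F) (V : Cᵒᵖ) : F.obj.obj V :=
  ((sheafificationAdjunction J AddCommGrpCat.{u}).homEquiv _ _ c).app V ⟨1⟩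

lemma secOfHom_map (c : Zs J ⟶ F) {V V' : Cᵒᵖ} (f : V ⟶ V') :
    F.obj.map f (secOfHom F c V) = secOfHom F c V' := by
  have := ConcreteCategory.congr_hom
    (((sheafificationAdjunction J AddCommGrpCat.{u}).homEquiv _ _ c).naturality f) ⟨1⟩
  exact this.symm

lemma secOfHom_comp {F F' : Sheaf J AddCommGrpCat.{u}} (c : Zs J ⟶ F) (g : F ⟶ F') (V : Cᵒᵖ) :
    secOfHom F' (c ≫ g) V = g.hom.app V (secOfHom F c V) := by
  unfold secOfHom
  rw [Adjunction.homEquiv_naturality_right]
  rfl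

/-- the morphism from the constant sheaf attached to a global section -/
noncomputable def homOfSec (s : ∀ V : Cᵒᵖ, F.obj.obj V)
    (hs : ∀ {V V' : Cᵒᵖ} (f : V ⟶ V'), F.obj.map f (s V) = s V') : Zs J ⟶ F :=
  ((sheafificationAdjunction J AddCommGrpCat.{u}).homEquiv _ _).symm
    { app := fun V => (AddCommGrpCat.uliftZMultiplesAddEquiv _).symm (s V)
      naturality := by
        intro V V' f
        apply (AddCommGrpCat.uliftZMultiplesAddEquiv _).injective
        simp only [AddCommGrpCat.uliftZMultiplesAddEquiv_apply]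
        change (AddCommGrpCat.uliftZMultiplesAddEquiv _)
            ((AddCommGrpCat.uliftZMultiplesAddEquiv _).symm (s V')) =
          F.obj.map f ((AddCommGrpCat.uliftZMultiplesAddEquiv _)
            ((AddCommGrpCat.uliftZMultiplesAddEquiv _).symm (s V)))
        rw [AddEquiv.apply_symm_apply, AddEquiv.apply_symm_apply, hs] }

lemma secOfHom_homOfSec (s : ∀ V : Cᵒᵖ, F.obj.obj V)
    (hs : ∀ {V V' : Cᵒᵖ} (f : V ⟶ V'), F.obj.map f (s V) = s V') (V : Cᵒᵖ) :
    secOfHom F (homOfSec F s hs) V = s V := by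
  unfold secOfHom homOfSec
  rw [Equiv.apply_symm_apply]
  change (AddCommGrpCat.uliftZMultiplesAddEquiv _)
    ((AddCommGrpCat.uliftZMultiplesAddEquiv _).symm (s V)) = s V
  rw [AddEquiv.apply_symm_apply]

lemma hom_ext_of_sec (c c' : Zs J ⟶ F) (h : ∀ V, secOfHom F c V = secOfHom F c' V) : c = c' := by
  apply ((sheafificationAdjunction J AddCommGrpCat.{u}).homEquiv _ _).injective
  ext V : 2
  apply (AddCommGrpCat.uliftZMultiplesAddEquiv _).injective
  exact h V

end Sections

section SheafAb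

variable (F : Sheaf J AddCommGrpCat.{u})

lemma isSheaf_forget : Presieve.IsSheaf J (F.obj ⋙ forget AddCommGrpCat.{u}) :=
  Presieve.isSheaf_iso J (Functor.isoWhiskerLeft F.obj AddCommGrpCat.coyonedaObjIsoForget)
    (F.property _)

lemma F_ext {V : C} (R : Sieve V) (hR : R ∈ J V) (g g' : F.obj.obj (op V))
    (h : ∀ ⦃V' : C⦄ (a : V' ⟶ V), R a → F.obj.map a.op g = F.obj.map a.op g') : g = g' :=
  ((isSheaf_forget F) R hR).isSeparatedFor.ext (fun _ a ha => h a ha)

lemma F_glue {V : C} (R : Sieve V) (hR : R ∈ J V)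
    (y : ∀ ⦃V' : C⦄ (a : V' ⟶ V), R a → F.obj.obj (op V'))
    (hy : ∀ ⦃V' V'' : C⦄ (a : V' ⟶ V) (ha : R a) (h : V'' ⟶ V'),
      F.obj.map h.op (y a ha) = y (h ≫ a) (R.downward_closed ha h)) :
    ∃ g : F.obj.obj (op V), ∀ ⦃V' : C⦄ (a : V' ⟶ V) (ha : R a), F.obj.map a.op g = y a ha := by
  let x : Presieve.FamilyOfElements (F.obj ⋙ forget AddCommGrpCat.{u}) R.arrows :=
    fun V' a ha => y a ha
  have hx : x.SieveCompatible := fun V' V'' a h ha => (hy a ha h).symm
  obtain ⟨g, hg, -⟩ := (isSheaf_forget F) R hR x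
    ((Presieve.compatible_iff_sieveCompatible _).2 hx)
  exact ⟨g, fun V' a ha => hg a ha⟩

end SheafAb

section Terminal

variable (J)

/-- the explicit terminal sheaf of sets -/
noncomputable def Tm : Sheaf J (Type u) := Sheaf.terminal J Types.isTerminalPUnit

/-- comparison with the chosen terminal object -/
noncomputable def iTm : ⊤_ (Sheaf J (Type u)) ≅ Tm J :=
  terminalIsTerminal.uniqueUpToIso (Sheaf.isTerminalTerminal J Types.isTerminalPUnit)

variable {J}

lemma hasSection_of_family {G : Sheaf J AddCommGrpCat.{u}} (T : Tors.Torsor G)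
    (s : ∀ V : Cᵒᵖ, T.P.obj.obj V)
    (hs : ∀ {V V' : Cᵒᵖ} (f : V ⟶ V'), T.P.obj.map f (s V) = s V') : T.HasSection := by
  refine ⟨(iTm J).hom ≫ ObjectProperty.homMk ⟨fun V => ↾(fun _ => s V), ?_⟩⟩
  intro V V' f
  refine ConcreteCategory.hom_ext _ _ (fun x => ?_)
  exact (hs f).symm

lemma family_of_hasSection {G : Sheaf J AddCommGrpCat.{u}} (T : Tors.Torsor G)
    (h : T.HasSection) : ∃ s : ∀ V : Cᵒᵖ, T.P.obj.obj V,
      ∀ {V V' : Cᵒᵖ} (f : V ⟶ V'), T.P.obj.map f (s V) = s V' := by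
  obtain ⟨σ⟩ := h
  let τ : Tm J ⟶ T.P := (iTm J).inv ≫ σ
  refine ⟨fun V => τ.hom.app V PUnit.unit, ?_⟩
  intro V V' f
  exact (ConcreteCategory.congr_hom (τ.hom.naturality f) PUnit.unit).symm

end Terminal

section Liftings

variable (S : ShortComplex (Sheaf J AddCommGrpCat.{u})) (hS : S.ShortExact) (c : Zs J ⟶ S.X₃)

/-- evaluation of abelian sheaves at an object -/
noncomputable abbrev Φ (V : Cᵒᵖ) : Sheaf J AddCommGrpCat.{u} ⥤ AddCommGrpCat.{u} :=
  sheafToPresheaf J AddCommGrpCat.{u} ⋙ (evaluation Cᵒᵖ AddCommGrpCat.{u}).obj V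

include hS in
lemma sec_exact_mono (V : Cᵒᵖ) : (S.map (Φ V)).Exact ∧ Mono ((Φ (J := J) V).map S.f) := by
  have hle : ∀ (S : ShortComplex (Sheaf J AddCommGrpCat.{u})), S.ShortExact →
      (S.map (Φ V)).Exact ∧ Mono ((Φ (J := J) V).map S.f) :=
    ((Functor.preservesFiniteLimits_tfae (Φ (J := J) V)).out 3 0).1
      (inferInstance : PreservesFiniteLimits (Φ (J := J) V))
  exact hle S hS

include hS in
lemma sec_exact (V : Cᵒᵖ) (e : S.X₂.obj.obj V) (he : S.g.hom.app V e = 0) :
    ∃ x : S.X₁.obj.obj V, S.f.hom.app V x = e :=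
  (ShortComplex.ab_exact_iff _).1 (sec_exact_mono S hS V).1 e he

include hS in
lemma sec_inj (V : Cᵒᵖ) : Function.Injective (S.f.hom.app V) :=
  (AddCommGrpCat.mono_iff_injective _).1 (sec_exact_mono S hS V).2

lemma sec_zero (V : Cᵒᵖ) (x : S.X₁.obj.obj V) : S.g.hom.app V (S.f.hom.app V x) = 0 := by
  have := congrArg (fun t : S.X₁ ⟶ S.X₃ => t.hom.app V x) S.zero
  exact this

lemma g_naturality {V V' : Cᵒᵖ} (f : V ⟶ V') (e : S.X₂.obj.obj V) :
    S.g.hom.app V' (S.X₂.obj.map f e) = S.X₃.obj.map f (S.g.hom.app V e) :=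
  ConcreteCategory.congr_hom (S.g.hom.naturality f) e

lemma f_naturality {V V' : Cᵒᵖ} (f : V ⟶ V') (e : S.X₁.obj.obj V) :
    S.f.hom.app V' (S.X₁.obj.map f e) = S.X₂.obj.map f (S.f.hom.app V e) :=
  ConcreteCategory.congr_hom (S.f.hom.naturality f) e

/-- the presheaf of liftings of the global section `c` -/
noncomputable def liftP : Cᵒᵖ ⥤ Type u where
  obj V := {e : S.X₂.obj.obj V // S.g.hom.app V e = secOfHom S.X₃ c V}
  map {V V'} f := ↾fun p => ⟨S.X₂.obj.map f p.1, by
    rw [g_naturality, p.2, secOfHom_map]⟩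
  map_id V := by
    refine ConcreteCategory.hom_ext _ _ (fun p => Subtype.ext ?_)
    change S.X₂.obj.map (𝟙 V) p.1 = p.1
    rw [CategoryTheory.Functor.map_id]
    rfl
  map_comp f f' := by
    refine ConcreteCategory.hom_ext _ _ (fun p => Subtype.ext ?_)
    change S.X₂.obj.map (f ≫ f') p.1 = S.X₂.obj.map f' (S.X₂.obj.map f p.1)
    rw [CategoryTheory.Functor.map_comp]
    rfl

lemma liftP_isSheaf : Presieve.IsSheaf J (liftP S c) := by
  intro V R hR x hx
  have hx' := (Presieve.compatible_iff_sieveCompatible _).1 hx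
  obtain ⟨e, he⟩ := F_glue S.X₂ R hR (fun V' a ha => (x a ha).1) (by
    intro V' V'' a ha h
    exact (congrArg Subtype.val (hx' a h ha)).symm)
  have hge : S.g.hom.app (op V) e = secOfHom S.X₃ c (op V) := by
    apply F_ext S.X₃ R hR
    intro V' a ha
    rw [← g_naturality, he a ha, (x a ha).2, secOfHom_map]
  refine ⟨⟨e, hge⟩, fun V' a ha => Subtype.ext (he a ha), fun t ht => Subtype.ext ?_⟩
  apply F_ext S.X₂ R hR
  intro V' a ha
  exact (congrArg Subtype.val (ht a ha)).trans (he a ha).symm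

/-- the torsor of liftings of the global section `c` -/
noncomputable def liftTorsor : Tors.Torsor S.X₁ where
  P := ⟨liftP S c, (isSheaf_iff_isSheaf_of_type _ _).2 (liftP_isSheaf S c)⟩
  vadd {V} g p := ⟨S.f.hom.app V g + p.1, by rw [map_add, p.2, sec_zero, zero_add]⟩
  zero_vadd p := Subtype.ext (by
    change S.f.hom.app _ 0 + p.1 = p.1
    rw [map_zero, zero_add])
  add_vadd g h p := Subtype.ext (by
    change S.f.hom.app _ (g + h) + p.1 = S.f.hom.app _ g + (S.f.hom.app _ h + p.1)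
    rw [map_add, add_assoc])
  map_vadd {V V'} f g p := Subtype.ext (by
    change S.X₂.obj.map f (S.f.hom.app V g + p.1) =
      S.f.hom.app V' (S.X₁.obj.map f g) + S.X₂.obj.map f p.1
    rw [map_add, f_naturality])
  free_transitive {V} p q := by
    obtain ⟨x, hx⟩ := sec_exact S hS V (q.1 - p.1) (by rw [map_sub, q.2, p.2, sub_self])
    refine ⟨x, Subtype.ext ?_, fun y hy => sec_inj S hS V ?_⟩
    · change S.f.hom.app V x + p.1 = q.1
      rw [hx, sub_add_cancel]
    · have h1 : S.f.hom.app V y + p.1 = q.1 := congrArg Subtype.val hy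
      rw [hx, ← h1, add_sub_cancel_right]
  locally_nonempty V := by
    have h1 : Sheaf.IsLocallySurjective S.g := (Sheaf.isLocallySurjective_iff_epi' _ S.g).2 hS.epi_g
    refine ⟨Presheaf.imageSieve S.g.hom (secOfHom S.X₃ c (op V)),
      Presheaf.imageSieve_mem J S.g.hom _, fun V' f ⟨t, ht⟩ => ⟨⟨t, ht.trans ?_⟩⟩⟩
    exact secOfHom_map S.X₃ c f.op

include hS in
lemma exists_lift_of_hasSection (h : (liftTorsor S hS c).HasSection) :
    ∃ b : Zs J ⟶ S.X₂, b ≫ S.g = c := by
  obtain ⟨s, hs⟩ := family_of_hasSection _ h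
  let s' : ∀ V : Cᵒᵖ, {e : S.X₂.obj.obj V // S.g.hom.app V e = secOfHom S.X₃ c V} := s
  have hs' : ∀ {V V' : Cᵒᵖ} (f : V ⟶ V'), S.X₂.obj.map f (s' V).1 = (s' V').1 :=
    fun f => congrArg Subtype.val (hs f)
  refine ⟨homOfSec S.X₂ (fun V => (s' V).1) hs', ?_⟩
  apply hom_ext_of_sec
  intro V
  rw [secOfHom_comp, secOfHom_homOfSec]
  exact (s' V).2

end Liftings

section Backward

open Abelian

lemma ext_one_eq_zero_of_lift {𝒜 : Type*} [Category 𝒜] [Abelian 𝒜] [HasExt 𝒜]
    {S : ShortComplex 𝒜} (hS : S.ShortExact) (Z : 𝒜)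
    (hlift : ∀ c : Z ⟶ S.X₃, ∃ b : Z ⟶ S.X₂, b ≫ S.g = c) (x : Ext Z S.X₁ 1)
    (hx : x.comp (Ext.mk₀ S.f) (add_zero 1) = 0) : x = 0 := by
  obtain ⟨x₃, hx₃⟩ := Ext.covariant_sequence_exact₁ _ hS x hx (zero_add 1)
  obtain ⟨c, rfl⟩ := (Ext.mk₀_bijective _ _).surjective x₃
  obtain ⟨b, rfl⟩ := hlift c
  rw [← hx₃, ← Ext.mk₀_comp_mk₀_assoc, hS.comp_extClass, Ext.comp_zero]

variable (G : Sheaf J AddCommGrpCat.{u}) [HasExt.{u} (Sheaf J AddCommGrpCat.{u})]

lemma subsingleton_of_sections (h : ∀ T : Tors.Torsor G, T.HasSection) :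
    Subsingleton (Ext (Zs J) G 1) := by
  have : EnoughInjectives (Sheaf J AddCommGrpCat.{u}) := inferInstance
  let S : ShortComplex (Sheaf J AddCommGrpCat.{u}) :=
    ShortComplex.mk (Injective.ι G) (cokernel.π (Injective.ι G)) (cokernel.condition _)
  have hS : S.ShortExact :=
    { exact := ShortComplex.exact_cokernel _
      mono_f := inferInstanceAs (Mono (Injective.ι G))
      epi_g := inferInstanceAs (Epi (cokernel.π (Injective.ι G))) }
  refine subsingleton_of_forall_eq 0 (fun x => ?_)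
  apply ext_one_eq_zero_of_lift hS (Zs J) _ x (Ext.eq_zero_of_injective _)
  intro c
  exact exists_lift_of_hasSection S hS c (h _)

end Backward

section TorsorAlg

variable {G : Sheaf J AddCommGrpCat.{u}} (T : Tors.Torsor G)

/-- the difference of two sections of a torsor -/
noncomputable def sub {V : Cᵒᵖ} (t t₀ : T.P.obj.obj V) : G.obj.obj V :=
  (T.free_transitive t₀ t).choose

lemma sub_vadd {V : Cᵒᵖ} (t t₀ : T.P.obj.obj V) : T.vadd (sub T t t₀) t₀ = t :=
  (T.free_transitive t₀ t).choose_spec.1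

lemma eq_sub {V : Cᵒᵖ} {t t₀ : T.P.obj.obj V} {g : G.obj.obj V} (h : T.vadd g t₀ = t) :
    g = sub T t t₀ :=
  (T.free_transitive t₀ t).choose_spec.2 g h

lemma sub_self' {V : Cᵒᵖ} (t : T.P.obj.obj V) : sub T t t = 0 :=
  (eq_sub T (T.zero_vadd t)).symm

lemma sub_add_sub {V : Cᵒᵖ} (t t₀ t₁ : T.P.obj.obj V) :
    sub T t t₀ + sub T t₀ t₁ = sub T t t₁ :=
  eq_sub T (by rw [T.add_vadd, sub_vadd, sub_vadd])

lemma sub_vadd_left {V : Cᵒᵖ} (g : G.obj.obj V) (t t₀ : T.P.obj.obj V) :
    sub T (T.vadd g t) t₀ = g + sub T t t₀ :=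
  (eq_sub T (by rw [T.add_vadd, sub_vadd])).symm

lemma map_sub' {V V' : Cᵒᵖ} (f : V ⟶ V') (t t₀ : T.P.obj.obj V) :
    G.obj.map f (sub T t t₀) = sub T (T.P.obj.map f t) (T.P.obj.map f t₀) :=
  eq_sub T (by rw [← T.map_vadd, sub_vadd])

lemma hasSection_of_const (σ : ∀ V : Cᵒᵖ, T.P.obj.obj V → T.P.obj.obj V)
    (hc : ∀ (V : Cᵒᵖ) (t t' : T.P.obj.obj V), σ V t = σ V t')
    (hn : ∀ {V V' : Cᵒᵖ} (f : V ⟶ V') (t : T.P.obj.obj V),
      T.P.obj.map f (σ V t) = σ V' (T.P.obj.map f t)) : T.HasSection := by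
  have hP : Presieve.IsSheaf J T.P.obj := (isSheaf_iff_isSheaf_of_type _ _).1 T.P.property
  have hcomp : ∀ {V V' V'' : C} (k : V'' ⟶ V') (a : V' ⟶ V) (p : T.P.obj.obj (op V)),
      T.P.obj.map k.op (T.P.obj.map a.op p) = T.P.obj.map (k ≫ a).op p := by
    intro V V' V'' k a p
    rw [op_comp, CategoryTheory.Functor.map_comp]
    rfl
  have key : ∀ V : C, ∃ s : T.P.obj.obj (op V), ∀ ⦃V' : C⦄ (a : V' ⟶ V)
      (t : T.P.obj.obj (op V')), T.P.obj.map a.op s = σ (op V') t := by
    intro V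
    obtain ⟨R, hR, hne⟩ := T.locally_nonempty V
    let x : Presieve.FamilyOfElements T.P.obj R.arrows :=
      fun V' a ha => σ (op V') (hne a ha).some
    have hx : x.Compatible := by
      rw [Presieve.compatible_iff_sieveCompatible]
      intro V' V'' a h ha
      change σ (op V'') _ = T.P.obj.map h.op (σ (op V') _)
      rw [hn]
      exact hc _ _ _
    obtain ⟨s, hs, -⟩ := hP R hR x hx
    refine ⟨s, fun V' a t => ?_⟩
    apply (hP (R.pullback a) (J.pullback_stable a hR)).isSeparatedFor.ext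
    intro V'' k hk
    change T.P.obj.map k.op (T.P.obj.map a.op s) = T.P.obj.map k.op (σ (op V') t)
    rw [hcomp, hs (k ≫ a) hk, hn]
    exact hc _ _ _
  choose s hs using key
  apply hasSection_of_family T (fun V => s V.unop)
  intro V V' f
  obtain ⟨R, hR, hne⟩ := T.locally_nonempty V'.unop
  apply (hP R hR).isSeparatedFor.ext
  intro V'' a ha
  obtain ⟨t⟩ := hne a ha
  have h1 : T.P.obj.map a.op (T.P.obj.map f (s V.unop)) = σ (op V'') t := by
    have := hcomp a f.unop (s V.unop)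
    exact this.trans (hs V.unop (a ≫ f.unop) t)
  exact h1.trans (hs V'.unop a t).symm

/-- a restriction-stable family of subsingleton subsets which is locally nonempty yields a global
section -/
lemma hasSection_of_sub (N : ∀ V : Cᵒᵖ, Set (T.P.obj.obj V))
    (hN1 : ∀ (V : Cᵒᵖ) (p q : T.P.obj.obj V), p ∈ N V → q ∈ N V → p = q)
    (hN2 : ∀ {V V' : Cᵒᵖ} (f : V ⟶ V') (p : T.P.obj.obj V), p ∈ N V → T.P.obj.map f p ∈ N V')
    (hN3 : ∀ V : C, ∃ R ∈ J V, ∀ ⦃V' : C⦄ (a : V' ⟶ V), R a → (N (op V')).Nonempty) :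
    T.HasSection := by
  have hP : Presieve.IsSheaf J T.P.obj := (isSheaf_iff_isSheaf_of_type _ _).1 T.P.property
  have hcomp : ∀ {V V' V'' : C} (k : V'' ⟶ V') (a : V' ⟶ V) (p : T.P.obj.obj (op V)),
      T.P.obj.map k.op (T.P.obj.map a.op p) = T.P.obj.map (k ≫ a).op p := by
    intro V V' V'' k a p
    rw [op_comp, CategoryTheory.Functor.map_comp]
    rfl
  have key : ∀ V : C, ∃ s : T.P.obj.obj (op V), ∃ R ∈ J V, ∀ ⦃V' : C⦄ (a : V' ⟶ V), R a →
      T.P.obj.map a.op s ∈ N (op V') := by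
    intro V
    obtain ⟨R, hR, hne⟩ := hN3 V
    let x : Presieve.FamilyOfElements T.P.obj R.arrows := fun V' a ha => (hne a ha).some
    have hx : x.Compatible := by
      rw [Presieve.compatible_iff_sieveCompatible]
      intro V' V'' a h ha
      exact hN1 _ _ _ (hne (h ≫ a) (R.downward_closed ha h)).some_mem
        (hN2 h.op _ (hne a ha).some_mem)
    obtain ⟨s, hs, -⟩ := hP R hR x hx
    refine ⟨s, R, hR, fun V' a ha => ?_⟩
    rw [hs a ha]
    exact (hne a ha).some_mem
  choose s R hR hs using key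
  apply hasSection_of_family T (fun V => s V.unop)
  intro V V' f
  have hcov : (R V'.unop ⊓ (R V.unop).pullback f.unop) ∈ J V'.unop :=
    J.intersection_covering (hR _) (J.pullback_stable _ (hR _))
  apply (hP _ hcov).isSeparatedFor.ext
  rintro V'' a ⟨ha1, ha2⟩
  apply hN1
  · have h1 := hs V.unop (a ≫ f.unop) ha2
    rw [← hcomp] at h1
    exact h1
  · exact hs V'.unop a ha1

end TorsorAlg

section Free

variable {G : Sheaf J AddCommGrpCat.{u}} (T : Tors.Torsor G)

/-- the free abelian presheaf on the torsor -/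
noncomputable def Fpre : Cᵒᵖ ⥤ AddCommGrpCat.{u} where
  obj V := AddCommGrpCat.of (FreeAbelianGroup (T.P.obj.obj V))
  map f := AddCommGrpCat.ofHom (FreeAbelianGroup.map (T.P.obj.map f))
  map_id V := by
    apply AddCommGrpCat.hom_ext
    apply FreeAbelianGroup.lift_ext
    intro t
    change FreeAbelianGroup.map (T.P.obj.map (𝟙 V)) (FreeAbelianGroup.of t) = FreeAbelianGroup.of t
    rw [FreeAbelianGroup.map_of_apply, CategoryTheory.Functor.map_id]
    rfl
  map_comp f f' := by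
    apply AddCommGrpCat.hom_ext
    apply FreeAbelianGroup.lift_ext
    intro t
    change FreeAbelianGroup.map (T.P.obj.map (f ≫ f')) (FreeAbelianGroup.of t) =
      FreeAbelianGroup.map (T.P.obj.map f') (FreeAbelianGroup.map (T.P.obj.map f)
        (FreeAbelianGroup.of t))
    rw [FreeAbelianGroup.map_of_apply, FreeAbelianGroup.map_of_apply,
      FreeAbelianGroup.map_of_apply, CategoryTheory.Functor.map_comp]
    rfl

lemma Fpre_map_of {V V' : Cᵒᵖ} (f : V ⟶ V') (t : T.P.obj.obj V) :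
    (Fpre T).map f (FreeAbelianGroup.of t : FreeAbelianGroup (T.P.obj.obj V)) =
      (FreeAbelianGroup.of (T.P.obj.map f t) : FreeAbelianGroup (T.P.obj.obj V')) :=
  FreeAbelianGroup.map_of_apply _

/-- the degree map -/
noncomputable def deg (α : Type u) : FreeAbelianGroup α →+ ULift.{u} ℤ :=
  FreeAbelianGroup.lift (fun _ => (⟨1⟩ : ULift.{u} ℤ))

lemma deg_of {α : Type u} (x : α) : deg α (FreeAbelianGroup.of x) = ⟨1⟩ :=
  FreeAbelianGroup.lift_apply_of _ _

lemma deg_map {α β : Type u} (f : α → β) (y : FreeAbelianGroup α) :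
    deg β (FreeAbelianGroup.map f y) = deg α y := by
  have : (deg β).comp (FreeAbelianGroup.map f) = deg α := by
    apply FreeAbelianGroup.lift_ext
    intro x
    change deg β (FreeAbelianGroup.map f (FreeAbelianGroup.of x)) = deg α (FreeAbelianGroup.of x)
    rw [FreeAbelianGroup.map_of_apply, deg_of, deg_of]
  exact DFunLike.congr_fun this y

/-- the augmentation -/
noncomputable def εpre : Fpre T ⟶ cZ (C := C) where
  app V := AddCommGrpCat.ofHom (deg (T.P.obj.obj V))
  naturality V V' f := by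
    apply AddCommGrpCat.hom_ext
    apply FreeAbelianGroup.lift_ext
    intro t
    change deg _ (FreeAbelianGroup.map (T.P.obj.map f) (FreeAbelianGroup.of t)) =
      deg _ (FreeAbelianGroup.of t)
    rw [deg_map]

/-- the origin map -/
noncomputable def φ {V : Cᵒᵖ} (t₀ : T.P.obj.obj V) :
    FreeAbelianGroup (T.P.obj.obj V) →+ G.obj.obj V :=
  FreeAbelianGroup.lift (fun t => sub T t t₀)

lemma φ_of {V : Cᵒᵖ} (t₀ t : T.P.obj.obj V) : φ T t₀ (FreeAbelianGroup.of t) = sub T t t₀ :=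
  FreeAbelianGroup.lift_apply_of _ _

lemma φ_indep {V : Cᵒᵖ} (a b : T.P.obj.obj V) (y : FreeAbelianGroup (T.P.obj.obj V)) :
    φ T a y = φ T b y + (deg _ y).down • sub T b a := by
  induction y using FreeAbelianGroup.induction_on with
  | zero => simp
  | of x =>
    rw [φ_of, φ_of, deg_of, one_smul, sub_add_sub]
  | neg x hx =>
    rw [map_neg, map_neg, map_neg, hx, ULift.neg_down, neg_smul, neg_add]
  | add x y hx hy =>
    rw [map_add, map_add, map_add, hx, hy, ULift.add_down, add_smul]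
    abel

lemma φ_eq_of_deg {V : Cᵒᵖ} (a b : T.P.obj.obj V) (y : FreeAbelianGroup (T.P.obj.obj V))
    (hy : deg _ y = 0) : φ T a y = φ T b y := by
  rw [φ_indep T a b, hy]
  simp

lemma φ_map {V V' : Cᵒᵖ} (f : V ⟶ V') (t₀ : T.P.obj.obj V)
    (y : FreeAbelianGroup (T.P.obj.obj V)) :
    G.obj.map f (φ T t₀ y) = φ T (T.P.obj.map f t₀) (FreeAbelianGroup.map (T.P.obj.map f) y) := by
  have : (G.obj.map f).hom.comp (φ T t₀) =
      (φ T (T.P.obj.map f t₀)).comp (FreeAbelianGroup.map (T.P.obj.map f)) := by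
    apply FreeAbelianGroup.lift_ext
    intro t
    change G.obj.map f (φ T t₀ (FreeAbelianGroup.of t)) =
      φ T (T.P.obj.map f t₀) (FreeAbelianGroup.map (T.P.obj.map f) (FreeAbelianGroup.of t))
    rw [FreeAbelianGroup.map_of_apply, φ_of, φ_of, map_sub']
  exact DFunLike.congr_fun this y

open Classical in
/-- the map to `G`, with a chosen origin -/
noncomputable def ψ (V : Cᵒᵖ) : FreeAbelianGroup (T.P.obj.obj V) →+ G.obj.obj V :=
  if h : Nonempty (T.P.obj.obj V) then φ T h.some else 0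

lemma ψ_eq {V : Cᵒᵖ} (t₀ : T.P.obj.obj V) (y : FreeAbelianGroup (T.P.obj.obj V))
    (hy : deg _ y = 0) : ψ T V y = φ T t₀ y := by
  unfold ψ
  rw [dif_pos ⟨t₀⟩]
  exact φ_eq_of_deg T _ _ y hy

lemma eq_zero_of_isEmpty {α : Type u} [IsEmpty α] (y : FreeAbelianGroup α) : y = 0 := by
  induction y using FreeAbelianGroup.induction_on with
  | zero => rfl
  | of x => exact isEmptyElim x
  | neg x _ => exact isEmptyElim x
  | add x y hx hy => rw [hx, hy, add_zero]

lemma ψ_map {V V' : Cᵒᵖ} (f : V ⟶ V') (y : FreeAbelianGroup (T.P.obj.obj V))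
    (hy : deg _ y = 0) :
    G.obj.map f (ψ T V y) = ψ T V' (FreeAbelianGroup.map (T.P.obj.map f) y) := by
  by_cases h : Nonempty (T.P.obj.obj V)
  · obtain ⟨t₀⟩ := h
    rw [ψ_eq T t₀ y hy, ψ_eq T (T.P.obj.map f t₀) _ (by rw [deg_map, hy]), φ_map]
  · have : IsEmpty (T.P.obj.obj V) := not_nonempty_iff.1 h
    rw [eq_zero_of_isEmpty y, map_zero, map_zero, map_zero, map_zero]

/-- the kernel of the augmentation -/
noncomputable abbrev Kpre : Cᵒᵖ ⥤ AddCommGrpCat.{u} := kernel (εpre T)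

/-- the inclusion of the kernel -/
noncomputable abbrev ιpre : Kpre T ⟶ Fpre T := kernel.ι (εpre T)

lemma deg_ι (V : Cᵒᵖ) (x : (Kpre T).obj V) : deg _ ((ιpre T).app V x) = 0 := by
  have h := congrArg (fun t : Kpre T ⟶ cZ (C := C) => (t.app V) x) (kernel.condition (εpre T))
  exact h

lemma ι_naturality {V V' : Cᵒᵖ} (f : V ⟶ V') (x : (Kpre T).obj V) :
    (ιpre T).app V' ((Kpre T).map f x) =
      FreeAbelianGroup.map (T.P.obj.map f) ((ιpre T).app V x) :=
  ConcreteCategory.congr_hom ((ιpre T).naturality f) x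

/-- the canonical map from the kernel of the augmentation to `G` -/
noncomputable def κpre : Kpre T ⟶ G.obj where
  app V := (ιpre T).app V ≫ AddCommGrpCat.ofHom (ψ T V)
  naturality V V' f := by
    apply AddCommGrpCat.hom_ext
    ext x
    change ψ T V' ((ιpre T).app V' ((Kpre T).map f x)) = G.obj.map f (ψ T V ((ιpre T).app V x))
    rw [ι_naturality, ψ_map T f _ (deg_ι T V x)]

/-- the presheaf level sequence -/
noncomputable def Spre : ShortComplex (Cᵒᵖ ⥤ AddCommGrpCat.{u}) :=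
  ShortComplex.mk (ιpre T) (εpre T) (kernel.condition _)

lemma Spre_exact : (Spre T).Exact := ShortComplex.exact_kernel _

lemma exists_ι_eq (V : Cᵒᵖ) (y : FreeAbelianGroup (T.P.obj.obj V)) (hy : deg _ y = 0) :
    ∃ x : (Kpre T).obj V, (ιpre T).app V x = y := by
  have h := (Spre_exact T).map ((evaluation Cᵒᵖ AddCommGrpCat.{u}).obj V)
  exact (ShortComplex.ab_exact_iff _).1 h y hy

lemma isLocallySurjective_εpre : Presheaf.IsLocallySurjective J (εpre T) := by
  constructor
  intro V n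
  obtain ⟨R, hR, hne⟩ := T.locally_nonempty V
  refine J.superset_covering ?_ hR
  intro V' f hf
  obtain ⟨t₀⟩ := hne f hf
  refine ⟨n.down • (FreeAbelianGroup.of t₀ : FreeAbelianGroup (T.P.obj.obj (op V'))), ?_⟩
  change deg _ (n.down • (FreeAbelianGroup.of t₀ : FreeAbelianGroup (T.P.obj.obj (op V')))) = n
  rw [map_zsmul, deg_of]
  apply ULift.ext
  simp

/-- the sheafified sequence -/
noncomputable def Ssh : ShortComplex (Sheaf J AddCommGrpCat.{u}) :=
  (Spre T).map (presheafToSheaf J AddCommGrpCat.{u})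

lemma Ssh_shortExact : (Ssh T).ShortExact := by
  have hle : ∀ (S : ShortComplex (Cᵒᵖ ⥤ AddCommGrpCat.{u})), S.Exact ∧ Mono S.f →
      (S.map (presheafToSheaf J AddCommGrpCat.{u})).Exact ∧
        Mono ((presheafToSheaf J AddCommGrpCat.{u}).map S.f) :=
    ((Functor.preservesFiniteLimits_tfae (presheafToSheaf J AddCommGrpCat.{u})).out 3 1).1
      (inferInstance : PreservesFiniteLimits (presheafToSheaf J AddCommGrpCat.{u}))
  obtain ⟨h1, h2⟩ := hle (Spre T) ⟨Spre_exact T, inferInstanceAs (Mono (kernel.ι (εpre T)))⟩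
  have h3 : Sheaf.IsLocallySurjective ((presheafToSheaf J AddCommGrpCat.{u}).map (εpre T)) :=
    (Presheaf.isLocallySurjective_presheafToSheaf_map_iff J (εpre T)).2
      (isLocallySurjective_εpre T)
  have h4 : Epi ((presheafToSheaf J AddCommGrpCat.{u}).map (εpre T)) :=
    Sheaf.epi_of_isLocallySurjective _
  exact { exact := h1, mono_f := h2, epi_g := h4 }

open Abelian in
/-- if `H¹(G) = 0`, there is an equivariant map from the torsor to `G` -/
lemma exists_β [HasExt.{u} (Sheaf J AddCommGrpCat.{u})] (h : Subsingleton (Ext (Zs J) G 1)) :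
    ∃ β : Fpre T ⟶ G.obj, ιpre T ≫ β = κpre T := by
  let adj := sheafificationAdjunction J AddCommGrpCat.{u}
  let κ' : (Ssh T).X₁ ⟶ G := (adj.homEquiv (Kpre T) G).symm (κpre T)
  have hz : (Ssh_shortExact T).extClass.comp (Ext.mk₀ κ') (add_zero 1) = 0 := by
    have : Subsingleton (Ext (Ssh T).X₃ G 1) := h
    exact Subsingleton.elim _ _
  obtain ⟨x₂, hx₂⟩ := Ext.contravariant_sequence_exact₁ (Ssh_shortExact T) G (Ext.mk₀ κ')
    (add_zero 1) hz
  obtain ⟨κt, rfl⟩ := (Ext.mk₀_bijective _ _).surjective x₂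
  rw [Ext.mk₀_comp_mk₀] at hx₂
  have hκ : (Ssh T).f ≫ κt = κ' := (Ext.mk₀_bijective _ _).injective hx₂
  refine ⟨adj.homEquiv _ _ κt, ?_⟩
  have h1 := adj.homEquiv_naturality_left (ιpre T) κt
  have h2 : adj.homEquiv _ _ ((presheafToSheaf J AddCommGrpCat.{u}).map (ιpre T) ≫ κt) =
      κpre T := by
    have : (presheafToSheaf J AddCommGrpCat.{u}).map (ιpre T) ≫ κt = κ' := hκ
    rw [this]
    exact Equiv.apply_symm_apply _ _
  exact h1.symm.trans h2

section Section

variable (β : Fpre T ⟶ G.obj) (hβ : ιpre T ≫ β = κpre T)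

/-- the equivariant map to `G` -/
noncomputable def bmap (V : Cᵒᵖ) (t : T.P.obj.obj V) : G.obj.obj V :=
  β.app V (FreeAbelianGroup.of t : FreeAbelianGroup (T.P.obj.obj V))

lemma bmap_map {V V' : Cᵒᵖ} (f : V ⟶ V') (t : T.P.obj.obj V) :
    G.obj.map f (bmap T β V t) = bmap T β V' (T.P.obj.map f t) := by
  have h := ConcreteCategory.congr_hom (β.naturality f)
    (FreeAbelianGroup.of t : FreeAbelianGroup (T.P.obj.obj V))
  unfold bmap
  rw [← Fpre_map_of]
  exact h.symm

include hβ in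
lemma bmap_sub {V : Cᵒᵖ} (t t' : T.P.obj.obj V) :
    bmap T β V t - bmap T β V t' = sub T t t' := by
  let y : FreeAbelianGroup (T.P.obj.obj V) := FreeAbelianGroup.of t - FreeAbelianGroup.of t'
  have hy : deg _ y = 0 := by
    change deg _ (FreeAbelianGroup.of t - FreeAbelianGroup.of t') = 0
    rw [map_sub, deg_of, deg_of, sub_self]
  obtain ⟨x, hx⟩ := exists_ι_eq T V y hy
  have h1 : β.app V ((ιpre T).app V x) = (κpre T).app V x :=
    congrArg (fun k : Kpre T ⟶ G.obj => (k.app V) x) hβ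
  have h2 : (κpre T).app V x = ψ T V ((ιpre T).app V x) := rfl
  rw [h2, hx] at h1
  rw [ψ_eq T t' y hy] at h1
  have h3 : β.app V y = bmap T β V t - bmap T β V t' :=
    map_sub (β.app V).hom (FreeAbelianGroup.of t : FreeAbelianGroup (T.P.obj.obj V))
      (FreeAbelianGroup.of t')
  rw [← h3, h1]
  change φ T t' (FreeAbelianGroup.of t - FreeAbelianGroup.of t') = _
  rw [map_sub, φ_of, φ_of, sub_self', sub_zero]

include hβ in
lemma bmap_vadd {V : Cᵒᵖ} (g : G.obj.obj V) (t : T.P.obj.obj V) :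
    bmap T β V (T.vadd g t) = g + bmap T β V t := by
  have h := bmap_sub T β hβ (T.vadd g t) t
  rw [sub_vadd_left, sub_self', add_zero] at h
  exact eq_add_of_sub_eq h

include hβ in
lemma hasSection_of_β : T.HasSection := by
  apply hasSection_of_const T (fun V t => T.vadd (-(bmap T β V t)) t)
  · intro V t t'
    have ht : t' = T.vadd (sub T t' t) t := (sub_vadd T t' t).symm
    rw [ht, bmap_vadd T β hβ, ← T.add_vadd]
    congr 1
    abel
  · intro V V' f t
    rw [T.map_vadd, map_neg, bmap_map]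

end Section

end Free

section Main

open Abelian

variable (G : Sheaf J AddCommGrpCat.{u}) [HasExt.{u} (Sheaf J AddCommGrpCat.{u})]

theorem main : Subsingleton (Ext (Zs J) G 1) ↔ ∀ T : Tors.Torsor G, T.HasSection := by
  constructor
  · intro h T
    obtain ⟨β, hβ⟩ := exists_β T h
    exact hasSection_of_β T β hβ
  · exact subsingleton_of_sections G

end Main

end Groth.Agent.Lib.Helper14.TorsH1
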