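import Groth.Prelude.Def_NonAbH1
import Mathlib.Algebra.Category.Grp.ForgetCorepresentable
import Mathlib.Logic.Small.Basic
import Mathlib.CategoryTheory.Sites.CoversTop.Basic

/-!
# Helper14: the torsor attached to a Čech 1-cocycle of a sheaf of groups

For a sheaf of groups `G` on a site, a family of objects `U` covering the final object and a
1-cocycle `γ` of `G` on `U`, we construct the `G`-torsor of "twisted families" whose Čech class
is the class of `γ`.
-/

set_option autoImplicit false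
universe w' w v u
open CategoryTheory Opposite

namespace Groth.Agent.Lib.Helper14.TorsorOfCocycle

variable {C : Type u} [Category.{v} C] {J : GrothendieckTopology C} (G : Sheaf J GrpCat.{w})

/-- the sheaf condition on underlying sets -/
lemma isSheaf_forget : Presieve.IsSheaf J (G.obj ⋙ forget GrpCat.{w}) :=
  Presieve.isSheaf_iso J (Functor.isoWhiskerLeft G.obj GrpCat.coyonedaObjIsoForget) (G.property _)

variable {G} in
lemma G_ext {T : C} (S : Sieve T) (hS : S ∈ J T) (g g' : G.obj.obj (op T))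
    (h : ∀ ⦃T' : C⦄ (a : T' ⟶ T), S a → G.obj.map a.op g = G.obj.map a.op g') : g = g' :=
  ((isSheaf_forget G) S hS).isSeparatedFor.ext (fun _ a ha => h a ha)

variable {G} in
lemma G_glue {T : C} (S : Sieve T) (hS : S ∈ J T)
    (y : ∀ ⦃T' : C⦄ (a : T' ⟶ T), S a → G.obj.obj (op T'))
    (hy : ∀ ⦃T' T'' : C⦄ (a : T' ⟶ T) (ha : S a) (h : T'' ⟶ T'),
      G.obj.map h.op (y a ha) = y (h ≫ a) (S.downward_closed ha h)) :
    ∃ g : G.obj.obj (op T), ∀ ⦃T' : C⦄ (a : T' ⟶ T) (ha : S a), G.obj.map a.op g = y a ha := by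
  let x : Presieve.FamilyOfElements (G.obj ⋙ forget GrpCat.{w}) S.arrows := fun T' a ha => y a ha
  have hx : x.SieveCompatible := fun T' T'' a h ha => (hy a ha h).symm
  obtain ⟨g, hg, -⟩ := (isSheaf_forget G) S hS x
    ((Presieve.compatible_iff_sieveCompatible _).2 hx)
  exact ⟨g, fun T' a ha => hg a ha⟩

variable {G} in
lemma map_map {T T' T'' : C} (h : T'' ⟶ T') (a : T' ⟶ T) (g : G.obj.obj (op T)) :
    G.obj.map h.op (G.obj.map a.op g) = G.obj.map (h ≫ a).op g := by
  rw [op_comp, CategoryTheory.Functor.map_comp]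
  rfl

variable {G} in
lemma map_id' {T : C} (g : G.obj.obj (op T)) : G.obj.map (𝟙 T).op g = g := by
  rw [op_id, CategoryTheory.Functor.map_id]
  rfl

variable {I : Type w'} (U : I → C) (γ : PresheafOfGroups.OneCocycle G.obj U)

/-- twisted families over `T` -/
@[ext]
structure Fam (T : C) where
  val : ∀ (i : I) ⦃T' : C⦄ (_ : T' ⟶ T) (_ : T' ⟶ U i), G.obj.obj (op T')
  res : ∀ (i : I) ⦃T' T'' : C⦄ (h : T'' ⟶ T') (a : T' ⟶ T) (b : T' ⟶ U i),
    G.obj.map h.op (val i a b) = val i (h ≫ a) (h ≫ b)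
  tw : ∀ (i j : I) ⦃T' : C⦄ (a : T' ⟶ T) (b : T' ⟶ U i) (b' : T' ⟶ U j),
    val j a b' = val i a b * γ.ev i j b b'

namespace Fam

variable {G U γ}

lemma val_congr {T : C} (x : Fam G U γ T) (i : I) {T' : C} {a a' : T' ⟶ T} {b b' : T' ⟶ U i}
    (ha : a = a') (hb : b = b') : x.val i a b = x.val i a' b' := by
  subst ha hb; rfl

/-- restriction of twisted families -/
def map {T T₁ : C} (f : T₁ ⟶ T) (x : Fam G U γ T) : Fam G U γ T₁ where
  val i T' a b := x.val i (a ≫ f) b
  res i T' T'' h a b := by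
    rw [x.res]
    exact x.val_congr i (Category.assoc _ _ _).symm rfl
  tw i j T' a b b' := x.tw i j (a ≫ f) b b'

@[simp] lemma map_val {T T₁ : C} (f : T₁ ⟶ T) (x : Fam G U γ T) (i : I) {T' : C} (a : T' ⟶ T₁)
    (b : T' ⟶ U i) : (map f x).val i a b = x.val i (a ≫ f) b := rfl

lemma map_id {T : C} (x : Fam G U γ T) : map (𝟙 T) x = x := by
  ext i T' a b
  exact x.val_congr i (Category.comp_id _) rfl

lemma map_comp {T T₁ T₂ : C} (f : T₁ ⟶ T) (f' : T₂ ⟶ T₁) (x : Fam G U γ T) :
    map (f' ≫ f) x = map f' (map f x) := by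
  ext i T' a b
  exact x.val_congr i (Category.assoc _ _ _).symm rfl

/-- the action of `G` on twisted families -/
def smul {T : C} (g : G.obj.obj (op T)) (x : Fam G U γ T) : Fam G U γ T where
  val i T' a b := G.obj.map a.op g * x.val i a b
  res i T' T'' h a b := by
    rw [map_mul, x.res, map_map]
  tw i j T' a b b' := by
    rw [x.tw i j a b b', mul_assoc]

@[simp] lemma smul_val {T : C} (g : G.obj.obj (op T)) (x : Fam G U γ T) (i : I) {T' : C}
    (a : T' ⟶ T) (b : T' ⟶ U i) : (smul g x).val i a b = G.obj.map a.op g * x.val i a b := rfl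

lemma one_smul {T : C} (x : Fam G U γ T) : smul 1 x = x := by
  ext i T' a b
  rw [smul_val, map_one, one_mul]

lemma mul_smul {T : C} (g h : G.obj.obj (op T)) (x : Fam G U γ T) :
    smul (g * h) x = smul g (smul h x) := by
  ext i T' a b
  rw [smul_val, smul_val, smul_val, map_mul, mul_assoc]

lemma map_smul {T T₁ : C} (f : T₁ ⟶ T) (g : G.obj.obj (op T)) (x : Fam G U γ T) :
    map f (smul g x) = smul (G.obj.map f.op g) (map f x) := by
  ext i T' a b
  rw [map_val, smul_val, smul_val, map_val, map_map]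

variable (G U γ) in
/-- the tautological section over `U i` -/
def sec (i : I) : Fam G U γ (U i) where
  val j T' a b := γ.ev i j a b
  res j T' T'' h a b := γ.ev_precomp i j h a b
  tw j k T' a b b' := (γ.ev_trans i j k a b b').symm

lemma smul_sec (i j : I) {T : C} (a : T ⟶ U i) (b : T ⟶ U j) :
    smul (γ.ev i j a b) (map b (sec G U γ j)) = map a (sec G U γ i) := by
  ext k T' a' b''
  change G.obj.map a'.op (γ.ev i j a b) * γ.ev j k (a' ≫ b) b'' = γ.ev i k (a' ≫ a) b''
  rw [γ.ev_precomp, γ.ev_trans]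

/-- the ratio of two twisted families does not depend on the chart -/
lemma ratio_indep {T : C} (p q : Fam G U γ T) (i j : I) {T' : C} (a : T' ⟶ T) (b : T' ⟶ U i)
    (b' : T' ⟶ U j) : q.val j a b' * (p.val j a b')⁻¹ = q.val i a b * (p.val i a b)⁻¹ := by
  rw [q.tw i j a b b', p.tw i j a b b', mul_inv_rev, mul_assoc, mul_inv_cancel_left]

section
variable (hU : J.CoversTop U)
include hU

lemma smul_injective {T : C} (p : Fam G U γ T) (g g' : G.obj.obj (op T))
    (h : smul g p = smul g' p) : g = g' := by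
  apply G_ext _ (hU T)
  rintro T' a ⟨i, ⟨b⟩⟩
  have := congrArg (fun x : Fam G U γ T => x.val i a b) h
  simpa using this

lemma exists_smul_eq {T : C} (p q : Fam G U γ T) : ∃ g : G.obj.obj (op T), smul g p = q := by
  classical
  have key : ∀ ⦃T' : C⦄ (a : T' ⟶ T), Sieve.ofObjects U T a →
      ∃ z : G.obj.obj (op T'), ∀ (i : I) (b : T' ⟶ U i), z = q.val i a b * (p.val i a b)⁻¹ := by
    rintro T' a ⟨i, ⟨b⟩⟩
    exact ⟨q.val i a b * (p.val i a b)⁻¹, fun j b' => (ratio_indep p q i j a b b').symm⟩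
  obtain ⟨g, hg⟩ := G_glue (Sieve.ofObjects U T) (hU T) (fun T' a ha => (key a ha).choose) (by
    intro T' T'' a ha h
    have ha' := (Sieve.ofObjects U T).downward_closed ha h
    obtain ⟨i, ⟨b⟩⟩ := id ha
    rw [(key a ha).choose_spec i b, (key (h ≫ a) ha').choose_spec i (h ≫ b), map_mul, map_inv,
      q.res, p.res])
  refine ⟨g, ?_⟩
  ext i T' a b
  rw [smul_val, hg a ⟨i, ⟨b⟩⟩, (key a ⟨i, ⟨b⟩⟩).choose_spec i b, inv_mul_cancel_right]

lemma small {T : C} : Small.{w} (Fam G U γ T) := by
  by_cases h : Nonempty (Fam G U γ T)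
  · obtain ⟨p⟩ := h
    exact small_of_surjective (f := fun g : G.obj.obj (op T) => smul g p)
      (fun q => exists_smul_eq hU p q)
  · have : IsEmpty (Fam G U γ T) := not_nonempty_iff.1 h
    infer_instance

lemma locallyNonempty (T : C) : ∃ S ∈ J T, ∀ ⦃V : C⦄ (f : V ⟶ T), S f → Nonempty (Fam G U γ V) :=
  ⟨Sieve.ofObjects U T, hU T, fun V f ⟨i, ⟨b⟩⟩ => ⟨map b (sec G U γ i)⟩⟩

end

end Fam

/-- the presheaf of twisted families (in a large universe) -/
def bigP : Cᵒᵖ ⥤ Type (max w' w v u) where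
  obj T := Fam G U γ T.unop
  map f := ↾(Fam.map f.unop)
  map_id T := by
    refine ConcreteCategory.hom_ext _ _ (fun x => ?_)
    exact Fam.map_id x
  map_comp f g := by
    refine ConcreteCategory.hom_ext _ _ (fun x => ?_)
    exact Fam.map_comp f.unop g.unop x

section Sheaf

variable {G U γ}
variable {T : C} (S : Sieve T) (x : Presieve.FamilyOfElements (bigP G U γ) S.arrows)

/-- the values of a family of elements of `bigP` -/
def xv (i : I) {T' : C} (a : T' ⟶ T) (ha : S a) (b : T' ⟶ U i) : G.obj.obj (op T') :=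
  (x a ha : Fam G U γ T').val i (𝟙 T') b

lemma xv_congr (i : I) {T' : C} {a a' : T' ⟶ T} (ha : S a) (ha' : S a') {b b' : T' ⟶ U i}
    (e : a = a') (e' : b = b') : xv S x i a ha b = xv S x i a' ha' b' := by
  subst e e'; rfl

lemma xv_tw (i j : I) {T' : C} (a : T' ⟶ T) (ha : S a) (b : T' ⟶ U i) (b' : T' ⟶ U j) :
    xv S x j a ha b' = xv S x i a ha b * γ.ev i j b b' :=
  (x a ha : Fam G U γ T').tw i j (𝟙 _) b b'

variable (hx : x.SieveCompatible)
include hx

lemma x_val (i : I) {T' T'' : C} (a : T' ⟶ T) (ha : S a) (a' : T'' ⟶ T') (b : T'' ⟶ U i) :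
    (x a ha : Fam G U γ T').val i a' b = xv S x i (a' ≫ a) (S.downward_closed ha a') b := by
  have h := hx a a' ha
  unfold xv
  rw [h]
  change _ = (Fam.map a' (x a ha : Fam G U γ T')).val i (𝟙 _) b
  exact Fam.val_congr _ i (Category.id_comp _).symm rfl

lemma xv_res (i : I) {T' T'' : C} (a : T' ⟶ T) (ha : S a) (k : T'' ⟶ T') (b : T' ⟶ U i) :
    G.obj.map k.op (xv S x i a ha b) = xv S x i (k ≫ a) (S.downward_closed ha k) (k ≫ b) := by
  have h1 : G.obj.map k.op (xv S x i a ha b) = (x a ha : Fam G U γ T').val i (k ≫ 𝟙 _) (k ≫ b) :=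
    (x a ha : Fam G U γ T').res i k (𝟙 _) b
  rw [h1, x_val S x hx]
  exact xv_congr S x i _ _ (by rw [Category.comp_id]) rfl

lemma exists_glue (hS : S ∈ J T) (i : I) {T' : C} (a : T' ⟶ T) (b : T' ⟶ U i) :
    ∃ z : G.obj.obj (op T'), ∀ ⦃T'' : C⦄ (h : T'' ⟶ T') (hh : S (h ≫ a)),
      G.obj.map h.op z = xv S x i (h ≫ a) hh (h ≫ b) := by
  obtain ⟨z, hz⟩ := G_glue (S.pullback a) (J.pullback_stable a hS)
    (fun T'' h hh => xv S x i (h ≫ a) hh (h ≫ b)) (by
      intro T'' T''' h hh k
      refine (xv_res S x hx i (h ≫ a) hh k (h ≫ b)).trans ?_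
      exact xv_congr S x i _ _ (Category.assoc _ _ _).symm (Category.assoc _ _ _).symm)
  exact ⟨z, fun T'' h hh => hz h hh⟩

/-- the amalgamation of a compatible family -/
noncomputable def amalg (hS : S ∈ J T) : Fam G U γ T where
  val i T' a b := (exists_glue S x hx hS i a b).choose
  res i T' T'' k a b := by
    apply G_ext (S.pullback (k ≫ a)) (J.pullback_stable _ hS)
    intro T''' h hh
    have hh' : S ((h ≫ k) ≫ a) := by rw [Category.assoc]; exact hh
    rw [map_map, (exists_glue S x hx hS i a b).choose_spec (h ≫ k) hh',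
      (exists_glue S x hx hS i (k ≫ a) (k ≫ b)).choose_spec h hh]
    exact xv_congr S x i _ _ (Category.assoc _ _ _) (Category.assoc _ _ _)
  tw i j T' a b b' := by
    apply G_ext (S.pullback a) (J.pullback_stable _ hS)
    intro T'' h hh
    rw [map_mul, (exists_glue S x hx hS j a b').choose_spec h hh,
      (exists_glue S x hx hS i a b).choose_spec h hh, γ.ev_precomp]
    exact xv_tw S x i j (h ≫ a) hh (h ≫ b) (h ≫ b')

lemma amalg_spec (hS : S ∈ J T) : x.IsAmalgamation (amalg S x hx hS) := by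
  intro T₁ f hf
  apply Fam.ext
  funext i T' a b
  change (amalg S x hx hS).val i (a ≫ f) b = (x f hf : Fam G U γ T₁).val i a b
  rw [x_val S x hx]
  have h := (exists_glue S x hx hS i (a ≫ f) b).choose_spec (𝟙 _)
    (by rw [Category.id_comp]; exact S.downward_closed hf a)
  rw [map_id'] at h
  exact h.trans (xv_congr S x i _ _ (Category.id_comp _) (Category.id_comp _))

omit hx in
lemma amalg_unique (hS : S ∈ J T) (t t' : Fam G U γ T) (ht : x.IsAmalgamation t)
    (ht' : x.IsAmalgamation t') : t = t' := by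
  ext i T' a b
  apply G_ext (S.pullback a) (J.pullback_stable _ hS)
  intro T'' h hh
  rw [t.res, t'.res]
  have e1 := congrArg (fun y : Fam G U γ T'' => y.val i (𝟙 _) (h ≫ b)) (ht (h ≫ a) hh)
  have e2 := congrArg (fun y : Fam G U γ T'' => y.val i (𝟙 _) (h ≫ b)) (ht' (h ≫ a) hh)
  have e3 : t.val i (h ≫ a) (h ≫ b) = t.val i (𝟙 _ ≫ h ≫ a) (h ≫ b) :=
    t.val_congr i (Category.id_comp _).symm rfl
  have e4 : t'.val i (h ≫ a) (h ≫ b) = t'.val i (𝟙 _ ≫ h ≫ a) (h ≫ b) :=
    t'.val_congr i (Category.id_comp _).symm rfl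
  rw [e3, e4]
  exact e1.trans e2.symm

end Sheaf

lemma bigP_isSheaf : Presieve.IsSheaf J (bigP G U γ) := by
  intro T S hS x hx
  have hx' := (Presieve.compatible_iff_sieveCompatible _).1 hx
  exact ⟨amalg S x hx' hS, amalg_spec S x hx' hS,
    fun t' ht' => amalg_unique S x hS _ _ ht' (amalg_spec S x hx' hS)⟩

section Shrink

variable [hU : Fact (J.CoversTop U)]

instance (T : C) : Small.{w} (Fam G U γ T) := Fam.small hU.out

/-- the presheaf of twisted families, shrunk to the universe of `G` -/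
noncomputable def P : Cᵒᵖ ⥤ Type w where
  obj T := Shrink.{w} (Fam G U γ T.unop)
  map f := ↾(fun p => equivShrink _ (Fam.map f.unop ((equivShrink _).symm p)))
  map_id T := by
    refine ConcreteCategory.hom_ext _ _ (fun p => ?_)
    change equivShrink _ (Fam.map (𝟙 _) ((equivShrink _).symm p)) = p
    rw [Fam.map_id, Equiv.apply_symm_apply]
  map_comp f g := by
    refine ConcreteCategory.hom_ext _ _ (fun p => ?_)
    change equivShrink _ (Fam.map (g.unop ≫ f.unop) ((equivShrink _).symm p)) =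
      equivShrink _ (Fam.map g.unop ((equivShrink _).symm
        (equivShrink _ (Fam.map f.unop ((equivShrink _).symm p)))))
    rw [Equiv.symm_apply_apply, Fam.map_comp]

lemma P_isSheaf : Presieve.IsSheaf J (P G U γ) :=
  Presieve.isSheaf_of_nat_equiv (P₁ := bigP G U γ) (P₂ := P G U γ)
    (fun X => equivShrink (Fam G U γ X))
    (fun X Y f x => by
      change equivShrink _ (Fam.map f x) =
        equivShrink _ (Fam.map f ((equivShrink _).symm (equivShrink _ x)))
      exact congrArg (equivShrink _) (congrArg (Fam.map f) (Equiv.symm_apply_apply _ _).symm))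
    (bigP_isSheaf G U γ)

/-- the `G`-sheaf of twisted families -/
noncomputable def gsheaf : NonAbH1.GSheaf G where
  P := ⟨P G U γ, (isSheaf_iff_isSheaf_of_type J _).2 (P_isSheaf G U γ)⟩
  smul {T} g p := equivShrink (Fam G U γ T.unop) (Fam.smul g ((equivShrink _).symm p))
  one_smul p := by
    rw [Fam.one_smul]
    exact Equiv.apply_symm_apply _ _
  mul_smul g h p :=
    congrArg (equivShrink _) ((Fam.mul_smul g h _).trans
      (congrArg (Fam.smul g) (Equiv.symm_apply_apply _ _).symm))
  map_smul {T T'} f g p := by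
    change equivShrink _ (Fam.map f.unop ((equivShrink _).symm
        (equivShrink _ (Fam.smul g ((equivShrink _).symm p))))) =
      equivShrink _ (Fam.smul (G.obj.map f g) ((equivShrink _).symm
        (equivShrink _ (Fam.map f.unop ((equivShrink _).symm p)))))
    rw [Equiv.symm_apply_apply, Equiv.symm_apply_apply, Fam.map_smul]
    rfl

lemma gsheaf_smul {T : Cᵒᵖ} (g : G.obj.obj T) (p : Fam G U γ T.unop) :
    (gsheaf G U γ).smul g (equivShrink _ p) = equivShrink _ (Fam.smul g p) := by
  change equivShrink _ (Fam.smul g ((equivShrink _).symm (equivShrink _ p))) = _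
  rw [Equiv.symm_apply_apply]

lemma gsheaf_map {T T' : C} (f : T' ⟶ T) (p : Fam G U γ T) :
    (gsheaf G U γ).P.obj.map f.op (equivShrink _ p) = equivShrink _ (Fam.map f p) := by
  change equivShrink _ (Fam.map f ((equivShrink _).symm (equivShrink _ p))) = _
  rw [Equiv.symm_apply_apply]

lemma isTorsor_gsheaf : (gsheaf G U γ).IsTorsor := by
  constructor
  · intro T p q
    obtain ⟨p, rfl⟩ := (equivShrink (Fam G U γ T.unop)).surjective p
    obtain ⟨q, rfl⟩ := (equivShrink (Fam G U γ T.unop)).surjective q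
    obtain ⟨g, hg⟩ := Fam.exists_smul_eq hU.out p q
    refine ⟨g, ?_, ?_⟩
    · change (gsheaf G U γ).smul g (equivShrink _ p) = _
      rw [gsheaf_smul, hg]
    · intro g' hg'
      change (gsheaf G U γ).smul g' (equivShrink _ p) = _ at hg'
      rw [gsheaf_smul] at hg'
      have := (equivShrink _).injective hg'
      exact Fam.smul_injective hU.out p _ _ (this.trans hg.symm)
  · intro T
    obtain ⟨S, hS, h⟩ := Fam.locallyNonempty (G := G) (γ := γ) hU.out T
    exact ⟨S, hS, fun V f hf => (h f hf).map (equivShrink _)⟩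

/-- the torsor attached to the cocycle -/
noncomputable def torsor : NonAbH1.Torsor G := ⟨gsheaf G U γ, isTorsor_gsheaf G U γ⟩

/-- the tautological sections of the torsor -/
noncomputable def s (i : I) : (gsheaf G U γ).P.obj.obj (op (U i)) :=
  equivShrink _ (Fam.sec G U γ i)

lemma isCocycleOf : (gsheaf G U γ).IsCocycleOf U (s G U γ) γ := by
  intro i j T a b
  unfold s
  rw [gsheaf_map, gsheaf_map, gsheaf_smul, Fam.smul_sec]

end Shrink

end Groth.Agent.Lib.Helper14.TorsorOfCocycle
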