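import Groth.Prelude.Def_CAlgX
import Mathlib.RingTheory.TensorProduct.DirectLimitFG
import Mathlib.RingTheory.TensorProduct.Finite
import Mathlib.LinearAlgebra.TensorProduct.RightExactness
import Mathlib.Algebra.Module.FinitePresentation
import Mathlib.RingTheory.Flat.Basic

/-! Helper library (helper14): universal injectivity can be tested on finitely presented modules. -/

set_option autoImplicit false
universe u

namespace Groth.Agent.Lib.Helper14.UnivInj

open TensorProduct LinearMap

section

variable {R M N : Type u} [CommRing R] [AddCommGroup M] [Module R M] [AddCommGroup N] [Module R N]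
  (f : M →ₗ[R] N)

/-- from finitely generated test modules to all test modules -/
lemma lTensor_injective_of_fg
    (H : ∀ (Q : Type u) [AddCommGroup Q] [Module R Q], Module.Finite R Q →
      Function.Injective (f.lTensor Q))
    (Q : Type u) [AddCommGroup Q] [Module R Q] : Function.Injective (f.lTensor Q) := by
  rw [injective_iff_map_eq_zero]
  intro u hu
  obtain ⟨P, hP, t, rfl⟩ := TensorProduct.exists_of_fg u
  have h1 : rTensor N P.subtype (lTensor P f t) = 0 := by
    rw [← hu, ← LinearMap.comp_apply, ← LinearMap.comp_apply, LinearMap.rTensor_comp_lTensor,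
      LinearMap.lTensor_comp_rTensor]
  obtain ⟨Q', hPQ, hQ', h2⟩ := TensorProduct.eq_zero_of_fg_of_subtype_eq_zero hP h1
  have h3 : lTensor Q' f (rTensor M (Submodule.inclusion hPQ) t) = 0 := by
    rw [← h2, ← LinearMap.comp_apply, ← LinearMap.comp_apply, LinearMap.rTensor_comp_lTensor,
      LinearMap.lTensor_comp_rTensor]
  have h4 : rTensor M (Submodule.inclusion hPQ) t = 0 :=
    (injective_iff_map_eq_zero _).mp (H Q' (Module.Finite.iff_fg.mpr hQ')) _ h3
  have h5 : P.subtype = Q'.subtype ∘ₗ Submodule.inclusion hPQ := rfl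
  rw [h5, LinearMap.rTensor_comp, LinearMap.comp_apply, h4, map_zero]

/-- from finitely presented test modules to finitely generated test modules -/
lemma lTensor_injective_of_fp
    (H : ∀ (Q : Type u) [AddCommGroup Q] [Module R Q], Module.FinitePresentation R Q →
      Function.Injective (f.lTensor Q))
    (Q : Type u) [AddCommGroup Q] [Module R Q] [Module.Finite R Q] :
    Function.Injective (f.lTensor Q) := by
  rw [injective_iff_map_eq_zero]
  intro u hu
  obtain ⟨n, s, hs⟩ := Module.Finite.exists_fin (R := R) (M := Q)
  let π : (Fin n → R) →ₗ[R] Q := Fintype.linearCombination R s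
  have hπ : Function.Surjective π := by
    rw [← LinearMap.range_eq_top, Fintype.range_linearCombination, hs]
  obtain ⟨w, rfl⟩ := LinearMap.rTensor_surjective M hπ u
  set y := lTensor (Fin n → R) f w with hy
  have hy0 : rTensor N π y = 0 := by
    rw [← hu, hy, ← LinearMap.comp_apply, ← LinearMap.comp_apply, LinearMap.rTensor_comp_lTensor,
      LinearMap.lTensor_comp_rTensor]
  have hex : Function.Exact (rTensor N (LinearMap.ker π).subtype) (rTensor N π) :=
    rTensor_exact N (LinearMap.exact_subtype_ker_map π) hπ
  obtain ⟨yK, hyK⟩ := (hex y).mp hy0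
  obtain ⟨K₁, hK₁, hle, y₁, hy₁⟩ := Submodule.exists_fg_le_eq_rTensor_inclusion yK
  -- the finitely presented approximation
  haveI : Module.FinitePresentation R ((Fin n → R) ⧸ K₁) :=
    Module.finitePresentation_of_surjective K₁.mkQ K₁.mkQ_surjective (by rwa [Submodule.ker_mkQ])
  let ρ : ((Fin n → R) ⧸ K₁) →ₗ[R] Q := K₁.liftQ π hle
  have hρ : ρ ∘ₗ K₁.mkQ = π := Submodule.liftQ_mkQ K₁ π hle
  have hy2 : y = rTensor N K₁.subtype y₁ := by
    rw [← hyK, hy₁, ← LinearMap.comp_apply, ← LinearMap.rTensor_comp]
    rfl
  have h3 : lTensor ((Fin n → R) ⧸ K₁) f (rTensor M K₁.mkQ w) = 0 := by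
    have : lTensor ((Fin n → R) ⧸ K₁) f (rTensor M K₁.mkQ w) = rTensor N K₁.mkQ y := by
      rw [hy, ← LinearMap.comp_apply, ← LinearMap.comp_apply, LinearMap.rTensor_comp_lTensor,
        LinearMap.lTensor_comp_rTensor]
    rw [this, hy2, ← LinearMap.comp_apply, ← LinearMap.rTensor_comp]
    have h0 : K₁.mkQ ∘ₗ K₁.subtype = 0 := by
      ext x
      simp
    rw [h0, LinearMap.rTensor_zero, LinearMap.zero_apply]
  have h4 : rTensor M K₁.mkQ w = 0 :=
    (injective_iff_map_eq_zero _).mp (H _ inferInstance) _ h3
  rw [← hρ, LinearMap.rTensor_comp, LinearMap.comp_apply, h4, map_zero]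

/-- universal injectivity (in `lTensor` form) can be tested on finitely presented modules. -/
theorem lTensor_injective_of_forall_fp
    (H : ∀ (Q : Type u) [AddCommGroup Q] [Module R Q], Module.FinitePresentation R Q →
      Function.Injective (f.lTensor Q))
    (Q : Type u) [AddCommGroup Q] [Module R Q] : Function.Injective (f.lTensor Q) :=
  lTensor_injective_of_fg f (fun Q _ _ hQ => by
    haveI := hQ
    exact lTensor_injective_of_fp f H Q) Q

/-- universal injectivity can be tested on finitely presented modules. -/
theorem universallyInjective_of_forall_fp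
    (H : ∀ (Q : Type u) [AddCommGroup Q] [Module R Q], Module.FinitePresentation R Q →
      Function.Injective (f.rTensor Q)) : CAlgX.UniversallyInjective R f := by
  intro Q _ _
  rw [← LinearMap.lTensor_inj_iff_rTensor_inj]
  apply lTensor_injective_of_forall_fp f
  intro Q' _ _ hQ'
  rw [LinearMap.lTensor_inj_iff_rTensor_inj]
  exact H Q' hQ'

end

end Groth.Agent.Lib.Helper14.UnivInj
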