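import Mathlib.CategoryTheory.Limits.Shapes.WidePullbacks
import Mathlib.Data.Fin.Basic
import Mathlib.Data.Fin.Tuple.Basic

universe v u

set_option linter.unusedSectionVars false

open CategoryTheory Limits

namespace Groth.Agent.Lib.Helper14.WPSection

variable {𝒞 : Type u} [Category.{v} 𝒞] {X S : 𝒞} (f : X ⟶ S) (s : S ⟶ X) (hs : s ≫ f = 𝟙 S)
  [∀ n : ℕ, HasWidePullback S (fun _ : Fin n => X) (fun _ => f)]

/-- the `(p+1)`-fold fibre product -/
noncomputable abbrev Xp (p : ℕ) : 𝒞 := widePullback S (fun _ : Fin (p + 1) => X) (fun _ => f)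

/-- its projection to the base -/
noncomputable abbrev bp (p : ℕ) : Xp f p ⟶ S := WidePullback.base (fun _ : Fin (p + 1) => f)

/-- the section of `X_0 ⟶ S` -/
noncomputable def σ0 : S ⟶ Xp f 0 := WidePullback.lift (𝟙 S) (fun _ => s) (fun _ => hs)

lemma σ0_b : σ0 f s hs ≫ bp f 0 = 𝟙 S := WidePullback.lift_base _ _ _ _

/-- forget the last factor -/
noncomputable def up (p : ℕ) : Xp f (p + 1) ⟶ Xp f p :=
  WidePullback.lift (bp f (p + 1)) (fun i => WidePullback.π (fun _ : Fin (p + 1 + 1) => f) (Fin.castSucc i))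
    (fun i => WidePullback.π_arrow _ _)

lemma up_b (p : ℕ) : up f p ≫ bp f p = bp f (p + 1) := WidePullback.lift_base _ _ _ _

/-- add the section as last factor -/
noncomputable def vp (p : ℕ) : Xp f p ⟶ Xp f (p + 1) :=
  WidePullback.lift (bp f p)
    (fun i => Fin.lastCases (motive := fun _ => Xp f p ⟶ X) (bp f p ≫ s)
      (fun i => WidePullback.π (fun _ : Fin (p + 1) => f) i) i)
    (fun i => by
      refine Fin.lastCases ?_ (fun i => ?_) i
      · rw [Fin.lastCases_last, Category.assoc, hs, Category.comp_id]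
      · rw [Fin.lastCases_castSucc]
        exact WidePullback.π_arrow _ _)

lemma vp_up (p : ℕ) : vp f s hs p ≫ up f p = 𝟙 _ := by
  apply WidePullback.hom_ext
  · intro i
    rw [Category.assoc, up, WidePullback.lift_π, vp, WidePullback.lift_π, Fin.lastCases_castSucc,
      Category.id_comp]
  · rw [Category.assoc, up_b, vp, WidePullback.lift_base, Category.id_comp]

end Groth.Agent.Lib.Helper14.WPSection
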