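import Groth.Prelude.Def_BigSite
import Groth.Agent.Lib.Helper4.LanExactGen

/-!
# Restriction from the big site to the small Zariski site preserves injectives (helper14)
-/

set_option autoImplicit false
set_option linter.unusedSectionVars false

universe u

open CategoryTheory CategoryTheory.Limits Opposite AlgebraicGeometry TopologicalSpace

namespace Groth.Agent.Lib.Helper14.ZarFppf

variable (S : Scheme.{u})

lemma forget_zarIncl_map {U V : S.Opens} (h : U ⟶ V) :
    (Over.forget S).map ((BigSite.zarIncl S).map h) = S.homOfLE h.le := rfl

instance : PreservesLimitsOfShape WalkingCospan (BigSite.zarIncl S) where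
  preservesLimit {K} := by
    have : PreservesLimit (cospan (K.map WalkingCospan.Hom.inl) (K.map WalkingCospan.Hom.inr))
        (BigSite.zarIncl S) := by
      set f := K.map WalkingCospan.Hom.inl
      set g := K.map WalkingCospan.Hom.inr
      let c : PullbackCone f g := PullbackCone.mk (homOfLE inf_le_left) (homOfLE inf_le_right)
        (Subsingleton.elim _ _)
      have hc : IsLimit c := PullbackCone.IsLimit.mk _
        (fun s => homOfLE (le_inf (leOfHom s.fst) (leOfHom s.snd)))
        (fun s => Subsingleton.elim _ _) (fun s => Subsingleton.elim _ _)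
        (fun s m _ _ => Subsingleton.elim _ _)
      refine preservesLimit_of_preserves_limit_cone hc ?_
      refine (isLimitMapConePullbackConeEquiv (BigSite.zarIncl S) _).symm ?_
      refine IsPullback.isLimit ?_
      refine IsPullback.of_map (Over.forget S) (by rw [← Functor.map_comp, ← Functor.map_comp]; congr 1) ?_
      exact isPullback_opens_inf_le f.le g.le
    exact preservesLimit_of_iso_diagram _ (diagramIsoCospan K).symm

instance : PreservesLimitsOfShape WalkingParallelPair (BigSite.zarIncl S) where
  preservesLimit {K} := by
    have : PreservesLimit (parallelPair (K.map WalkingParallelPairHom.left)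
        (K.map WalkingParallelPairHom.right)) (BigSite.zarIncl S) := by
      set f := K.map WalkingParallelPairHom.left
      set g := K.map WalkingParallelPairHom.right
      have hfg : f = g := Subsingleton.elim _ _
      let c : Fork f g := Fork.ofι (𝟙 _) (by rw [hfg])
      have hc : IsLimit c := Fork.IsLimit.mk _ (fun s => s.ι) (fun s => Category.comp_id _)
        (fun s m hm => Subsingleton.elim _ _)
      refine preservesLimit_of_preserves_limit_cone hc ?_
      refine (isLimitMapConeForkEquiv (BigSite.zarIncl S) _).symm ?_
      refine Fork.IsLimit.mk _ (fun s => s.ι) (fun s => ?_) (fun s m hm => ?_)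
      · change s.ι ≫ (BigSite.zarIncl S).map (𝟙 _) = s.ι
        rw [CategoryTheory.Functor.map_id, Category.comp_id]
      · let m' : s.pt ⟶ (BigSite.zarIncl S).obj (K.obj WalkingParallelPair.zero) := m
        have h2 : m' ≫ (BigSite.zarIncl S).map (𝟙 _) = s.ι := hm
        have h3 : m' ≫ 𝟙 _ = s.ι :=
          (congrArg (fun k => m' ≫ k) (CategoryTheory.Functor.map_id _ _).symm).trans h2
        exact (Category.comp_id m').symm.trans h3
    exact preservesLimit_of_iso_diagram _ (diagramIsoParallelPair K).symm

/-- the opens of `S`, lifted one universe up -/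
def CZ : Type (u + 1) := ULift.{u + 1} S.Opens

instance : Category.{u} (CZ S) := uliftCategory S.Opens

/-- the equivalence with the opens -/
def eZ : S.Opens ≌ CZ S := ULift.equivalence.{u, u, u + 1} (C := S.Opens)

/-- the transported Zariski topology -/
abbrev JZ : GrothendieckTopology (CZ S) :=
  (eZ S).inverse.inducedTopology (Opens.grothendieckTopology S)

instance : HasPullbacks (CZ S) := Adjunction.hasLimitsOfShape_of_equivalence (eZ S).inverse

instance : HasEqualizers (CZ S) := Adjunction.hasLimitsOfShape_of_equivalence (eZ S).inverse

instance : EssentiallySmall.{u + 1} (CZ S) := essentiallySmall_of_small_of_locallySmall _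

instance : HasSheafify (JZ S) AddCommGrpCat.{u + 1} := hasSheafifyEssentiallySmallSite _ _

variable (K : Precoverage Scheme.{u}) [BigSite.ZarCont K S]

/-- the inclusion of the lifted opens into the big site -/
noncomputable abbrev GZ : CZ S ⥤ Over S := (eZ S).inverse ⋙ BigSite.zarIncl S

instance : (GZ S).IsContinuous (JZ S) (QuotSh.J K S) :=
  Functor.isContinuous_comp (eZ S).inverse (BigSite.zarIncl S) (JZ S)
    (Opens.grothendieckTopology S) (QuotSh.J K S)

/-- restriction of Zariski sheaves to the lifted opens -/
noncomputable abbrev ΨZ : EtZar.Ab S ⥤ Sheaf (JZ S) AddCommGrpCat.{u + 1} :=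
  (Functor.IsDenseSubsite.sheafEquiv (JZ S) (Opens.grothendieckTopology S) (eZ S).inverse
    AddCommGrpCat.{u + 1}).inverse

/-- restriction to the small Zariski site preserves injectives -/
theorem injective_resZar (I : BigSite.Ab K S) [Injective I] :
    Injective ((BigSite.resZar K S).obj I) := by
  have h1 : Injective (((GZ S).sheafPushforwardContinuous AddCommGrpCat.{u + 1} (JZ S)
      (QuotSh.J K S)).obj I) :=
    Groth.Agent.Lib.Helper4.LanMonoGen.injective_pushforward (JZ S) (QuotSh.J K S) (GZ S) I
  have h2 : Injective ((ΨZ S).obj ((BigSite.resZar K S).obj I)) := h1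
  let E := Functor.IsDenseSubsite.sheafEquiv (JZ S) (Opens.grothendieckTopology S) (eZ S).inverse
    AddCommGrpCat.{u + 1}
  have h3 : Injective (E.functor.obj (E.inverse.obj ((BigSite.resZar K S).obj I))) :=
    Injective.injective_of_adjoint E.symm.toAdjunction _
  exact Injective.of_iso (E.counitIso.app _) h3

end Groth.Agent.Lib.Helper14.ZarFppf
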