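import Groth.Agent.Lib.Helper14.ZarFppf1
import Groth.Agent.Lib.Helper14.BigFppf5
import Groth.Agent.Lib.Helper14.CartanOne
import Groth.Agent.Lib.Helper6.ExtAdj
import Groth.Agent.Lib.Helper4.ConstPull
import Groth.Agent.Lib.Helper4.BigEtPull

/-!
# Zariski cohomology of the restriction of an fppf sheaf which is acyclic on affines (helper14)
-/

set_option autoImplicit false
set_option linter.unusedSectionVars false

universe w v v' u u'

open CategoryTheory CategoryTheory.Limits Opposite AlgebraicGeometry TopologicalSpace Abelian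

namespace Groth.Agent.Lib.Helper14.ZarFppf

section Abstract

open Groth.Agent.Lib.Helper6 Groth.Agent.Lib.Helper6.DeltaCompare Groth.Agent.Lib.Helper6.ExtAdj

variable {𝒜 : Type u} [Category.{v} 𝒜] [Abelian 𝒜] [HasExt.{w} 𝒜]
  {ℬ : Type u'} [Category.{v'} ℬ] [Abelian ℬ] [HasExt.{w} ℬ]
  {L : 𝒜 ⥤ ℬ} {R : ℬ ⥤ 𝒜} (adj : L ⊣ R) [L.Additive] [R.Additive]

include adj in
/-- variant of helper6's `nonempty_ext_addEquiv_of_class`: `R` is only assumed to preserve
injectives -/
theorem nonempty_ext_addEquiv_of_class' [EnoughInjectives ℬ]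
    (hRI : ∀ I : ℬ, Injective I → Injective (R.obj I))
    [PreservesFiniteLimits R] (P : ℬ → Prop)
    (hP : ∀ (S : ShortComplex ℬ), S.ShortExact → P S.X₁ → Injective S.X₂ →
      P S.X₃ ∧ Epi (R.map S.g))
    (A : 𝒜) (F : ℬ) (hF : P F) (n : ℕ) :
    Nonempty (Ext (L.obj A) F n ≃+ Ext A (R.obj F) n) := by
  obtain ⟨e⟩ := delta_compare
    (fun n => extFunctorObj (L.obj A) n)
    (fun n => R ⋙ extFunctorObj A n) (θ adj A)
    P (fun G hG => by
      have hE := ExtAcyc.sesUnder_shortExact G
      have hI : Injective (ExtAcyc.sesUnder G).X₂ := inferInstance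
      haveI : Injective (R.obj (ExtAcyc.sesUnder G).X₂) := hRI _ hI
      obtain ⟨h3, hepi⟩ := hP _ hE hG hI
      have h := (Functor.preservesFiniteLimits_iff_forall_exact_map_and_mono R).1 inferInstance
        _ hE
      have hE' : ((ExtAcyc.sesUnder G).map R).ShortExact :=
        { exact := h.1, mono_f := h.2, epi_g := hepi }
      refine ⟨_, _, (ExtAcyc.sesUnder G).f, (ExtAcyc.sesUnder G).g, h3,
        ExtShift.hasShift_ext _ _ hE (fun n x => Ext.eq_zero_of_injective x),
        ExtShift.hasShift_ext_comp R A _ hE' (fun n x => Ext.eq_zero_of_injective x)⟩) n F hF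
  exact ⟨e.addCommGroupIsoToAddEquiv⟩

end Abstract

section Concrete

open Groth.Agent.Lib.Helper14.BigFppf Groth.Agent.Lib.Helper6

variable (S : Scheme.{u})

/-- the class of abelian sheaves on the big fppf site which are acyclic on affine objects -/
def PA (G : BigSite.Ab Scheme.fppfPrecoverage S) : Prop :=
  ∀ U ∈ BA S, ∀ (n : ℕ) (x : Ext (SheafCoh.Zfree (KB S) U) ((ΦB S).obj G) (n + 1)), x = 0

instance injective_ΦB (I : BigSite.Ab Scheme.fppfPrecoverage S) [Injective I] :
    Injective ((ΦB S).obj I) :=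
  Injective.injective_of_adjoint
    (Functor.IsDenseSubsite.sheafEquiv (KB S) (QuotSh.J Scheme.fppfPrecoverage S) (GB S)
      AddCommGrpCat.{u + 1}).toAdjunction I

variable {S}

/-- an affine open of `S` as an affine object of the small model -/
noncomputable abbrev opnB (V : S.Opens) : DB S := ULiftHom.objUp ((BigSite.zarIncl S).obj V)

lemma opnB_mem (V : S.Opens) (hV : IsAffineOpen V) : opnB V ∈ BA S := hV

theorem PA_step [BigSite.ZarCont Scheme.fppfPrecoverage S]
    (E : ShortComplex (BigSite.Ab Scheme.fppfPrecoverage S)) (hE : E.ShortExact)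
    (h1 : PA S E.X₁) (hI : Injective E.X₂) :
    PA S E.X₃ ∧ Epi ((BigSite.resZar Scheme.fppfPrecoverage S).map E.g) := by
  have hE' : (E.map (ΦB S)).ShortExact := hE.map_of_exact (ΦB S)
  haveI : Injective (E.map (ΦB S)).X₂ := injective_ΦB S E.X₂
  refine ⟨fun U hU n x => ?_, ?_⟩
  · obtain ⟨x₂, hx₂⟩ := Ext.covariant_sequence_exact₃ _ hE' x rfl (h1 U hU (n + 1) _)
    have hz : x₂ = 0 := Ext.eq_zero_of_injective x₂
    rw [← hx₂, hz, Ext.zero_comp]
    rfl
  · have hsurj : ∀ V : S.Opens, IsAffineOpen V →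
        Function.Surjective (E.g.hom.app (op ((BigSite.zarIncl S).obj V))) := by
      intro V hV s
      let ψ : SheafCoh.Zfree (KB S) (opnB V) ⟶ (ΦB S).obj E.X₃ :=
        (SheafCoh.homEquiv (KB S) (opnB V) ((ΦB S).obj E.X₃)).symm s
      obtain ⟨x₂, hx₂⟩ := Ext.covariant_sequence_exact₃ _ hE' (Ext.mk₀ ψ) rfl
        (h1 (opnB V) (opnB_mem V hV) 0 _)
      obtain ⟨φ, rfl⟩ := (Ext.mk₀_bijective _ _).2 x₂
      have h2 : φ ≫ (ΦB S).map E.g = ψ := by
        have h3 : Ext.mk₀ (φ ≫ (ΦB S).map E.g) = Ext.mk₀ ψ := by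
          rw [← Ext.mk₀_comp_mk₀]; exact hx₂
        exact (Ext.mk₀_bijective _ _).1 h3
      refine ⟨SheafCoh.homEquiv (KB S) (opnB V) ((ΦB S).obj E.X₂) φ, ?_⟩
      have h4 := SheafCoh.homEquiv_naturality_right (KB S) φ ((ΦB S).map E.g)
      rw [h2, Equiv.apply_symm_apply] at h4
      exact h4.symm
    haveI : Sheaf.IsLocallySurjective ((BigSite.resZar Scheme.fppfPrecoverage S).map E.g) := by
      constructor
      intro U s
      rw [Opens.mem_grothendieckTopology]
      intro x hx
      obtain ⟨W, hW, hxW, hWU⟩ := TopologicalSpace.Opens.isBasis_iff_nbhd.1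
        S.isBasis_affineOpens hx
      refine ⟨W, homOfLE hWU, ?_, hxW⟩
      obtain ⟨t, ht⟩ := hsurj W hW
        (((BigSite.resZar Scheme.fppfPrecoverage S).obj E.X₃).obj.map (homOfLE hWU).op s)
      exact ⟨t, ht⟩
    exact Sheaf.epi_of_isLocallySurjective _

variable (S)

/-- the whole scheme, as an open subscheme, is a terminal object of the big site -/
noncomputable def isTerminalZarInclTop : IsTerminal ((BigSite.zarIncl S).obj ⊤) :=
  IsTerminal.ofIso Over.mkIdTerminal (Over.isoMk (S.topIso).symm (by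
    change (S.topIso).inv ≫ (⊤ : S.Opens).ι = 𝟙 S
    rw [← Scheme.topIso_hom, Iso.inv_hom_id]))

variable {S}

open Groth.Agent.Lib.Helper4.ConstPull in
/-- Zariski cohomology of the restriction of an abelian fppf sheaf which is acyclic on affine
objects agrees with its fppf cohomology -/
theorem nonempty_H_addEquiv [BigSite.ZarCont Scheme.fppfPrecoverage S]
    (F : BigSite.Ab Scheme.fppfPrecoverage S) (hF : PA S F) (q : ℕ) :
    Nonempty (EtZar.H ((BigSite.resZar Scheme.fppfPrecoverage S).obj F) q ≃+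
      BigSite.H Scheme.fppfPrecoverage S F q) := by
  haveI : (BigSite.piZarPull Scheme.fppfPrecoverage S).Additive :=
    (BigSite.piZarAdj Scheme.fppfPrecoverage S).left_adjoint_additive
  haveI : PreservesLimitsOfSize.{0, 0} (BigSite.resZar Scheme.fppfPrecoverage S) :=
    (BigSite.piZarAdj Scheme.fppfPrecoverage S).rightAdjoint_preservesLimits
  haveI : PreservesFiniteLimits (BigSite.resZar Scheme.fppfPrecoverage S) :=
    PreservesLimitsOfSize.preservesFiniteLimits _
  have hT : IsTerminal (⊤ : S.Opens) := CategoryTheory.Limits.isTerminalTop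
  have hGT : IsTerminal ((BigSite.zarIncl S).obj ⊤) := isTerminalZarInclTop S
  let Z := AddCommGrpCat.of (ULift.{u + 1} ℤ)
  obtain ⟨e⟩ := nonempty_ext_addEquiv_of_class' (BigSite.piZarAdj Scheme.fppfPrecoverage S)
    (fun I hI => injective_resZar S Scheme.fppfPrecoverage I) (PA S)
    (fun E hE h1 hI => PA_step E hE h1 hI)
    ((constantSheaf (Opens.grothendieckTopology S) AddCommGrpCat.{u + 1}).obj Z) F hF q
  let i := (constPullIso (BigSite.zarIncl S) AddCommGrpCat.{u + 1} (Opens.grothendieckTopology S)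
    (QuotSh.J Scheme.fppfPrecoverage S) hT hGT).app Z
  exact ⟨e.symm.trans (extIsoLeft i F q)⟩

end Concrete

end Groth.Agent.Lib.Helper14.ZarFppf
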