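import Groth.Agent.Lib.Helper14.ZarFppf2

/-!
# Restriction from a big site to the small Zariski site: comparison of cohomology (helper14)
-/

set_option autoImplicit false
set_option linter.unusedSectionVars false

universe u

open CategoryTheory CategoryTheory.Limits Opposite AlgebraicGeometry TopologicalSpace Abelian

namespace Groth.Agent.Lib.Helper14.ZarFppf

variable {S : Scheme.{u}} (K : Precoverage Scheme.{u}) [BigSite.ZarCont K S]

open Groth.Agent.Lib.Helper4.ConstPull in
/-- general form of the comparison: a class of sheaves stable under cokernels of embeddings into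
injectives on which `resZar` is exact -/
theorem nonempty_H_addEquiv_of_class (P : BigSite.Ab K S → Prop)
    (hP : ∀ (E : ShortComplex (BigSite.Ab K S)), E.ShortExact → P E.X₁ → Injective E.X₂ →
      P E.X₃ ∧ Epi ((BigSite.resZar K S).map E.g))
    (F : BigSite.Ab K S) (hF : P F) (q : ℕ) :
    Nonempty (EtZar.H ((BigSite.resZar K S).obj F) q ≃+ BigSite.H K S F q) := by
  haveI : (BigSite.piZarPull K S).Additive := (BigSite.piZarAdj K S).left_adjoint_additive
  haveI : PreservesLimitsOfSize.{0, 0} (BigSite.resZar K S) :=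
    (BigSite.piZarAdj K S).rightAdjoint_preservesLimits
  haveI : PreservesFiniteLimits (BigSite.resZar K S) :=
    PreservesLimitsOfSize.preservesFiniteLimits _
  have hT : IsTerminal (⊤ : S.Opens) := CategoryTheory.Limits.isTerminalTop
  have hGT : IsTerminal ((BigSite.zarIncl S).obj ⊤) := isTerminalZarInclTop S
  let Z := AddCommGrpCat.of (ULift.{u + 1} ℤ)
  obtain ⟨e⟩ := nonempty_ext_addEquiv_of_class' (BigSite.piZarAdj K S)
    (fun I hI => injective_resZar S K I) P hP
    ((constantSheaf (Opens.grothendieckTopology S) AddCommGrpCat.{u + 1}).obj Z) F hF q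
  let i := (constPullIso (BigSite.zarIncl S) AddCommGrpCat.{u + 1} (Opens.grothendieckTopology S)
    (QuotSh.J K S) hT hGT).app Z
  exact ⟨e.symm.trans (extIsoLeft i F q)⟩

instance subsingleton_hom_zarIncl (Y : Over S) (U : S.Opens) :
    Subsingleton (Y ⟶ (BigSite.zarIncl S).obj U) where
  allEq g g' := by
    apply Over.OverMorphism.ext
    have h1 : g.left ≫ U.ι = Y.hom := Over.w g
    have h2 : g'.left ≫ U.ι = Y.hom := Over.w g'
    exact (cancel_mono U.ι).1 (h1.trans h2.symm)

section Zariski

instance : Scheme.zariskiPrecoverage.{u}.HasIsos := by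
  unfold Scheme.zariskiPrecoverage; infer_instance

instance : Scheme.zariskiPrecoverage.{u}.HasPullbacks := by
  unfold Scheme.zariskiPrecoverage; infer_instance

variable {X : Scheme.{u}} [BigSite.ZarCont Scheme.zariskiPrecoverage X]

theorem epi_resZar_map_zariski {F G : BigSite.Ab Scheme.zariskiPrecoverage X} (φ : F ⟶ G) [Epi φ] :
    Epi ((BigSite.resZar Scheme.zariskiPrecoverage X).map φ) := by
  have hφ : Sheaf.IsLocallySurjective φ :=
    (Sheaf.isLocallySurjective_iff_epi' AddCommGrpCat.{u + 1} φ).2 inferInstance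
  haveI : Sheaf.IsLocallySurjective ((BigSite.resZar Scheme.zariskiPrecoverage X).map φ) := by
    constructor
    intro U₀ s
    rw [Opens.mem_grothendieckTopology]
    intro x hx
    obtain ⟨U, rfl⟩ : ∃ U : X.Opens, U = U₀ := ⟨U₀, rfl⟩
    have hcov := hφ.imageSieve_mem (U := (BigSite.zarIncl X).obj U) s
    rw [GrothendieckTopology.mem_over_iff,
      Precoverage.mem_toGrothendieck_iff_of_isStableUnderComposition] at hcov
    obtain ⟨R, hR, hle⟩ := hcov
    have hR' : R ∈ Scheme.precoverage @IsOpenImmersion (U : Scheme.{u}) := hR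
    have hjs := (Presieve.mem_comap_jointlySurjectivePrecoverage_iff _).1 hR'.1
    obtain ⟨W, g, hg, hxg⟩ := hjs (⟨x, hx⟩ : (U : Scheme.{u}))
    haveI : IsOpenImmersion g := hR'.2 hg
    have h1 := hle W g hg
    rw [Sieve.overEquiv_iff] at h1
    let V : X.Opens := (g ≫ U.ι).opensRange
    have hVU : V ≤ U := by
      intro y hy
      obtain ⟨w, rfl⟩ : ∃ w, (g ≫ U.ι) w = y := hy
      rw [Scheme.Hom.comp_apply]
      exact (g w).2
    have hxV : x ∈ V := by
      obtain ⟨w, hw⟩ := hxg
      change ∃ w, (g ≫ U.ι) w = x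
      refine ⟨w, ?_⟩
      have hw' : g w = ⟨x, hx⟩ := hw
      rw [Scheme.Hom.comp_apply, hw']
      rfl
    refine ⟨V, homOfLE hVU, ?_, hxV⟩
    let j : (BigSite.zarIncl X).obj V ≅ Over.mk (g ≫ U.ι) :=
      Over.isoMk ((g ≫ U.ι).isoOpensRange).symm (by
        change ((g ≫ U.ι).isoOpensRange).inv ≫ g ≫ U.ι = V.ι
        rw [Iso.inv_comp_eq]
        exact (Scheme.Hom.isoOpensRange_hom_ι (g ≫ U.ι)).symm)
    have h2 := (Presheaf.imageSieve φ.hom s).downward_closed h1 j.hom
    have h3 : (Presheaf.imageSieve φ.hom s).arrows ((BigSite.zarIncl X).map (homOfLE hVU)) := by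
      have e : (BigSite.zarIncl X).map (homOfLE hVU) =
          j.hom ≫ (Over.homMk g : Over.mk (g ≫ U.ι) ⟶ (BigSite.zarIncl X).obj U) :=
        Subsingleton.elim _ _
      rw [e]
      exact h2
    exact h3
  exact Sheaf.epi_of_isLocallySurjective _

end Zariski

end Groth.Agent.Lib.Helper14.ZarFppf
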