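import Mathlib
import Groth.Prelude.Def_EtZar
import Groth.Prelude.Def_Coh
import Groth.Prelude.Def_EtGm
import Groth.Agent.Lib.Helper14.EtZarCont
import Groth.Agent.Lib.Helper14.ZarLift4

/-!
# The restriction of the étale sheaf `G_a` to the Zariski site is the structure sheaf (helper14)
-/

set_option autoImplicit false
set_option linter.unusedSectionVars false

universe u

open CategoryTheory CategoryTheory.Limits Opposite AlgebraicGeometry TopologicalSpace

namespace Groth.Agent.Lib.Helper14.ZarGaIso

open Groth.Agent.Lib.Helper14.ZarLift Groth.Agent.Lib.Helper14.EtZarCont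

variable (X : Scheme.{u})

/-- the comparison of presheaves -/
noncomputable def gaIsoPre :
    ((EtZar.resZar X).obj (EtCoh.Ga X)).obj ≅
      (Coh.toAb (Coh.structureModule X)).obj ⋙ AddCommGrpCat.uliftFunctor.{u + 1, u} :=
  NatIso.ofComponents (fun U => AddCommGrpCat.uliftFunctor.{u + 1, u}.mapIso
    ((forget₂ RingCat AddCommGrpCat).mapIso
      ((forget₂ CommRingCat RingCat).mapIso (Scheme.Opens.topIso (U := U.unop))))) (by
    intro U V f
    apply AddCommGrpCat.hom_ext
    apply AddMonoidHom.ext
    rintro ⟨x⟩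
    apply ULift.ext
    change (Scheme.Opens.topIso (unop V)).hom ((X.homOfLE (leOfHom f.unop)).appTop x) =
      X.presheaf.map f ((Scheme.Opens.topIso (unop U)).hom x)
    rw [Scheme.homOfLE_appTop, Scheme.Opens.topIso_hom, Scheme.Opens.topIso_hom]
    have h : X.presheaf.map (homOfLE (X.ι_image_homOfLE_le_ι_image (leOfHom f.unop) ⊤)).op ≫
        X.presheaf.map (eqToHom (Scheme.Opens.ι_image_top (unop V)).symm).op =
        X.presheaf.map (eqToHom (Scheme.Opens.ι_image_top (unop U)).symm).op ≫ X.presheaf.map f := by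
      rw [← CategoryTheory.Functor.map_comp, ← CategoryTheory.Functor.map_comp]
      congr 1
    exact ConcreteCategory.congr_hom h x)

/-- the comparison of sheaves -/
noncomputable def gaIso :
    (EtZar.resZar X).obj (EtCoh.Ga X) ≅
      ((Υ X.carrier).obj (Coh.toAb (Coh.structureModule X)) : EtZar.Ab X) where
  hom := ⟨(gaIsoPre X).hom⟩
  inv := ⟨(gaIsoPre X).inv⟩
  hom_inv_id := by
    apply Sheaf.hom_ext
    exact (gaIsoPre X).hom_inv_id
  inv_hom_id := by
    apply Sheaf.hom_ext
    exact (gaIsoPre X).inv_hom_id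

open Abelian in
/-- Zariski cohomology of the restriction of `G_a` is the cohomology of the structure sheaf -/
theorem nonempty_H_resZar_Ga (p : ℕ) :
    Nonempty (EtZar.H ((EtZar.resZar X).obj (EtCoh.Ga X)) p ≃+
      Coh.HH X (Coh.structureModule X) p) := by
  obtain ⟨e⟩ := nonempty_H_addEquiv_Υ (X₀ := X.carrier) (Coh.toAb (Coh.structureModule X)) p
  exact ⟨(((extFunctorObj _ p).mapIso (gaIso X)).addCommGroupIsoToAddEquiv).trans e.symm⟩

end Groth.Agent.Lib.Helper14.ZarGaIso
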